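import Cfsg.Agent.Helper3.SylowProd

set_option autoImplicit false

namespace Cfsg.Agent.Helper3

open scoped Pointwise

variable {G : Type*} [Group G]

theorem card_subgroupOf_eq_card_inf (S H : Subgroup G) :
    Nat.card (S.subgroupOf H) = Nat.card (S ⊓ H : Subgroup G) := by
  rw [← Subgroup.inf_subgroupOf_right]
  exact Nat.card_congr (Subgroup.subgroupOfEquivOfLe inf_le_right).toEquiv

/-- a Sylow subgroup meets a normal subgroup in a Sylow subgroup (cardinality form) -/
theorem card_sylow_inf_normal [Finite G] {p : ℕ} [Fact p.Prime] (S : Sylow p G) (N : Subgroup G)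
    [N.Normal] : Nat.card ((S : Subgroup G) ⊓ N : Subgroup G) = p ^ (Nat.card N).factorization p := by
  have hp : p.Prime := Fact.out
  have hprod := card_mul_set_mul_card_inf (S : Subgroup G) N
  rw [← Subgroup.mul_normal (S : Subgroup G) N] at hprod
  have hprod' : Nat.card ((S : Subgroup G) ⊔ N : Subgroup G) * Nat.card ((S : Subgroup G) ⊓ N : Subgroup G)
      = Nat.card (S : Subgroup G) * Nat.card N := hprod
  obtain ⟨j, hj, hjle⟩ := card_pSubgroup_le N ((S : Subgroup G) ⊓ N) (S.isPGroup'.to_le inf_le_left)
    inf_le_right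
  rw [hj]
  congr 1
  apply le_antisymm hjle
  have h1 := congrArg (fun n => n.factorization p) hprod'
  beta_reduce at h1
  rw [Nat.factorization_mul Nat.card_pos.ne' Nat.card_pos.ne',
    Nat.factorization_mul Nat.card_pos.ne' Nat.card_pos.ne', hj, S.card_eq_multiplicity] at h1
  simp only [Nat.factorization_pow, Finsupp.coe_add, Finsupp.coe_smul, Pi.add_apply,
    Pi.smul_apply, smul_eq_mul, hp.factorization_self, mul_one] at h1
  have h2 : (Nat.card ((S : Subgroup G) ⊔ N : Subgroup G)).factorization p
      ≤ (Nat.card G).factorization p := by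
    apply (Nat.factorization_le_iff_dvd Nat.card_pos.ne' Nat.card_pos.ne').mpr
    exact Subgroup.card_subgroup_dvd_card _
  omega

/-- a Sylow subgroup meets a subnormal subgroup in a Sylow subgroup (cardinality form) -/
theorem card_sylow_inf_subnormal [Finite G] {p : ℕ} [Fact p.Prime] (S : Sylow p G)
    (H : Subgroup G) (hH : H.IsSubnormal) :
    Nat.card ((S : Subgroup G) ⊓ H : Subgroup G) = p ^ (Nat.card H).factorization p := by
  induction hH with
  | top =>
    rw [inf_top_eq, S.card_eq_multiplicity]
    congr 3
    exact (Nat.card_congr (Subgroup.topEquiv (G := G)).toEquiv).symm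
  | step H K hHK hK hN ih =>
    -- Sylow subgroup of K
    have hcK : Nat.card ((S : Subgroup G).subgroupOf K) = p ^ (Nat.card K).factorization p := by
      rw [card_subgroupOf_eq_card_inf, ih]
    let SK : Sylow p K := Sylow.ofCard _ hcK
    have := hN
    have key := card_sylow_inf_normal SK (H.subgroupOf K)
    have e1 : ((SK : Subgroup K) ⊓ H.subgroupOf K : Subgroup K)
        = ((S : Subgroup G) ⊓ H).subgroupOf K := by
      ext x
      simp only [Subgroup.mem_inf, Subgroup.mem_subgroupOf]
      rfl
    have e2 : Nat.card (((S : Subgroup G) ⊓ H).subgroupOf K)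
        = Nat.card ((S : Subgroup G) ⊓ H : Subgroup G) :=
      Nat.card_congr (Subgroup.subgroupOfEquivOfLe (inf_le_right.trans hHK)).toEquiv
    have e3 : Nat.card (H.subgroupOf K) = Nat.card H :=
      Nat.card_congr (Subgroup.subgroupOfEquivOfLe hHK).toEquiv
    rw [e1, e2, e3] at key
    exact key

end Cfsg.Agent.Helper3
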