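import Mathlib

set_option autoImplicit false

namespace Cfsg.Agent.Helper3

open scoped Pointwise

variable {G : Type*} [Group G]

theorem mem_conj_smul_iff (g x : G) (H : Subgroup G) :
    x ∈ MulAut.conj g • H ↔ g⁻¹ * x * g ∈ H := by
  rw [Subgroup.mem_pointwise_smul_iff_inv_smul_mem]
  simp [MulAut.smul_def]

theorem conj_mem_conj_smul (g x : G) (H : Subgroup G) (hx : x ∈ H) :
    g * x * g⁻¹ ∈ MulAut.conj g • H := by
  rw [mem_conj_smul_iff]
  simpa [mul_assoc] using hx

theorem conj_smul_eq_iff_mem_normalizer (g : G) (H : Subgroup G) :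
    MulAut.conj g • H = H ↔ g ∈ Subgroup.normalizer (H : Set G) := by
  rw [← Subgroup.inv_mem_iff, Subgroup.mem_normalizer_iff]
  constructor
  · intro h x
    conv_lhs => rw [← h]
    rw [mem_conj_smul_iff, inv_inv]
  · intro h
    ext x
    rw [mem_conj_smul_iff, h x, inv_inv]

theorem card_conj_smul [Finite G] (g : G) (H : Subgroup G) :
    Nat.card (MulAut.conj g • H : Subgroup G) = Nat.card H :=
  (Nat.card_congr (Subgroup.equivSMul (MulAut.conj g) H).toEquiv).symm

theorem eq_of_le_conj_smul [Finite G] (g : G) (H : Subgroup G) (h : H ≤ MulAut.conj g • H) :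
    MulAut.conj g • H = H := by
  symm
  apply Subgroup.eq_of_le_of_card_ge h
  rw [card_conj_smul]

theorem conj_smul_le_eq [Finite G] (g : G) (H : Subgroup G) (h : MulAut.conj g • H ≤ H) :
    MulAut.conj g • H = H := by
  apply Subgroup.eq_of_le_of_card_ge h
  rw [card_conj_smul]

/-- if `A` is normal in `H` (as `A.subgroupOf H`) then elements of `H` fix `A` under conjugation -/
theorem conj_smul_eq_of_normal_subgroupOf {A H : Subgroup G} (hA : A ≤ H)
    (hn : (A.subgroupOf H).Normal) {h : G} (hh : h ∈ H) : MulAut.conj h • A = A := by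
  rw [conj_smul_eq_iff_mem_normalizer]
  exact (Subgroup.normal_subgroupOf_iff_le_normalizer hA).mp hn hh

end Cfsg.Agent.Helper3
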