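import Mathlib
import Cfsg.Agent.Helper19.Subnormal
import Cfsg.Agent.Helper3.Conj

set_option autoImplicit false

namespace Cfsg.Agent.Helper3

open scoped Pointwise

universe u

/-- the normalizers of `A` and `B` both normalize `A ⊔ B` -/
theorem normalizer_inf_le_normalizer_sup {G : Type*} [Group G] (A B : Subgroup G) :
    Subgroup.normalizer (A : Set G) ⊓ Subgroup.normalizer (B : Set G)
      ≤ Subgroup.normalizer ((A ⊔ B : Subgroup G) : Set G) := by
  intro x hx
  rw [← conj_smul_eq_iff_mem_normalizer, Subgroup.smul_sup,
    (conj_smul_eq_iff_mem_normalizer x A).mpr hx.1, (conj_smul_eq_iff_mem_normalizer x B).mpr hx.2]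

theorem subnormal_sup_aux : ∀ (n : ℕ) (G : Type u) [Group G] [Finite G], Nat.card G = n →
    ∀ A B : Subgroup G, A.IsSubnormal → B.IsSubnormal → (A ⊔ B).IsSubnormal := by
  intro n
  induction n using Nat.strong_induction_on with
  | _ n ih =>
    intro G _ _ hn A B hA hB
    by_cases htriv : (⊤ : Subgroup G) = ⊥
    · have : A ⊔ B = ⊤ := by
        rw [htriv]; exact le_antisymm (by rw [← htriv]; exact le_top) bot_le
      rw [this]; exact Subgroup.IsSubnormal.top
    · obtain ⟨M, hM, -⟩ := Cfsg.Agent.Helper19.exists_isMinNormal_le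
        (Subgroup.normal_top (G := G)) htriv
      haveI : M.Normal := hM.1
      have hMA := hM.le_normalizer_of_isSubnormal hA
      have hMB := hM.le_normalizer_of_isSubnormal hB
      have hcard : Nat.card (G ⧸ M) < n := by
        rw [← hn, ← Subgroup.index_eq_card, ← Subgroup.card_mul_index M]
        have h1 : 1 < Nat.card M := by
          rw [Subgroup.one_lt_card_iff_ne_bot]; exact hM.2.1
        have h2 : 0 < M.index := Nat.pos_of_ne_zero Subgroup.index_ne_zero_of_finite
        nlinarith
      have hq := ih _ hcard (G ⧸ M) rfl (A.map (QuotientGroup.mk' M)) (B.map (QuotientGroup.mk' M))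
        hA.quotient hB.quotient
      rw [← Subgroup.map_sup] at hq
      have hc := hq.comap (QuotientGroup.mk' M)
      rw [Subgroup.comap_map_eq, QuotientGroup.ker_mk'] at hc
      refine Subgroup.IsSubnormal.step (A ⊔ B) (A ⊔ B ⊔ M) le_sup_left hc ?_
      apply Subgroup.normal_subgroupOf_of_le_normalizer
      apply sup_le Subgroup.le_normalizer
      exact (le_inf hMA hMB).trans (normalizer_inf_le_normalizer_sup A B)

/-- **Wielandt**: the join of two subnormal subgroups of a finite group is subnormal. -/
theorem subnormal_sup {G : Type*} [Group G] [Finite G] {A B : Subgroup G} (hA : A.IsSubnormal)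
    (hB : B.IsSubnormal) : (A ⊔ B).IsSubnormal :=
  subnormal_sup_aux _ G rfl A B hA hB

end Cfsg.Agent.Helper3
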