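import Mathlib
import Cfsg.Prelude.Def_SolvableStructure

set_option autoImplicit false

namespace Cfsg.Agent.Helper3

open scoped Pointwise

variable {G : Type*} [Group G]

/-- an element normalizing `H` whose order is coprime to the index of `H` lies in `H` -/
theorem mem_of_mem_normalizer_of_coprime_index [Finite G] (H : Subgroup G) (x : G)
    (hx : x ∈ Subgroup.normalizer (H : Set G)) (hc : (orderOf x).Coprime H.index) : x ∈ H := by
  set N := Subgroup.normalizer (H : Set G) with hN
  have hHN : H ≤ N := Subgroup.le_normalizer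
  haveI : (H.subgroupOf N).Normal := Subgroup.normal_in_normalizer
  have hidx : (H.subgroupOf N).index ∣ H.index := by
    have := Subgroup.relIndex_mul_index hHN
    exact Dvd.intro _ this
  let y : N ⧸ H.subgroupOf N := QuotientGroup.mk ⟨x, hx⟩
  have h1 : orderOf y ∣ orderOf x := by
    have : y = (QuotientGroup.mk' (H.subgroupOf N)) ⟨x, hx⟩ := rfl
    rw [this]
    have h2 := orderOf_map_dvd (QuotientGroup.mk' (H.subgroupOf N)) (⟨x, hx⟩ : N)
    have h3 : orderOf (⟨x, hx⟩ : N) = orderOf x := by
      rw [← Subgroup.orderOf_coe]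
    rw [h3] at h2
    exact h2
  have h2 : orderOf y ∣ H.index := by
    have : orderOf y ∣ Nat.card (N ⧸ H.subgroupOf N) := orderOf_dvd_natCard y
    exact this.trans hidx
  have h3 : orderOf y = 1 := Nat.eq_one_of_dvd_coprimes hc h1 h2
  rw [orderOf_eq_one_iff] at h3
  have := (QuotientGroup.eq_one_iff (⟨x, hx⟩ : N)).mp h3
  exact this


/-- a member of a complement system has order coprime to its prime -/
theorem IsComplementSystem.coprime_card [Finite G] {K : Nat.Primes → Subgroup G}
    (hK : Cfsg.IsComplementSystem K) (p : Nat.Primes) : (Nat.card (K p)).Coprime (p : ℕ) := by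
  have h1 : Nat.card (K p) * (K p).index = Nat.card G := Subgroup.card_mul_index (K p)
  rw [hK p] at h1
  have hpos : Nat.card G ≠ 0 := Nat.card_pos.ne'
  have h2 : Nat.card (K p) = Nat.card G / (p : ℕ) ^ (Nat.card G).factorization p := by
    apply (Nat.div_eq_of_eq_mul_left (pow_pos p.2.pos _) h1.symm).symm
  rw [h2]
  exact (Nat.coprime_ordCompl p.2 hpos).symm

/-- an element lying in all members of a complement system, except possibly the one for `p`,
has `p`-power order -/
theorem IsComplementSystem.orderOf_eq_pow [Finite G] {K : Nat.Primes → Subgroup G}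
    (hK : Cfsg.IsComplementSystem K) (p : Nat.Primes) (x : G)
    (hx : ∀ q : Nat.Primes, q ≠ p → x ∈ K q) : ∃ k : ℕ, orderOf x = (p : ℕ) ^ k := by
  refine ⟨_, Nat.eq_prime_pow_of_unique_prime_dvd (orderOf_pos x).ne' ?_⟩
  intro r hr hrx
  by_contra hne
  have hq : (⟨r, hr⟩ : Nat.Primes) ≠ p := by
    intro h; apply hne; rw [← h]
  have hmem := hx ⟨r, hr⟩ hq
  have hdvd : orderOf x ∣ Nat.card (K ⟨r, hr⟩) := by
    have := orderOf_dvd_natCard (⟨x, hmem⟩ : K ⟨r, hr⟩)
    rwa [← Subgroup.orderOf_coe] at this
  have hcop := IsComplementSystem.coprime_card hK ⟨r, hr⟩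
  have : r ∣ Nat.card (K ⟨r, hr⟩) := hrx.trans hdvd
  have h1 : r ∣ 1 := by
    have := Nat.dvd_gcd this (dvd_refl r)
    rwa [hcop] at this
  exact hr.one_lt.ne' (Nat.dvd_one.mp h1)

/-- the system normalizer of a complement system of a finite group is nilpotent -/
theorem systemNormalizer_isNilpotent [Finite G] {K : Nat.Primes → Subgroup G}
    (hK : Cfsg.IsComplementSystem K) : Group.IsNilpotent (Cfsg.systemNormalizer K) := by
  set D := Cfsg.systemNormalizer K with hD
  have hDle : ∀ q : Nat.Primes, D ≤ Subgroup.normalizer (K q : Set G) := fun q => iInf_le _ q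
  apply ((Group.isNilpotent_of_finite_tfae (G := D)).out 0 3 rfl rfl).mpr
  intro p hp P
  -- T = elements of D lying in all K q, q ≠ p
  let pp : Nat.Primes := ⟨p, hp.out⟩
  let T : Subgroup D := ⨅ q : {q : Nat.Primes // q ≠ pp}, (K q).subgroupOf D
  have hTn : T.Normal := by
    apply Subgroup.normal_iInf_normal
    intro q
    exact Subgroup.normal_subgroupOf_of_le_normalizer (hDle q)
  have hTp : IsPGroup p T := by
    intro x
    have hxmem : ∀ q : Nat.Primes, q ≠ pp → ((x : D) : G) ∈ K q := by
      intro q hq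
      have := x.2
      have h2 : (x : D) ∈ (K q).subgroupOf D := (Subgroup.mem_iInf.mp this) ⟨q, hq⟩
      exact h2
    obtain ⟨k, hk⟩ := IsComplementSystem.orderOf_eq_pow hK pp ((x : D) : G) hxmem
    refine ⟨k, ?_⟩
    have h1 : orderOf x = p ^ k := by
      rw [← Subgroup.orderOf_coe, ← Subgroup.orderOf_coe]; exact hk
    rw [← h1]; exact pow_orderOf_eq_one x
  have hPT : (P : Subgroup D) ≤ T := by
    intro x hxP
    apply Subgroup.mem_iInf.mpr
    rintro ⟨q, hq⟩
    change (x : G) ∈ K q
    apply mem_of_mem_normalizer_of_coprime_index (K q) (x : G) (hDle q x.2)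
    rw [hK q]
    obtain ⟨k, hk⟩ := (IsPGroup.iff_orderOf.mp P.isPGroup') ⟨x, hxP⟩
    have h1 : orderOf (x : G) = p ^ k := by
      rw [Subgroup.orderOf_coe, ← hk]
      exact (Subgroup.orderOf_coe (⟨x, hxP⟩ : (P : Subgroup D)))
    rw [h1]
    apply Nat.Coprime.pow
    rw [Nat.coprime_primes hp.out q.2]
    intro h
    apply hq
    exact Subtype.ext h.symm
  have := P.is_maximal' hTp hPT
  rw [← this]
  exact hTn

end Cfsg.Agent.Helper3
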