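import Mathlib

set_option autoImplicit false
set_option linter.style.haveILetI false

/-! Maschke's theorem for an external coprime action on an elementary abelian `p`-group,
with the action given as a family of endomorphisms `σ : A → (V →* V)`. -/

namespace Cfsg.Agent.Helper3

section Maschke

variable {V : Type*} [CommGroup V] [Finite V]

/-- In an abelian group of exponent `p` every subgroup has a complement. -/
theorem exists_compl_of_exponent (p : ℕ) [Fact p.Prime] (hexp : ∀ v : V, v ^ p = 1)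
    (W : Subgroup V) : ∃ U : Subgroup V, W ⊓ U = ⊥ ∧ W ⊔ U = ⊤ := by
  have hp : p.Prime := Fact.out
  obtain ⟨U, -, hU⟩ := Finite.exists_le_maximal (p := fun U : Subgroup V => W ⊓ U = ⊥)
    (a := ⊥) (by simp)
  refine ⟨U, hU.prop, ?_⟩
  rw [eq_top_iff]
  intro v _
  by_contra hv
  have hvU : v ∉ U := fun h => hv (Subgroup.mem_sup_right h)
  have hlt : U < U ⊔ Subgroup.zpowers v := by
    refine lt_of_le_of_ne le_sup_left ?_
    intro h
    apply hvU
    rw [h]
    exact Subgroup.mem_sup_right (Subgroup.mem_zpowers v)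
  have hne : W ⊓ (U ⊔ Subgroup.zpowers v) ≠ ⊥ := by
    intro h
    exact absurd (hU.le_of_ge h hlt.le) (not_le_of_gt hlt)
  obtain ⟨w, hw, hw1⟩ := (Subgroup.ne_bot_iff_exists_ne_one).mp hne |>.choose_spec |> fun h =>
    (⟨_, (Subgroup.ne_bot_iff_exists_ne_one.mp hne).choose.2,
      fun h1 => (Subgroup.ne_bot_iff_exists_ne_one.mp hne).choose_spec (Subtype.ext h1)⟩ :
      ∃ w : V, w ∈ W ⊓ (U ⊔ Subgroup.zpowers v) ∧ w ≠ 1)
  obtain ⟨hwW, hwU⟩ := Subgroup.mem_inf.mp hw
  obtain ⟨u, hu, z, hz, rfl⟩ := Subgroup.mem_sup.mp hwU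
  obtain ⟨k, rfl⟩ := Subgroup.mem_zpowers_iff.mp hz
  -- v ^ k ∈ W ⊔ U
  have hvk : v ^ k ∈ W ⊔ U := by
    have : v ^ k = u⁻¹ * (u * v ^ k) := by group
    rw [this]
    exact Subgroup.mul_mem _ (Subgroup.mem_sup_right (Subgroup.inv_mem _ hu))
      (Subgroup.mem_sup_left hwW)
  have hvk1 : v ^ k ≠ 1 := by
    intro h
    rw [h, mul_one] at hwW hw1
    have : u ∈ W ⊓ U := ⟨hwW, hu⟩
    rw [hU.prop, Subgroup.mem_bot] at this
    exact hw1 this
  -- p does not divide k
  have hpk : ¬ (p : ℤ) ∣ k := by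
    rintro ⟨j, rfl⟩
    apply hvk1
    rw [zpow_mul, zpow_natCast, hexp, one_zpow]
  have hcop : IsCoprime (k : ℤ) (p : ℤ) := by
    have := (Int.prime_iff_natAbs_prime.mpr (by simpa using hp)).coprime_iff_not_dvd.mpr hpk
    exact this.symm
  obtain ⟨a, b, hab⟩ := hcop
  apply hv
  have : v = (v ^ k) ^ a := by
    have h1 : v ^ (a * k + b * (p : ℤ)) = v := by rw [hab, zpow_one]
    rw [zpow_add, mul_comm b, zpow_mul v (p : ℤ) b, zpow_natCast, hexp, one_zpow, mul_one,
      mul_comm, zpow_mul] at h1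
    exact h1.symm
  rw [this]
  exact Subgroup.zpow_mem _ hvk a

/-- A retraction onto a subgroup of an abelian group of exponent `p`. -/
theorem exists_retraction (p : ℕ) [Fact p.Prime] (hexp : ∀ v : V, v ^ p = 1)
    (W : Subgroup V) : ∃ π : V →* V, (∀ v, π v ∈ W) ∧ ∀ w ∈ W, π w = w := by
  obtain ⟨U, hinf, hsup⟩ := exists_compl_of_exponent p hexp W
  let f : W × U →* V := W.subtype.coprod U.subtype
  have hf_inj : Function.Injective f := by
    rw [injective_iff_map_eq_one]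
    rintro ⟨w, u⟩ h
    have h' : (w : V) * (u : V) = 1 := by simpa [f, MonoidHom.coprod_apply] using h
    have hw : (w : V) ∈ W ⊓ U := by
      refine ⟨w.2, ?_⟩
      have : (w : V) = (u : V)⁻¹ := eq_inv_of_mul_eq_one_left h'
      rw [this]; exact U.inv_mem u.2
    rw [hinf, Subgroup.mem_bot] at hw
    have hu : (u : V) = 1 := by rw [hw, one_mul] at h'; exact h'
    exact Prod.ext (Subtype.ext hw) (Subtype.ext hu)
  have hf_surj : Function.Surjective f := by
    intro v
    have hv : v ∈ W ⊔ U := by rw [hsup]; trivial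
    obtain ⟨w, hw, u, hu, rfl⟩ := Subgroup.mem_sup.mp hv
    exact ⟨(⟨w, hw⟩, ⟨u, hu⟩), by simp [f, MonoidHom.coprod_apply]⟩
  let e : W × U ≃* V := MulEquiv.ofBijective f ⟨hf_inj, hf_surj⟩
  refine ⟨W.subtype.comp ((MonoidHom.fst W U).comp e.symm.toMonoidHom), ?_, ?_⟩
  · intro v
    exact (e.symm v).1.2
  · intro w hw
    have : e.symm w = (⟨w, hw⟩, 1) := by
      rw [MulEquiv.symm_apply_eq]
      show w = f (⟨w, hw⟩, 1)
      simp [f, MonoidHom.coprod_apply]
    simp [this]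

/-- **Maschke's theorem** for a coprime action (given by endomorphisms `σ a`) on an abelian
group of exponent `p`: every invariant subgroup has an invariant complement. -/
theorem maschke_ext {A : Type*} [Group A] [Finite A] (σ : A → V →* V) (hσ1 : ∀ v, σ 1 v = v)
    (hσmul : ∀ a b v, σ (a * b) v = σ a (σ b v)) (p : ℕ) [Fact p.Prime]
    (hexp : ∀ v : V, v ^ p = 1) (hpA : ¬ p ∣ Nat.card A) (W : Subgroup V)
    (hW : ∀ a, ∀ w ∈ W, σ a w ∈ W) :
    ∃ U : Subgroup V, (∀ a, ∀ u ∈ U, σ a u ∈ U) ∧ W ⊓ U = ⊥ ∧ W ⊔ U = ⊤ := by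
  classical
  haveI := Fintype.ofFinite A
  have hp : p.Prime := Fact.out
  obtain ⟨π, hπW, hπid⟩ := exists_retraction p hexp W
  have hcop : (Fintype.card A).Coprime p := by
    rw [Nat.card_eq_fintype_card] at hpA
    exact ((Nat.Prime.coprime_iff_not_dvd hp).mpr hpA).symm
  obtain ⟨m, -, hm⟩ := Nat.exists_mul_mod_eq_one_of_coprime hcop hp.one_lt
  have hpow : ∀ v : V, (v ^ Fintype.card A) ^ m = v := by
    intro v
    rw [← pow_mul, ← Nat.div_add_mod (Fintype.card A * m) p, hm, pow_add, pow_mul, hexp,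
      one_pow, one_mul, pow_one]
  let π' : V →* V := MonoidHom.mk' (fun v => (∏ a : A, σ a (π (σ a⁻¹ v))) ^ m) (by
    intro x y
    simp only [map_mul, Finset.prod_mul_distrib, mul_pow])
  have hπ'_apply : ∀ v, π' v = (∏ a : A, σ a (π (σ a⁻¹ v))) ^ m := fun v => rfl
  have hπ'W : ∀ v, π' v ∈ W := by
    intro v
    rw [hπ'_apply]
    exact Subgroup.pow_mem _ (Subgroup.prod_mem _ (fun a _ => hW a _ (hπW _))) m
  have hπ'id : ∀ w ∈ W, π' w = w := by
    intro w hw
    rw [hπ'_apply]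
    have : ∀ a : A, σ a (π (σ a⁻¹ w)) = w := by
      intro a
      rw [hπid _ (hW a⁻¹ w hw), ← hσmul, mul_inv_cancel, hσ1]
    simp only [this, Finset.prod_const, Finset.card_univ]
    exact hpow w
  have hequiv : ∀ (b : A) (v : V), π' (σ b v) = σ b (π' v) := by
    intro b v
    rw [hπ'_apply, hπ'_apply, map_pow, map_prod]
    congr 1
    rw [← Fintype.prod_equiv (Equiv.mulLeft b)
      (fun c => σ b (σ c (π (σ c⁻¹ v)))) (fun a => σ a (π (σ a⁻¹ (σ b v))))]
    intro c
    rw [Equiv.coe_mulLeft, hσmul b c, ← hσmul (b * c)⁻¹ b v]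
    congr 3
    group
  refine ⟨π'.ker, ?_, ?_, ?_⟩
  · intro a u hu
    rw [MonoidHom.mem_ker] at hu ⊢
    rw [hequiv, hu, map_one]
  · rw [eq_bot_iff]
    intro w hw
    obtain ⟨hwW, hwK⟩ := Subgroup.mem_inf.mp hw
    rw [MonoidHom.mem_ker, hπ'id w hwW] at hwK
    rw [Subgroup.mem_bot]; exact hwK
  · rw [eq_top_iff]
    intro v _
    have : v = π' v * ((π' v)⁻¹ * v) := by group
    rw [this]
    refine Subgroup.mul_mem _ (Subgroup.mem_sup_left (hπ'W v)) (Subgroup.mem_sup_right ?_)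
    rw [MonoidHom.mem_ker, map_mul, map_inv, hπ'id _ (hπ'W v), inv_mul_cancel]

end Maschke

end Cfsg.Agent.Helper3
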