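import Mathlib
import Cfsg.Agent.Lead.GenCent
import Cfsg.Agent.Lead.ActionBridge
import Cfsg.Agent.Helper1.UniqueOrderP

set_option autoImplicit false
set_option linter.style.haveILetI false
set_option linter.unusedSectionVars false

/-! Coprime action of an abelian group of automorphisms, in `MulAut` language:
generation by fixed points, involutions on cyclic `p`-groups, fixed-point-free involutions. -/

namespace Cfsg.Agent.Helper3.Broad

open Subgroup SemidirectProduct Cfsg.Agent.Lead

variable {P : Type*} [Group P]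

/-- the fixed-point subgroup of an automorphism -/
def Fx (T : MulAut P) : Subgroup P where
  carrier := {x | T x = x}
  mul_mem' := by
    intro a b ha hb
    simp only [Set.mem_ofPred_eq] at *
    rw [map_mul, ha, hb]
  one_mem' := map_one T
  inv_mem' := by
    intro a ha
    simp only [Set.mem_ofPred_eq] at *
    rw [map_inv, ha]

theorem mem_Fx {T : MulAut P} {x : P} : x ∈ Fx T ↔ T x = x := Iff.rfl

/-- Generation by fixed points: a noncyclic abelian group `J` of automorphisms of coprime order;
any `J`-invariant subgroup `D` lies in every subgroup containing the fixed points in `D` of the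
nonidentity elements of `J`. -/
theorem gen_fix [Finite P] (J : Subgroup (MulAut P)) [IsMulCommutative J] (hJ : ¬ IsCyclic J)
    (hcop : (Nat.card J).Coprime (Nat.card P)) (D : Subgroup P)
    (hD : ∀ T ∈ J, ∀ x ∈ D, T x ∈ D)
    (H : Subgroup P) (hH : ∀ T ∈ J, T ≠ 1 → ∀ x ∈ D, T x = x → x ∈ H) : D ≤ H := by
  haveI : Finite (MulAut P) := Finite.of_injective (fun f : MulAut P => (f : P → P))
    (fun f g h => MulEquiv.ext (congrFun h))
  let A : Subgroup (SD P J) := As P J
  let K : Subgroup (SD P J) := D.map (inl : P →* SD P J)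
  have hconj : ∀ (T : J) (d : P), (inr T : SD P J) * inl d * (inr T)⁻¹ = inl ((T : MulAut P) d) :=
    fun T d => inr_mul_inl_mul_inr_inv T d
  haveI hAc : IsMulCommutative A := by
    refine ⟨⟨?_⟩⟩
    rintro ⟨_, ⟨s, rfl⟩⟩ ⟨_, ⟨t, rfl⟩⟩
    apply Subtype.ext
    show (inr s : SD P J) * inr t = inr t * inr s
    rw [← map_mul, ← map_mul, mul_comm' s t]
  have hAnc : ¬ IsCyclic A := by
    intro hc
    apply hJ
    have e : J ≃* A := MonoidHom.ofInjective (f := (inr : J →* SD P J)) inr_injective
    exact isCyclic_of_surjective e.symm e.symm.surjective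
  have hAK : A ≤ normalizer (K : Set (SD P J)) := by
    rintro _ ⟨T, rfl⟩
    rw [mem_normalizer_iff]
    intro h
    constructor
    · rintro ⟨d, hd, rfl⟩
      rw [hconj]
      exact ⟨_, hD T T.2 d hd, rfl⟩
    · rintro ⟨d, hd, hdh⟩
      have : h = (inr T⁻¹ : SD P J) * inl d * (inr T⁻¹)⁻¹ := by
        rw [hdh, map_inv]; group
      rw [this, hconj]
      exact ⟨_, hD _ (T⁻¹).2 d hd, rfl⟩
  have hcop' : (Nat.card A).Coprime (Nat.card K) := by
    have h1 : Nat.card A = Nat.card J := card_As P J
    have h2 : Nat.card K = Nat.card D := card_map_of_injective inl_injective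
    rw [h1, h2]
    exact hcop.coprime_dvd_right (card_subgroup_dvd_card D)
  have hgen := generated_by_centralizers A K hAnc hAK hcop'
  have hKH : K ≤ H.map (inl : P →* SD P J) := by
    rw [← hgen]
    refine iSup₂_le ?_
    rintro a ⟨⟨T, rfl⟩, ha1⟩ x ⟨⟨d, hd, rfl⟩, hx⟩
    have hT1 : (T : MulAut P) ≠ 1 := by
      intro h
      apply ha1
      have : T = 1 := Subtype.ext h
      rw [this, map_one]
    have hfix : (T : MulAut P) d = d := by
      have h1 := mem_centralizer_singleton_iff.mp hx
      have h2 : (inr T : SD P J) * inl d * (inr T)⁻¹ = inl d := by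
        rw [← h1]; group
      rw [hconj] at h2
      exact inl_injective h2
    exact ⟨d, hH T T.2 hT1 d hd hfix, rfl⟩
  intro d hd
  obtain ⟨h, hh, hhd⟩ := hKH (⟨d, hd, rfl⟩ : inl d ∈ K)
  rw [← inl_injective hhd]
  exact hh

theorem fix_zpowers (T : MulAut P) {g x : P} (h : T g = g) (hx : x ∈ zpowers g) : T x = x := by
  obtain ⟨k, rfl⟩ := mem_zpowers_iff.mp hx
  rw [map_zpow, h]

theorem inv_zpowers (T : MulAut P) {g x : P} (h : T g = g⁻¹) (hx : x ∈ zpowers g) : T x = x⁻¹ := by
  obtain ⟨k, rfl⟩ := mem_zpowers_iff.mp hx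
  rw [map_zpow, h, inv_zpow]

section pgroup

variable [Finite P] {p : ℕ} [hp : Fact p.Prime]

theorem eq_one_of_sq (hp2 : p ≠ 2) (hP : IsPGroup p P) {x : P} (hx : x * x = 1) : x = 1 := by
  obtain ⟨k, hk⟩ := hP x
  have h2 : x ^ 2 = 1 := by rw [pow_two]; exact hx
  have hc : Nat.Coprime (p ^ k) 2 :=
    Nat.Coprime.pow_left k ((Nat.coprime_primes hp.out Nat.prime_two).mpr hp2)
  have h1 := orderOf_dvd_of_pow_eq_one hk
  have h3 := orderOf_dvd_of_pow_eq_one h2
  have h4 : orderOf x ∣ 1 := by
    have := Nat.dvd_gcd h1 h3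
    rwa [hc] at this
  exact orderOf_eq_one_iff.mp (Nat.dvd_one.mp h4)

theorem eq_one_of_eq_inv (hp2 : p ≠ 2) (hP : IsPGroup p P) {x : P} (hx : x = x⁻¹) : x = 1 := by
  apply eq_one_of_sq hp2 hP
  nth_rewrite 2 [hx]
  exact mul_inv_cancel x

/-- an involutory automorphism stabilizing a cyclic subgroup of a `p`-group, `p` odd, fixes
or inverts the generator -/
theorem fix_or_inv (hp2 : p ≠ 2) (hP : IsPGroup p P) (S : MulAut P) (hS2 : ∀ x, S (S x) = x)
    (g : P) (hSg : S g ∈ zpowers g) : S g = g ∨ S g = g⁻¹ := by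
  have hcomm : g * S g = S g * g := by
    obtain ⟨k, hk⟩ := mem_zpowers_iff.mp hSg
    rw [← hk, ← zpow_one_add, ← zpow_add_one, add_comm]
  set u := g * S g with hu
  set v := g * (S g)⁻¹ with hv
  have hSu : S u = u := by rw [hu, map_mul, hS2, ← hcomm]
  have hSv : S v = v⁻¹ := by
    rw [hv, map_mul, map_inv, hS2, mul_inv_rev, inv_inv]
  have hcyc : IsCyclic (zpowers g) := inferInstance
  have hPg : IsPGroup p (zpowers g) := hP.to_subgroup _
  have huC : zpowers u ≤ zpowers g := by
    rw [zpowers_le]; exact mul_mem (mem_zpowers g) hSg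
  have hvC : zpowers v ≤ zpowers g := by
    rw [zpowers_le]; exact mul_mem (mem_zpowers g) (inv_mem hSg)
  rcases Cfsg.Agent.Helper1.le_total_of_isCyclic_isPGroup (zpowers g) hcyc hPg _ _ huC hvC
    with h | h
  · right
    have h1 : S u = u⁻¹ := inv_zpowers S hSv (h (mem_zpowers u))
    have h2 : u = 1 := eq_one_of_eq_inv hp2 hP (hSu.symm.trans h1)
    exact eq_inv_of_mul_eq_one_right h2
  · left
    have h1 : S v = v := fix_zpowers S hSu (h (mem_zpowers v))
    have h2 : v = 1 := eq_one_of_eq_inv hp2 hP (h1.symm.trans hSv)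
    exact (mul_inv_eq_one.mp h2).symm

/-- a fixed-point-free involutory automorphism inverts every element -/
theorem inv_of_fpf (z : MulAut P) (hz2 : ∀ x, z (z x) = x) (hfix : ∀ x, z x = x → x = 1) :
    ∀ x, z x = x⁻¹ := by
  have hinj : Function.Injective (fun x : P => x⁻¹ * z x) := by
    intro x y hxy
    simp only at hxy
    have h1 : z (y * x⁻¹) = y * x⁻¹ := by
      rw [map_mul, map_inv]
      have : z y = y * (x⁻¹ * z x) := by rw [hxy]; group
      rw [this]; group
    have h2 := hfix _ h1
    exact (mul_inv_eq_one.mp h2).symm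
  have hsurj := Finite.surjective_of_injective hinj
  intro w
  obtain ⟨x, rfl⟩ := hsurj w
  simp only
  rw [map_mul, map_inv, hz2]
  group

theorem comm_of_inv (z : MulAut P) (hz : ∀ x, z x = x⁻¹) (x y : P) : x * y = y * x := by
  have h := hz (x * y)
  rw [map_mul, hz, hz, mul_inv_rev] at h
  have := congrArg (fun t => t⁻¹) h
  simp only [mul_inv_rev, inv_inv] at this
  exact this.symm

end pgroup

end Cfsg.Agent.Helper3.Broad
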