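import Cfsg.Agent.Helper3.S5702REDUCEA
import Cfsg.Agent.Helper12.S5702Defs2
import Cfsg.Agent.Helper17.S5683MEMSUBF
import Cfsg.Agent.Helper17.S5683SUBFT
import Cfsg.Agent.Helper17.S5683SIMNORM
import Cfsg.Agent.Helper17.S5683MAXMAP

/-! S5702 piece REDUCE (driver helper12): reduction of the maximality statement to the standard forms
`QfMinus m F a b` with `P = 1`. -/

set_option autoImplicit false
set_option linter.unusedSectionVars false
set_option linter.unusedVariables false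

namespace Cfsg.Agent.S5702P

open Matrix Cfsg.Agent.Helper28.Sg Cfsg.Agent.Helper28.Spin Cfsg.Agent.Helper12.OrthGen
  Cfsg.Agent.S5683P

variable {F : Type*} [Field F] {m : ℕ} {a b : F}

namespace REDUCE

/-- maximality is transported by isomorphisms -/
theorem isMaximalIn_map_equiv {G G' : Type*} [Group G] [Group G'] (φ : G ≃* G') (K H : Subgroup G)
    (h : Cfsg.Geo.IsMaximalIn K H) :
    Cfsg.Geo.IsMaximalIn (K.map φ.toMonoidHom) (H.map φ.toMonoidHom) := by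
  have hinj : Function.Injective φ.toMonoidHom := φ.injective
  have hsurj : Function.Surjective φ.toMonoidHom := φ.surjective
  obtain ⟨hlt, hmax⟩ := h
  refine ⟨lt_of_le_of_ne (Subgroup.map_mono hlt.le) ?_, ?_⟩
  · intro heq
    have h1 := congrArg (Subgroup.comap φ.toMonoidHom) heq
    rw [Subgroup.comap_map_eq_self_of_injective hinj, Subgroup.comap_map_eq_self_of_injective hinj] at h1
    exact hlt.ne h1
  · intro M hHM hMK
    have h1 : H ≤ M.comap φ.toMonoidHom := Subgroup.map_le_iff_le_comap.1 hHM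
    have h2 : M.comap φ.toMonoidHom ≤ K := by
      intro x hx
      obtain ⟨k, hk, hkx⟩ := hMK (Subgroup.mem_comap.1 hx)
      rw [← hinj hkx]
      exact hk
    have h3 : M = (M.comap φ.toMonoidHom).map φ.toMonoidHom :=
      (Subgroup.map_comap_eq_self_of_surjective hsurj M).symm
    rcases hmax _ h1 h2 with h4 | h4
    · left; rw [h3, h4]
    · right; rw [h3, h4]

section reindex

variable {ι κ : Type} [Fintype ι] [DecidableEq ι] [Fintype κ] [DecidableEq κ]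

theorem glReindex_val (e : κ ≃ ι) (g : Matrix.GeneralLinearGroup κ F) :
    ((Cfsg.Geo.glReindex e g : Matrix.GeneralLinearGroup ι F) : Matrix ι ι F) =
      (g : Matrix κ κ F).submatrix e.symm e.symm := rfl

theorem glReindex_mulVec (e : κ ≃ ι) (g : Matrix.GeneralLinearGroup κ F) (x : ι → F) :
    ((Cfsg.Geo.glReindex e g : Matrix.GeneralLinearGroup ι F) : Matrix ι ι F) *ᵥ x =
      ((g : Matrix κ κ F) *ᵥ (x ∘ e)) ∘ e.symm := by
  rw [glReindex_val, Matrix.submatrix_mulVec_equiv, Equiv.symm_symm]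

theorem glReindex_mem_isom (e : κ ≃ ι) (Q₀ : (κ → F) → F) (h : Matrix.GeneralLinearGroup κ F) :
    Cfsg.Geo.glReindex e h ∈ Cfsg.isometryGroup F (fun x : ι → F => Q₀ (x ∘ e)) ↔
      h ∈ Cfsg.isometryGroup F Q₀ := by
  rw [SIMNORM.mem_isom_iff, SIMNORM.mem_isom_iff]
  have hcomp : ∀ y : κ → F, (y ∘ e.symm) ∘ e = y := by
    intro y
    funext k
    simp
  constructor
  · intro hh u
    have h1 := hh (u ∘ e.symm)
    simp only [glReindex_mulVec, hcomp] at h1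
    exact h1
  · intro hh x
    simp only [glReindex_mulVec, hcomp]
    exact hh (x ∘ e)

theorem map_glReindex_isom (e : κ ≃ ι) (Q₀ : (κ → F) → F) :
    (Cfsg.isometryGroup F Q₀).map (Cfsg.Geo.glReindex e).toMonoidHom =
      Cfsg.isometryGroup F (fun x : ι → F => Q₀ (x ∘ e)) := by
  ext g
  obtain ⟨h, rfl⟩ := (Cfsg.Geo.glReindex (F := F) e).surjective g
  have h1 : (Cfsg.Geo.glReindex (F := F) e).toMonoidHom h ∈
      (Cfsg.isometryGroup F Q₀).map (Cfsg.Geo.glReindex e).toMonoidHom ↔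
      h ∈ Cfsg.isometryGroup F Q₀ :=
    Subgroup.mem_map_iff_mem (Cfsg.Geo.glReindex (F := F) e).injective
  exact h1.trans (glReindex_mem_isom e Q₀ h).symm

theorem map_glReindex_omegaGL (e : κ ≃ ι) (Q₀ : (κ → F) → F) :
    (Cfsg.Geo.omegaGL Q₀).map (Cfsg.Geo.glReindex e).toMonoidHom =
      Cfsg.Geo.omegaGL (fun x : ι → F => Q₀ (x ∘ e)) := by
  rw [SIMNORM.omegaGL_eq, SIMNORM.omegaGL_eq, Subgroup.map_commutator, map_glReindex_isom]

theorem map_glReindex_subf (e : κ ≃ ι) (F₀ : Subfield F) :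
    (Cfsg.Geo.subfieldSubgroup F₀ (1 : Matrix.GeneralLinearGroup κ F)).map
      (Cfsg.Geo.glReindex e).toMonoidHom =
      Cfsg.Geo.subfieldSubgroup F₀ (1 : Matrix.GeneralLinearGroup ι F) := by
  ext g
  obtain ⟨h, rfl⟩ := (Cfsg.Geo.glReindex (F := F) e).surjective g
  have h1 : (Cfsg.Geo.glReindex (F := F) e).toMonoidHom h ∈
      (Cfsg.Geo.subfieldSubgroup F₀ (1 : Matrix.GeneralLinearGroup κ F)).map
        (Cfsg.Geo.glReindex e).toMonoidHom ↔
      h ∈ Cfsg.Geo.subfieldSubgroup F₀ (1 : Matrix.GeneralLinearGroup κ F) :=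
    Subgroup.mem_map_iff_mem (Cfsg.Geo.glReindex (F := F) e).injective
  refine h1.trans ?_
  rw [MEMSUBF.mem_subf_one_iff, MEMSUBF.mem_subf_one_iff]
  constructor
  · rintro ⟨z, hz, hr⟩
    refine ⟨z, hz, fun i j => ?_⟩
    exact hr (e.symm i) (e.symm j)
  · rintro ⟨z, hz, hr⟩
    refine ⟨z, hz, fun i j => ?_⟩
    have := hr (e i) (e j)
    simpa [glReindex_val] using this

end reindex

section conj

variable {ι : Type} [Fintype ι] [DecidableEq ι]

/-- conjugation by a similarity between two forms carries one isometry group into the other -/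
theorem conj_mem_isom₂ (Q Q₁ : (ι → F) → F) (A : Matrix.GeneralLinearGroup ι F) (c : F) (hc : c ≠ 0)
    (hA : ∀ x : ι → F, Q ((A : Matrix ι ι F) *ᵥ x) = c * Q₁ x)
    {h : Matrix.GeneralLinearGroup ι F} (hh : h ∈ Cfsg.isometryGroup F Q₁) :
    A * h * A⁻¹ ∈ Cfsg.isometryGroup F Q := by
  rw [SIMNORM.mem_isom_iff] at hh ⊢
  intro u
  have hAinv : ∀ x : ι → F, c * Q₁ (((A⁻¹ : Matrix.GeneralLinearGroup ι F) : Matrix ι ι F) *ᵥ x) =
      Q x := by
    intro x
    have h1 := hA (((A⁻¹ : Matrix.GeneralLinearGroup ι F) : Matrix ι ι F) *ᵥ x)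
    rw [Matrix.mulVec_mulVec, ← Units.val_mul, mul_inv_cancel, Units.val_one, Matrix.one_mulVec] at h1
    exact h1.symm
  rw [Units.val_mul, Units.val_mul, ← Matrix.mulVec_mulVec, ← Matrix.mulVec_mulVec, hA, hh, hAinv]

theorem conj_inv_mem_isom₂ (Q Q₁ : (ι → F) → F) (A : Matrix.GeneralLinearGroup ι F) (c : F) (hc : c ≠ 0)
    (hA : ∀ x : ι → F, Q ((A : Matrix ι ι F) *ᵥ x) = c * Q₁ x)
    {h : Matrix.GeneralLinearGroup ι F} (hh : h ∈ Cfsg.isometryGroup F Q) :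
    A⁻¹ * h * A ∈ Cfsg.isometryGroup F Q₁ := by
  rw [SIMNORM.mem_isom_iff] at hh ⊢
  intro u
  apply mul_left_cancel₀ hc
  rw [← hA, ← hA, Matrix.mulVec_mulVec, ← Units.val_mul]
  have : A * (A⁻¹ * h * A) = h * A := by group
  rw [this, Units.val_mul, ← Matrix.mulVec_mulVec, hh]

theorem map_conj_isom₂ (Q Q₁ : (ι → F) → F) (A : Matrix.GeneralLinearGroup ι F) (c : F) (hc : c ≠ 0)
    (hA : ∀ x : ι → F, Q ((A : Matrix ι ι F) *ᵥ x) = c * Q₁ x) :
    (Cfsg.isometryGroup F Q₁).map (MulAut.conj A).toMonoidHom = Cfsg.isometryGroup F Q := by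
  ext x
  constructor
  · rintro ⟨y, hy, rfl⟩
    exact conj_mem_isom₂ Q Q₁ A c hc hA hy
  · intro hx
    refine ⟨A⁻¹ * x * A, conj_inv_mem_isom₂ Q Q₁ A c hc hA hx, ?_⟩
    show A * (A⁻¹ * x * A) * A⁻¹ = x
    group

theorem map_conj_omegaGL₂ (Q Q₁ : (ι → F) → F) (A : Matrix.GeneralLinearGroup ι F) (c : F) (hc : c ≠ 0)
    (hA : ∀ x : ι → F, Q ((A : Matrix ι ι F) *ᵥ x) = c * Q₁ x) :
    (Cfsg.Geo.omegaGL Q₁).map (MulAut.conj A).toMonoidHom = Cfsg.Geo.omegaGL Q := by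
  rw [SIMNORM.omegaGL_eq, SIMNORM.omegaGL_eq, Subgroup.map_commutator, map_conj_isom₂ Q Q₁ A c hc hA]

theorem subf_one' (F₀ : Subfield F) (P : Matrix.GeneralLinearGroup ι F) :
    (Cfsg.Geo.subfieldSubgroup F₀ (1 : Matrix.GeneralLinearGroup ι F)).map
      (MulAut.conj P).toMonoidHom = Cfsg.Geo.subfieldSubgroup F₀ P := by
  unfold Cfsg.Geo.subfieldSubgroup
  rw [Subgroup.map_map]
  congr 1
  ext x
  simp

end conj

/-- the `F₀`-form defined by `P` and `ζ` is similar to a standard form `QfMinus m F a b` (`a, b ∈ F₀`) by a rational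
change of basis -/
theorem exists_std [Fintype F] {n : ℕ} (e : Idx m ≃ Fin n) (Q : (Fin n → F) → F)
    (hQ : Cfsg.Geo.IsNondegenerateQuadraticForm Q) (F₀ : Subfield F)
    (P : Matrix.GeneralLinearGroup (Fin n) F) (ζ : F) (hζ : ζ ≠ 0)
    (hP : Cfsg.Geo.IsQuadFormRationalStructure (fun v : Fin n → F => ζ * Q v) F₀ P) :
    ∃ (T : Matrix.GeneralLinearGroup (Fin n) F) (c a b : F),
      RatM F₀ (T : Matrix (Fin n) (Fin n) F) ∧
      RatM F₀ ((T⁻¹ : Matrix.GeneralLinearGroup (Fin n) F) : Matrix (Fin n) (Fin n) F) ∧ c ≠ 0 ∧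
      a ∈ F₀ ∧ b ∈ F₀ ∧ 4 * b - a ^ 2 ≠ 0 ∧
      ∀ x : Fin n → F,
        Q (((P * T : Matrix.GeneralLinearGroup (Fin n) F) : Matrix (Fin n) (Fin n) F) *ᵥ x) =
          c * QfMinus m F a b (x ∘ e) := by
  classical
  obtain ⟨σ, hσ⟩ := Cfsg.Agent.S5683P.STD.exists_frob F₀
  have hfix : ∀ x : F, x ∈ F₀ ↔ σ x = x := by
    intro x
    rw [hσ]
    exact Cfsg.Agent.Helper11.FinSub.mem_iff_pow_card F₀ x
  -- `Q` as a quadratic form
  set Q' : QuadraticForm F (Fin n → F) :=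
    QuadraticMap.ofPolar Q (fun a v => by rw [hQ.smul, sq, smul_eq_mul])
      (fun x x' y => hQ.polar_bilinear.add_left x x' y)
      (fun a x y => by rw [hQ.polar_bilinear.smul_left, smul_eq_mul]) with hQ'
  have hQ'app : ∀ v, Q' v = Q v := fun v => rfl
  set ℓ : (Idx m → F) →ₗ[F] (Fin n → F) :=
    (Matrix.toLin' (P : Matrix (Fin n) (Fin n) F)).comp (LinearMap.funLeft F F e.symm) with hℓ
  have hℓapp : ∀ w, ℓ w = (P : Matrix (Fin n) (Fin n) F) *ᵥ (w ∘ e.symm) := by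
    intro w
    rw [hℓ, LinearMap.comp_apply, Matrix.toLin'_apply]
    rfl
  set R : QuadraticForm F (Idx m → F) := ζ • Q'.comp ℓ with hR
  have hRapp : ∀ w, R w = ζ * Q (ℓ w) := by
    intro w
    show ζ • (Q'.comp ℓ) w = _
    rw [QuadraticMap.comp_apply, hQ'app, smul_eq_mul]
  have hRrat : ∀ u : Idx m → F, Cfsg.Agent.Helper28.FO.vs σ u = u → σ (R u) = R u := by
    intro u hu
    rw [← hfix, hRapp, hℓapp]
    apply hP
    intro i
    rw [hfix]
    exact congrFun hu (e.symm i)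
  have hRσ := Cfsg.Agent.Helper3.RE.stable_of_rat σ R hRrat
  have hpol : ∀ v w, QuadraticMap.polar R v w = ζ * QuadraticMap.polar Q (ℓ v) (ℓ w) := by
    intro v w
    unfold QuadraticMap.polar
    rw [hRapp, hRapp, hRapp, map_add]
    ring
  have hℓsurj : ∀ y : Fin n → F, ∃ w, ℓ w = y := by
    intro y
    refine ⟨(((P⁻¹ : Matrix.GeneralLinearGroup (Fin n) F) : Matrix (Fin n) (Fin n) F) *ᵥ y) ∘ e, ?_⟩
    rw [hℓapp]
    have : ((((P⁻¹ : Matrix.GeneralLinearGroup (Fin n) F) : Matrix (Fin n) (Fin n) F) *ᵥ y) ∘ e) ∘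
        e.symm = ((P⁻¹ : Matrix.GeneralLinearGroup (Fin n) F) : Matrix (Fin n) (Fin n) F) *ᵥ y := by
      funext i
      simp
    rw [this, Matrix.mulVec_mulVec, ← Units.val_mul, mul_inv_cancel, Units.val_one,
      Matrix.one_mulVec]
  have hℓinj : ∀ v, ℓ v = 0 → v = 0 := by
    intro v hv
    rw [hℓapp] at hv
    have h1 := congrArg
      (fun y => ((P⁻¹ : Matrix.GeneralLinearGroup (Fin n) F) : Matrix (Fin n) (Fin n) F) *ᵥ y) hv
    simp only [Matrix.mulVec_mulVec, Matrix.mulVec_zero] at h1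
    rw [← Units.val_mul, inv_mul_cancel, Units.val_one, Matrix.one_mulVec] at h1
    funext k
    have := congrFun h1 (e k)
    simpa using this
  have hnd : ∀ v : Idx m → F, (∀ w, QuadraticMap.polar R v w = 0) → v = 0 := by
    intro v hv
    apply hℓinj
    by_contra hne
    obtain ⟨-, ⟨y, hy⟩⟩ := hQ.nondegenerate (ℓ v) hne
    obtain ⟨w, rfl⟩ := hℓsurj y
    have h1 := hv w
    rw [hpol] at h1
    rcases mul_eq_zero.1 h1 with h2 | h2
    · exact hζ h2
    · exact hy h2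
  obtain ⟨g, d, a, b, hg, hd, ha, hb, hab, hform⟩ :=
    Cfsg.Agent.Helper3.RE.hclass_even m σ R hRσ hnd
  have hrat : ∀ g' : Matrix.GeneralLinearGroup (Idx m) F,
      Cfsg.Agent.Helper28.SSim.mapGL σ g' = g' →
      RatM F₀ ((Cfsg.Geo.glReindex e g' : Matrix.GeneralLinearGroup (Fin n) F) :
        Matrix (Fin n) (Fin n) F) := by
    intro g' hg' i j
    rw [hfix, glReindex_val, Matrix.submatrix_apply]
    have := congrArg (fun M : Matrix.GeneralLinearGroup (Idx m) F =>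
      (M : Matrix (Idx m) (Idx m) F) (e.symm i) (e.symm j)) hg'
    simpa [Cfsg.Agent.Helper28.SSim.mapGL_val] using this
  refine ⟨Cfsg.Geo.glReindex e g, ζ⁻¹ * d, a, b, hrat g hg, ?_, mul_ne_zero (inv_ne_zero hζ) hd,
    (hfix a).2 ha, (hfix b).2 hb, hab, fun x => ?_⟩
  · rw [← map_inv]
    exact hrat g⁻¹ (by rw [map_inv, hg])
  · have h1 := hform (x ∘ e)
    rw [hRapp, hℓapp] at h1
    rw [Units.val_mul, ← Matrix.mulVec_mulVec, glReindex_mulVec, mul_assoc, ← h1, ← mul_assoc,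
      inv_mul_cancel₀ hζ, one_mul]

end REDUCE

/-- REDUCE: reduction of the maximality statement to the standard forms. -/
theorem REDUCE.maximal [Fintype F] {n : ℕ} (hn : 13 ≤ n) (heven : Even n) (Q : (Fin n → F) → F)
    (hQ : Cfsg.Geo.IsNondegenerateQuadraticForm Q) (F₀ : Subfield F)
    (P : Matrix.GeneralLinearGroup (Fin n) F) (ζ : F) (hζ : ζ ≠ 0)
    (hP : Cfsg.Geo.IsQuadFormRationalStructure (fun v : Fin n → F => ζ * Q v) F₀ P)
    (hstd : ∀ (m : ℕ) (a b : F), 2 * m + 2 = n → a ∈ F₀ → b ∈ F₀ → 4 * b - a ^ 2 ≠ 0 →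
      Cfsg.Geo.IsMaximalIn (Cfsg.Geo.omegaGL ⇑(QfMinus m F a b))
        (Cfsg.Geo.subfieldSubgroup F₀ (1 : Matrix.GeneralLinearGroup (Idx m) F) ⊓
          Cfsg.Geo.omegaGL ⇑(QfMinus m F a b))) :
    Cfsg.Geo.IsMaximalIn (Cfsg.Geo.omegaGL Q)
      (Cfsg.Geo.subfieldSubgroup F₀ P ⊓ Cfsg.Geo.omegaGL Q) := by
  classical
  obtain ⟨k, hk⟩ := heven
  have hnm : 2 * (k - 1) + 2 = n := by omega
  have e : Idx (k - 1) ≃ Fin n := Fintype.equivFinOfCardEq (by rw [card_Idx]; exact hnm)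
  obtain ⟨T, c, a, b, hT, hT', hc, ha, hb, hab, hsim⟩ :=
    REDUCE.exists_std (m := k - 1) e Q hQ F₀ P ζ hζ hP
  have hstd' := hstd (k - 1) a b hnm ha hb hab
  have h1 := REDUCE.isMaximalIn_map_equiv (Cfsg.Geo.glReindex (F := F) e) _ _ hstd'
  have e0 : (Cfsg.Geo.subfieldSubgroup F₀ (1 : Matrix.GeneralLinearGroup (Idx (k - 1)) F) ⊓
      Cfsg.Geo.omegaGL ⇑(QfMinus (k - 1) F a b)).map (Cfsg.Geo.glReindex (F := F) e).toMonoidHom =
      Cfsg.Geo.subfieldSubgroup F₀ (1 : Matrix.GeneralLinearGroup (Fin n) F) ⊓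
        Cfsg.Geo.omegaGL (fun x : Fin n → F => (QfMinus (k - 1) F a b) (x ∘ e)) := by
    rw [Subgroup.map_inf _ _ (Cfsg.Geo.glReindex (F := F) e).toMonoidHom
      (Cfsg.Geo.glReindex (F := F) e).injective, REDUCE.map_glReindex_omegaGL,
      REDUCE.map_glReindex_subf]
  rw [e0, REDUCE.map_glReindex_omegaGL] at h1
  have h2 := MAXMAP.isMaximalIn_map (MulAut.conj (P * T)) _ _ h1
  have e1 : (Cfsg.Geo.omegaGL (fun x : Fin n → F => (QfMinus (k - 1) F a b) (x ∘ e))).map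
      (MulAut.conj (P * T)).toMonoidHom = Cfsg.Geo.omegaGL Q :=
    REDUCE.map_conj_omegaGL₂ Q _ (P * T) c hc hsim
  have e2 : (Cfsg.Geo.subfieldSubgroup F₀ (1 : Matrix.GeneralLinearGroup (Fin n) F) ⊓
      Cfsg.Geo.omegaGL (fun x : Fin n → F => (QfMinus (k - 1) F a b) (x ∘ e))).map
        (MulAut.conj (P * T)).toMonoidHom =
      Cfsg.Geo.subfieldSubgroup F₀ P ⊓ Cfsg.Geo.omegaGL Q := by
    rw [Subgroup.map_inf _ _ _ (MulAut.conj (P * T)).injective, e1, REDUCE.subf_one',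
      SUBFT.subf_mul F₀ P T hT hT']
  have e1' : (Cfsg.Geo.omegaGL (fun x : Fin n → F => (QfMinus (k - 1) F a b) (x ∘ e))).map
      ((MulAut.conj (P * T) : Matrix.GeneralLinearGroup (Fin n) F ≃*
        Matrix.GeneralLinearGroup (Fin n) F).toMonoidHom) = Cfsg.Geo.omegaGL Q := e1
  rw [e1', e2] at h2
  exact h2

end Cfsg.Agent.S5702P
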