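import Mathlib
import Cfsg.Agent.Helper25.QPSwap
import Cfsg.Agent.Helper18.SL2Ext5
import Cfsg.Agent.Helper19.QPFIT

set_option autoImplicit false

/-! Board `qppieces`, piece UNIPM1: `(ab)^{n+1} = zⁿ ab` and `UnipPair a b ↔ M₁ = ⊥`. -/

noncomputable section

namespace Cfsg.Agent.QPP

open Cfsg Cfsg.Agent.Helper25.QP Cfsg.Agent.Helper25.QuadPair Polynomial

variable {k : Type*} [Field k] {M : Type*} [AddCommGroup M] [Module k M]

local notation "GLkM" => LinearMap.GeneralLinearGroup k M

theorem pow_ab (a b : Module.End k M) (ha : a * a = 0) (n : ℕ) :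
    (a * b) ^ (n + 1) = (zz a b) ^ n * (a * b) := by
  have hz : zz a b * (a * b) = (a * b) * (a * b) := by
    unfold zz
    rw [add_mul]
    have : b * a * (a * b) = b * (a * a) * b := by simp only [mul_assoc]
    rw [this, ha, mul_zero, zero_mul, add_zero]
  induction n with
  | zero => simp
  | succ n ih =>
    rw [pow_succ (a * b) (n + 1), ih, mul_assoc, ← hz, ← mul_assoc, ← pow_succ]

theorem UNIP_M1 [FiniteDimensional k M] (a b : Module.End k M) (ha : a * a = 0) (hb : b * b = 0) :
    UnipPair a b ↔ M1 a b = ⊥ := by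
  unfold M1
  rw [FIT_bot]
  constructor
  · intro h
    have h' : IsNilpotent (b * a) := UnipPair_swap h
    have hc : Commute (a * b) (b * a) := by
      unfold Commute SemiconjBy
      have h1 : a * b * (b * a) = a * (b * b) * a := by simp only [mul_assoc]
      have h2 : b * a * (a * b) = b * (a * a) * b := by simp only [mul_assoc]
      rw [h1, h2, ha, hb]
      simp
    unfold zz
    exact hc.isNilpotent_add h h'
  · intro h
    obtain ⟨n, hn⟩ := h
    refine ⟨n + 1, ?_⟩
    rw [pow_ab a b ha, hn, zero_mul]

end Cfsg.Agent.QPP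

end
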