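import Mathlib
import Cfsg.Agent.Helper27.S0429Defs

/-! s0429pieces CNT1: `Σ_{c far from a and b} m3 a b c = 4 · 14` (double counting). -/

set_option autoImplicit false

namespace Cfsg.Agent.S0429P

open Finset

variable {V : Type*} [Fintype V] [DecidableEq V] {G : SimpleGraph V} [DecidableRel G.Adj]

theorem CNT1_aux_m3 (a b c : V) :
    m3 G a b c = ∑ x ∈ cn G a b, if G.Adj x c then 1 else 0 := by
  rw [← Finset.card_filter]
  unfold m3 cn
  congr 1
  ext x
  simp only [Finset.mem_inter, SimpleGraph.mem_neighborFinset, Finset.mem_filter]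
  constructor
  · rintro ⟨⟨h1, h2⟩, h3⟩; exact ⟨⟨h1, h2⟩, h3.symm⟩
  · rintro ⟨⟨h1, h2⟩, h3⟩; exact ⟨⟨h1, h2⟩, h3.symm⟩

theorem CNT1_aux_card (h : G.IsSRGWith 77 16 0 4) {a b : V} (hab : Far G a b) {x : V}
    (hx : x ∈ cn G a b) :
    ((Finset.univ.filter (fun c => Far G a c ∧ Far G b c)).filter (fun c => G.Adj x c)).card = 14 := by
  obtain ⟨hax, hbx⟩ := mem_cn.mp hx
  have heq : (Finset.univ.filter (fun c => Far G a c ∧ Far G b c)).filter (fun c => G.Adj x c)
      = ((G.neighborFinset x).erase a).erase b := by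
    ext c
    simp only [Finset.mem_filter, Finset.mem_univ, true_and, Finset.mem_erase,
      SimpleGraph.mem_neighborFinset]
    constructor
    · rintro ⟨⟨h1, h3⟩, h5⟩
      exact ⟨h3.1, h1.1, h5⟩
    · rintro ⟨h3, h1, h5⟩
      exact ⟨⟨⟨h1, nadj_of_common h hax.symm h5⟩, ⟨h3, nadj_of_common h hbx.symm h5⟩⟩, h5⟩
  rw [heq]
  have ha : a ∈ G.neighborFinset x := by
    rw [SimpleGraph.mem_neighborFinset]; exact hax.symm
  have hb : b ∈ (G.neighborFinset x).erase a := by
    rw [Finset.mem_erase, SimpleGraph.mem_neighborFinset]; exact ⟨hab.1, hbx.symm⟩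
  rw [Finset.card_erase_of_mem hb, Finset.card_erase_of_mem ha, card_nb h]

theorem CNT1 (h : G.IsSRGWith 77 16 0 4) {a b : V} (hab : Far G a b) :
    ∑ c ∈ Finset.univ.filter (fun c => Far G a c ∧ Far G b c), m3 G a b c = 56 := by
  simp_rw [CNT1_aux_m3]
  rw [Finset.sum_comm]
  have h1 : ∀ x ∈ cn G a b,
      (∑ c ∈ Finset.univ.filter (fun c => Far G a c ∧ Far G b c), if G.Adj x c then 1 else 0) = 14 := by
    intro x hx
    rw [← Finset.card_filter]
    exact CNT1_aux_card h hab hx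
  rw [Finset.sum_congr rfl h1, Finset.sum_const, card_cn h (Ne.symm hab.1) hab.2]
  rfl

end Cfsg.Agent.S0429P
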