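import Mathlib
import Cfsg.Agent.Helper27.S0429Defs

/-! s0429pieces CNT2: `Σ_{c far from a and b} m3 (m3 - 1) = 12 · 2` (double counting of `(c, x, x')`). -/

set_option autoImplicit false

namespace Cfsg.Agent.S0429P

open Finset

variable {V : Type*} [Fintype V] [DecidableEq V] {G : SimpleGraph V} [DecidableRel G.Adj]

theorem CNT2_aux_m3 (a b c : V) :
    m3 G a b c = ((cn G a b).filter (fun x => G.Adj x c)).card := by
  unfold m3 cn
  congr 1
  ext x
  simp only [Finset.mem_inter, SimpleGraph.mem_neighborFinset, Finset.mem_filter]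
  constructor
  · rintro ⟨⟨h1, h2⟩, h3⟩; exact ⟨⟨h1, h2⟩, h3.symm⟩
  · rintro ⟨⟨h1, h2⟩, h3⟩; exact ⟨⟨h1, h2⟩, h3.symm⟩

theorem CNT2_aux_prod (a b c : V) :
    m3 G a b c * (m3 G a b c - 1)
      = ∑ p ∈ (cn G a b).offDiag, if G.Adj p.1 c ∧ G.Adj p.2 c then 1 else 0 := by
  rw [← Finset.card_filter, CNT2_aux_m3, Nat.mul_sub_one, ← Finset.offDiag_card]
  congr 1
  ext p
  simp only [Finset.mem_offDiag, Finset.mem_filter]
  tauto

theorem CNT2_aux_card (h : G.IsSRGWith 77 16 0 4) {a b : V} (hab : Far G a b) {x x' : V}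
    (hx : x ∈ cn G a b) (hx' : x' ∈ cn G a b) (hne : x ≠ x') :
    ((Finset.univ.filter (fun c => Far G a c ∧ Far G b c)).filter
      (fun c => G.Adj x c ∧ G.Adj x' c)).card = 2 := by
  obtain ⟨hax, hbx⟩ := mem_cn.mp hx
  obtain ⟨hax', hbx'⟩ := mem_cn.mp hx'
  have hnadj : ¬ G.Adj x x' := nadj_of_common h hax hax'
  have heq : (Finset.univ.filter (fun c => Far G a c ∧ Far G b c)).filter
      (fun c => G.Adj x c ∧ G.Adj x' c) = ((cn G x x').erase a).erase b := by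
    ext c
    simp only [Finset.mem_filter, Finset.mem_univ, true_and, Finset.mem_erase, mem_cn]
    constructor
    · rintro ⟨⟨h1, h3⟩, h5, h6⟩
      exact ⟨h3.1, h1.1, h5, h6⟩
    · rintro ⟨h3, h1, h5, h6⟩
      exact ⟨⟨⟨h1, nadj_of_common h hax.symm h5⟩, ⟨h3, nadj_of_common h hbx.symm h5⟩⟩, h5, h6⟩
  rw [heq]
  have ha : a ∈ cn G x x' := mem_cn.mpr ⟨hax.symm, hax'.symm⟩
  have hb : b ∈ (cn G x x').erase a := by
    rw [Finset.mem_erase]; exact ⟨hab.1, mem_cn.mpr ⟨hbx.symm, hbx'.symm⟩⟩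
  rw [Finset.card_erase_of_mem hb, Finset.card_erase_of_mem ha, card_cn h hne hnadj]

theorem CNT2 (h : G.IsSRGWith 77 16 0 4) {a b : V} (hab : Far G a b) :
    ∑ c ∈ Finset.univ.filter (fun c => Far G a c ∧ Far G b c), m3 G a b c * (m3 G a b c - 1) = 24 := by
  simp_rw [CNT2_aux_prod]
  rw [Finset.sum_comm]
  have h1 : ∀ p ∈ (cn G a b).offDiag,
      (∑ c ∈ Finset.univ.filter (fun c => Far G a c ∧ Far G b c),
        if G.Adj p.1 c ∧ G.Adj p.2 c then 1 else 0) = 2 := by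
    intro p hp
    rw [Finset.mem_offDiag] at hp
    rw [← Finset.card_filter]
    exact CNT2_aux_card h hab hp.1 hp.2.1 hp.2.2
  rw [Finset.sum_congr rfl h1, Finset.sum_const, Finset.offDiag_card,
    card_cn h (Ne.symm hab.1) hab.2]
  rfl

end Cfsg.Agent.S0429P
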