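import Mathlib
import Cfsg.Agent.Helper1.S4504MDefs

set_option autoImplicit false
set_option linter.unusedSectionVars false
set_option linter.unusedVariables false

/-! S4504 (modular half), piece M-LASS: a non-scalar semisimple isometry of a 3-dimensional
quadratic space over an algebraically closed field of characteristic not 2 fixes exactly two
isotropic lines. -/

namespace Cfsg.Agent.Helper3.S4504LASS

open Module

variable {k : Type*} [Field k] {U : Type*} [AddCommGroup U] [Module k U]

/-- eigenvectors of an isometry are orthogonal unless the eigenvalues are inverse -/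
theorem orth_of_eig (B : LinearMap.BilinForm k U) (T : Module.End k U)
    (hT : ∀ v w, B (T v) (T w) = B v w) {a b : k} {v w : U}
    (hv : T v = a • v) (hw : T w = b • w) (hab : a * b ≠ 1) : B v w = 0 := by
  have h := hT v w
  simp only [hv, hw, map_smul, LinearMap.smul_apply, smul_eq_mul] at h
  have h1 : (a * b - 1) * B v w = 0 := by linear_combination h
  rcases mul_eq_zero.mp h1 with h' | h'
  · exact absurd (sub_eq_zero.mp h') hab
  · exact h'

/-- eigenvalues of an isometry of a nondegenerate form are nonzero -/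
theorem eig_ne_zero (B : LinearMap.BilinForm k U) (hBn : B.Nondegenerate) (T : Module.End k U)
    (hT : ∀ v w, B (T v) (T w) = B v w) {a : k} {v : U} (hv : T v = a • v) (hv0 : v ≠ 0) :
    a ≠ 0 := by
  rintro rfl
  apply hv0
  apply hBn.1
  intro w
  rw [← hT, hv, zero_smul]
  simp

/-- the eigenspaces of an endomorphism of finite order prime to the characteristic span -/
theorem iSup_eigenspace_of_pow [IsAlgClosed k] [FiniteDimensional k U] (T : Module.End k U)
    (m : ℕ) (hm : T ^ m = 1) (hmk : (m : k) ≠ 0) : ⨆ μ : k, T.eigenspace μ = ⊤ := by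
  apply Module.End.IsSemisimple.iSup_eigenspace_eq_top
  apply Module.End.isSemisimple_of_squarefree_aeval_eq_zero
    (p := Polynomial.X ^ m - Polynomial.C 1)
  · exact (Polynomial.separable_X_pow_sub_C 1 hmk one_ne_zero).squarefree
  · simp [hm]

/-- an eigenvector pairs nontrivially with an eigenvector for the inverse eigenvalue -/
theorem exists_pairing (B : LinearMap.BilinForm k U) (hBn : B.Nondegenerate) (T : Module.End k U)
    (hT : ∀ v w, B (T v) (T w) = B v w) (hsup : ⨆ μ : k, T.eigenspace μ = ⊤)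
    {a : k} {v : U} (hv : T v = a • v) (hv0 : v ≠ 0) :
    ∃ u, T u = a⁻¹ • u ∧ B v u ≠ 0 := by
  by_contra hcon
  push Not at hcon
  apply hv0
  apply hBn.1
  intro y
  have hy : y ∈ ⨆ μ : k, T.eigenspace μ := by rw [hsup]; trivial
  refine Submodule.iSup_induction (fun μ : k => T.eigenspace μ) (motive := fun y => B v y = 0)
    hy ?_ ?_ ?_
  · intro μ x hx
    rw [Module.End.mem_eigenspace_iff] at hx
    by_cases hμ : a * μ = 1
    · have h1 : μ = a⁻¹ := eq_inv_of_mul_eq_one_right hμ
      rw [h1] at hx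
      exact hcon x hx
    · exact orth_of_eig B T hT hv hx hμ
  · simp
  · intro x y hx hy
    rw [map_add, hx, hy, add_zero]

/-- from an isotropic eigenvector one gets a hyperbolic pair of eigenvectors -/
theorem exists_hyperbolic (h2 : (2 : k) ≠ 0) (B : LinearMap.BilinForm k U) (hBs : B.IsSymm)
    (hBn : B.Nondegenerate) (T : Module.End k U)
    (hT : ∀ v w, B (T v) (T w) = B v w) (hsup : ⨆ μ : k, T.eigenspace μ = ⊤)
    {a : k} {v : U} (hv : T v = a • v) (hv0 : v ≠ 0) (hvv : B v v = 0) :
    ∃ v', T v' = a⁻¹ • v' ∧ B v v' = 1 ∧ B v' v' = 0 := by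
  obtain ⟨u, hu, hvu⟩ := exists_pairing B hBn T hT hsup hv hv0
  have ha0 : a ≠ 0 := eig_ne_zero B hBn T hT hv hv0
  obtain ⟨u1, hu1def⟩ : ∃ u1, u1 = (B v u)⁻¹ • u := ⟨_, rfl⟩
  have hu1 : T u1 = a⁻¹ • u1 := by
    rw [hu1def, map_smul, hu, smul_comm]
  have hvu1 : B v u1 = 1 := by
    rw [hu1def, map_smul, smul_eq_mul, inv_mul_cancel₀ hvu]
  by_cases hβ : B u1 u1 = 0
  · exact ⟨u1, hu1, hvu1, hβ⟩
  · have haa : a⁻¹ * a⁻¹ = 1 := by
      by_contra h
      exact hβ (orth_of_eig B T hT hu1 hu1 h)
    have ha : a⁻¹ = a := by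
      have : a * (a⁻¹ * a⁻¹) = a⁻¹ := by
        rw [← mul_assoc, mul_inv_cancel₀ ha0, one_mul]
      rw [haa, mul_one] at this
      exact this.symm
    refine ⟨u1 - (B u1 u1 / 2) • v, ?_, ?_, ?_⟩
    · rw [map_sub, map_smul, hu1, hv, smul_sub, ha, smul_comm]
    · rw [map_sub, map_smul, hvu1, hvv, smul_zero, sub_zero]
    · have hsym : B u1 v = 1 := by rw [hBs.eq, hvu1]
      simp only [map_sub, map_smul, LinearMap.sub_apply, LinearMap.smul_apply, smul_eq_mul,
        hsym, hvu1, hvv]
      field_simp
      ring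

/-- a non-scalar isometry of finite order prime to the characteristic has an isotropic
eigenvector (dimension 3) -/
theorem exists_isotropic_eigenvector [IsAlgClosed k] (h2 : (2 : k) ≠ 0) (hU : finrank k U = 3)
    (B : LinearMap.BilinForm k U) (hBs : B.IsSymm) (T : Module.End k U)
    (hT : ∀ v w, B (T v) (T w) = B v w) (hsup : ⨆ μ : k, T.eigenspace μ = ⊤) :
    ∃ (a : k) (v : U), T v = a • v ∧ v ≠ 0 ∧ B v v = 0 := by
  have : FiniteDimensional k U := FiniteDimensional.of_finrank_pos (by omega)
  have : NeZero (2 : k) := ⟨h2⟩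
  by_contra hcon
  push Not at hcon
  have hpm : ∀ μ : k, T.eigenspace μ ≠ ⊥ → μ = 1 ∨ μ = -1 := by
    intro μ hμ
    obtain ⟨v, hv, hv0⟩ := Submodule.exists_mem_ne_zero_of_ne_bot hμ
    rw [Module.End.mem_eigenspace_iff] at hv
    have h1 := hcon μ v hv hv0
    have hμμ : μ * μ = 1 := by
      by_contra h
      exact h1 (orth_of_eig B T hT hv hv h)
    have h3 : (μ - 1) * (μ + 1) = 0 := by linear_combination hμμ
    rcases mul_eq_zero.mp h3 with h | h
    · left; linear_combination h
    · right; linear_combination h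
  have hsup2 : T.eigenspace 1 ⊔ T.eigenspace (-1) = ⊤ := by
    rw [eq_top_iff, ← hsup]
    apply iSup_le
    intro μ
    by_cases hμ : T.eigenspace μ = ⊥
    · rw [hμ]; exact bot_le
    · rcases hpm μ hμ with rfl | rfl
      · exact le_sup_left
      · exact le_sup_right
  have hdim : 2 ≤ finrank k (T.eigenspace 1) ∨ 2 ≤ finrank k (T.eigenspace (-1)) := by
    have h1 := Submodule.finrank_add_le_finrank_add_finrank (T.eigenspace 1) (T.eigenspace (-1))
    rw [hsup2, finrank_top, hU] at h1
    omega
  have key : ∀ c : k, 2 ≤ finrank k (T.eigenspace c) → False := by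
    intro c hc
    obtain ⟨e1, he1⟩ : ∃ e1 : ↥(T.eigenspace c), e1 ≠ 0 :=
      (Module.finrank_pos_iff_exists_ne_zero (R := k)).mp (by omega)
    obtain ⟨e2, hli⟩ := exists_linearIndependent_pair_of_one_lt_finrank (R := k) (by omega) he1
    rw [LinearIndependent.pair_iff] at hli
    have he1' : (e1 : U) ≠ 0 := fun h => he1 (Subtype.ext h)
    have hα : B (e1 : U) (e1 : U) ≠ 0 :=
      hcon c e1 (Module.End.mem_eigenspace_iff.mp e1.2) he1'
    obtain ⟨s, hs⟩ := exists_quadratic_eq_zero (a := B (e1 : U) (e1 : U))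
      (b := 2 * B (e1 : U) (e2 : U)) (c := B (e2 : U) (e2 : U)) hα
      (IsAlgClosed.exists_eq_mul_self _)
    have hmem : ((s • e1 + e2 : ↥(T.eigenspace c)) : U) ∈ T.eigenspace c := (s • e1 + e2).2
    have hne : ((s • e1 + e2 : ↥(T.eigenspace c)) : U) ≠ 0 := by
      intro h
      have h' : s • e1 + (1 : k) • e2 = 0 := by
        rw [one_smul]; exact Subtype.ext h
      exact one_ne_zero (hli s 1 h').2
    apply hcon c _ (Module.End.mem_eigenspace_iff.mp hmem) hne
    have hsym : B (e2 : U) (e1 : U) = B (e1 : U) (e2 : U) := hBs.eq _ _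
    simp only [Submodule.coe_add, Submodule.coe_smul, map_add, map_smul, LinearMap.add_apply,
      LinearMap.smul_apply, smul_eq_mul, hsym]
    linear_combination hs
  rcases hdim with h | h
  · exact key 1 h
  · exact key (-1) h

/-- a hyperbolic pair and a nonzero vector orthogonal to it span a 3-dimensional space -/
theorem span_eq_top (hU : finrank k U = 3) (B : LinearMap.BilinForm k U) (hBs : B.IsSymm)
    {v v' y : U} (hvv : B v v = 0) (hvv' : B v v' = 1) (hv'v' : B v' v' = 0)
    (hyv : B y v = 0) (hyv' : B y v' = 0) (hy0 : y ≠ 0) :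
    Submodule.span k (Set.range ![v, v', y]) = ⊤ := by
  have : FiniteDimensional k U := FiniteDimensional.of_finrank_pos (by omega)
  have hv'v : B v' v = 1 := by rw [hBs.eq, hvv']
  apply LinearIndependent.span_eq_top_of_card_eq_finrank'
  · rw [Fintype.linearIndependent_iff]
    intro g hg
    rw [Fin.sum_univ_three] at hg
    have hg' : g 0 • v + g 1 • v' + g 2 • y = 0 := hg
    have h0 : g 0 = 0 := by
      have h := congrArg (fun z => B z v') hg'
      simpa [hvv', hv'v', hyv'] using h
    have h1 : g 1 = 0 := by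
      have h := congrArg (fun z => B z v) hg'
      simpa [hvv, hv'v, hyv] using h
    have h2' : g 2 = 0 := by
      rw [h0, h1, zero_smul, zero_smul, zero_add, zero_add] at hg'
      exact (smul_eq_zero.mp hg').resolve_right hy0
    intro i
    fin_cases i
    · exact h0
    · exact h1
    · exact h2'
  · simp [hU]

/-- the orthogonal complement of a hyperbolic pair is anisotropic (dimension 3) -/
theorem eq_zero_of_orth (hU : finrank k U = 3) (B : LinearMap.BilinForm k U) (hBs : B.IsSymm)
    (hBn : B.Nondegenerate)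
    {v v' y : U} (hvv : B v v = 0) (hvv' : B v v' = 1) (hv'v' : B v' v' = 0)
    (hyv : B y v = 0) (hyv' : B y v' = 0) (hyy : B y y = 0) : y = 0 := by
  by_contra hy0
  have hspan := span_eq_top hU B hBs hvv hvv' hv'v' hyv hyv' hy0
  apply hy0
  apply hBn.1
  intro z
  have hz : z ∈ Submodule.span k (Set.range ![v, v', y]) := by rw [hspan]; trivial
  refine Submodule.span_induction (p := fun z _ => B y z = 0) ?_ ?_ ?_ ?_ hz
  · rintro _ ⟨i, rfl⟩
    fin_cases i
    · exact hyv
    · exact hyv'
    · exact hyy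
  · simp
  · intro a b _ _ ha hb
    rw [map_add, ha, hb, add_zero]
  · intro c a _ ha
    rw [map_smul, ha, smul_zero]

/-- an endomorphism acting by the same scalar on a spanning family is scalar -/
theorem scalar_of_span {v v' y : U} (hspan : Submodule.span k (Set.range ![v, v', y]) = ⊤)
    (T : Module.End k U) {a : k} (hv : T v = a • v) (hv' : T v' = a • v') (hy : T y = a • y) :
    T = a • (1 : Module.End k U) := by
  apply LinearMap.ext_on_range hspan
  intro i
  fin_cases i
  · simpa using hv
  · simpa using hv'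
  · simpa using hy

/-- the isotropic eigenvectors of a non-scalar isometry lie on the two lines of a hyperbolic pair
of eigenvectors -/
theorem classify (h2 : (2 : k) ≠ 0) (hU : finrank k U = 3) (B : LinearMap.BilinForm k U)
    (hBs : B.IsSymm)
    (hBn : B.Nondegenerate) (T : Module.End k U) (hT : ∀ v w, B (T v) (T w) = B v w)
    (hsc : ¬ ∃ c : k, T = c • (1 : Module.End k U)) {a : k} {v v' : U}
    (hv : T v = a • v) (hv' : T v' = a⁻¹ • v') (hvv : B v v = 0) (hvv' : B v v' = 1)
    (hv'v' : B v' v' = 0) (ha0 : a ≠ 0) {c : k} {x : U} (hx : T x = c • x) (hxx : B x x = 0) :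
    x ∈ Submodule.span k {v} ∨ x ∈ Submodule.span k {v'} := by
  have hv'v : B v' v = 1 := by rw [hBs.eq, hvv']
  obtain ⟨p, hp⟩ : ∃ p, p = B x v' := ⟨_, rfl⟩
  obtain ⟨q, hq⟩ : ∃ q, q = B x v := ⟨_, rfl⟩
  obtain ⟨y, hy⟩ : ∃ y, y = x - p • v - q • v' := ⟨_, rfl⟩
  have hvx : B v x = q := by rw [hBs.eq, hq]
  have hv'x : B v' x = p := by rw [hBs.eq, hp]
  have hyv : B y v = 0 := by
    rw [hy]
    simp only [map_sub, map_smul, LinearMap.sub_apply, LinearMap.smul_apply, smul_eq_mul, hvv,
      hv'v, ← hq]
    ring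
  have hyv' : B y v' = 0 := by
    rw [hy]
    simp only [map_sub, map_smul, LinearMap.sub_apply, LinearMap.smul_apply, smul_eq_mul, hvv',
      hv'v', ← hp]
    ring
  have hyy : B y y = -(2 * p * q) := by
    rw [hy]
    simp only [map_sub, map_smul, LinearMap.sub_apply, LinearMap.smul_apply, smul_eq_mul, hvv,
      hv'v, hvv', hv'v', ← hp, ← hq, hvx, hv'x, hxx]
    ring
  have hxy : x = y + p • v + q • v' := by rw [hy]; abel
  by_cases hq0 : q = 0
  · left
    have hy0 : y = 0 := eq_zero_of_orth hU B hBs hBn hvv hvv' hv'v' hyv hyv'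
      (by rw [hyy, hq0]; ring)
    rw [hxy, hy0, hq0, zero_smul, add_zero, zero_add]
    exact Submodule.smul_mem _ _ (Submodule.mem_span_singleton_self v)
  · by_cases hp0 : p = 0
    · right
      have hy0 : y = 0 := eq_zero_of_orth hU B hBs hBn hvv hvv' hv'v' hyv hyv'
        (by rw [hyy, hp0]; ring)
      rw [hxy, hy0, hp0, zero_smul, add_zero, zero_add]
      exact Submodule.smul_mem _ _ (Submodule.mem_span_singleton_self v')
    · exfalso
      have hc1 : c * a⁻¹ = 1 := by
        by_contra h
        exact hp0 (hp.trans (orth_of_eig B T hT hx hv' h))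
      have hc2 : c * a = 1 := by
        by_contra h
        exact hq0 (hq.trans (orth_of_eig B T hT hx hv h))
      have hca : c = a := by
        have h := congrArg (· * a) hc1
        simpa [mul_assoc, inv_mul_cancel₀ ha0] using h
      have haa : a⁻¹ = a := by
        rw [hca] at hc2
        exact inv_eq_of_mul_eq_one_left hc2
      have hTy : T y = a • y := by
        rw [hy]
        simp only [map_sub, map_smul, hx, hv, hv', hca, haa, smul_sub]
        rw [smul_comm p a v, smul_comm q a v']
      have hy0 : y ≠ 0 := by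
        intro h
        rw [h] at hyy
        simp only [map_zero] at hyy
        have h2pq : 2 * p * q = 0 := by linear_combination hyy
        rcases mul_eq_zero.mp h2pq with h' | h'
        · rcases mul_eq_zero.mp h' with h'' | h''
          · exact h2 h''
          · exact hp0 h''
        · exact hq0 h'
      exact hsc ⟨a, scalar_of_span (span_eq_top hU B hBs hvv hvv' hv'v' hyv hyv' hy0) T hv
        (haa ▸ hv') hTy⟩

end Cfsg.Agent.Helper3.S4504LASS

namespace Cfsg.Agent.S4504P

open Cfsg.Agent.Helper5.GC Module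
open Cfsg.Agent.Helper3.S4504LASS

section LA
variable {k : Type*} [Field k] [IsAlgClosed k] {U : Type*} [AddCommGroup U] [Module k U]

theorem ncard_fixed_semisimple (h2 : (2 : k) ≠ 0) (hU : finrank k U = 3)
    (B : LinearMap.BilinForm k U) (hBs : B.IsSymm) (hBn : B.Nondegenerate)
    (T : Module.End k U) (hT : ∀ v w, B (T v) (T w) = B v w) (m : ℕ) (hm : T ^ m = 1)
    (hmk : (m : k) ≠ 0) (hsc : ¬ ∃ c : k, T = c • (1 : Module.End k U)) :
    {ℓ : IsoLine B | ℓ.line.map T = ℓ.line}.ncard = 2 := by
  have : FiniteDimensional k U := FiniteDimensional.of_finrank_pos (by omega)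
  have hsup := iSup_eigenspace_of_pow T m hm hmk
  obtain ⟨a, v, hv, hv0, hvv⟩ := exists_isotropic_eigenvector h2 hU B hBs T hT hsup
  obtain ⟨v', hv', hvv', hv'v'⟩ := exists_hyperbolic h2 B hBs hBn T hT hsup hv hv0 hvv
  have ha0 := eig_ne_zero B hBn T hT hv hv0
  have hv'0 : v' ≠ 0 := by
    rintro rfl
    simp at hvv'
  have hiso1 : ∀ w ∈ Submodule.span k {v}, B w w = 0 := by
    intro w hw
    obtain ⟨t, rfl⟩ := Submodule.mem_span_singleton.mp hw
    simp [hvv]
  have hiso2 : ∀ w ∈ Submodule.span k {v'}, B w w = 0 := by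
    intro w hw
    obtain ⟨t, rfl⟩ := Submodule.mem_span_singleton.mp hw
    simp [hv'v']
  obtain ⟨ℓ1, hℓ1⟩ : ∃ ℓ1 : IsoLine B, ℓ1.line = Submodule.span k {v} :=
    ⟨⟨Submodule.span k {v}, finrank_span_singleton hv0, hiso1⟩, rfl⟩
  obtain ⟨ℓ2, hℓ2⟩ : ∃ ℓ2 : IsoLine B, ℓ2.line = Submodule.span k {v'} :=
    ⟨⟨Submodule.span k {v'}, finrank_span_singleton hv'0, hiso2⟩, rfl⟩
  have hne : ℓ1 ≠ ℓ2 := by
    intro h
    have h' : Submodule.span k {v} = Submodule.span k {v'} := by rw [← hℓ1, ← hℓ2, h]
    have hmem : v' ∈ Submodule.span k {v} := by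
      rw [h']; exact Submodule.mem_span_singleton_self v'
    obtain ⟨t, ht⟩ := Submodule.mem_span_singleton.mp hmem
    rw [← ht, map_smul, hvv] at hvv'
    simp at hvv'
  have hset : {ℓ : IsoLine B | ℓ.line.map T = ℓ.line} = {ℓ1, ℓ2} := by
    ext ℓ
    simp only [Set.mem_ofPred_eq, Set.mem_insert_iff, Set.mem_singleton_iff]
    constructor
    · intro hfix
      obtain ⟨x, hx0, hx⟩ := finrank_eq_one_iff'.mp ℓ.rank_one
      have hTx : T x ∈ ℓ.line := by
        have h0 : T x ∈ ℓ.line.map T := ⟨x, x.2, rfl⟩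
        rwa [hfix] at h0
      obtain ⟨c, hc⟩ := hx ⟨T x, hTx⟩
      have hc' : T (x : U) = c • (x : U) := by
        have := congrArg Subtype.val hc
        simpa using this.symm
      have hx0' : (x : U) ≠ 0 := fun h => hx0 (Subtype.ext h)
      have hle : ∀ (w : U), (x : U) ∈ Submodule.span k {w} → ℓ.line ≤ Submodule.span k {w} := by
        intro w hw z hz
        obtain ⟨d, hd⟩ := hx ⟨z, hz⟩
        have hz' : z = d • (x : U) := by
          have := congrArg Subtype.val hd
          simpa using this.symm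
        rw [hz']
        exact Submodule.smul_mem _ _ hw
      rcases classify h2 hU B hBs hBn T hT hsc hv hv' hvv hvv' hv'v' ha0 hc'
        (ℓ.iso _ x.2) with h | h
      · left
        apply IsoLine.ext
        rw [hℓ1]
        exact Submodule.eq_of_le_of_finrank_eq (hle v h)
          (by rw [ℓ.rank_one, finrank_span_singleton hv0])
      · right
        apply IsoLine.ext
        rw [hℓ2]
        exact Submodule.eq_of_le_of_finrank_eq (hle v' h)
          (by rw [ℓ.rank_one, finrank_span_singleton hv'0])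
    · rintro (rfl | rfl)
      · rw [hℓ1, Submodule.map_span, Set.image_singleton, hv]
        exact Submodule.span_singleton_smul_eq (IsUnit.mk0 a ha0) v
      · rw [hℓ2, Submodule.map_span, Set.image_singleton, hv']
        exact Submodule.span_singleton_smul_eq (IsUnit.mk0 a⁻¹ (inv_ne_zero ha0)) v'
  rw [hset, Set.ncard_pair hne]

end LA

end Cfsg.Agent.S4504P
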