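import Mathlib
import Cfsg.Agent.Helper1.S4504MDefs

set_option autoImplicit false
set_option linter.unusedSectionVars false
set_option linter.unusedVariables false

/-! S4504 (modular half), piece M-LAUNI: a regular unipotent isometry of a 3-dimensional
quadratic space fixes exactly one isotropic line, namely its fixed space. -/

namespace Cfsg.Agent.Helper3.S4504LAUNI

open Module

variable {k : Type*} [Field k] {U : Type*} [AddCommGroup U] [Module k U]

/-- dimensions for a regular nilpotent endomorphism of a 3-dimensional space -/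
theorem regular_nilpotent (hU : finrank k U = 3) (n : Module.End k U) (hn3 : n ^ 3 = 0)
    (hn2 : n ^ 2 ≠ 0) :
    finrank k (LinearMap.ker n) = 1 ∧ LinearMap.ker n = LinearMap.range (n ^ 2) := by
  have : FiniteDimensional k U := FiniteDimensional.of_finrank_pos (by omega)
  -- `range n ≠ ⊤`
  have h1 : LinearMap.range n ≠ ⊤ := by
    intro h
    have hs : Function.Surjective n := LinearMap.range_eq_top.mp h
    have hs3 : Function.Surjective (n ^ 3 : Module.End k U) := by
      have e : (n ^ 3 : Module.End k U) = n * n * n := by rw [pow_succ, pow_succ, pow_one]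
      rw [e]
      exact (hs.comp hs).comp hs
    rw [hn3] at hs3
    apply hn2
    ext v
    obtain ⟨w, hw⟩ := hs3 ((n ^ 2 : Module.End k U) v)
    rw [← hw]; simp
  have hlt3 : finrank k (LinearMap.range n) < 3 := by
    rw [← hU]
    exact Submodule.finrank_lt h1
  -- `range n² < range n`
  have h2le : LinearMap.range (n ^ 2) ≤ LinearMap.range n := by
    rintro _ ⟨v, rfl⟩
    exact ⟨n v, by rw [pow_two]; rfl⟩
  have h2ne : LinearMap.range (n ^ 2) ≠ LinearMap.range n := by
    intro h
    apply hn2
    ext v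
    -- `n² v ∈ range n = range n²`, so `n² v = n (n w) ...`
    have hv : n v ∈ LinearMap.range (n ^ 2) := by rw [h]; exact ⟨v, rfl⟩
    obtain ⟨w, hw⟩ := hv
    have : (n ^ 2 : Module.End k U) v = (n ^ 3 : Module.End k U) w := by
      rw [pow_two, Module.End.mul_apply, ← hw, pow_succ' n 2, Module.End.mul_apply]
    rw [this, hn3]; simp
  have hlt2 : finrank k (LinearMap.range (n ^ 2)) < finrank k (LinearMap.range n) :=
    Submodule.finrank_lt_finrank_of_lt (lt_of_le_of_ne h2le h2ne)
  have hpos : 0 < finrank k (LinearMap.range (n ^ 2)) := by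
    rw [Module.finrank_pos_iff_exists_ne_zero]
    by_contra hcon
    push Not at hcon
    apply hn2
    ext v
    have := hcon ⟨(n ^ 2 : Module.End k U) v, ⟨v, rfl⟩⟩
    simpa using congrArg Subtype.val this
  have hrn := LinearMap.finrank_range_add_finrank_ker n
  rw [hU] at hrn
  have hker : finrank k (LinearMap.ker n) = 1 := by omega
  refine ⟨hker, ?_⟩
  have hle : LinearMap.range (n ^ 2) ≤ LinearMap.ker n := by
    rintro _ ⟨v, rfl⟩
    rw [LinearMap.mem_ker, ← Module.End.mul_apply, ← pow_succ', hn3]; simp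
  have hle' := Submodule.finrank_mono hle
  exact (Submodule.eq_of_le_of_finrank_eq hle (by omega)).symm

end Cfsg.Agent.Helper3.S4504LAUNI

namespace Cfsg.Agent.S4504P

open Cfsg.Agent.Helper5.GC Module

section LA
variable {k : Type*} [Field k] [IsAlgClosed k] {U : Type*} [AddCommGroup U] [Module k U]

theorem fixed_unipotent (hU : finrank k U = 3)
    (B : LinearMap.BilinForm k U) (hBs : B.IsSymm) (hBn : B.Nondegenerate)
    (T : Module.End k U) (hT : ∀ v w, B (T v) (T w) = B v w) (hn3 : (T - 1) ^ 3 = 0)
    (hn2 : (T - 1) ^ 2 ≠ 0) :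
    ∃ ℓ₀ : IsoLine B, ℓ₀.line = LinearMap.ker (T - 1) ∧
      ∀ ℓ : IsoLine B, ℓ.line.map T = ℓ.line ↔ ℓ = ℓ₀ := by
  have : FiniteDimensional k U := FiniteDimensional.of_finrank_pos (by omega)
  obtain ⟨hk1, hkr⟩ := Cfsg.Agent.Helper3.S4504LAUNI.regular_nilpotent hU (T - 1) hn3 hn2
  have hTn : ∀ v, T v = v + (T - 1) v := by
    intro v; simp
  -- `B (n v) w = - B (T v) (n w)`
  have hadj : ∀ v w, B ((T - 1) v) w = - B (T v) ((T - 1) w) := by
    intro v w
    have h := hT v w
    have e1 : (T - 1) v = T v - v := by simp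
    have e2 : (T - 1) w = T w - w := by simp
    rw [e1, e2]
    simp only [map_sub, LinearMap.sub_apply]
    rw [h]; ring
  have hiso : ∀ z ∈ LinearMap.ker (T - 1), B z z = 0 := by
    intro z hz
    have hz' := hz
    rw [hkr] at hz'
    obtain ⟨v, rfl⟩ := hz'
    have : ((T - 1) ^ 2 : Module.End k U) v = (T - 1) ((T - 1) v) := by rw [pow_two]; rfl
    rw [this] at hz ⊢
    rw [hadj, LinearMap.mem_ker.mp hz]; simp
  refine ⟨⟨LinearMap.ker (T - 1), hk1, hiso⟩, rfl, ?_⟩
  intro ℓ
  constructor
  · intro hfix
    apply IsoLine.ext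
    show ℓ.line = LinearMap.ker (T - 1)
    obtain ⟨v, hv0, hv⟩ := finrank_eq_one_iff'.mp ℓ.rank_one
    have hTv : T v ∈ ℓ.line := by
      have h0 : T v ∈ ℓ.line.map T := ⟨v, v.2, rfl⟩
      rwa [hfix] at h0
    obtain ⟨c, hc⟩ := hv ⟨T v, hTv⟩
    have hc' : T (v : U) = c • (v : U) := by
      have := congrArg Subtype.val hc
      simpa using this.symm
    have hnv : (T - 1) (v : U) = (c - 1) • (v : U) := by
      simp [hc', sub_smul]
    have hn3v : ((T - 1) ^ 3 : Module.End k U) (v : U) = ((c - 1) ^ 3) • (v : U) := by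
      rw [pow_succ, pow_succ, pow_one, Module.End.mul_apply, Module.End.mul_apply, hnv, map_smul,
        map_smul, hnv, map_smul, hnv, smul_smul, smul_smul]
      congr 1; ring
    rw [hn3] at hn3v
    have hv0' : (v : U) ≠ 0 := fun h => hv0 (Subtype.ext h)
    have hc1 : (c - 1) ^ 3 = 0 := by
      rcases smul_eq_zero.mp hn3v.symm with h | h
      · exact h
      · exact absurd h hv0'
    have hc1' : c - 1 = 0 := pow_eq_zero_iff (by norm_num) |>.mp hc1
    have hvk : (v : U) ∈ LinearMap.ker (T - 1) := by
      rw [LinearMap.mem_ker, hnv, hc1', zero_smul]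
    have hle : ℓ.line ≤ LinearMap.ker (T - 1) := by
      intro w hw
      obtain ⟨d, hd⟩ := hv ⟨w, hw⟩
      have : w = d • (v : U) := by
        have := congrArg Subtype.val hd
        simpa using this.symm
      rw [this]
      exact Submodule.smul_mem _ _ hvk
    exact Submodule.eq_of_le_of_finrank_eq hle (by rw [ℓ.rank_one, hk1])
  · rintro rfl
    show (LinearMap.ker (T - 1)).map T = LinearMap.ker (T - 1)
    ext x
    constructor
    · rintro ⟨z, hz, rfl⟩
      have : T z = z := by
        have := LinearMap.mem_ker.mp hz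
        rw [hTn, this, add_zero]
      rw [this]; exact hz
    · intro hx
      refine ⟨x, hx, ?_⟩
      have := LinearMap.mem_ker.mp hx
      rw [hTn, this, add_zero]

end LA

end Cfsg.Agent.S4504P
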