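import Mathlib
import Cfsg.Agent.Helper27.S2834Defs

/-! S2834 board, piece DEFSAPI: conjugation / monotonicity API of `Valid`, `IsCT`, `Moves`. -/

set_option autoImplicit false

namespace Cfsg.Agent.S2834P

open Cfsg Cfsg.Agent.S2834P

universe u v

variable {H : Type u} [Group H] {Ω : Type v} [MulAction H Ω] {p : ℕ} [Fact p.Prime]

theorem DEFSAPI_aux_mem_map_conj {A : Subgroup H} {g x : H} :
    x ∈ A.map (MulAut.conj g).toMonoidHom ↔ ∃ a ∈ A, x = g * a * g⁻¹ := by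
  constructor
  · rintro ⟨a, ha, rfl⟩
    exact ⟨a, ha, by simp [MulAut.conj_apply]⟩
  · rintro ⟨a, ha, rfl⟩
    exact ⟨a, ha, by simp [MulAut.conj_apply]⟩

theorem DEFSAPI_aux_smul (g a : H) (v : Ω) : (g * a * g⁻¹) • g • v = g • a • v := by
  simp [mul_smul]

theorem valid_conj {A L : Subgroup H} {v : Ω} (g : H) (h : Valid A L v) :
    Valid (A.map (MulAut.conj g).toMonoidHom) (L.map (MulAut.conj g).toMonoidHom) (g • v) := by
  obtain ⟨hAL, hfix, ⟨l, hl, hlv⟩, huniq⟩ := h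
  refine ⟨Subgroup.map_mono hAL, ?_, ?_, ?_⟩
  · intro a' ha'
    obtain ⟨a, ha, rfl⟩ := DEFSAPI_aux_mem_map_conj.1 ha'
    rw [DEFSAPI_aux_smul, hfix a ha]
  · refine ⟨g * l * g⁻¹, DEFSAPI_aux_mem_map_conj.2 ⟨l, hl, rfl⟩, ?_⟩
    rw [DEFSAPI_aux_smul]
    intro h1
    exact hlv (MulAction.injective g h1)
  · intro l' hl' hall
    obtain ⟨l, hl, rfl⟩ := DEFSAPI_aux_mem_map_conj.1 hl'
    rw [DEFSAPI_aux_smul]
    have : l • v = v := by
      apply huniq l hl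
      intro a ha
      have h1 := hall (g * a * g⁻¹) (DEFSAPI_aux_mem_map_conj.2 ⟨a, ha, rfl⟩)
      rw [DEFSAPI_aux_smul, DEFSAPI_aux_smul] at h1
      exact MulAction.injective g h1
    rw [this]

theorem DEFSAPI_aux_mem_smul_sylow {T : Sylow p H} {g x : H} :
    x ∈ ((g • T : Sylow p H) : Subgroup H) ↔ ∃ t ∈ T, x = g * t * g⁻¹ := by
  rw [Sylow.coe_subgroup_smul, Subgroup.mem_pointwise_smul_iff_inv_smul_mem]
  have e : ∀ y : H, ((MulAut.conj g)⁻¹ • y : H) = g⁻¹ * y * g := by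
    intro y
    rw [MulAut.smul_def, MulAut.conj_inv_apply]
  rw [e]
  constructor
  · intro hx
    exact ⟨g⁻¹ * x * g, hx, by group⟩
  · rintro ⟨t, ht, rfl⟩
    have : g⁻¹ * (g * t * g⁻¹) * g = t := by group
    rw [this]; exact ht

theorem isCT_conj {T : Sylow p H} {w : Ω} (g : H) (h : IsCT T w) : IsCT (g • T) (g • w) := by
  obtain ⟨⟨h₀, hh₀⟩, hfix, huniq, hmax⟩ := h
  refine ⟨⟨g * h₀ * g⁻¹, ?_⟩, ?_, ?_, ?_⟩
  · rw [DEFSAPI_aux_smul]
    intro h1
    exact hh₀ (MulAction.injective g h1)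
  · intro t' ht'
    obtain ⟨t, ht, rfl⟩ := DEFSAPI_aux_mem_smul_sylow.1 ht'
    rw [DEFSAPI_aux_smul, hfix t ht]
  · intro h hall
    have e : h • g • w = g • (g⁻¹ * h * g) • w := by simp [mul_smul]
    have : (g⁻¹ * h * g) • w = w := by
      apply huniq
      intro t ht
      have h1 := hall (g * t * g⁻¹) (DEFSAPI_aux_mem_smul_sylow.2 ⟨t, ht, rfl⟩)
      rw [e, DEFSAPI_aux_smul] at h1
      exact MulAction.injective g h1
    rw [e, this]
  · intro X hTX hX x hx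
    have hsub : (T : Subgroup H) ≤ X.map (MulAut.conj g⁻¹).toMonoidHom := by
      intro t ht
      refine DEFSAPI_aux_mem_map_conj.2 ⟨g * t * g⁻¹, hTX (DEFSAPI_aux_mem_smul_sylow.2 ⟨t, ht, rfl⟩), by group⟩
    have hne : X.map (MulAut.conj g⁻¹).toMonoidHom ≠ ⊤ := by
      intro htop
      apply hX
      rw [eq_top_iff]
      intro y _
      have hy : g⁻¹ * y * g ∈ X.map (MulAut.conj g⁻¹).toMonoidHom := by rw [htop]; trivial
      obtain ⟨z, hz, hyz⟩ := DEFSAPI_aux_mem_map_conj.1 hy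
      have : y = z := by
        have h2 : g * (g⁻¹ * y * g) * g⁻¹ = g * (g⁻¹ * z * g⁻¹⁻¹) * g⁻¹ := by rw [hyz]
        simpa [mul_assoc] using h2
      rw [this]; exact hz
    have hx' : g⁻¹ * x * g ∈ X.map (MulAut.conj g⁻¹).toMonoidHom :=
      DEFSAPI_aux_mem_map_conj.2 ⟨x, hx, by group⟩
    have h1 := hmax _ hsub hne _ hx'
    have e : x • g • w = g • (g⁻¹ * x * g) • w := by simp [mul_smul]
    rw [e, h1]

theorem moves_mono {A B : Subgroup H} {w : Ω} (hAB : A ≤ B) (h : Moves A w) : Moves B w := by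
  obtain ⟨a, ha, h', hne⟩ := h
  exact ⟨a, hAB ha, h', hne⟩

theorem moves_smul {A : Subgroup H} {w : Ω} (g : H) (h : Moves A w) : Moves A (g • w) := by
  obtain ⟨a, ha, h', hne⟩ := h
  refine ⟨a, ha, h' * g⁻¹, ?_⟩
  have e : (h' * g⁻¹) • g • w = h' • w := by simp [mul_smul]
  rw [e]; exact hne

end Cfsg.Agent.S2834P
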