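import Mathlib
import Cfsg.Agent.Helper1.S3401Defs
import Cfsg.Agent.Helper28.S3401CARD

set_option autoImplicit false
set_option linter.unusedSectionVars false
set_option linter.unusedVariables false

/-! # S3401, piece TFIX: `t` acts on `Fix Q` as a fixed-point-free involution. -/

namespace Cfsg.Agent.S3401P


variable {G : Type*} [Group G] [Finite G] {Ω : Type*} [Fintype Ω] [MulAction G Ω]

/-- TFIX: `t` acts on `Fix Q` as a fixed-point-free involution. -/
theorem TFIX {M : Subgroup G} (h : Hyp Ω M) {a : Ω} {Q S : Subgroup G} {t : G}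
    (c : Config M a Q S t) :
    a ∈ Fix Ω Q ∧ t • a ∈ Fix Ω Q ∧
      ∀ γ ∈ Fix Ω Q, t • γ ∈ Fix Ω Q ∧ t • γ ≠ γ ∧ t • t • γ = γ := by
  have ha : a ∈ Fix Ω Q := by
    intro s hs
    have := c.hQ.1 hs
    exact MulAction.mem_stabilizer_iff.mp (Subgroup.mem_inf.mp this).2
  have hinv : ∀ γ ∈ Fix Ω Q, t • γ ∈ Fix Ω Q := by
    intro γ hγ s hs
    have hs' : t⁻¹ * s * t ∈ Q := (Subgroup.mem_normalizer_iff''.mp c.htN s).mp hs
    have h1 := hγ _ hs'
    have h2 : s • t • γ = t • (t⁻¹ * s * t) • γ := by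
      simp only [← mul_smul]
      congr 1
      group
    rw [h2, h1]
  refine ⟨ha, hinv a ha, fun γ hγ => ⟨hinv γ hγ, ?_, ?_⟩⟩
  · -- no fixed point: otherwise `S` fixes `γ`
    intro htγ
    have hSle : S ≤ M ⊓ MulAction.stabilizer G γ := by
      intro s hs
      refine Subgroup.mem_inf.mpr ⟨c.hS.1 hs, ?_⟩
      rw [MulAction.mem_stabilizer_iff]
      rcases c.hcov s hs with hq | hq
      · exact hγ s hq
      · have h1 := hγ _ hq
        have h2 : s • γ = t • (t⁻¹ * s) • γ := by
          simp only [← mul_smul]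
          congr 1
          group
        rw [h2, h1, htγ]
    have hdvd : Nat.card S ∣ Nat.card (M ⊓ MulAction.stabilizer G γ : Subgroup G) :=
      Subgroup.card_dvd_of_le hSle
    rw [c.hS.2] at hdvd
    have hne : Nat.card (M ⊓ MulAction.stabilizer G γ : Subgroup G) ≠ 0 := Nat.card_pos.ne'
    have hle := (Nat.prime_two.pow_dvd_iff_le_factorization hne).mp hdvd
    have hcard := CARD h γ
    omega
  · have h1 := hγ _ c.htt
    rwa [mul_smul] at h1

end Cfsg.Agent.S3401P
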