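import Cfsg.Agent.Helper11.S3786Defs

/-! # S3786 board, row NonExc.of_surjective -/

set_option autoImplicit false

namespace Cfsg.Agent.S3786P

open Subgroup

theorem NonExc.of_surjective {p : ℕ} {G G' : Type*} [Group G] [Group G'] [Finite G] (h : NonExc p G) (f : G →* G')
    (hf : Function.Surjective f) : NonExc p G' := by
  rcases h with h | h
  · exact Or.inl h
  · refine Or.inr fun S' => ?_
    have : Fact (Nat.Prime 2) := ⟨Nat.prime_two⟩
    obtain ⟨S, rfl⟩ := Sylow.mapSurjective_surjective hf 2 S'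
    have hS := h S
    refine ⟨⟨fun a b => ?_⟩⟩
    obtain ⟨a, ha⟩ := a
    obtain ⟨b, hb⟩ := b
    rw [Sylow.coe_mapSurjective] at ha hb
    obtain ⟨a0, ha0, rfl⟩ := ha
    obtain ⟨b0, hb0, rfl⟩ := hb
    apply Subtype.ext
    show f a0 * f b0 = f b0 * f a0
    have := hS.is_comm.comm (⟨a0, ha0⟩ : ↥(S : Subgroup G)) ⟨b0, hb0⟩
    have h2 : a0 * b0 = b0 * a0 := congrArg Subtype.val this
    rw [← map_mul, ← map_mul, h2]

end Cfsg.Agent.S3786P
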