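import Mathlib
import Cfsg.Agent.Helper26.S3911Defs
import Cfsg.Agent.Helper17.S3913Defs
import Cfsg.Agent.Helper6.S3912MN
import Cfsg.Agent.S3909

/-! s3913pieces NSYL: in a reduced solvable B-group a nontrivial `O_p(G)` is a minimal normal elementary abelian
Sylow `p`-subgroup (`S3912P.MN` + S3909 part 2). -/

set_option autoImplicit false

namespace Cfsg.Agent.S3913P

open Cfsg.Agent.S3911P Cfsg.Agent.S3913P

theorem NSYL {G : Type*} [Group G] [Finite G] (hB : BProp G) (hsol : Group.IsSolvable G) (hred : Red G)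
    (p : ℕ) [Fact p.Prime] (hp : Cfsg.pCore p G ≠ ⊥) :
    (∀ P : Sylow p G, (P : Subgroup G) = Cfsg.pCore p G) ∧
    (∀ a ∈ Cfsg.pCore p G, ∀ b ∈ Cfsg.pCore p G, a * b = b * a) ∧
    (∀ a ∈ Cfsg.pCore p G, a ^ p = 1) ∧
    (∀ W : Subgroup G, W.Normal → W ≤ Cfsg.pCore p G → W = ⊥ ∨ W = Cfsg.pCore p G) := by
  have hpp : p.Prime := Fact.out
  obtain ⟨N, hNn, hNle, hNne, hNab, r, hr, hrd, hexp, hmin⟩ :=
    Cfsg.Agent.S3912P.MN hsol (Cfsg.pCore p G) hp
  haveI := hNn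
  have hNp : IsPGroup p ↥N :=
    (Cfsg.Agent.Helper14.pCore_isPGroup (G := G) p).to_le hNle
  obtain ⟨t, ht⟩ := hNp.exists_card_eq
  have hrp : r = p := by
    rw [ht] at hrd
    exact (Nat.prime_dvd_prime_iff_eq hr hpp).1 (hr.dvd_of_dvd_pow hrd)
  subst hrp
  have ht0 : t ≠ 0 := by
    rintro rfl
    rw [pow_zero] at ht
    exact hNne (Subgroup.card_eq_one.1 ht)
  have ht1 : t ≠ 1 := by
    rintro rfl
    rw [pow_one] at ht
    exact hred N hNn (ht ▸ hpp)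
  have ht2 : 2 ≤ t := by omega
  have hcomm : IsMulCommutative ↥N := ⟨⟨fun a b => Subtype.ext (hNab a a.2 b b.2)⟩⟩
  have hel : Cfsg.IsElementaryAbelian r N := ⟨hcomm, hexp⟩
  have hsyl : ∀ P : Sylow r G, (P : Subgroup G) = N :=
    (Cfsg.Agent.S3909.result hB N).2 r t ht2 ht hel
  have hNeq : N = Cfsg.pCore r G := by
    apply le_antisymm hNle
    have P : Sylow r G := default
    rw [← hsyl P]
    exact Cfsg.Agent.Helper14.pCore_le_sylow r P
  rw [← hNeq]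
  refine ⟨hsyl, hNab, hexp, ?_⟩
  intro W hW hWN
  by_cases hWb : W = ⊥
  · exact Or.inl hWb
  · exact Or.inr (hmin W hW hWN hWb)

end Cfsg.Agent.S3913P
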