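import Mathlib
import Cfsg.Agent.Helper26.S3911Defs
import Cfsg.Agent.Helper17.S3913Defs
import Cfsg.Agent.Helper3.S3913NSYL

/-! s3913pieces FHALL: the Fitting subgroup of a reduced solvable B-group is an abelian Hall subgroup
(NSYL + `Helper7.Fitting`). -/

set_option autoImplicit false

namespace Cfsg.Agent.S3913P

open Cfsg.Agent.S3911P Cfsg.Agent.S3913P

/-- the `p`-cores of a reduced solvable B-group commute pairwise. -/
theorem FHALL_aux_comm {G : Type*} [Group G] [Finite G] (hB : BProp G) (hsol : Group.IsSolvable G)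
    (hred : Red G) (p q : ℕ) [Fact p.Prime] [Fact q.Prime] :
    Cfsg.pCore q G ≤ Subgroup.centralizer (Cfsg.pCore p G : Set G) := by
  by_cases hpq : p = q
  · subst hpq
    by_cases hp : Cfsg.pCore p G = ⊥
    · rw [hp]; exact bot_le
    · obtain ⟨-, hab, -, -⟩ := NSYL hB hsol hred p hp
      intro a ha b hb
      exact hab b hb a ha
  · have h := Cfsg.Agent.Helper7.pCore_commute_of_ne (G := G) hpq
    rw [Subgroup.commutator_eq_bot_iff_le_centralizer] at h
    rw [Subgroup.le_centralizer_iff]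
    exact h

theorem FHALL_aux_ab {G : Type*} [Group G] [Finite G] (hB : BProp G) (hsol : Group.IsSolvable G)
    (hred : Red G) :
    Cfsg.fittingSubgroup G ≤ Subgroup.centralizer (Cfsg.fittingSubgroup G : Set G) := by
  have h1 : ∀ p : ℕ, p.Prime →
      Cfsg.pCore p G ≤ Subgroup.centralizer (Cfsg.fittingSubgroup G : Set G) := by
    intro p hp
    haveI : Fact p.Prime := ⟨hp⟩
    rw [Subgroup.le_centralizer_iff]
    conv_lhs => rw [Cfsg.Agent.Helper7.fittingSubgroup_eq_pCoreSup]
    rw [Cfsg.Agent.Helper7.pCoreSup_le_iff]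
    intro q hq
    haveI : Fact q.Prime := ⟨hq⟩
    exact FHALL_aux_comm hB hsol hred p q
  conv_lhs => rw [Cfsg.Agent.Helper7.fittingSubgroup_eq_pCoreSup]
  rw [Cfsg.Agent.Helper7.pCoreSup_le_iff]
  exact h1

/-- a prime dividing the order of the Fitting subgroup has a nontrivial core. -/
theorem FHALL_aux_core {G : Type*} [Group G] [Finite G] (q : ℕ) [Fact q.Prime]
    (hq : q ∣ Nat.card ↥(Cfsg.fittingSubgroup G)) : Cfsg.pCore q G ≠ ⊥ := by
  haveI : Group.IsNilpotent ↥(Cfsg.fittingSubgroup G) :=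
    Cfsg.Agent.Helper7.fittingSubgroup_isNilpotent
  have Q : Sylow q ↥(Cfsg.fittingSubgroup G) := default
  have hQn : (Q : Subgroup ↥(Cfsg.fittingSubgroup G)).Normal :=
    Sylow.normal_of_normalizerCondition normalizerCondition_of_isNilpotent Q
  haveI hQc : (Q : Subgroup ↥(Cfsg.fittingSubgroup G)).Characteristic :=
    Sylow.characteristic_of_normal Q hQn
  have hnorm : ((Q : Subgroup ↥(Cfsg.fittingSubgroup G)).map
      (Cfsg.fittingSubgroup G).subtype).Normal := inferInstance
  have hpg : IsPGroup q ↥((Q : Subgroup ↥(Cfsg.fittingSubgroup G)).map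
      (Cfsg.fittingSubgroup G).subtype) := Q.isPGroup'.map _
  have hle := Cfsg.Agent.Helper14.le_pCore q hnorm hpg
  have hQne : (Q : Subgroup ↥(Cfsg.fittingSubgroup G)) ≠ ⊥ := Q.ne_bot_of_dvd_card hq
  intro hbot
  rw [hbot, le_bot_iff] at hle
  apply hQne
  exact (Subgroup.map_eq_bot_iff_of_injective _ (Subgroup.subtype_injective _)).1 hle

theorem FHALL {G : Type*} [Group G] [Finite G] (hB : BProp G) (hsol : Group.IsSolvable G) (hred : Red G) :
    (∀ a ∈ Cfsg.fittingSubgroup G, ∀ b ∈ Cfsg.fittingSubgroup G, a * b = b * a) ∧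
    (Nat.card ↥(Cfsg.fittingSubgroup G)).Coprime (Cfsg.fittingSubgroup G).index := by
  refine ⟨?_, ?_⟩
  · intro a ha b hb
    exact (FHALL_aux_ab hB hsol hred hb a ha)
  · apply Nat.coprime_of_dvd
    intro q hq hqF hqi
    haveI : Fact q.Prime := ⟨hq⟩
    have hcore := FHALL_aux_core q hqF
    obtain ⟨hsyl, -, -, -⟩ := NSYL hB hsol hred q hcore
    have P : Sylow q G := default
    have hPle : (P : Subgroup G) ≤ Cfsg.fittingSubgroup G := by
      rw [hsyl P]; exact Cfsg.Agent.Helper7.pCore_le_fittingSubgroup q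
    have hdvd : (Cfsg.fittingSubgroup G).index ∣ (P : Subgroup G).index :=
      Subgroup.index_dvd_of_le hPle
    exact P.not_dvd_index (hqi.trans hdvd)

end Cfsg.Agent.S3913P
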