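import Mathlib
import Cfsg.Agent.Helper8.D1Base
import Cfsg.Agent.Helper24.ColumnOrth

/-!
Defect-one cluster, piece QV: the generalized-decomposition-type numbers `Dnum` are orthogonal to the
columns of the character table at `p`-regular elements (second orthogonality relation).
-/

set_option autoImplicit false
set_option linter.unusedSectionVars false
set_option linter.unusedVariables false
set_option linter.style.haveILetI false

namespace Cfsg.Agent.Helper3.D1QV

open Cfsg Cfsg.Agent.Helper8.D1 Cfsg.Agent.Helper24

theorem orderOf_eq_of_isConj {G : Type*} [Group G] {x y : G} (h : IsConj x y) :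
    orderOf x = orderOf y := by
  obtain ⟨c, hc⟩ := isConj_iff.mp h
  have hs : SemiconjBy c x y := by
    unfold SemiconjBy
    rw [← hc]; group
  exact hs.orderOf_eq c

/-- general form: a function `f` on a subgroup `H` vanishing on the `H`-elements conjugate to `x` -/
theorem sum_conj_classInner_mul {G : Type*} [Group G] [Finite G] [Fintype (IrrCharacter G)]
    (H : Subgroup G) [Fintype H] (f : H → ℂ) (x : G)
    (hf : ∀ h : H, IsConj x (h : G) → f h = 0) :
    ∑ χ : IrrCharacter G,
      (starRingEnd ℂ) (classInner (fun c : H => (χ : G → ℂ) c) f) * (χ : G → ℂ) x = 0 := by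
  classical
  haveI : Fintype G := Fintype.ofFinite G
  have key : ∀ χ : IrrCharacter G,
      (starRingEnd ℂ) (classInner (fun c : H => (χ : G → ℂ) c) f) * (χ : G → ℂ) x
      = (Nat.card H : ℂ)⁻¹ * ∑ h : H, f h *
          ((χ : G → ℂ) x * (starRingEnd ℂ) ((χ : G → ℂ) h)) := by
    intro χ
    unfold classInner
    rw [map_mul, map_inv₀, map_natCast, map_sum, mul_assoc, Finset.sum_mul]
    congr 1
    apply Finset.sum_congr rfl
    intro h _
    simp only [map_mul, Complex.conj_conj]
    ring
  simp_rw [key]
  rw [← Finset.mul_sum, Finset.sum_comm]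
  have hz : ∀ h : H, ∑ χ : IrrCharacter G,
      f h * ((χ : G → ℂ) x * (starRingEnd ℂ) ((χ : G → ℂ) h)) = 0 := by
    intro h
    rw [← Finset.mul_sum, sum_irr_mul_conj x (h : G)]
    split_ifs with hc
    · rw [hf h hc, zero_mul]
    · rw [mul_zero]
  simp [hz]

/-- (QV) vanishing on `p`-regular elements -/
theorem sum_Dnum_mul_eq_zero {G : Type*} [Group G] [Finite G] [Fintype (IrrCharacter G)]
    {p : ℕ} [Fact p.Prime] (P : Sylow p G)
    (θ : IrrCharacter (Subgroup.centralizer ((P : Subgroup G) : Set G)))
    (μ : Subgroup.centralizer ((P : Subgroup G) : Set G) → ℂ) (hμ : IsPLin p μ)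
    (x : G) (hx : ¬ p ∣ orderOf x) :
    ∑ χ : IrrCharacter G,
      (starRingEnd ℂ) (Dnum (Subgroup.centralizer ((P : Subgroup G) : Set G)) μ
        (θ : Subgroup.centralizer ((P : Subgroup G) : Set G) → ℂ) (χ : G → ℂ)) *
      (χ : G → ℂ) x = 0 := by
  classical
  letI : Fintype (Subgroup.centralizer ((P : Subgroup G) : Set G)) := Fintype.ofFinite _
  have hD : ∀ χ : IrrCharacter G,
      Dnum (Subgroup.centralizer ((P : Subgroup G) : Set G)) μ
        (θ : Subgroup.centralizer ((P : Subgroup G) : Set G) → ℂ) (χ : G → ℂ)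
      = classInner (fun c : Subgroup.centralizer ((P : Subgroup G) : Set G) => (χ : G → ℂ) c)
          (fun c => (μ c - 1) * (θ : Subgroup.centralizer ((P : Subgroup G) : Set G) → ℂ) c) := by
    intro χ
    unfold Dnum classInner
    rw [← mul_sub, ← Finset.sum_sub_distrib]
    congr 1
    apply Finset.sum_congr rfl
    intro h _
    simp only [map_mul, map_sub, map_one]
    ring
  simp_rw [hD]
  apply sum_conj_classInner_mul
  intro h hc
  have hord : orderOf h = orderOf x := by
    rw [← Subgroup.orderOf_coe]
    exact (orderOf_eq_of_isConj hc).symm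
  have hreg : ¬ p ∣ orderOf h := by rw [hord]; exact hx
  rw [hμ.reg h hreg, sub_self, zero_mul]

end Cfsg.Agent.Helper3.D1QV
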