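import Mathlib
import Cfsg.Prelude.Def_Transfer

set_option autoImplicit false

/-!
# S4016 (cyclic Sylow `p`-subgroup, all `p'`-subgroups abelian): shared definitions

`Hyp p G`: all Sylow `p`-subgroups of `G` are cyclic and every subgroup of order prime to `p` is
commutative.  `Concl p G`: `G` has a normal `p`-complement or its Sylow `p`-subgroups are normal.
`Ctx p G`: the situation of a minimal counterexample (`G` non-abelian simple, `p` odd, all proper
subgroups satisfy `Concl`).  `Loc P L d`: the local structure around a Sylow `p`-subgroup `P` in that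
situation (`C_G(y) = L × P` for `y ∈ P∖1`, `C_G(g) = N_G(P)` for `g ∈ L∖1`, `|N_G(P) : L × P| = d`).
-/

namespace Cfsg.Agent.Helper3.CP

/-- all Sylow `p`-subgroups cyclic, all `p'`-subgroups commutative -/
def Hyp (p : ℕ) (G : Type*) [Group G] : Prop :=
  (∀ P : Sylow p G, IsCyclic ↥(P : Subgroup G)) ∧
  ∀ H : Subgroup G, ¬ p ∣ Nat.card ↥H → ∀ a ∈ H, ∀ b ∈ H, a * b = b * a

/-- normal `p`-complement or normal Sylow `p`-subgroups -/
def Concl (p : ℕ) (G : Type*) [Group G] : Prop :=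
  Cfsg.HasNormalPComplement p G ∨ ∀ P : Sylow p G, (P : Subgroup G).Normal

/-- the minimal counterexample situation -/
structure Ctx (p : ℕ) (G : Type*) [Group G] : Prop where
  hyp : Hyp p G
  simple : IsSimpleGroup G
  nonab : ¬ ∀ a b : G, a * b = b * a
  ih : ∀ K : Subgroup G, K ≠ ⊤ → Concl p ↥K
  odd : p ≠ 2

/-- first part of the local structure (output of piece LOCa) -/
structure LocA (p : ℕ) {G : Type*} [Group G] (P : Sylow p G) (L : Subgroup G) : Prop where
  L_card : ¬ p ∣ Nat.card ↥L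
  LP_comm : ∀ a ∈ L, ∀ y ∈ (P : Subgroup G), a * y = y * a
  cent_P : ∀ y ∈ (P : Subgroup G), y ≠ 1 →
    Subgroup.centralizer ({y} : Set G) = L ⊔ (P : Subgroup G)
  L_norm : ∀ w ∈ Subgroup.normalizer ((P : Subgroup G) : Set G), ∀ a ∈ L, w * a * w⁻¹ ∈ L

/-- the full local structure -/
structure Loc (p : ℕ) {G : Type*} [Group G] (P : Sylow p G) (L : Subgroup G) (d : ℕ) : Prop
    extends LocA p P L where
  cent_L : ∀ g ∈ L, g ≠ 1 →
    Subgroup.centralizer ({g} : Set G) = Subgroup.normalizer ((P : Subgroup G) : Set G)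
  card_N : Nat.card ↥(Subgroup.normalizer ((P : Subgroup G) : Set G)) =
    Nat.card ↥(P : Subgroup G) * Nat.card ↥L * d
  d_dvd : d ∣ p - 1
  one_lt_d : 1 < d
  fpf : ∀ w ∈ Subgroup.normalizer ((P : Subgroup G) : Set G), w ∉ L ⊔ (P : Subgroup G) →
    ∀ y ∈ (P : Subgroup G), w * y = y * w → y = 1
  cyc : ∀ R : Subgroup G, R ≤ Subgroup.normalizer ((P : Subgroup G) : Set G) →
    R ⊓ (L ⊔ (P : Subgroup G)) = ⊥ → IsCyclic ↥R ∧ Nat.card ↥R ∣ d

end Cfsg.Agent.Helper3.CP
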