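import Mathlib
import Cfsg.Agent.Helper3.CPDefs
import Cfsg.Agent.Helper20.CyclicAut

set_option autoImplicit false

/-!
# S4016: basic lemmas shared by all pieces

* `exists_pow_decomp`: `x = x ^ a * x ^ b` with `x ^ a` a `p`-element and `x ^ b` a `p'`-element;
* `mem_sylow_of_mem_normalizer`: a `p`-element normalizing a Sylow `p`-subgroup lies in it;
* `Hyp.commute_of_pprime` (PPC): a `p'`-element normalizing a `p'`-subgroup centralizes it;
* `exists_pprime_not_mem_centralizer` (PPART);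
* `mem_centralizer_of_fix` (FIX): an element of `N(P)` (`P` cyclic Sylow) commuting with a
  non-trivial element of `P` centralizes `P`;
* `centralizes_of_pprime` (CENT).
-/

namespace Cfsg.Agent.Helper3.CP

open Subgroup

universe u

variable {G : Type u} [Group G] [Finite G] {p : ℕ} [Fact p.Prime]

omit [Fact p.Prime] in
/-- `x = x ^ a * x ^ b` with `x ^ a` a `p`-element and `x ^ b` a `p'`-element -/
theorem exists_pow_decomp (hp : p.Prime) (x : G) :
    ∃ a b : ℕ, x = x ^ a * x ^ b ∧ (∃ k : ℕ, orderOf (x ^ a) = p ^ k) ∧ ¬ p ∣ orderOf (x ^ b) := by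
  have hn : orderOf x ≠ 0 := (orderOf_pos x).ne'
  set n := orderOf x with hndef
  set k := n.factorization p with hk
  set m := n / p ^ k with hm
  have hnm : p ^ k * m = n := Nat.ordProj_mul_ordCompl_eq_self n p
  have hcop : Nat.Coprime (p ^ k) m := (Nat.coprime_ordCompl hp hn).pow_left k
  -- a ≡ 1 mod p^k, a ≡ 0 mod m
  obtain ⟨a, ha1, ha2⟩ := Nat.chineseRemainder hcop 1 0
  obtain ⟨b, hb1, hb2⟩ := Nat.chineseRemainder hcop 0 1
  refine ⟨a, b, ?_, ?_, ?_⟩
  · rw [← pow_add]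
    have h1 : a + b ≡ 1 [MOD p ^ k * m] := by
      rw [← Nat.modEq_and_modEq_iff_modEq_mul hcop]
      constructor
      · simpa using ha1.add hb1
      · simpa using ha2.add hb2
    rw [hnm] at h1
    conv_lhs => rw [← pow_one x]
    exact (pow_eq_pow_iff_modEq.2 h1).symm
  · have hdvd : orderOf (x ^ a) ∣ p ^ k := by
      apply orderOf_dvd_of_pow_eq_one
      rw [← pow_mul]
      apply orderOf_dvd_iff_pow_eq_one.1
      rw [← hndef, ← hnm, mul_comm a]
      exact Nat.mul_dvd_mul_left _ ((Nat.modEq_zero_iff_dvd).1 ha2)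
    obtain ⟨j, -, hj⟩ := (Nat.dvd_prime_pow hp).1 hdvd
    exact ⟨j, hj⟩
  · have hdvd : orderOf (x ^ b) ∣ m := by
      apply orderOf_dvd_of_pow_eq_one
      rw [← pow_mul]
      apply orderOf_dvd_iff_pow_eq_one.1
      rw [← hndef, ← hnm]
      exact Nat.mul_dvd_mul_right ((Nat.modEq_zero_iff_dvd).1 hb1) _
    intro hpd
    exact Nat.not_dvd_ordCompl hp hn (hpd.trans hdvd)

omit [Finite G] [Fact p.Prime] in
/-- a `p`-element normalizing a Sylow `p`-subgroup lies in it -/
theorem mem_sylow_of_mem_normalizer (P : Sylow p G) (x : G)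
    (hx : x ∈ normalizer ((P : Subgroup G) : Set G)) (hxo : ∃ k : ℕ, orderOf x = p ^ k) :
    x ∈ (P : Subgroup G) := by
  have hz : IsPGroup p ↥(zpowers x) := by
    obtain ⟨k, hk⟩ := hxo
    apply IsPGroup.of_card (n := k)
    rw [Nat.card_zpowers, hk]
  have hle : zpowers x ≤ normalizer ((P : Subgroup G) : Set G) := by
    rw [zpowers_le]; exact hx
  have hsup : IsPGroup p ↥(zpowers x ⊔ (P : Subgroup G)) :=
    IsPGroup.to_sup_of_normal_right' hz P.2 hle
  have := P.3 hsup le_sup_right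
  rw [← this]
  exact mem_sup_left (mem_zpowers x)

omit [Finite G] in
/-- `|H ⊔ N|` divides `|H| * |N|` when `H` normalizes `N` -/
theorem card_sup_dvd_mul {H N : Subgroup G} (h : H ≤ normalizer (N : Set G)) :
    Nat.card ↥(H ⊔ N) ∣ Nat.card ↥H * Nat.card ↥N := by
  set L : Subgroup G := H ⊔ N with hL
  have hHL : H ≤ L := le_sup_left
  have hNL : N ≤ L := le_sup_right
  have : (N.subgroupOf L).Normal := by
    apply Subgroup.normal_subgroupOf_of_le_normalizer
    exact sup_le h le_normalizer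
  let f : H →* (L ⧸ N.subgroupOf L) := (QuotientGroup.mk' (N.subgroupOf L)).comp (inclusion hHL)
  have hf : Function.Surjective f := by
    intro y
    obtain ⟨x, rfl⟩ := QuotientGroup.mk'_surjective _ y
    have hx : (x : G) ∈ ((H ⊔ N : Subgroup G) : Set G) := x.2
    rw [coe_mul_of_left_le_normalizer_right H N h] at hx
    obtain ⟨a, ha, b, hb, hab⟩ := Set.mem_mul.mp hx
    refine ⟨⟨a, ha⟩, ?_⟩
    change QuotientGroup.mk' _ (inclusion hHL ⟨a, ha⟩) = QuotientGroup.mk' _ x
    rw [QuotientGroup.mk'_eq_mk']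
    refine ⟨⟨b, hNL hb⟩, mem_subgroupOf.mpr hb, ?_⟩
    apply Subtype.ext
    simpa using hab
  have h1 : Nat.card (L ⧸ N.subgroupOf L) ∣ Nat.card H := card_dvd_of_surjective f hf
  have h2 : Nat.card (N.subgroupOf L) * Nat.card (L ⧸ N.subgroupOf L) = Nat.card L := by
    rw [← Subgroup.index_eq_card, Subgroup.card_mul_index]
  have h3 : Nat.card (N.subgroupOf L) = Nat.card N :=
    Nat.card_congr (subgroupOfEquivOfLe hNL).toEquiv
  rw [← h2, h3, mul_comm]
  exact Nat.mul_dvd_mul h1 dvd_rfl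

/-- an element `x` with `x M x⁻¹ ⊆ M` (`M` finite) normalizes `M` -/
theorem mem_normalizer_of_conj_mem (M : Subgroup G) (x : G) (hxM : ∀ m ∈ M, x * m * x⁻¹ ∈ M) :
    x ∈ normalizer ((M : Subgroup G) : Set G) := by
  rw [mem_normalizer_iff]
  intro m
  constructor
  · intro hm; exact hxM m hm
  · intro hm
    have hinj : Function.Injective (fun m : M => (⟨x * m * x⁻¹, hxM m m.2⟩ : M)) := by
      intro a b hab
      have := congrArg Subtype.val hab
      simp only [mul_left_inj, mul_right_inj] at this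
      exact Subtype.ext this
    obtain ⟨a, ha⟩ := (Finite.injective_iff_surjective.1 hinj) ⟨x * m * x⁻¹, hm⟩
    have := congrArg Subtype.val ha
    simp only [mul_left_inj, mul_right_inj] at this
    rw [← this]; exact a.2

/-- PPC: a `p'`-element normalizing a `p'`-subgroup centralizes it -/
theorem Hyp.commute_of_pprime (h : Hyp p G) (M : Subgroup G) (hM : ¬ p ∣ Nat.card ↥M) (x : G)
    (hx : ¬ p ∣ orderOf x) (hxM : ∀ m ∈ M, x * m * x⁻¹ ∈ M) : ∀ m ∈ M, x * m = m * x := by
  have hp : p.Prime := Fact.out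
  have hle : zpowers x ≤ normalizer ((M : Subgroup G) : Set G) := by
    rw [zpowers_le]; exact mem_normalizer_of_conj_mem M x hxM
  have hcard : ¬ p ∣ Nat.card ↥(zpowers x ⊔ M) := by
    intro hd
    have h1 := hd.trans (card_sup_dvd_mul hle)
    rw [Nat.card_zpowers] at h1
    rcases (Nat.Prime.dvd_mul hp).1 h1 with h2 | h2
    · exact hx h2
    · exact hM h2
  intro m hm
  exact h.2 _ hcard x (mem_sup_left (mem_zpowers x)) m (mem_sup_right hm)

/-- PPART: if `N(P) ≰ C(P)` (`P` abelian Sylow) there is a `p'`-element in `N(P) ∖ C(P)` -/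
theorem exists_pprime_not_mem_centralizer (P : Sylow p G)
    (hcomm : ∀ a ∈ (P : Subgroup G), ∀ b ∈ (P : Subgroup G), a * b = b * a)
    (hNC : ¬ normalizer ((P : Subgroup G) : Set G) ≤ centralizer ((P : Subgroup G) : Set G)) :
    ∃ x : G, x ∈ normalizer ((P : Subgroup G) : Set G) ∧ ¬ p ∣ orderOf x ∧
      x ∉ centralizer ((P : Subgroup G) : Set G) := by
  have hp : p.Prime := Fact.out
  rw [SetLike.not_le_iff_exists] at hNC
  obtain ⟨w, hwN, hwC⟩ := hNC
  obtain ⟨a, b, hab, hao, hbo⟩ := exists_pow_decomp hp w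
  have haN : w ^ a ∈ normalizer ((P : Subgroup G) : Set G) := pow_mem hwN a
  have haP : w ^ a ∈ (P : Subgroup G) := mem_sylow_of_mem_normalizer P _ haN hao
  have haC : w ^ a ∈ centralizer ((P : Subgroup G) : Set G) := by
    rw [mem_centralizer_iff]
    intro y hy
    exact hcomm y hy _ haP
  refine ⟨w ^ b, pow_mem hwN b, hbo, ?_⟩
  intro hbC
  apply hwC
  rw [hab]
  exact mul_mem haC hbC

/-- FIX: an element of `N(P)` (`P` a cyclic Sylow `p`-subgroup) commuting with a non-trivial element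
of `P` centralizes `P` -/
theorem mem_centralizer_of_fix (P : Sylow p G) (hcyc : IsCyclic ↥(P : Subgroup G)) (w : G)
    (hw : w ∈ normalizer ((P : Subgroup G) : Set G)) (y : G) (hy : y ∈ (P : Subgroup G))
    (hy1 : y ≠ 1) (hwy : w * y = y * w) : w ∈ centralizer ((P : Subgroup G) : Set G) := by
  have hp : p.Prime := Fact.out
  obtain ⟨⟨g, hgP⟩, hgen⟩ := hcyc.exists_generator
  have hgen' : ∀ u ∈ (P : Subgroup G), u ∈ zpowers g := by
    intro u hu
    obtain ⟨k, hk⟩ := mem_zpowers_iff.1 (hgen ⟨u, hu⟩)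
    refine mem_zpowers_iff.2 ⟨k, ?_⟩
    have := congrArg Subtype.val hk
    simpa using this
  have hcomm : ∀ a ∈ (P : Subgroup G), ∀ b ∈ (P : Subgroup G), a * b = b * a := by
    intro a ha b hb
    obtain ⟨i, rfl⟩ := mem_zpowers_iff.1 (hgen' a ha)
    obtain ⟨j, rfl⟩ := mem_zpowers_iff.1 (hgen' b hb)
    exact (Commute.zpow_zpow (Commute.refl g) i j).eq
  -- it suffices that `w` commutes with `g`
  have hsuff : ∀ c : G, c * g * c⁻¹ = g → c ∈ centralizer ((P : Subgroup G) : Set G) := by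
    intro c hc
    rw [mem_centralizer_iff]
    intro u hu
    obtain ⟨i, rfl⟩ := mem_zpowers_iff.1 (hgen' u hu)
    have hcg : Commute c g := by
      exact mul_inv_eq_iff_eq_mul.1 hc
    exact (hcg.zpow_right i).eq.symm
  obtain ⟨a, b, hab, hao, hbo⟩ := exists_pow_decomp hp w
  have haN : w ^ a ∈ normalizer ((P : Subgroup G) : Set G) := pow_mem hw a
  have haP : w ^ a ∈ (P : Subgroup G) := mem_sylow_of_mem_normalizer P _ haN hao
  have haC : w ^ a ∈ centralizer ((P : Subgroup G) : Set G) := by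
    rw [mem_centralizer_iff]
    intro u hu
    exact hcomm u hu _ haP
  have hbN : w ^ b ∈ normalizer ((P : Subgroup G) : Set G) := pow_mem hw b
  have hbC : w ^ b ∈ centralizer ((P : Subgroup G) : Set G) := by
    apply hsuff
    have hconj : w ^ b * g * (w ^ b)⁻¹ ∈ (P : Subgroup G) :=
      (mem_normalizer_iff.1 hbN g).1 hgP
    obtain ⟨k, hk⟩ := mem_zpowers_iff.1 (hgen' _ hconj)
    -- turn the integer exponent into a natural one
    have hfin : IsOfFinOrder g := isOfFinOrder_of_finite g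
    obtain ⟨k', hk'⟩ : ∃ k' : ℕ, w ^ b * g * (w ^ b)⁻¹ = g ^ k' := by
      have hmem : w ^ b * g * (w ^ b)⁻¹ ∈ Submonoid.powers g :=
        hfin.mem_powers_iff_mem_zpowers.2 (hgen' _ hconj)
      obtain ⟨k', hk'⟩ := (Submonoid.mem_powers_iff _ _).1 hmem
      exact ⟨k', hk'.symm⟩
    obtain ⟨n, hn⟩ : ∃ n : ℕ, orderOf g = p ^ n := by
      have h1 : IsPGroup p ↥(zpowers g) := P.2.to_le (by rw [zpowers_le]; exact hgP)
      obtain ⟨n, hn⟩ := IsPGroup.iff_card.1 h1
      exact ⟨n, by rw [← hn, Nat.card_zpowers]⟩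
    have hcy : w ^ b * y * (w ^ b)⁻¹ = y := by
      have : Commute (w ^ b) y := (Commute.pow_left (show Commute w y from hwy) b)
      rw [this.eq, mul_inv_cancel_right]
    exact Cfsg.Agent.Helper20.conj_eq_self_of_coprime_fix g (w ^ b) y p n k' (orderOf (w ^ b)) hp hn
      hk' (hgen' y hy) hy1 hcy (pow_orderOf_eq_one _)
      ((Nat.Prime.coprime_iff_not_dvd hp).2 hbo).symm
  rw [hab]
  exact mul_mem haC hbC

/-- CENT: if `x ∈ N(P) ∖ C(P)` centralizes a subgroup `M` normalized by the cyclic Sylow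
`p`-subgroup `P`, then `P` centralizes `M` -/
theorem centralizes_of_pprime (P : Sylow p G) (hcyc : IsCyclic ↥(P : Subgroup G))
    (M : Subgroup G) (hPM : ∀ u ∈ (P : Subgroup G), ∀ m ∈ M, u * m * u⁻¹ ∈ M) (x : G)
    (hxN : x ∈ normalizer ((P : Subgroup G) : Set G))
    (hxC : x ∉ centralizer ((P : Subgroup G) : Set G))
    (hxM : ∀ m ∈ M, x * m = m * x) :
    ∀ u ∈ (P : Subgroup G), ∀ m ∈ M, u * m = m * u := by
  -- the map `u ↦ u⁻¹ * (x * u * x⁻¹)` is injective on `P`, hence surjective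
  have hmem : ∀ u : (P : Subgroup G), (u : G)⁻¹ * (x * u * x⁻¹) ∈ (P : Subgroup G) := fun u =>
    mul_mem (inv_mem u.2) ((mem_normalizer_iff.1 hxN u).1 u.2)
  have hinj : Function.Injective
      (fun u : (P : Subgroup G) => (⟨(u : G)⁻¹ * (x * u * x⁻¹), hmem u⟩ : (P : Subgroup G))) := by
    intro u v huv
    have h1 : (u : G)⁻¹ * (x * u * x⁻¹) = (v : G)⁻¹ * (x * v * x⁻¹) := congrArg Subtype.val huv
    by_contra hne
    apply hxC
    have hy1 : (v : G) * (u : G)⁻¹ ≠ 1 := by
      intro h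
      apply hne
      apply Subtype.ext
      have := mul_inv_eq_one.1 h
      exact this.symm
    refine mem_centralizer_of_fix P hcyc x hxN ((v : G) * (u : G)⁻¹) (mul_mem v.2 (inv_mem u.2))
      hy1 ?_
    -- x (v u⁻¹) = (v u⁻¹) x
    have hV : x * (v : G) * x⁻¹ = (v : G) * ((u : G)⁻¹ * (x * u * x⁻¹)) := by
      rw [h1, mul_inv_cancel_left]
    have h3 : x * ((v : G) * (u : G)⁻¹) * x⁻¹ = (v : G) * (u : G)⁻¹ := by
      have : x * ((v : G) * (u : G)⁻¹) * x⁻¹ = (x * v * x⁻¹) * (x * u * x⁻¹)⁻¹ := by group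
      rw [this, hV]; group
    exact mul_inv_eq_iff_eq_mul.1 h3
  have hsurj := Finite.injective_iff_surjective.1 hinj
  have hxinv : ∀ m ∈ M, x⁻¹ * m = m * x⁻¹ := by
    intro m hm
    have := hxM m hm
    rw [← mul_right_inj x, ← mul_assoc, ← mul_assoc, mul_inv_cancel, one_mul, this, mul_assoc,
      mul_inv_cancel, mul_one]
  intro u hu m hm
  obtain ⟨v, hv⟩ := hsurj ⟨u, hu⟩
  have hv' : (v : G)⁻¹ * (x * v * x⁻¹) = u := congrArg Subtype.val hv
  -- v⁻¹ x v centralizes M
  have h1 : ∀ m ∈ M, ((v : G)⁻¹ * x * v) * m = m * ((v : G)⁻¹ * x * v) := by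
    intro m hm
    have hm' : (v : G) * m * (v : G)⁻¹ ∈ M := hPM v v.2 m hm
    have h2 := hxM _ hm'
    calc ((v : G)⁻¹ * x * v) * m = (v : G)⁻¹ * (x * ((v : G) * m * (v : G)⁻¹)) * v := by group
      _ = (v : G)⁻¹ * (((v : G) * m * (v : G)⁻¹) * x) * v := by rw [h2]
      _ = m * ((v : G)⁻¹ * x * v) := by group
  have hu' : u = ((v : G)⁻¹ * x * v) * x⁻¹ := by rw [← hv']; group
  rw [hu', mul_assoc, hxinv m hm, ← mul_assoc, h1 m hm, mul_assoc]

end Cfsg.Agent.Helper3.CP
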