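import Mathlib
import Cfsg.Prelude.Def_Characters
import Cfsg.Prelude.Def_Blocks
import Cfsg.Agent.Helper24.Abelian
import Cfsg.Agent.Helper24.Linear
import Cfsg.Agent.Helper8.D1Base
import Cfsg.Agent.Helper8.D1Conj
import Cfsg.Agent.Helper20.S4705BLKDefs
import Cfsg.Agent.Helper3.CPBasic
import Cfsg.Agent.Helper1.D1PA

set_option autoImplicit false

/-!
# S4705, piece BLKZ: `C_G(P) = P ⊔ Z(G)` when the `p`-regular elements of `C_G(P)` are central
-/

namespace Cfsg.Agent.S4705P

open Cfsg Cfsg.Agent.Helper24 Cfsg.Agent.Helper8.D1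

universe u

variable {G : Type u} [Group G] [Finite G]

/-! ### BLKZ: the structure of the centralizer -/
theorem blk_centralizer_eq (p : ℕ) [Fact p.Prime] (P : Sylow p G) (hP : Nat.card P = p)
    (hreg : ∀ c ∈ Subgroup.centralizer ((P : Subgroup G) : Set G), ¬ p ∣ orderOf c →
      c ∈ Subgroup.center G) :
    Subgroup.centralizer ((P : Subgroup G) : Set G) = (P : Subgroup G) ⊔ Subgroup.center G := by
  have hp : p.Prime := Fact.out
  apply le_antisymm
  · intro c hc
    obtain ⟨a, b, hab, ⟨k, hk⟩, hb⟩ := Cfsg.Agent.Helper3.CP.exists_pow_decomp hp c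
    have hca : c ^ a ∈ Subgroup.centralizer ((P : Subgroup G) : Set G) := pow_mem hc a
    have hcb : c ^ b ∈ Subgroup.centralizer ((P : Subgroup G) : Set G) := pow_mem hc b
    have hbZ : c ^ b ∈ Subgroup.center G := hreg _ hcb hb
    -- the `p`-part lies in `P`
    have haP : c ^ a ∈ (P : Subgroup G) := by
      apply Cfsg.Agent.Helper3.CP.mem_sylow_of_mem_normalizer P (c ^ a)
      · exact Subgroup.centralizer_le_normalizer _ hca
      · exact ⟨k, hk⟩
    rw [hab]
    exact Subgroup.mul_mem_sup haP hbZ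
  · apply sup_le
    · exact Cfsg.Agent.Helper1.D1PA.le_centralizer P hP
    · exact Subgroup.center_le_centralizer _

end Cfsg.Agent.S4705P
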