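import Mathlib

set_option autoImplicit false

/-! S4607 piece GCENTER: the centre of a group algebra consists of the class functions. -/

namespace Cfsg.Agent.S4607P

/-- GCENTER: the centre of a group algebra consists of the class functions -/
theorem mem_center_iff {k : Type*} [Field k] {G : Type*} [Group G] (a : MonoidAlgebra k G) :
    a ∈ Subalgebra.center k (MonoidAlgebra k G) ↔ ∀ g x : G, a.coeff (x * g * x⁻¹) = a.coeff g := by
  rw [Subalgebra.mem_center_iff]
  constructor
  · intro h g x
    have h1 := congrArg (fun b : MonoidAlgebra k G => b.coeff (x * g)) (h (MonoidAlgebra.single x 1))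
    simp only [MonoidAlgebra.coeff_single_mul_apply, MonoidAlgebra.coeff_mul_single_apply, one_mul,
      mul_one, inv_mul_cancel_left] at h1
    exact h1.symm
  · intro h b
    induction b using MonoidAlgebra.induction_on with
    | of m =>
      ext g
      rw [MonoidAlgebra.of_apply, MonoidAlgebra.coeff_single_mul_apply,
        MonoidAlgebra.coeff_mul_single_apply, one_mul, mul_one]
      have := h (m⁻¹ * g) m
      rw [← this]
      congr 1
      group
    | add x y hx hy => rw [add_mul, mul_add, hx, hy]
    | smul r x hx => rw [smul_mul_assoc, mul_smul_comm, hx]

end Cfsg.Agent.S4607P
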