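import Mathlib

set_option autoImplicit false

namespace Cfsg.Agent.Helper3

open scoped Pointwise

variable {G : Type*} [Group G]

/-- the image of `H` in `G ⧸ K` has `K.relIndex H` elements -/
theorem card_image_mk (H K : Subgroup G) :
    Nat.card ((H : Set G).image (QuotientGroup.mk : G → G ⧸ K)) = K.relIndex H := by
  have h1 : (H : Set G).image (QuotientGroup.mk : G → G ⧸ K)
      = MulAction.orbit H ((1 : G) : G ⧸ K) := by
    ext x
    constructor
    · rintro ⟨h, hh, rfl⟩
      refine ⟨⟨h, hh⟩, ?_⟩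
      show ((h * 1 : G) : G ⧸ K) = _
      rw [mul_one]
    · rintro ⟨h, rfl⟩
      refine ⟨h, h.2, ?_⟩
      show _ = ((h * 1 : G) : G ⧸ K)
      rw [mul_one]
  have h2 : MulAction.stabilizer H ((1 : G) : G ⧸ K) = K.subgroupOf H := by
    ext h
    rw [MulAction.mem_stabilizer_iff, Subgroup.mem_subgroupOf]
    show ((h * 1 : G) : G ⧸ K) = _ ↔ _
    rw [mul_one, QuotientGroup.eq]
    simp
  rw [h1, Nat.card_coe_set_eq, ← MulAction.index_stabilizer, h2]
  rfl

/-- the product formula `|HK| |H ∩ K| = |H| |K|` -/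
theorem card_mul_set_mul_card_inf (H K : Subgroup G) :
    Nat.card ((H : Set G) * (K : Set G) : Set G) * Nat.card (H ⊓ K : Subgroup G)
      = Nat.card H * Nat.card K := by
  rw [Subgroup.card_mul_eq_card_subgroup_mul_card_quotient K (H : Set G), card_image_mk]
  have h3 : Nat.card (H ⊓ K : Subgroup G) * K.relIndex H = Nat.card H := by
    have := Subgroup.relIndex_mul_relIndex ⊥ (H ⊓ K) H bot_le inf_le_left
    rwa [Subgroup.relIndex_bot_left, Subgroup.relIndex_bot_left, Subgroup.inf_relIndex_left] at this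
  rw [← h3]; ring

/-- if `G = HK` then `|G| |H ∩ K| = |H| |K|` -/
theorem card_mul_card_inf_of_prod (H K : Subgroup G)
    (hHK : ∀ g : G, ∃ h ∈ H, ∃ k ∈ K, g = h * k) :
    Nat.card G * Nat.card (H ⊓ K : Subgroup G) = Nat.card H * Nat.card K := by
  rw [← card_mul_set_mul_card_inf]
  congr 1
  have : ((H : Set G) * (K : Set G) : Set G) = Set.univ := by
    ext g
    simp only [Set.mem_univ, iff_true]
    obtain ⟨h, hh, k, hk, rfl⟩ := hHK g
    exact Set.mul_mem_mul hh hk
  rw [this, Nat.card_congr (Equiv.Set.univ G)]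

end Cfsg.Agent.Helper3
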