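import Mathlib
import Cfsg.Prelude.Def_Blocks
import Cfsg.Prelude.Def_BlockRank
import Cfsg.Agent.Helper5.S4607Defs

set_option autoImplicit false

/-!
# S4607 piece RED (helper3): the reduction map `red M` is a ring homomorphism on local-integer
valued functions on `G`.
-/

namespace Cfsg.Agent.S4607P

open Cfsg Cfsg.Agent.Helper5.Res Cfsg.Agent.Helper5.CC Cfsg.Agent.Helper5.Loc

variable {M : Ideal AlgInt} [hMax : M.IsMaximal]

variable {G : Type*} [Group G] [Fintype G]

/-- RED: the reduction map is a ring homomorphism on local-integer valued functions -/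
theorem red_coeff (a : G → ℂ) (g : G) : (red M a).coeff g = res M (a g) := by
  classical
  unfold red
  rw [MonoidAlgebra.coeff_sum, Finsupp.coe_finsetSum, Finset.sum_apply]
  simp only [MonoidAlgebra.coeff_single, Finsupp.single_apply]
  rw [Finset.sum_ite_eq' Finset.univ g]
  simp

theorem red_zero : red M (0 : G → ℂ) = 0 := by
  classical
  ext g
  rw [red_coeff]
  simp [res_zero]

theorem red_deltaOne : red M (deltaOne : G → ℂ) = 1 := by
  classical
  ext g
  rw [red_coeff, MonoidAlgebra.one_def, MonoidAlgebra.coeff_single, Finsupp.single_apply]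
  by_cases h : (1 : G) = g
  · subst h
    rw [if_pos rfl, deltaOne_apply_one, res_one]
  · rw [if_neg h, deltaOne_apply_ne (fun h' => h h'.symm), res_zero]

theorem red_add (a b : G → ℂ) (ha : ∀ g, MemLocalRing M (a g)) (hb : ∀ g, MemLocalRing M (b g)) :
    red M (a + b) = red M a + red M b := by
  classical
  ext g
  rw [MonoidAlgebra.coeff_add, Finsupp.add_apply, red_coeff, red_coeff, red_coeff, Pi.add_apply,
    res_add (ha g) (hb g)]

theorem red_sub (a b : G → ℂ) (ha : ∀ g, MemLocalRing M (a g)) (hb : ∀ g, MemLocalRing M (b g)) :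
    red M (a - b) = red M a - red M b := by
  classical
  ext g
  rw [MonoidAlgebra.coeff_sub, Finsupp.sub_apply, red_coeff, red_coeff, red_coeff, Pi.sub_apply,
    res_sub (ha g) (hb g)]

set_option synthInstance.maxHeartbeats 400000 in
theorem red_smul (c : ℂ) (a : G → ℂ) (hc : MemLocalRing M c) (ha : ∀ g, MemLocalRing M (a g)) :
    red M (c • a) = res M c • red M a := by
  classical
  ext g
  rw [MonoidAlgebra.coeff_smul, Finsupp.smul_apply, red_coeff, red_coeff, Pi.smul_apply,
    smul_eq_mul, smul_eq_mul, res_mul hc (ha g)]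

theorem lr_conv (a b : G → ℂ) (ha : ∀ g, MemLocalRing M (a g)) (hb : ∀ g, MemLocalRing M (b g)) :
    ∀ g, MemLocalRing M (conv a b g) := by
  intro g
  unfold conv
  exact lr_sum hMax.isPrime _ _ (fun t _ => lr_mul hMax.isPrime (ha t) (hb _))

theorem red_conv (a b : G → ℂ) (ha : ∀ g, MemLocalRing M (a g)) (hb : ∀ g, MemLocalRing M (b g)) :
    red M (conv a b) = red M a * red M b := by
  classical
  ext g
  rw [red_coeff, MonoidAlgebra.coeff_mul_apply_left, Finsupp.sum_fintype _ _ (by intro i; simp)]
  unfold conv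
  rw [res_sum _ _ (fun t _ => lr_mul hMax.isPrime (ha t) (hb _))]
  refine Finset.sum_congr rfl (fun t _ => ?_)
  rw [res_mul (ha t) (hb _), red_coeff, red_coeff]

end Cfsg.Agent.S4607P
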