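import Mathlib
import Cfsg.Prelude.Def_ClassicalGeometry
import Cfsg.Agent.Helper1.S5956Defs

set_option autoImplicit false
open scoped MatrixGroups

/-!
# S5956 piece STEPEVEN (helper3): a unipotent isometry of even nilpotency index `e` of a
nondegenerate alternating space (char ≠ 2) has a nondegenerate invariant cyclic block of dimension `e`.
-/

universe u

namespace Cfsg.Agent.S5956P

open Polynomial Cfsg.Agent.Helper2.SympInvol Cfsg.Agent.Helper2.SympUnits Cfsg.Agent.S5961P
  Cfsg.Agent.S5955P Cfsg.Agent.Helper2.InvolComb

namespace STEPEVEN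

variable {F V : Type*} [Field F] [AddCommGroup V] [Module F V]

/-- the basic relation between `u = y - 1` and the form -/
theorem rel (B : LinearMap.BilinForm F V) (y : Module.End F V)
    (hy : ∀ u v, B (y u) (y v) = B u v) (a b : V) :
    B ((y - 1) a) b = -B a ((y - 1) b) - B ((y - 1) a) ((y - 1) b) := by
  have h := hy a b
  have e1 : y a = a + (y - 1) a := by
    rw [LinearMap.sub_apply, Module.End.one_apply]; abel
  have e2 : y b = b + (y - 1) b := by
    rw [LinearMap.sub_apply, Module.End.one_apply]; abel
  rw [e1, e2] at h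
  simp only [map_add, LinearMap.add_apply] at h
  linear_combination h

theorem pow_succ_apply (u : Module.End F V) (i : ℕ) (a : V) :
    (u ^ (i + 1)) a = u ((u ^ i) a) := by
  rw [pow_succ', Module.End.mul_apply]

/-- G1: the Gram matrix vanishes above the antidiagonal -/
theorem gram_zero (B : LinearMap.BilinForm F V) (u : Module.End F V)
    (hrel : ∀ a b, B (u a) b = -B a (u b) - B (u a) (u b)) (e : ℕ) (hnil : u ^ e = 0) :
    ∀ i j : ℕ, e ≤ i + j → ∀ a b : V, B ((u ^ i) a) ((u ^ j) b) = 0 := by
  intro i
  induction i with
  | zero =>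
    intro j hj a b
    have : u ^ j = 0 := pow_eq_zero_of_le (by omega) hnil
    rw [this, LinearMap.zero_apply, map_zero]
  | succ i ih =>
    have inner : ∀ d j : ℕ, e ≤ j + d → e ≤ i + 1 + j → ∀ a b : V,
        B ((u ^ (i + 1)) a) ((u ^ j) b) = 0 := by
      intro d
      induction d with
      | zero =>
        intro j hj _ a b
        have : u ^ j = 0 := pow_eq_zero_of_le (by omega) hnil
        rw [this, LinearMap.zero_apply, map_zero]
      | succ d ihd =>
        intro j hj hij a b
        have h1 := ih (j + 1) (by omega) a b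
        have h2 := ihd (j + 1) (by omega) (by omega) a b
        rw [pow_succ_apply u i a] at h2 ⊢
        rw [pow_succ_apply u j b] at h1 h2
        rw [hrel, h1, h2]
        ring
    intro j hj a b
    exact inner e j (by omega) hj a b

/-- G2: the antidiagonal of the Gram matrix -/
theorem gram_anti (B : LinearMap.BilinForm F V) (u : Module.End F V)
    (hrel : ∀ a b, B (u a) b = -B a (u b) - B (u a) (u b)) (e : ℕ) (hnil : u ^ e = 0) :
    ∀ i j : ℕ, i + j + 1 = e → ∀ a b : V,
      B ((u ^ i) a) ((u ^ j) b) = (-1) ^ i * B a ((u ^ (e - 1)) b) := by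
  intro i
  induction i with
  | zero =>
    intro j hj a b
    have : j = e - 1 := by omega
    rw [this, pow_zero, Module.End.one_apply, pow_zero, one_mul]
  | succ i ih =>
    intro j hj a b
    have h1 := ih (j + 1) (by omega) a b
    have h2 := gram_zero B u hrel e hnil (i + 1) (j + 1) (by omega) a b
    rw [pow_succ_apply u i a] at h2 ⊢
    rw [pow_succ_apply u j b] at h1 h2
    rw [hrel, h1, h2, pow_succ]
    ring

end STEPEVEN

open STEPEVEN in
/-- STEPEVEN: nilpotency index `e` even: a nondegenerate cyclic block of dimension `e` -/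
theorem exists_cyclic_block {F V : Type*} [Field F] [AddCommGroup V] [Module F V]
    [FiniteDimensional F V] (h2 : (2 : F) ≠ 0) (B : LinearMap.BilinForm F V)
    (halt : ∀ v, B v v = 0) (hnd : Nondeg B ⊤) (y : Module.End F V)
    (hy : ∀ u v, B (y u) (y v) = B u v) (e : ℕ) (he : Even e) (hnil : (y - 1) ^ e = 0)
    (hne : (y - 1) ^ (e - 1) ≠ 0) :
    ∃ E : Submodule F V, E.map y ≤ E ∧ Nondeg B E ∧
      ∀ i : ℕ, Module.finrank F ↥(E ⊓ LinearMap.ker ((y - 1) ^ i)) = min i e := by
  classical
  set u : Module.End F V := y - 1 with hu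
  have hrel : ∀ a b, B (u a) b = -B a (u b) - B (u a) (u b) := rel B y hy
  have hskew := Cfsg.Agent.Helper2.SympInvol.skew B halt
  -- `e ≥ 1` (in fact `e ≥ 2`)
  have he1 : 1 ≤ e := by
    rcases Nat.eq_zero_or_pos e with h0 | h0
    · exfalso
      apply hne
      rw [h0] at hnil ⊢
      exact hnil
    · exact h0
  have hodd : Odd (e - 1) := by
    obtain ⟨k, hk⟩ := he
    exact ⟨k - 1, by omega⟩
  -- the symmetric form `β a b = B a (u^(e-1) b)`
  have hsymm : ∀ a b : V, B b ((u ^ (e - 1)) a) = B a ((u ^ (e - 1)) b) := by
    intro a b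
    have h := gram_anti B u hrel e hnil (e - 1) 0 (by omega) a b
    rw [pow_zero, Module.End.one_apply, hodd.neg_one_pow] at h
    rw [hskew b, h]
    ring
  -- a vector with `β v v ≠ 0`
  obtain ⟨v, hv⟩ : ∃ v : V, B v ((u ^ (e - 1)) v) ≠ 0 := by
    obtain ⟨b, hb⟩ : ∃ b : V, (u ^ (e - 1)) b ≠ 0 := by
      by_contra hcon
      push Not at hcon
      apply hne
      ext x
      rw [hcon x, LinearMap.zero_apply]
    obtain ⟨a, -, hab⟩ := hnd _ (Submodule.mem_top) hb
    have hab' : B a ((u ^ (e - 1)) b) ≠ 0 := by
      rw [hskew] at hab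
      intro h
      apply hab
      rw [h, neg_zero]
    by_cases haa : B a ((u ^ (e - 1)) a) = 0
    · by_cases hbb : B b ((u ^ (e - 1)) b) = 0
      · refine ⟨a + b, ?_⟩
        simp only [map_add, LinearMap.add_apply]
        rw [haa, hbb, hsymm a b]
        intro h
        apply hab'
        have : (2 : F) * B a ((u ^ (e - 1)) b) = 0 := by linear_combination h
        rcases mul_eq_zero.1 this with h' | h'
        · exact absurd h' h2
        · exact h'
      · exact ⟨b, hbb⟩
    · exact ⟨a, haa⟩
  -- the cyclic basis
  set bvec : Fin e → V := fun j => (u ^ (j : ℕ)) v with hbvec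
  have hG0 : ∀ j k : Fin e, e ≤ (j : ℕ) + k → B (bvec j) (bvec k) = 0 := fun j k h =>
    gram_zero B u hrel e hnil j k h v v
  have hG1 : ∀ j k : Fin e, (j : ℕ) + k + 1 = e → B (bvec j) (bvec k) ≠ 0 := by
    intro j k h
    show B ((u ^ (j : ℕ)) v) ((u ^ (k : ℕ)) v) ≠ 0
    rw [gram_anti B u hrel e hnil j k h v v]
    exact mul_ne_zero (pow_ne_zero _ (by norm_num)) hv
  have key : ∀ c : Fin e → F, (∀ k : Fin e, B (∑ j, c j • bvec j) (bvec k) = 0) → c = 0 := by
    intro c hc
    have hall : ∀ n : ℕ, ∀ j : Fin e, (j : ℕ) < n → c j = 0 := by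
      intro n
      induction n with
      | zero => intro j hj; omega
      | succ n ih =>
        intro j hj
        by_cases hjn : (j : ℕ) < n
        · exact ih j hjn
        · have hjn' : (j : ℕ) = n := by omega
          have hje := j.2
          let k : Fin e := ⟨e - 1 - n, by omega⟩
          have hk := hc k
          rw [map_sum, LinearMap.sum_apply] at hk
          rw [Finset.sum_eq_single j] at hk
          · rw [map_smul, LinearMap.smul_apply, smul_eq_mul] at hk
            rcases mul_eq_zero.1 hk with h | h
            · exact h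
            · exact absurd h (hG1 j k (by show (j : ℕ) + (e - 1 - n) + 1 = e; omega))
          · intro j' _ hj'
            rw [map_smul, LinearMap.smul_apply, smul_eq_mul]
            by_cases hlt : (j' : ℕ) < n
            · rw [ih j' hlt, zero_mul]
            · have hne' : (j' : ℕ) ≠ j := fun h => hj' (Fin.ext h)
              rw [hG0 j' k (by show e ≤ (j' : ℕ) + (e - 1 - n); omega), mul_zero]
          · intro h; exact absurd (Finset.mem_univ j) h
    funext j
    exact hall e j j.2
  have hli : LinearIndependent F bvec := by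
    rw [Fintype.linearIndependent_iff]
    intro c hc j
    have := key c (fun k => by rw [hc, map_zero, LinearMap.zero_apply])
    rw [this]; rfl
  have hpow_zero : ∀ n : ℕ, e ≤ n → (u ^ n) v = 0 := by
    intro n hn
    rw [pow_eq_zero_of_le hn hnil, LinearMap.zero_apply]
  set E : Submodule F V := Submodule.span F (Set.range bvec) with hE
  have hbE : ∀ j : Fin e, bvec j ∈ E := fun j => Submodule.subset_span ⟨j, rfl⟩
  have hpowE : ∀ n : ℕ, (u ^ n) v ∈ E := by
    intro n
    by_cases hn : n < e
    · exact hbE ⟨n, hn⟩
    · rw [hpow_zero n (by omega)]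
      exact E.zero_mem
  have hfrE : Module.finrank F E = e := by
    rw [hE, finrank_span_eq_card hli, Fintype.card_fin]
  refine ⟨E, ?_, ?_, ?_⟩
  · -- invariance
    rw [hE, Submodule.map_span_le]
    rintro _ ⟨j, rfl⟩
    have : y (bvec j) = bvec j + (u ^ ((j : ℕ) + 1)) v := by
      rw [pow_succ_apply]
      show y ((u ^ (j : ℕ)) v) = (u ^ (j : ℕ)) v + (y - 1) ((u ^ (j : ℕ)) v)
      rw [LinearMap.sub_apply, Module.End.one_apply]; abel
    rw [this]
    exact E.add_mem (hbE j) (hpowE _)
  · -- nondegeneracy
    intro m hm hm0
    by_contra hcon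
    push Not at hcon
    obtain ⟨c, rfl⟩ := (Submodule.mem_span_range_iff_exists_fun F).1 hm
    have := key c (fun k => hcon _ (hbE k))
    apply hm0
    rw [this]
    simp
  · -- the kernel filtration
    intro i
    by_cases hie : e ≤ i
    · have : u ^ i = 0 := pow_eq_zero_of_le hie hnil
      rw [this, LinearMap.ker_zero, inf_top_eq, hfrE, min_eq_right hie]
    · have hie' : i < e := by omega
      rw [min_eq_left hie'.le]
      apply le_antisymm
      · -- upper bound
        let f₂ : Fin (e - i) → Fin e := fun k => ⟨k, by have := k.2; omega⟩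
        let f₃ : Fin (e - i) → Fin e := fun k => ⟨i + k, by have := k.2; omega⟩
        have hf₂ : Function.Injective f₂ := by
          intro a b h
          have := congrArg Fin.val h
          exact Fin.ext this
        have hf₃ : Function.Injective f₃ := by
          intro a b h
          have := congrArg Fin.val h
          simp only [f₃] at this
          exact Fin.ext (by omega)
        have hli₂ : LinearIndependent F (bvec ∘ f₂) := hli.comp f₂ hf₂
        have hli₃ : LinearIndependent F (bvec ∘ f₃) := hli.comp f₃ hf₃
        set T : Submodule F V := Submodule.span F (Set.range (bvec ∘ f₂)) with hT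
        have hfrT : Module.finrank F T = e - i := by
          rw [hT, finrank_span_eq_card hli₂, Fintype.card_fin]
        have hTE : T ≤ E := by
          rw [hT, Submodule.span_le]
          rintro _ ⟨k, rfl⟩
          exact hbE _
        have hdisj : T ⊓ (E ⊓ LinearMap.ker (u ^ i)) = ⊥ := by
          rw [eq_bot_iff]
          rintro w ⟨hwT, _, hwK⟩
          rw [Submodule.mem_bot]
          obtain ⟨c, rfl⟩ := (Submodule.mem_span_range_iff_exists_fun F).1 hwT
          have hwK' : (u ^ i) (∑ k, c k • (bvec ∘ f₂) k) = 0 := hwK
          rw [map_sum] at hwK'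
          have hterm : ∀ k : Fin (e - i), (u ^ i) (c k • (bvec ∘ f₂) k) =
              c k • (bvec ∘ f₃) k := by
            intro k
            rw [map_smul]
            congr 1
            show (u ^ i) ((u ^ (k : ℕ)) v) = (u ^ (i + (k : ℕ))) v
            rw [pow_add, Module.End.mul_apply]
          rw [Finset.sum_congr rfl (fun k _ => hterm k)] at hwK'
          have hc0 := (Fintype.linearIndependent_iff.1 hli₃) c hwK'
          apply Finset.sum_eq_zero
          intro k _
          rw [hc0 k, zero_smul]
        have hsum := Submodule.finrank_sup_add_finrank_inf_eq T (E ⊓ LinearMap.ker (u ^ i))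
        rw [hdisj, finrank_bot, add_zero] at hsum
        have hle : Module.finrank F ↥(T ⊔ (E ⊓ LinearMap.ker (u ^ i))) ≤ Module.finrank F E :=
          Submodule.finrank_mono (sup_le hTE inf_le_left)
        omega
      · -- lower bound
        let f₁ : Fin i → Fin e := fun k => ⟨e - i + k, by have := k.2; omega⟩
        have hf₁ : Function.Injective f₁ := by
          intro a b h
          have := congrArg Fin.val h
          simp only [f₁] at this
          exact Fin.ext (by omega)
        have hli₁ : LinearIndependent F (bvec ∘ f₁) := hli.comp f₁ hf₁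
        have hfrS : Module.finrank F (Submodule.span F (Set.range (bvec ∘ f₁))) = i := by
          rw [finrank_span_eq_card hli₁, Fintype.card_fin]
        have hSle : Submodule.span F (Set.range (bvec ∘ f₁)) ≤ E ⊓ LinearMap.ker (u ^ i) := by
          rw [Submodule.span_le]
          rintro _ ⟨k, rfl⟩
          refine ⟨hbE _, ?_⟩
          show (u ^ i) ((u ^ (e - i + (k : ℕ))) v) = 0
          rw [← Module.End.mul_apply, ← pow_add]
          exact hpow_zero _ (by omega)
        calc i = Module.finrank F (Submodule.span F (Set.range (bvec ∘ f₁))) := hfrS.symm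
          _ ≤ _ := Submodule.finrank_mono hSle

end Cfsg.Agent.S5956P
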