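import Mathlib

set_option autoImplicit false

/-! S5949, piece NTS: three small number-theoretic lemmas on finite fields. -/

namespace Cfsg.Agent.S5949P

open Polynomial

/-- NT0 -/
theorem nt_coprime {F : Type*} [Field F] [Fintype F] (r : ℕ) [Fact r.Prime]
    (hr : ¬ r ∣ Fintype.card F - 1) :
    (∀ c : F, ∃ d : F, d ^ r = c) ∧ ∀ δ : F, δ ^ r = 1 → δ = 1 := by
  have hrp : r.Prime := Fact.out
  have hcop : (Nat.card Fˣ).Coprime r := by
    rw [Nat.card_units, Nat.card_eq_fintype_card]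
    exact (Nat.Coprime.symm ((Nat.Prime.coprime_iff_not_dvd hrp).2 hr))
  constructor
  · intro c
    by_cases hc : c = 0
    · exact ⟨0, by rw [hc, zero_pow hrp.ne_zero]⟩
    · obtain ⟨d, hd⟩ := (powCoprime hcop).surjective (Units.mk0 c hc)
      refine ⟨(d : F), ?_⟩
      have := congrArg (fun u : Fˣ => (u : F)) hd
      simpa using this
  · intro δ hδ
    have hδ0 : δ ≠ 0 := by
      rintro rfl
      rw [zero_pow hrp.ne_zero] at hδ
      exact zero_ne_one hδ
    have h1 : (powCoprime hcop) (Units.mk0 δ hδ0) = (powCoprime hcop) 1 := by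
      apply Units.ext
      simp [hδ]
    have h2 := (powCoprime hcop).injective h1
    have := congrArg (fun u : Fˣ => (u : F)) h2
    simpa using this

/-- ORD -/
theorem orderOf_card_eq_one_iff {F : Type*} [Field F] [Fintype F] (r : ℕ) [Fact r.Prime] :
    orderOf ((Fintype.card F : ℕ) : ZMod r) = 1 ↔ r ∣ Fintype.card F - 1 := by
  have hq : 1 ≤ Fintype.card F := Fintype.card_pos
  rw [orderOf_eq_one_iff]
  have h1 : ((Fintype.card F : ℕ) : ZMod r) = 1 ↔ ((1 : ℕ) : ZMod r) = ((Fintype.card F : ℕ) : ZMod r) := by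
    rw [Nat.cast_one]; exact eq_comm
  rw [h1, ZMod.natCast_eq_natCast_iff, Nat.modEq_iff_dvd' hq]

/-- ORD' -/
theorem orderOf_card_pos {F : Type*} [Field F] [Fintype F] {p : ℕ} [Fact p.Prime] [CharP F p]
    (r : ℕ) [Fact r.Prime] (hrp : r ≠ p) : 0 < orderOf ((Fintype.card F : ℕ) : ZMod r) := by
  have hr : r.Prime := Fact.out
  have hp : p.Prime := Fact.out
  obtain ⟨f, -, hf⟩ := FiniteField.card F p
  have hne : ((Fintype.card F : ℕ) : ZMod r) ≠ 0 := by
    rw [Ne, ZMod.natCast_eq_zero_iff, hf]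
    intro h
    have := (Nat.prime_dvd_prime_iff_eq hr hp).mp (hr.dvd_of_dvd_pow h)
    exact hrp this
  rw [orderOf_pos_iff, isOfFinOrder_iff_pow_eq_one]
  exact ⟨r - 1, Nat.sub_pos_of_lt hr.one_lt, ZMod.pow_card_sub_one_eq_one hne⟩

end Cfsg.Agent.S5949P
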