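import Mathlib
import Cfsg.Prelude.Def_Characters
import Cfsg.Agent.Helper1.W2pDefs
import Cfsg.Agent.Helper24.SelfCentA
import Cfsg.Agent.Helper24.SelfCentB
import Cfsg.Agent.Helper24.SelfCentD
import Cfsg.Agent.Helper24.Expansion
import Cfsg.Agent.Helper8.CharComp

set_option autoImplicit false

/-!
# S0720 piece FIXb: an exceptional character of degree `e` vanishes on `N_H(P) ∖ P`
-/

namespace Cfsg.Agent.Helper3.W2p

open Cfsg Cfsg.Agent.Helper24 Cfsg.Agent.Helper1.W2p MulAction

universe u v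

theorem exc_vanish_off {H : Type u} [Group H] [Finite H] (p : ℕ) [Fact p.Prime] (hp2 : p ≠ 2)
    (P : Sylow p H) (hP : Nat.card P = p)
    (hC : Subgroup.centralizer ((P : Subgroup H) : Set H) = (P : Subgroup H))
    (D : BrauerData p (P : Subgroup H)) (hε : D.ε = 1) (ψ : IrrCharacter H) (hψ : ψ ∈ D.Y)
    (hdeg : irrDeg ψ = eN (P : Subgroup H)) :
    ∀ n ∈ Subgroup.normalizer ((P : Subgroup H) : Set H), n ∉ (P : Subgroup H) →
      (ψ : H → ℂ) n = 0 := by
  classical
  haveI : Fintype H := Fintype.ofFinite H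
  haveI : Fintype (SelfCent.NK (P : Subgroup H)) := Fintype.ofFinite _
  haveI : Fintype (SelfCent.KN (P : Subgroup H)) := Fintype.ofFinite _
  haveI : Fintype (P : Subgroup H) := Fintype.ofFinite _
  haveI : Fintype (IrrCharacter (SelfCent.NK (P : Subgroup H))) := Fintype.ofFinite _
  haveI hKn : (SelfCent.KN (P : Subgroup H)).Normal := Subgroup.normal_in_normalizer
  have hcent := SelfCent.hcent_of_card_prime (P : Subgroup H) p hP (by rw [hC]; exact hP)
  have hfix := SelfCent.hfixN (P : Subgroup H) hcent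
  -- ψ agrees with Lam ψ on P
  have hψLam : ∀ y ∈ (P : Subgroup H), (ψ : H → ℂ) y = D.Lam ψ y := by
    intro y hy
    by_cases hy1 : y = 1
    · rw [hy1, irrDeg_spec, hdeg, D.Lam_one ψ hψ]
    · rw [D.val_Y ψ hψ y hy hy1, hε]; simp
  -- the restriction to the normalizer
  have hres : IsCharacter (SelfCent.NK (P : Subgroup H)) (fun n : SelfCent.NK (P : Subgroup H) => (ψ : H → ℂ) n) :=
    Cfsg.Agent.Helper8.isCharacter_restrict (SelfCent.NK (P : Subgroup H)) (IsIrrCharacter.isCharacter ψ.2)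
  obtain ⟨m, hm⟩ := IsCharacter.exists_nat_coeff hres
  -- the sum of ψ over (P : Subgroup H) vanishes
  have hsumP : ∑ y : (P : Subgroup H), (ψ : H → ℂ) (y : H) = 0 := by
    have h1 := D.Lam_sum ψ hψ
    rw [finsum_eq_sum_of_fintype] at h1
    rw [← h1]
    apply Finset.sum_congr rfl
    intro y _
    exact hψLam y y.2
  have hsumKN : ∑ k : SelfCent.KN (P : Subgroup H), (ψ : H → ℂ) ((k : SelfCent.NK (P : Subgroup H)) : H) = 0 := by
    rw [← hsumP]
    exact Fintype.sum_equiv (Subgroup.subgroupOfEquivOfLe (Subgroup.le_normalizer)).toEquiv _ _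
      (fun k => rfl)
  -- expand
  have hexp : ∑ k : SelfCent.KN (P : Subgroup H), (ψ : H → ℂ) ((k : SelfCent.NK (P : Subgroup H)) : H) =
      ∑ η : IrrCharacter (SelfCent.NK (P : Subgroup H)), (m η : ℂ) *
        ∑ k : SelfCent.KN (P : Subgroup H), (η : SelfCent.NK (P : Subgroup H) → ℂ) (k : SelfCent.NK (P : Subgroup H)) := by
    have : ∀ k : SelfCent.KN (P : Subgroup H), (ψ : H → ℂ) ((k : SelfCent.NK (P : Subgroup H)) : H) =
        ∑ η : IrrCharacter (SelfCent.NK (P : Subgroup H)), (m η : ℂ) * (η : SelfCent.NK (P : Subgroup H) → ℂ) (k : SelfCent.NK (P : Subgroup H)) := by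
      intro k
      have := congrFun hm (k : SelfCent.NK (P : Subgroup H))
      simp only [Finset.sum_apply, Pi.smul_apply, smul_eq_mul] at this
      exact this
    simp_rw [this]
    rw [Finset.sum_comm]
    apply Finset.sum_congr rfl
    intro η _
    rw [Finset.mul_sum]
  have hinner : ∀ η : IrrCharacter (SelfCent.NK (P : Subgroup H)),
      ∑ k : SelfCent.KN (P : Subgroup H), (η : SelfCent.NK (P : Subgroup H) → ℂ) (k : SelfCent.NK (P : Subgroup H)) =
        if η ∈ SelfCent.excSet (SelfCent.KN (P : Subgroup H)) then 0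
        else ((Nat.card (SelfCent.KN (P : Subgroup H)) * irrDeg η : ℕ) : ℂ) := by
    intro η
    by_cases hη : η ∈ SelfCent.excSet (SelfCent.KN (P : Subgroup H))
    · rw [if_pos hη]
      exact SelfCent.sum_apply_of_mem_excSet (SelfCent.KN (P : Subgroup H)) hfix η hη
    · rw [if_neg hη]
      have : ∀ k : SelfCent.KN (P : Subgroup H), (η : SelfCent.NK (P : Subgroup H) → ℂ) (k : SelfCent.NK (P : Subgroup H)) = (irrDeg η : ℂ) := by
        intro k
        rw [SelfCent.apply_of_not_mem_excSet (SelfCent.KN (P : Subgroup H)) hη k k.2, irrDeg_spec]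
      simp_rw [this]
      rw [Finset.sum_const, Finset.card_univ, nsmul_eq_mul, ← Nat.card_eq_fintype_card]
      push_cast
      ring
  have hnat : ∑ η : IrrCharacter (SelfCent.NK (P : Subgroup H)),
      m η * (if η ∈ SelfCent.excSet (SelfCent.KN (P : Subgroup H)) then 0
        else Nat.card (SelfCent.KN (P : Subgroup H)) * irrDeg η) = 0 := by
    have h1 : ((∑ η : IrrCharacter (SelfCent.NK (P : Subgroup H)),
        m η * (if η ∈ SelfCent.excSet (SelfCent.KN (P : Subgroup H)) then 0
          else Nat.card (SelfCent.KN (P : Subgroup H)) * irrDeg η) : ℕ) : ℂ) = 0 := by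
      rw [← hsumKN, hexp]
      push_cast
      apply Finset.sum_congr rfl
      intro η _
      rw [hinner η]
      split_ifs <;> push_cast <;> ring
    exact_mod_cast h1
  have hzero : ∀ η : IrrCharacter (SelfCent.NK (P : Subgroup H)), η ∉ SelfCent.excSet (SelfCent.KN (P : Subgroup H)) →
      m η = 0 := by
    intro η hη
    have h1 := (Finset.sum_eq_zero_iff.mp hnat) η (Finset.mem_univ _)
    rw [if_neg hη] at h1
    rcases Nat.mul_eq_zero.mp h1 with h2 | h2
    · exact h2
    · exfalso
      rcases Nat.mul_eq_zero.mp h2 with h3 | h3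
      · exact (Nat.card_pos (α := SelfCent.KN (P : Subgroup H))).ne' h3
      · exact (irrDeg_pos η).ne' h3
  -- conclusion
  intro n hn hnP
  have hval := congrFun hm ⟨n, hn⟩
  simp only [Finset.sum_apply, Pi.smul_apply, smul_eq_mul] at hval
  show (ψ : H → ℂ) n = 0
  rw [show (ψ : H → ℂ) n = (ψ : H → ℂ) ((⟨n, hn⟩ : SelfCent.NK (P : Subgroup H)) : H) from rfl, hval]
  apply Finset.sum_eq_zero
  intro η _
  by_cases hη : η ∈ SelfCent.excSet (SelfCent.KN (P : Subgroup H))
  · have hnot : (⟨n, hn⟩ : SelfCent.NK (P : Subgroup H)) ∉ SelfCent.KN (P : Subgroup H) := by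
      rw [Subgroup.mem_subgroupOf]
      exact hnP
    rw [SelfCent.apply_eq_zero_of_mem_excSet (SelfCent.KN (P : Subgroup H)) hfix η hη _ hnot, mul_zero]
  · rw [hzero η hη, Nat.cast_zero, zero_mul]

end Cfsg.Agent.Helper3.W2p
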