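import Cfsg.Agent.Helper3.Conj
import Cfsg.Agent.Helper3.ProdCard

set_option autoImplicit false

namespace Cfsg.Agent.Helper3

open scoped Pointwise

variable {G : Type*} [Group G]

/-- a `p`-subgroup of `H` whose order is the full `p`-part -/
theorem card_pSubgroup_le [Finite G] {p : ℕ} [Fact p.Prime] (H T : Subgroup G) (hT : IsPGroup p T)
    (hTH : T ≤ H) : ∃ j, Nat.card T = p ^ j ∧ j ≤ (Nat.card H).factorization p := by
  obtain ⟨j, hj⟩ := IsPGroup.iff_card.mp hT
  refine ⟨j, hj, ?_⟩
  have hdvd : p ^ j ∣ Nat.card H := hj ▸ Subgroup.card_dvd_of_le hTH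
  exact (Nat.Prime.pow_dvd_iff_le_factorization (Fact.out) Nat.card_pos.ne').mp hdvd

/-- some conjugate of a Sylow subgroup of `G` meets `H` in a subgroup of full `p`-part order -/
theorem exists_conj_sylow_inf_card [Finite G] {p : ℕ} [Fact p.Prime] (H : Subgroup G)
    (S : Sylow p G) :
    ∃ a : G, Nat.card ((MulAut.conj a • (S : Subgroup G)) ⊓ H : Subgroup G)
      = p ^ (Nat.card H).factorization p := by
  obtain ⟨P₀⟩ : Nonempty (Sylow p H) := inferInstance
  have hP₀ : IsPGroup p ((P₀ : Subgroup H).map H.subtype) := P₀.isPGroup'.map _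
  obtain ⟨Q, hQ⟩ := hP₀.exists_le_sylow
  obtain ⟨a, ha⟩ := MulAction.exists_smul_eq G S Q
  refine ⟨a, ?_⟩
  have hQa : (Q : Subgroup G) = MulAut.conj a • (S : Subgroup G) := by
    rw [← ha]; rfl
  rw [← hQa]
  -- (Q ⊓ H).subgroupOf H is a p-subgroup of H containing P₀
  have h1 : IsPGroup p ((Q : Subgroup G) ⊓ H : Subgroup G) := Q.isPGroup'.to_le inf_le_left
  have h2 : IsPGroup p (((Q : Subgroup G) ⊓ H).subgroupOf H) :=
    h1.comap_subtype
  have h3 : (P₀ : Subgroup H) ≤ ((Q : Subgroup G) ⊓ H).subgroupOf H := by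
    intro x hx
    rw [Subgroup.mem_subgroupOf]
    exact ⟨hQ ⟨x, hx, rfl⟩, x.2⟩
  have h4 := P₀.is_maximal' h2 h3
  have h5 : Nat.card ((Q : Subgroup G) ⊓ H : Subgroup G) = Nat.card (P₀ : Subgroup H) := by
    rw [← h4]
    exact (Nat.card_congr (Subgroup.subgroupOfEquivOfLe inf_le_right).toEquiv).symm
  rw [h5, P₀.card_eq_multiplicity]

/-- conjugating by an element of `H` does not change the order of the intersection with `H` -/
theorem card_conj_mul_inf [Finite G] (H T : Subgroup G) {h : G} (hh : h ∈ H) (a : G) :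
    Nat.card ((MulAut.conj (h * a) • T) ⊓ H : Subgroup G)
      = Nat.card ((MulAut.conj a • T) ⊓ H : Subgroup G) := by
  have : (MulAut.conj (h * a) • T) ⊓ H = MulAut.conj h • ((MulAut.conj a • T) ⊓ H) := by
    rw [Subgroup.smul_inf, map_mul, mul_smul, Subgroup.conj_smul_eq_self_of_mem hh]
  rw [this, card_conj_smul]

/-- If `G = HK`, some Sylow `p`-subgroup `R` of `G` meets both `H` and `K` in Sylow subgroups,
and then `R = (R ∩ H)(R ∩ K)`. -/
theorem exists_sylow_factorization [Finite G] {p : ℕ} [Fact p.Prime] (H K : Subgroup G)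
    (hHK : ∀ g : G, ∃ h ∈ H, ∃ k ∈ K, g = h * k) :
    ∃ R : Sylow p G,
      Nat.card ((R : Subgroup G) ⊓ H : Subgroup G) = p ^ (Nat.card H).factorization p ∧
      Nat.card ((R : Subgroup G) ⊓ K : Subgroup G) = p ^ (Nat.card K).factorization p ∧
      ((R : Subgroup G) : Set G) =
        (((R : Subgroup G) ⊓ H : Subgroup G) : Set G) * (((R : Subgroup G) ⊓ K : Subgroup G) : Set G) := by
  obtain ⟨S⟩ : Nonempty (Sylow p G) := inferInstance
  obtain ⟨a, ha⟩ := exists_conj_sylow_inf_card H S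
  obtain ⟨b, hb⟩ := exists_conj_sylow_inf_card K S
  obtain ⟨h, hh, k, hk, hab⟩ := hHK (a * b⁻¹)
  have hg : h⁻¹ * a = k * b := by
    have : a = h * k * b := by rw [← hab]; simp
    rw [this]; simp [mul_assoc]
  set R : Sylow p G := (h⁻¹ * a) • S with hR
  have hRc : (R : Subgroup G) = MulAut.conj (h⁻¹ * a) • (S : Subgroup G) := rfl
  have hRH : Nat.card ((R : Subgroup G) ⊓ H : Subgroup G) = p ^ (Nat.card H).factorization p := by
    rw [hRc, card_conj_mul_inf H _ (H.inv_mem hh), ha]
  have hRK : Nat.card ((R : Subgroup G) ⊓ K : Subgroup G) = p ^ (Nat.card K).factorization p := by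
    rw [hRc, hg, card_conj_mul_inf K _ hk, hb]
  refine ⟨R, hRH, hRK, ?_⟩
  -- the set equation
  set P := (R : Subgroup G) ⊓ H with hP
  set Q := (R : Subgroup G) ⊓ K with hQ
  have hsub : (P : Set G) * (Q : Set G) ⊆ ((R : Subgroup G) : Set G) := by
    rintro _ ⟨x, hx, y, hy, rfl⟩
    exact (R : Subgroup G).mul_mem hx.1 hy.1
  have hprod := card_mul_set_mul_card_inf P Q
  have hPQ : IsPGroup p (P ⊓ Q : Subgroup G) :=
    R.isPGroup'.to_le (inf_le_left.trans inf_le_left)
  have hPQle : P ⊓ Q ≤ H ⊓ K := inf_le_inf inf_le_right inf_le_right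
  obtain ⟨j, hj, hjle⟩ := card_pSubgroup_le (H ⊓ K) (P ⊓ Q) hPQ hPQle
  have hfact := card_mul_card_inf_of_prod H K hHK
  have hfact' : (Nat.card G).factorization p + (Nat.card (H ⊓ K : Subgroup G)).factorization p
      = (Nat.card H).factorization p + (Nat.card K).factorization p := by
    have := congrArg (fun n => n.factorization p) hfact
    beta_reduce at this
    rwa [Nat.factorization_mul Nat.card_pos.ne' Nat.card_pos.ne',
      Nat.factorization_mul Nat.card_pos.ne' Nat.card_pos.ne'] at this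
  rw [hRH, hRK, hj, ← pow_add] at hprod
  have hRcard : Nat.card (R : Subgroup G) = p ^ (Nat.card G).factorization p :=
    R.card_eq_multiplicity
  have hp1 : 1 < p := (Fact.out : p.Prime).one_lt
  -- card of product set ≥ card R
  have hge : Nat.card (R : Subgroup G) ≤ Nat.card ((P : Set G) * (Q : Set G) : Set G) := by
    rw [hRcard]
    have h1 : p ^ ((Nat.card G).factorization p) * p ^ j ≤
        Nat.card ((P : Set G) * (Q : Set G) : Set G) * p ^ j := by
      rw [hprod, ← pow_add]
      apply Nat.pow_le_pow_right hp1.le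
      omega
    exact Nat.le_of_mul_le_mul_right h1 (pow_pos (by omega) j)
  symm
  apply Set.eq_of_subset_of_ncard_le hsub _ (Set.toFinite _)
  rw [← Nat.card_coe_set_eq, ← Nat.card_coe_set_eq]
  exact hge

end Cfsg.Agent.Helper3
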