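import Mathlib
import Cfsg.Agent.Helper10.S2092.DefsP
import Cfsg.Agent.Helper8.S2092C2CIRC
import Cfsg.Agent.Helper11.S2092B2R3
import Cfsg.Agent.Helper23.S2092PBASIC

/-! S2092 piece TORMUL (helper3): the torus elements of the simple roots are multiplicative. -/

set_option autoImplicit false
set_option linter.unusedSectionVars false
set_option linter.unusedVariables false

namespace Cfsg.Agent.S2092P

open scoped commutatorElement
open Matrix Cfsg.Agent.S3352P Cfsg.Agent.S2096P Cfsg.Agent.S2094P Cfsg.Agent.RGD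

variable {n : ℕ} {F : Type*} [Field F] {M : Type*} [Group M] {Ys : J n → J n → F → M}
  {Yl : J n → F → M} {π : M →* Matrix (J n) (J n) F}

namespace TORMUL

/-- in a field with at most two elements every nonzero element is `1` -/
theorem eq_one_of_card_lt_three [Fintype F] (hF : ¬ 3 ≤ Fintype.card F) {t : F} (ht : t ≠ 0) :
    t = 1 := by
  classical
  by_contra h1
  apply hF
  have h3 : ({0, 1, t} : Finset F).card = 3 := by
    rw [Finset.card_insert_of_notMem, Finset.card_insert_of_notMem, Finset.card_singleton]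
    · simp only [Finset.mem_singleton]
      exact fun h => h1 h.symm
    · simp only [Finset.mem_insert, Finset.mem_singleton, not_or]
      exact ⟨zero_ne_one, fun h => ht h.symm⟩
  rw [← h3]
  exact Finset.card_le_univ _

/-- an abstract multiplicative family `g` with the shape `g s = W s * W (-1)` -/
theorem mul_of_shape {W : F → M} (g : F → M) (hg : ∀ s, g s = W s * W (-1))
    (hmul : ∀ s u : F, s ≠ 0 → u ≠ 0 → g (s * u) = g s * g u) {t : F} (ht : t ≠ 0) :
    W (-t) * W 1 = g t := by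
  have h11 : g 1 = 1 := by
    have := hmul 1 1 one_ne_zero one_ne_zero
    rw [mul_one] at this
    exact (mul_eq_left.mp this.symm)
  have hm1 : g (-1) * g (-1) = 1 := by
    have hne : (-1 : F) ≠ 0 := neg_ne_zero.mpr one_ne_zero
    rw [← hmul (-1) (-1) hne hne, neg_mul_neg, mul_one, h11]
  -- `W 1 = (W (-1))⁻¹`
  have hW1 : W 1 = (W (-1))⁻¹ := by
    have := hg 1
    rw [h11] at this
    exact eq_inv_of_mul_eq_one_left this.symm
  have hgt : g t = g (-t) * g (-1) := by
    have hne : (-1 : F) ≠ 0 := neg_ne_zero.mpr one_ne_zero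
    rw [← hmul (-t) (-1) (neg_ne_zero.mpr ht) hne, neg_mul_neg, mul_one]
  -- `g (-1) = (g (-1))⁻¹`
  have hinv : g (-1) = (g (-1))⁻¹ := eq_inv_of_mul_eq_one_left hm1
  rw [hgt, hinv, hg (-t), hg (-1), hW1]
  group

end TORMUL

theorem tX_mul_c [Fintype F] (hn : 2 ≤ n) (hY : CRel Ys Yl) {a b : J n}
    (hs : (RB.lg a b : RB n).Simple) {t u : F} (ht : t ≠ 0) (hu : u ≠ 0) :
    tX Ys a b (t * u) = tX Ys a b t * tX Ys a b u := by
  obtain ⟨i, j, hij, rfl, rfl⟩ := hs
  have hne : i ≠ j := by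
    intro h
    rw [h] at hij
    omega
  have hab : IsRoot (Sum.inl i : J n) (Sum.inl j) := by
    rw [isRoot_iff_ab]
    exact hne
  by_cases hF : 3 ≤ Fintype.card F
  · have hcirc := (cRelC_of_cRel hY).circ i j hne
    have key := circ_torus_mul hF hcirc 0 ht hu
    have e : -(-1 : F)⁻¹ = 1 := by norm_num
    unfold tX wX
    rw [e]
    exact key
  · have h1 : tX Ys (Sum.inl i) (Sum.inl j) (1 : F) = 1 := by
      unfold tX
      rw [← wX_inv_c hY hab 1, mul_inv_cancel]
    rw [TORMUL.eq_one_of_card_lt_three hF ht, TORMUL.eq_one_of_card_lt_three hF hu, mul_one, h1,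
      mul_one]

theorem tY_mul_c [Fintype F] (hn : 2 ≤ n) (hY : CRel Ys Yl) {a : J n}
    (hs : (RB.sh a : RB n).Simple) {t u : F} (ht : t ≠ 0) (hu : u ≠ 0) :
    tY (zl Yl) a (t * u) = tY (zl Yl) a t * tY (zl Yl) a u := by
  obtain ⟨j, hj, rfl⟩ := hs
  by_cases hF : 3 ≤ Fintype.card F
  · -- a partner index
    obtain ⟨i, hne⟩ : ∃ i : Fin n, i ≠ j := by
      by_cases h0 : j.val = 0
      · exact ⟨⟨1, by omega⟩, fun h => by rw [← h] at h0; simp at h0⟩
      · exact ⟨⟨0, by omega⟩, fun h => h0 (by rw [← h])⟩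
    have hcirc := (cRelC_of_cRel hY).circ i j hne
    set X := cX Ys Yl i j with hX
    let W : F → M := fun s => X 3 s * X (3 + 4) (-s⁻¹) * X 3 s
    let g : F → M := fun s => W s * W (-1)
    have hg : ∀ s, g s = W s * W (-1) := fun s => rfl
    have hmul : ∀ s u : F, s ≠ 0 → u ≠ 0 → g (s * u) = g s * g u := by
      intro s u hs hu
      have key := circ_torus_mul hF hcirc 3 hs hu
      have e : -(-1 : F)⁻¹ = 1 := by norm_num
      show (X 3 (s * u) * X (3 + 4) (-(s * u)⁻¹) * X 3 (s * u)) *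
          (X 3 (-1) * X (3 + 4) (-(-1 : F)⁻¹) * X 3 (-1)) =
        ((X 3 s * X (3 + 4) (-s⁻¹) * X 3 s) * (X 3 (-1) * X (3 + 4) (-(-1 : F)⁻¹) * X 3 (-1))) *
          ((X 3 u * X (3 + 4) (-u⁻¹) * X 3 u) * (X 3 (-1) * X (3 + 4) (-(-1 : F)⁻¹) * X 3 (-1)))
      rw [e]
      exact key
    -- `tY τ = W (-τ) * W 1`
    have htY : ∀ τ : F, τ ≠ 0 → tY (zl Yl) (Sum.inl j) τ = g τ := by
      intro τ hτ
      rw [← TORMUL.mul_of_shape g hg hmul hτ]
      have hW : ∀ σ : F, wY (zl Yl) (Sum.inl j) σ = W (-σ) := by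
        intro σ
        show zl Yl (Sum.inl j) σ * zl Yl (ng (Sum.inl j)) σ⁻¹ * zl Yl (Sum.inl j) σ
          = X 3 (-σ) * X (3 + 4) (-(-σ)⁻¹) * X 3 (-σ)
        have e1 : X 3 (-σ) = Yl (Sum.inl j) σ := by
          show Yl (Sum.inl j) (- -σ) = _
          rw [neg_neg]
        have e2 : X (3 + 4) (-(-σ)⁻¹) = Yl (Sum.inr j) (-σ⁻¹) := by
          show Yl (Sum.inr j) (-(-(-σ)⁻¹)) = _
          congr 1
          rw [inv_neg, neg_neg]
        rw [e1, e2]
        unfold zl
        simp only [ng, Sum.swap_inl, sgF_inl, sgF_inr, one_mul, neg_one_mul]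
      unfold tY
      rw [hW τ, hW (-1), neg_neg]
    rw [htY _ (mul_ne_zero ht hu), htY _ ht, htY _ hu]
    exact hmul t u ht hu
  · have h1 : tY (zl Yl) (Sum.inl j) (1 : F) = 1 := by
      unfold tY
      rw [← wY_inv_c hY (Sum.inl j) 1, mul_inv_cancel]
    rw [TORMUL.eq_one_of_card_lt_three hF ht, TORMUL.eq_one_of_card_lt_three hF hu, mul_one, h1,
      mul_one]

end Cfsg.Agent.S2092P
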