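import Mathlib
import Cfsg.Agent.Helper10.S2092.DefsP
import Cfsg.Agent.Helper23.S2092PBASIC
import Cfsg.Agent.Helper29.S2092MODELW
import Cfsg.Agent.Helper3.S2092TORMUL
import Cfsg.Agent.Helper26.S2092DIAGP

/-! S2092 piece TORINJ (helper3): the projection is injective on the torus. -/

set_option autoImplicit false
set_option linter.unusedSectionVars false
set_option linter.unusedVariables false
set_option linter.unusedSimpArgs false

namespace Cfsg.Agent.S2092P

open scoped commutatorElement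
open Matrix Cfsg.Agent.S3352P Cfsg.Agent.S2096P Cfsg.Agent.S2094P Cfsg.Agent.RGD

variable {n : ℕ} {F : Type*} [Field F] {M : Type*} [Group M] {Ys : J n → J n → F → M}
  {Yl : J n → F → M} {π : M →* Matrix (J n) (J n) F}

namespace TORINJ

/-- the abstract cancellation: `w (c τ) w (-c) = h τ` -/
theorem w_cancel (w : F → M) (hinv : ∀ t, (w t)⁻¹ = w (-t)) {c τ : F}
    (hmul : w (τ * c) * w (-1) = (w τ * w (-1)) * (w c * w (-1))) :
    w (c * τ) * w (-c) = w τ * w (-1) := by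
  have e : w (c * τ) = (w τ * w (-1)) * (w c * w (-1)) * (w (-1))⁻¹ := by
    rw [← hmul, mul_comm c τ]
    group
  rw [e, ← hinv c]
  group

/-- conjugating a short Weyl element by an element acting diagonally -/
theorem conj_wX {a b : J n} {t : M} {c c' : F} (hc' : c' = c⁻¹)
    (h1 : ∀ u, t * Ys a b u * t⁻¹ = Ys a b (c * u))
    (h2 : ∀ u, t * Ys b a u * t⁻¹ = Ys b a (c' * u)) (τ : F) :
    t * wX Ys a b τ * t⁻¹ = wX Ys a b (c * τ) := by
  unfold wX
  rw [show t * (Ys a b τ * Ys b a (-τ⁻¹) * Ys a b τ) * t⁻¹ =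
    (t * Ys a b τ * t⁻¹) * (t * Ys b a (-τ⁻¹) * t⁻¹) * (t * Ys a b τ * t⁻¹) by group, h1, h2, hc']
  have e : c⁻¹ * -τ⁻¹ = -(c * τ)⁻¹ := by
    rw [mul_inv]
    ring
  rw [e]

/-- conjugating a long Weyl element by an element acting diagonally -/
theorem conj_wY {a : J n} {t : M} {c c' : F} (hc' : c' = c⁻¹)
    (h1 : ∀ u, t * Yl a u * t⁻¹ = Yl a (c * u))
    (h2 : ∀ u, t * Yl (ng a) u * t⁻¹ = Yl (ng a) (c' * u)) (τ : F) :
    t * wY (zl Yl) a τ * t⁻¹ = wY (zl Yl) a (c * τ) := by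
  unfold wY zl
  rw [show t * (Yl a (sgF F a * τ) * Yl (ng a) (sgF F (ng a) * τ⁻¹) * Yl a (sgF F a * τ)) * t⁻¹ =
    (t * Yl a (sgF F a * τ) * t⁻¹) * (t * Yl (ng a) (sgF F (ng a) * τ⁻¹) * t⁻¹) *
      (t * Yl a (sgF F a * τ) * t⁻¹) by group, h1, h2, hc']
  have e1 : c * (sgF F a * τ) = sgF F a * (c * τ) := by ring
  have e2 : c⁻¹ * (sgF F (ng a) * τ⁻¹) = sgF F (ng a) * (c * τ)⁻¹ := by
    rw [mul_inv]
    ring
  rw [e1, e2]

/-- the simple-root torus element with index `i` -/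
noncomputable def hfun (Ys : J n → J n → F → M) (Yl : J n → F → M) (i : Fin n) (τ : F) : M :=
  if h : i.val + 1 < n then tX Ys (Sum.inl i) (Sum.inl ⟨i.val + 1, h⟩) τ
  else tY (zl Yl) (Sum.inl i) τ

theorem isRoot_succ {i j : Fin n} (hij : j.val = i.val + 1) :
    IsRoot (Sum.inl i : J n) (Sum.inl j) := by
  refine ⟨fun hh => ?_, fun hh => ?_⟩
  · have : i = j := Sum.inl_injective hh
    rw [this] at hij
    omega
  · simp [ng] at hh

/-- the generators of the torus are the `hfun i τ` -/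
theorem gen_iff (g : M) :
    g ∈ ({g | ∃ a b, ∃ t : F, (RB.lg a b : RB n).Simple ∧ t ≠ 0 ∧ g = tX Ys a b t} ∪
      {g | ∃ a, ∃ t : F, (RB.sh a : RB n).Simple ∧ t ≠ 0 ∧ g = tY (zl Yl) a t} : Set M) ↔
    ∃ i : Fin n, ∃ τ : F, τ ≠ 0 ∧ g = hfun Ys Yl i τ := by
  constructor
  · rintro (⟨a, b, t, ⟨i, j, hij, rfl, rfl⟩, ht, rfl⟩ | ⟨a, t, ⟨j, hj, rfl⟩, ht, rfl⟩)
    · have hi : i.val + 1 < n := by
        have := j.isLt
        omega
      refine ⟨i, t, ht, ?_⟩
      have hj : j = ⟨i.val + 1, hi⟩ := Fin.ext hij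
      unfold hfun
      rw [dif_pos hi, hj]
    · refine ⟨j, t, ht, ?_⟩
      unfold hfun
      rw [dif_neg (by omega)]
  · rintro ⟨i, τ, hτ, rfl⟩
    unfold hfun
    split_ifs with hi
    · exact Or.inl ⟨_, _, τ, ⟨i, ⟨i.val + 1, hi⟩, rfl, rfl, rfl⟩, hτ, rfl⟩
    · exact Or.inr ⟨_, τ, ⟨i, by have := i.isLt; omega, rfl⟩, hτ, rfl⟩

theorem hfun_mem {i : Fin n} {τ : F} (hτ : τ ≠ 0) : hfun Ys Yl i τ ∈ (datumC Ys Yl).T :=
  Subgroup.subset_closure ((gen_iff _).mpr ⟨i, τ, hτ, rfl⟩)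

theorem hfun_mul [Fintype F] (hn : 2 ≤ n) (hY : CRel Ys Yl) (i : Fin n) {τ σ : F} (hτ : τ ≠ 0)
    (hσ : σ ≠ 0) : hfun Ys Yl i (τ * σ) = hfun Ys Yl i τ * hfun Ys Yl i σ := by
  unfold hfun
  split_ifs with hi
  · exact tX_mul_c hn hY ⟨i, ⟨i.val + 1, hi⟩, rfl, rfl, rfl⟩ hτ hσ
  · exact tY_mul_c hn hY ⟨i, by have := i.isLt; omega, rfl⟩ hτ hσ

theorem hfun_one [Fintype F] (hn : 2 ≤ n) (hY : CRel Ys Yl) (i : Fin n) :
    hfun Ys Yl i (1 : F) = 1 := by
  have := hfun_mul hn hY i (one_ne_zero (α := F)) (one_ne_zero (α := F))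
  rw [mul_one] at this
  exact (mul_eq_left.mp this.symm)

/-- every element of the torus commutes with the generators -/
theorem conj_hfun [Fintype F] (hn : 2 ≤ n) (h : PHyp Ys Yl π) {t : M}
    (ht : t ∈ (datumC Ys Yl).T) (i : Fin n) {τ : F} (hτ : τ ≠ 0) :
    t * hfun Ys Yl i τ * t⁻¹ = hfun Ys Yl i τ := by
  obtain ⟨c, hc⟩ := T_actsBy hn h ht
  have hY := h.rel
  unfold hfun
  split_ifs with hi
  · set a : J n := Sum.inl i
    set b : J n := Sum.inl ⟨i.val + 1, hi⟩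
    have hab : IsRoot a b := isRoot_succ rfl
    obtain ⟨hc0, hcn, hact⟩ := hc (RB.lg a b) hab
    obtain ⟨-, -, hact'⟩ := hc (RB.lg b a) hab.symm
    have hs : (RB.lg a b : RB n).Simple := ⟨i, ⟨i.val + 1, hi⟩, rfl, rfl, rfl⟩
    have hconj := conj_wX (Ys := Ys) (a := a) (b := b) (t := t) hcn hact hact'
    unfold tX
    rw [show t * (wX Ys a b τ * wX Ys a b (-1)) * t⁻¹ =
      (t * wX Ys a b τ * t⁻¹) * (t * wX Ys a b (-1) * t⁻¹) by group, hconj, hconj, mul_neg, mul_one]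
    exact w_cancel (wX Ys a b) (wX_inv_c hY hab) (tX_mul_c hn hY hs hτ hc0)
  · set a : J n := Sum.inl i
    obtain ⟨hc0, hcn, hact⟩ := hc (RB.sh a) trivial
    obtain ⟨-, -, hact'⟩ := hc (RB.sh (ng a)) trivial
    have hs : (RB.sh a : RB n).Simple := ⟨i, by have := i.isLt; omega, rfl⟩
    have hconj := conj_wY (Yl := Yl) (a := a) (t := t) hcn hact hact'
    unfold tY
    rw [show t * (wY (zl Yl) a τ * wY (zl Yl) a (-1)) * t⁻¹ =
      (t * wY (zl Yl) a τ * t⁻¹) * (t * wY (zl Yl) a (-1) * t⁻¹) by group, hconj, hconj, mul_neg,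
      mul_one]
    exact w_cancel (wY (zl Yl) a) (wY_inv_c hY a) (tY_mul_c hn hY hs hτ hc0)

/-- the simple-root torus homomorphisms -/
noncomputable def hh [Fintype F] (hn : 2 ≤ n) (hY : CRel Ys Yl) (i : Fin n) : Fˣ →* M where
  toFun τ := hfun Ys Yl i (τ : F)
  map_one' := by rw [Units.val_one]; exact hfun_one hn hY i
  map_mul' x y := by rw [Units.val_mul]; exact hfun_mul hn hY i x.ne_zero y.ne_zero

theorem hh_apply [Fintype F] (hn : 2 ≤ n) (hY : CRel Ys Yl) (i : Fin n) (τ : Fˣ) :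
    hh hn hY i τ = hfun Ys Yl i (τ : F) := rfl

theorem hh_comm [Fintype F] (hn : 2 ≤ n) (h : PHyp Ys Yl π) :
    Pairwise fun i j : Fin n => ∀ (x y : Fˣ), Commute (hh hn h.rel i x) (hh hn h.rel j y) := by
  intro i j _ x y
  have := conj_hfun hn h (hfun_mem (Ys := Ys) (Yl := Yl) (i := i) x.ne_zero) j y.ne_zero
  rw [hh_apply, hh_apply]
  exact mul_inv_eq_iff_eq_mul.mp this

/-- the parametrisation of the torus -/
noncomputable def Phi [Fintype F] (hn : 2 ≤ n) (h : PHyp Ys Yl π) : (Fin n → Fˣ) →* M :=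
  MonoidHom.noncommPiCoprod (hh hn h.rel) (hh_comm hn h)

theorem Phi_range [Fintype F] (hn : 2 ≤ n) (h : PHyp Ys Yl π) :
    (Phi hn h).range = (datumC Ys Yl).T := by
  unfold Phi
  rw [MonoidHom.noncommPiCoprod_range]
  apply le_antisymm
  · refine iSup_le fun i => ?_
    rintro _ ⟨τ, rfl⟩
    exact hfun_mem τ.ne_zero
  · show HhS Ys Yl ≤ _
    unfold HhS
    rw [Subgroup.closure_le]
    intro g hg
    obtain ⟨i, τ, hτ, rfl⟩ := (gen_iff g).mp hg
    exact Subgroup.mem_iSup_of_mem i ⟨Units.mk0 τ hτ, rfl⟩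

/-- the diagonal entry at `e_k`, a character of the torus -/
noncomputable def chi (h : PHyp Ys Yl π) (k : Fin n) : ↥((datumC Ys Yl).T) →* F where
  toFun t := π t.1 (Sum.inl k) (Sum.inl k)
  map_one' := by simp
  map_mul' s t := by
    obtain ⟨d, -, hd⟩ := diag_of_mem_T h s.2
    obtain ⟨d', -, hd'⟩ := diag_of_mem_T h t.2
    show π (s.1 * t.1) _ _ = _
    rw [map_mul, hd, hd', Matrix.diagonal_mul_diagonal]
    simp

theorem pi_wX (h : PHyp Ys Yl π) {a b : J n} (hab : IsRoot a b) {t : F} (ht : t ≠ 0) :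
    π (wX Ys a b t) = mws a b t := by
  unfold wX
  rw [map_mul, map_mul, h.pis a b hab, h.pis b a (IsRoot.symm hab), MODELW.weyl_short hab ht]

theorem pi_wY (h : PHyp Ys Yl π) (a : J n) {t : F} (ht : t ≠ 0) :
    π (wY (zl Yl) a t) = mwl a (sgF F a * t) := by
  unfold wY zl
  rw [map_mul, map_mul, h.pil, h.pil, sgF_ng]
  have e : -sgF F a * t⁻¹ = -(sgF F a * t)⁻¹ := by
    rw [mul_inv, MODELW.sgF_inv]
    ring
  rw [e]
  exact MODELW.weyl_long a (mul_ne_zero (MODELW.sgF_ne_zero a) ht)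

/-- the diagonal entries at `e_k` of the simple-root torus elements -/
theorem pi_hfun_entry (h : PHyp Ys Yl π) (i k : Fin n) {τ : F} (hτ : τ ≠ 0) :
    π (hfun Ys Yl i τ) (Sum.inl k) (Sum.inl k) =
      if k = i then τ else if k.val = i.val + 1 then τ⁻¹ else 1 := by
  have hm1 : (-1 : F) ≠ 0 := neg_ne_zero.mpr one_ne_zero
  unfold hfun
  split_ifs with hi hki hki' hki hki'
  · -- short, k = i
    subst hki
    have hab : IsRoot (Sum.inl k : J n) (Sum.inl ⟨k.val + 1, hi⟩) := isRoot_succ rfl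
    have hne : (⟨k.val + 1, hi⟩ : Fin n) ≠ k := fun hh => by
      have := congrArg Fin.val hh
      simp at this
    unfold tX
    rw [map_mul, pi_wX h hab hτ, pi_wX h hab hm1, MODELW.mws_mul hab]
    simp [Matrix.add_apply, Matrix.smul_apply, Matrix.single_apply, Matrix.one_apply, ng, hne]
  · -- short, k = i + 1
    have hab : IsRoot (Sum.inl i : J n) (Sum.inl ⟨i.val + 1, hi⟩) := isRoot_succ rfl
    have hk : k = ⟨i.val + 1, hi⟩ := Fin.ext hki'
    have hne : i ≠ k := fun hh => hki hh.symm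
    unfold tX
    rw [map_mul, pi_wX h hab hτ, pi_wX h hab hm1, MODELW.mws_mul hab]
    simp [Matrix.add_apply, Matrix.smul_apply, Matrix.single_apply, Matrix.one_apply, ng, hne, ← hk]
  · -- short, other
    have hab : IsRoot (Sum.inl i : J n) (Sum.inl ⟨i.val + 1, hi⟩) := isRoot_succ rfl
    have hne : i ≠ k := fun hh => hki hh.symm
    have hne' : (⟨i.val + 1, hi⟩ : Fin n) ≠ k := fun hh => hki' (by rw [← hh])
    unfold tX
    rw [map_mul, pi_wX h hab hτ, pi_wX h hab hm1, MODELW.mws_mul hab]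
    simp [Matrix.add_apply, Matrix.smul_apply, Matrix.single_apply, Matrix.one_apply, ng, hne, hne']
  · -- long, k = i
    subst hki
    unfold tY
    rw [map_mul, pi_wY h _ hτ, pi_wY h _ hm1, MODELW.mwl_mul]
    simp [Matrix.add_apply, Matrix.smul_apply, Matrix.single_apply, Matrix.one_apply, ng]
  · -- impossible
    exfalso
    have := k.isLt
    omega
  · -- long, other
    have hne : i ≠ k := fun hh => hki hh.symm
    unfold tY
    rw [map_mul, pi_wY h _ hτ, pi_wY h _ hm1, MODELW.mwl_mul]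
    simp [Matrix.add_apply, Matrix.smul_apply, Matrix.single_apply, Matrix.one_apply, ng, hne]

theorem Phi_mem [Fintype F] (hn : 2 ≤ n) (h : PHyp Ys Yl π) (d : Fin n → Fˣ) :
    Phi hn h d ∈ (datumC Ys Yl).T := by
  rw [← Phi_range hn h]
  exact ⟨d, rfl⟩

/-- the diagonal entry at `e_k` of a torus element in terms of its parameters -/
theorem entry_Phi [Fintype F] (hn : 2 ≤ n) (h : PHyp Ys Yl π) (d : Fin n → Fˣ) (k : Fin n) :
    π (Phi hn h d) (Sum.inl k) (Sum.inl k) =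
      ∏ i : Fin n, (if k = i then ((d i : Fˣ) : F) else if k.val = i.val + 1 then ((d i : Fˣ) : F)⁻¹
        else 1) := by
  classical
  set θ : (Fin n → Fˣ) →* F := (chi h k).comp ((Phi hn h).codRestrict _ (Phi_mem hn h)) with hθ
  have e1 : π (Phi hn h d) (Sum.inl k) (Sum.inl k) = θ d := rfl
  rw [e1]
  conv_lhs => rw [← Finset.univ_prod_mulSingle d]
  rw [map_prod]
  refine Finset.prod_congr rfl fun i _ => ?_
  have e2 : θ (Pi.mulSingle i (d i)) = π (Phi hn h (Pi.mulSingle i (d i))) (Sum.inl k) (Sum.inl k) :=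
    rfl
  rw [e2]
  unfold Phi
  rw [MonoidHom.noncommPiCoprod_mulSingle, hh_apply]
  exact pi_hfun_entry h i k (d i).ne_zero

end TORINJ

/-- TORINJ -/
theorem eq_one_of_mem_T [Fintype F] (hn : 2 ≤ n) (h : PHyp Ys Yl π) {t : M}
    (ht : t ∈ (datumC Ys Yl).T) (h1 : π t = 1) : t = 1 := by
  classical
  rw [← TORINJ.Phi_range hn h] at ht
  obtain ⟨d, rfl⟩ := ht
  have hd : ∀ m : ℕ, ∀ k : Fin n, k.val = m → d k = 1 := by
    intro m
    induction m using Nat.strong_induction_on with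
    | _ m ih =>
      intro k hk
      have hent := TORINJ.entry_Phi hn h d k
      rw [h1, Matrix.one_apply_eq, Finset.prod_eq_single k] at hent
      · rw [if_pos rfl] at hent
        exact Units.ext hent.symm
      · intro i _ hik
        rw [if_neg (fun hh => hik hh.symm)]
        split_ifs with hki
        · have : d i = 1 := ih i.val (by omega) i rfl
          rw [this]
          simp
        · rfl
      · intro hk'
        exact absurd (Finset.mem_univ k) hk'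
  have hd1 : d = 1 := funext fun k => hd k.val k rfl
  rw [hd1, map_one]

end Cfsg.Agent.S2092P
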