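import Mathlib

set_option autoImplicit false

/-! Explicit permutations of `Fin 7` and two kernel-checked finite verifications used to identify
a simple group of order 168 with a fixed subgroup of `Perm (Fin 7)`. -/

namespace Cfsg.Agent.Helper3.P168

open Equiv

/-- `x ↦ x + 1` -/
def c7 : Perm (Fin 7) := ⟨fun x => x + 1, fun x => x + 6, by decide, by decide⟩
/-- `x ↦ 2 x` -/
def d7 : Perm (Fin 7) := ⟨fun x => 2 * x, fun x => 4 * x, by decide, by decide⟩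
/-- the involution `(2 4)(5 6)` -/
def t7 : Perm (Fin 7) := ⟨![0, 1, 4, 3, 2, 6, 5], ![0, 1, 4, 3, 2, 6, 5], by decide, by decide⟩
/-- `x ↦ -x` -/
def n7 : Perm (Fin 7) := ⟨fun x => 6 * x, fun x => 6 * x, by decide, by decide⟩

set_option maxRecDepth 100000 in
theorem dec_beta : ∀ β : Perm (Fin 7), β * β * β = 1 → β ≠ 1 →
    (∃ k : Fin 7, β * c7 = c7 ^ (k : ℕ) * β) →
    ∃ j : Fin 7, (c7 ^ (j : ℕ) * β * (c7 ^ (j : ℕ))⁻¹ = d7 ∨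
      c7 ^ (j : ℕ) * β⁻¹ * (c7 ^ (j : ℕ))⁻¹ = d7) := by
  decide +kernel

set_option maxRecDepth 100000 in
theorem dec_tau : ∀ τ : Perm (Fin 7), τ * τ = 1 → τ ≠ 1 → τ * d7 = d7⁻¹ * τ →
    Perm.sign τ = 1 →
    ((τ * c7) ^ 5 = 1 ∧ τ * c7 ≠ 1) ∨ ((c7 * c7 * τ) ^ 5 = 1 ∧ c7 * c7 * τ ≠ 1) ∨
    ((τ * c7 * (τ * c7 * c7)) ^ 5 = 1 ∧ τ * c7 * (τ * c7 * c7) ≠ 1) ∨
    (∃ i : Fin 3, τ = d7 ^ (i : ℕ) * t7 * (d7 ^ (i : ℕ))⁻¹) ∨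
    (∃ i : Fin 3, τ = n7 * (d7 ^ (i : ℕ) * t7 * (d7 ^ (i : ℕ))⁻¹) * n7⁻¹) := by
  decide +kernel

theorem n7_c7 : n7⁻¹ * c7 * n7 = c7⁻¹ := by decide
theorem n7_d7 : n7⁻¹ * d7 * n7 = d7 := by decide
theorem c7_pow : c7 ^ 7 = 1 := by decide
theorem c7_ne : c7 ≠ 1 := by decide
theorem d7_pow : d7 ^ 3 = 1 := by decide

end Cfsg.Agent.Helper3.P168
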