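import Mathlib
import Cfsg.Agent.Helper3.P168Dec
import Cfsg.Agent.Helper11.Order168f

set_option autoImplicit false
set_option linter.style.haveILetI false
set_option linter.unusedSectionVars false

/-! A simple group of order 168 is isomorphic to a fixed subgroup `H0` of `Perm (Fin 7)`. -/

namespace Cfsg.Agent.Helper3.P168

open Equiv Subgroup
open Cfsg.Agent.Helper11

/-- The model group. -/
def H0 : Subgroup (Perm (Fin 7)) := closure {c7, d7, t7}

theorem d7_ne : d7 ≠ 1 := by decide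
theorem t7_sq : t7 * t7 = 1 := by decide
theorem t7_ne : t7 ≠ 1 := by decide

theorem orderOf_c7 : orderOf c7 = 7 := by
  haveI : Fact (Nat.Prime 7) := ⟨by norm_num⟩
  exact orderOf_eq_prime c7_pow c7_ne

theorem orderOf_d7 : orderOf d7 = 3 := by
  haveI : Fact (Nat.Prime 3) := ⟨by norm_num⟩
  exact orderOf_eq_prime d7_pow d7_ne

theorem orderOf_t7 : orderOf t7 = 2 := by
  haveI : Fact (Nat.Prime 2) := ⟨by norm_num⟩
  exact orderOf_eq_prime (by rw [pow_two]; exact t7_sq) t7_ne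

theorem cycleType_of_orderOf_seven (σ : Perm (Fin 7)) (h : orderOf σ = 7) : σ.cycleType = {7} := by
  have hc : σ.IsCycle := Perm.isCycle_of_prime_order'' (by rw [Fintype.card_fin]; norm_num)
    (by rw [Fintype.card_fin]; exact h)
  rw [hc.cycleType, ← hc.orderOf, h]

variable {G : Type*} [Group G] [Finite G] [IsSimpleGroup G]

/-- Step 0: a faithful permutation representation of degree 7. -/
theorem exists_perm_rep (h : Nat.card G = 168) :
    ∃ ρ : G →* Perm (Fin 7), Function.Injective ρ := by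
  haveI : Fact (Nat.Prime 2) := ⟨Nat.prime_two⟩
  obtain ⟨T⟩ : Nonempty (Sylow 2 G) := inferInstance
  obtain ⟨U, -, hU⟩ := O168.exists_klein_le h T
  haveI := hU
  set M := normalizer (U : Set G) with hMdef
  have hM : Nat.card M = 24 := O168.card_normalizer_klein h U
  have hidx : M.index = 7 := by
    have := M.card_mul_index
    rw [hM, h] at this
    omega
  let φ : G →* Perm (G ⧸ M) := MulAction.toPermHom G (G ⧸ M)
  have hker : φ.ker = ⊥ := by
    rcases (φ.normal_ker).eq_bot_or_eq_top with h1 | h1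
    · exact h1
    · exfalso
      have h2 : φ.ker ≤ M := by
        rw [← Subgroup.normalCore_eq_ker]; exact normalCore_le M
      rw [h1] at h2
      have h3 : M = ⊤ := top_le_iff.mp h2
      rw [h3, index_top] at hidx
      omega
  have hcard : Nat.card (G ⧸ M) = 7 := hidx
  let e : (G ⧸ M) ≃ Fin 7 := Finite.equivFinOfCardEq hcard
  refine ⟨(e.permCongrHom.toMonoidHom).comp φ, ?_⟩
  intro x y hxy
  have h1 : φ x = φ y := e.permCongrHom.injective hxy
  exact (MonoidHom.ker_eq_bot_iff φ).mp hker h1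

theorem rep_sign (h : Nat.card G = 168) (ρ : G →* Perm (Fin 7)) (g : G) :
    Perm.sign (ρ g) = 1 := by
  let ψ : G →* ℤˣ := Perm.sign.comp ρ
  rcases (ψ.normal_ker).eq_bot_or_eq_top with h1 | h1
  · exfalso
    have hinj : Function.Injective ψ := (MonoidHom.ker_eq_bot_iff ψ).mp h1
    have := Nat.card_le_card_of_injective ψ hinj
    rw [h, Nat.card_eq_fintype_card, Fintype.card_units_int] at this
    omega
  · have : g ∈ ψ.ker := by rw [h1]; exact mem_top g
    exact this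

/-- Step 1: arrange that the 7-cycle `c7` is in the image. -/
theorem exists_rep_c7 (h : Nat.card G = 168) :
    ∃ (ρ : G →* Perm (Fin 7)) (a : G), Function.Injective ρ ∧ ρ a = c7 := by
  haveI : Fact (Nat.Prime 7) := ⟨by norm_num⟩
  obtain ⟨ρ, hρ⟩ := exists_perm_rep h
  obtain ⟨a, ha⟩ := exists_prime_orderOf_dvd_card' (G := G) 7 (by rw [h]; norm_num)
  have h1 : orderOf (ρ a) = 7 := by rw [orderOf_injective ρ hρ a, ha]
  have h2 : IsConj (ρ a) c7 := by
    rw [Perm.isConj_iff_cycleType_eq, cycleType_of_orderOf_seven _ h1,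
      cycleType_of_orderOf_seven _ orderOf_c7]
  obtain ⟨σ, hσ⟩ := isConj_iff.mp h2
  refine ⟨(MulAut.conj σ).toMonoidHom.comp ρ, a, ?_, ?_⟩
  · intro x y hxy
    exact hρ ((MulAut.conj σ).injective hxy)
  · show σ * ρ a * σ⁻¹ = c7
    exact hσ

theorem exists_pow_lt_of_mem_zpowers {H : Type*} [Group H] {a g : H} {n : ℕ} (hn : 0 < n)
    (ha : orderOf a = n) (hg : g ∈ zpowers a) : ∃ k : Fin n, g = a ^ (k : ℕ) := by
  obtain ⟨k, rfl⟩ := mem_zpowers_iff.mp hg
  have hn0 : (n : ℤ) ≠ 0 := by exact_mod_cast hn.ne'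
  have hnpos : (0 : ℤ) < n := by exact_mod_cast hn
  have h0 : 0 ≤ k % (n : ℤ) := Int.emod_nonneg k hn0
  have hlt : k % (n : ℤ) < n := Int.emod_lt_of_pos k hnpos
  refine ⟨⟨(k % (n : ℤ)).toNat, by omega⟩, ?_⟩
  show a ^ k = a ^ (k % (n : ℤ)).toNat
  rw [← zpow_natCast, Int.toNat_of_nonneg h0, ← ha, zpow_mod_orderOf]

/-- Step 2: arrange that `d7` is in the image as well. -/
theorem exists_rep_d7 (h : Nat.card G = 168) :
    ∃ (ρ : G →* Perm (Fin 7)) (a b : G), Function.Injective ρ ∧ ρ a = c7 ∧ ρ b = d7 := by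
  haveI : Fact (Nat.Prime 7) := ⟨by norm_num⟩
  haveI : Fact (Nat.Prime 3) := ⟨by norm_num⟩
  obtain ⟨ρ, a, hρ, ha⟩ := exists_rep_c7 h
  have hoa : orderOf a = 7 := by rw [← orderOf_injective ρ hρ a, ha, orderOf_c7]
  -- the Sylow 7-subgroup `⟨a⟩`
  have hpg : IsPGroup 7 ↥(zpowers a) := IsPGroup.of_card (n := 1) (by
    rw [Nat.card_zpowers, hoa, pow_one])
  obtain ⟨P, hP⟩ := hpg.exists_le_sylow
  have hPeq : zpowers a = (P : Subgroup G) := by
    apply Subgroup.eq_of_le_of_card_ge hP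
    rw [O168.card_sylow7 h P, Nat.card_zpowers, hoa]
  have hN : Nat.card ↥(normalizer ((zpowers a : Subgroup G) : Set G)) = 21 := by
    rw [hPeq]; exact O168.card_normalizer7 h P
  obtain ⟨b₀, hb₀⟩ := exists_prime_orderOf_dvd_card'
    (G := ↥(normalizer ((zpowers a : Subgroup G) : Set G))) 3 (by rw [hN]; norm_num)
  have hb₀' : orderOf (b₀ : G) = 3 := by rw [Subgroup.orderOf_coe, hb₀]
  have hmem : (b₀ : G) * a * (b₀ : G)⁻¹ ∈ zpowers a :=
    (mem_normalizer_iff.mp b₀.2 a).mp (mem_zpowers a)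
  obtain ⟨k, hk⟩ := exists_pow_lt_of_mem_zpowers (by norm_num) hoa hmem
  set β : Perm (Fin 7) := ρ (b₀ : G) with hβ
  have hβ3 : β * β * β = 1 := by
    rw [hβ, ← map_mul, ← map_mul, ← pow_three', ← hb₀', pow_orderOf_eq_one, map_one]
  have hβ1 : β ≠ 1 := by
    intro h1
    have : (b₀ : G) = 1 := hρ (by rw [← hβ, h1, map_one])
    rw [this, orderOf_one] at hb₀'
    omega
  have hβc : ∃ k : Fin 7, β * c7 = c7 ^ (k : ℕ) * β := by
    refine ⟨k, ?_⟩
    have h1 : (b₀ : G) * a = a ^ (k : ℕ) * (b₀ : G) := by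
      rw [← hk]; group
    have h2 := congrArg ρ h1
    rwa [map_mul, map_mul, map_pow, ha] at h2
  obtain ⟨j, hj | hj⟩ := dec_beta β hβ3 hβ1 hβc
  · refine ⟨ρ, a, a ^ (j : ℕ) * (b₀ : G) * (a ^ (j : ℕ))⁻¹, hρ, ha, ?_⟩
    rw [map_mul, map_mul, map_inv, map_pow, ha]
    exact hj
  · refine ⟨ρ, a, a ^ (j : ℕ) * (b₀ : G)⁻¹ * (a ^ (j : ℕ))⁻¹, hρ, ha, ?_⟩
    rw [map_mul, map_mul, map_inv, map_inv, map_pow, ha]
    exact hj

theorem orderOf_ne_five (h : Nat.card G = 168) (ρ : G →* Perm (Fin 7)) (hρ : Function.Injective ρ)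
    (w : G) (h5 : (ρ w) ^ 5 = 1) (h1 : ρ w ≠ 1) : False := by
  haveI : Fact (Nat.Prime 5) := ⟨by norm_num⟩
  have h2 : orderOf (ρ w) = 5 := orderOf_eq_prime h5 h1
  rw [orderOf_injective ρ hρ w] at h2
  rcases O168.orderOf_mem h w with h3 | h3 | h3 | h3 | h3 <;> omega

/-- Step 3: arrange that `t7` is in the image as well. -/
theorem exists_rep_t7 (h : Nat.card G = 168) :
    ∃ (ρ : G →* Perm (Fin 7)) (a b t : G), Function.Injective ρ ∧ ρ a = c7 ∧ ρ b = d7 ∧
      ρ t = t7 := by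
  haveI : Fact (Nat.Prime 2) := ⟨by norm_num⟩
  haveI : Fact (Nat.Prime 3) := ⟨by norm_num⟩
  obtain ⟨ρ, a, b, hρ, ha, hb⟩ := exists_rep_d7 h
  have hob : orderOf b = 3 := by rw [← orderOf_injective ρ hρ b, hb, orderOf_d7]
  have hpg : IsPGroup 3 ↥(zpowers b) := IsPGroup.of_card (n := 1) (by
    rw [Nat.card_zpowers, hob, pow_one])
  obtain ⟨P, hP⟩ := hpg.exists_le_sylow
  have hPeq : zpowers b = (P : Subgroup G) := by
    apply Subgroup.eq_of_le_of_card_ge hP
    rw [O168.card_sylow3 h P, Nat.card_zpowers, hob]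
  have hN : Nat.card ↥(normalizer ((zpowers b : Subgroup G) : Set G)) = 6 := by
    rw [hPeq]; exact O168.card_normalizer3 h P
  obtain ⟨t₀, ht₀⟩ := exists_prime_orderOf_dvd_card'
    (G := ↥(normalizer ((zpowers b : Subgroup G) : Set G))) 2 (by rw [hN]; norm_num)
  have ht₀' : orderOf (t₀ : G) = 2 := by rw [Subgroup.orderOf_coe, ht₀]
  have hmem : (t₀ : G) * b * (t₀ : G)⁻¹ ∈ zpowers b :=
    (mem_normalizer_iff.mp t₀.2 b).mp (mem_zpowers b)
  obtain ⟨k, hk⟩ := exists_pow_lt_of_mem_zpowers (by norm_num) hob hmem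
  -- `t₀` inverts `b`
  have hinv : (t₀ : G) * b = b⁻¹ * (t₀ : G) := by
    have hb3 : b ^ 3 = 1 := by rw [← hob]; exact pow_orderOf_eq_one b
    have hk3 : (k : ℕ) = 0 ∨ (k : ℕ) = 1 ∨ (k : ℕ) = 2 := by have := k.2; omega
    rcases hk3 with h0 | h0 | h0
    · exfalso
      rw [h0, pow_zero] at hk
      have : b = 1 := by
        have e1 : b = (t₀ : G)⁻¹ * ((t₀ : G) * b * (t₀ : G)⁻¹) * (t₀ : G) := by group
        rw [e1, hk]; group
      rw [this, orderOf_one] at hob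
      omega
    · exfalso
      rw [h0, pow_one] at hk
      have hcomm : Commute (t₀ : G) b := by
        show (t₀ : G) * b = b * (t₀ : G)
        calc (t₀ : G) * b = ((t₀ : G) * b * (t₀ : G)⁻¹) * (t₀ : G) := by group
          _ = b * (t₀ : G) := by rw [hk]
      have h6 : orderOf ((t₀ : G) * b) = 6 := by
        rw [hcomm.orderOf_mul_eq_mul_orderOf_of_coprime (by rw [ht₀', hob]; norm_num), ht₀', hob]
      rcases O168.orderOf_mem h ((t₀ : G) * b) with h3 | h3 | h3 | h3 | h3 <;> omega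
    · rw [h0] at hk
      have e1 : b ^ 2 = b⁻¹ := by
        have : b ^ 2 * b = 1 := by rw [← pow_succ]; exact hb3
        exact eq_inv_of_mul_eq_one_left this
      calc (t₀ : G) * b = ((t₀ : G) * b * (t₀ : G)⁻¹) * (t₀ : G) := by group
        _ = b⁻¹ * (t₀ : G) := by rw [hk, e1]
  set τ : Perm (Fin 7) := ρ (t₀ : G) with hτ
  have hτ2 : τ * τ = 1 := by
    rw [hτ, ← map_mul, ← pow_two, ← ht₀', pow_orderOf_eq_one, map_one]
  have hτ1 : τ ≠ 1 := by
    intro h1
    have : (t₀ : G) = 1 := hρ (by rw [← hτ, h1, map_one])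
    rw [this, orderOf_one] at ht₀'
    omega
  have hτd : τ * d7 = d7⁻¹ * τ := by
    have := congrArg ρ hinv
    rwa [map_mul, map_mul, map_inv, hb] at this
  have hsign : Perm.sign τ = 1 := rep_sign h ρ _
  rcases dec_tau τ hτ2 hτ1 hτd hsign with h1 | h1 | h1 | h1 | h1
  · exfalso
    refine orderOf_ne_five h ρ hρ ((t₀ : G) * a) ?_ ?_
    · rw [map_mul, ha]; exact h1.1
    · rw [map_mul, ha]; exact h1.2
  · exfalso
    refine orderOf_ne_five h ρ hρ (a * a * (t₀ : G)) ?_ ?_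
    · rw [map_mul, map_mul, ha]; exact h1.1
    · rw [map_mul, map_mul, ha]; exact h1.2
  · exfalso
    refine orderOf_ne_five h ρ hρ ((t₀ : G) * a * ((t₀ : G) * a * a)) ?_ ?_
    · simp only [map_mul, ha]; exact h1.1
    · simp only [map_mul, ha]; exact h1.2
  · obtain ⟨i, hi⟩ := h1
    refine ⟨ρ, a, b, (b ^ (i : ℕ))⁻¹ * (t₀ : G) * b ^ (i : ℕ), hρ, ha, hb, ?_⟩
    rw [map_mul, map_mul, map_inv, map_pow, hb, ← hτ, hi]
    group
  · obtain ⟨i, hi⟩ := h1
    set ρ' : G →* Perm (Fin 7) := (MulAut.conj n7⁻¹).toMonoidHom.comp ρ with hρ'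
    have hρ'x : ∀ x : G, ρ' x = n7⁻¹ * ρ x * n7 := by
      intro x
      show n7⁻¹ * ρ x * n7⁻¹⁻¹ = _
      rw [inv_inv]
    have hρ'b : ρ' b = d7 := by rw [hρ'x, hb]; exact n7_d7
    have hρ't : ρ' (t₀ : G) = d7 ^ (i : ℕ) * t7 * (d7 ^ (i : ℕ))⁻¹ := by
      rw [hρ'x, ← hτ, hi]; group
    refine ⟨ρ', a⁻¹, b, (b ^ (i : ℕ))⁻¹ * (t₀ : G) * b ^ (i : ℕ), ?_, ?_, hρ'b, ?_⟩
    · intro x y hxy
      exact hρ ((MulAut.conj n7⁻¹).injective hxy)
    · rw [hρ'x, map_inv, ha]
      have e2 : n7⁻¹ * c7⁻¹ * n7 = (n7⁻¹ * c7 * n7)⁻¹ := by group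
      rw [e2, n7_c7, inv_inv]
    · rw [map_mul, map_mul, map_inv, map_pow, hρ'b, hρ't]
      group

/-- Step 4: the image is `H0`. -/
theorem nonempty_mulEquiv_H0 (h : Nat.card G = 168) : Nonempty (G ≃* ↥H0) := by
  obtain ⟨ρ, a, b, t, hρ, ha, hb, ht⟩ := exists_rep_t7 h
  have hle : H0 ≤ ρ.range := by
    rw [H0, closure_le]
    rintro x (rfl | rfl | rfl)
    · exact ⟨a, ha⟩
    · exact ⟨b, hb⟩
    · exact ⟨t, ht⟩
  set K : Subgroup G := H0.comap ρ with hK
  have haK : a ∈ K := by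
    rw [hK, mem_comap, ha]; exact subset_closure (by simp)
  have hbK : b ∈ K := by
    rw [hK, mem_comap, hb]; exact subset_closure (by simp)
  have htK : t ∈ K := by
    rw [hK, mem_comap, ht]; exact subset_closure (by simp)
  have hoa : orderOf a = 7 := by rw [← orderOf_injective ρ hρ a, ha, orderOf_c7]
  have hob : orderOf b = 3 := by rw [← orderOf_injective ρ hρ b, hb, orderOf_d7]
  have hot : orderOf t = 2 := by rw [← orderOf_injective ρ hρ t, ht, orderOf_t7]
  have h7 : 7 ∣ Nat.card K := by rw [← hoa]; exact K.orderOf_dvd_natCard haK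
  have h3 : 3 ∣ Nat.card K := by rw [← hob]; exact K.orderOf_dvd_natCard hbK
  have h2 : 2 ∣ Nat.card K := by rw [← hot]; exact K.orderOf_dvd_natCard htK
  have hKtop : K = ⊤ := by
    by_contra hne
    have hle24 := O168.card_le_of_ne_top h K hne
    have hpos : 0 < Nat.card K := Nat.card_pos
    omega
  have hrange : ρ.range = H0 := by
    apply le_antisymm _ hle
    rintro _ ⟨g, rfl⟩
    have : g ∈ K := by rw [hKtop]; exact mem_top g
    exact this
  exact ⟨(MonoidHom.ofInjective hρ).trans (MulEquiv.subgroupCongr hrange)⟩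

end Cfsg.Agent.Helper3.P168
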