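import Mathlib
import Cfsg.Agent.Helper2.S2096.Defs
import Cfsg.Agent.Helper20.S2096HALFSL
import Cfsg.Agent.Helper6.PSLMMAT

set_option autoImplicit false
set_option linter.unusedSectionVars false
set_option linter.unusedVariables false

/-! S2096/S2097 part A, piece HALFSTD: the Steinberg datum of type `A_{n-1}` of a half. -/

namespace Cfsg.Agent.S2096P

open Cfsg.Agent.S3352P Cfsg.Agent.S3351P Cfsg.Agent.S2086P
open scoped commutatorElement

variable {n : ℕ} {F : Type*} [Field F] [Fintype F] {G : Type*} [Group G] {E : Type*} [Group E]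
  {X : J n → J n → F → G}

/-- HALFSTD -/
theorem exists_half_stD (hn : 3 ≤ n) (hX : DRel X) (B : Finset (Fin n)) :
    ∃ S : StD n F G, ∀ (a : Root n) (t : F), S.T a t = X (half B a.1.1) (half B a.1.2) t := by
  obtain ⟨Θ, hΘ⟩ := exists_half_sl hn hX B
  obtain ⟨S', hS'⟩ := exists_slD n F
  have hT : ∀ (a : Root n) (t : F), S'.T a t = Matrix.SpecialLinearGroup.transvection a.2 t := by
    intro a t
    apply Subtype.ext
    rw [hS' a t]
    rfl
  refine ⟨{ T := fun a t => Θ (S'.T a t)
            D := fun h => Θ (S'.D h)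
            add := ?_
            comm := ?_
            chev := ?_
            conj := ?_
            dcomm := ?_ }, ?_⟩
  · intro a t u
    rw [← map_mul, S'.add]
  · intro a b t u h1 h2
    exact (S'.comm a b t u h1 h2).map Θ
  · intro a b h t u hab
    rw [← map_commutatorElement, S'.chev a b h t u hab]
  · intro h a t
    rw [← map_inv, ← map_mul, ← map_mul, S'.conj]
  · intro h h'
    exact (S'.dcomm h h').map Θ
  · intro a t
    show Θ (S'.T a t) = _
    rw [hT a t, hΘ a.1.1 a.1.2 a.2 t]

end Cfsg.Agent.S2096P
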