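import Mathlib
import Cfsg.Agent.Helper2.S2400.Defs
import Cfsg.Agent.Helper2.Stein.Tab
import Cfsg.Prelude.Def_KGroupFacts
import Cfsg.Prelude.Def_Steinberg

set_option autoImplicit false
set_option linter.unusedSectionVars false
set_option linter.unusedVariables false

/-! S2400, piece LLODD: in characteristic not 2 the lifts of two long root subgroups at angle
`90°` commute (given that lifts inside one root subgroup, and of adjacent root subgroups,
commute). -/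

namespace Cfsg.Agent.S2400P

open scoped commutatorElement
open Cfsg.Lie Cfsg.Agent.Helper2.Stb Cfsg.Agent.Helper2.StPerf Cfsg.Agent.Helper2.Stein
open Cfsg.Agent.S2086P (CL cl map_cl cl_eq commute_comm CL_of_comm)

universe u

variable {K : Type*} [Field K] {G : Type*} [Group G] {E : Type*} [Group E]

namespace LLODD

theorem isS_sub_one (l : ZMod 8) (hl : IsL l) : IsS (l - 1) := by
  revert l; decide

theorem e3_ne_zero (S : B2C K G) (k s : ZMod 8) : S.e3 k s ≠ 0 := by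
  intro h
  have := S.e3_sq k s
  rw [h, mul_zero] at this
  exact zero_ne_one this

/-- `relII` around the long root `l` -/
theorem relII_mid (S : B2C K G) (l : ZMod 8) (hl : IsL l) (t u : K) :
    ⁅S.X (l - 1) t, S.X (l + 1) u⁆ = S.X l (2 * S.e3 (l - 1) 1 * t * u) := by
  have h := S.circ.relII (l - 1) (isS_sub_one l hl) 1 (Or.inl rfl) t u
  have e1 : l - 1 + 2 * 1 = l + 1 := by ring
  have e2 : l - 1 + 1 = l := by ring
  rw [e1, e2] at h
  exact h

/-- `relI` from the short root `l - 1` to the long root `l + 2` -/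
theorem relI_mid (S : B2C K G) (l : ZMod 8) (hl : IsL l) (t u : K) :
    ⁅S.X (l - 1) t, S.X (l + 2) u⁆ =
      S.X (l + 1) (S.e1 (l - 1) 1 * t * u) * S.X l (S.e2 (l - 1) 1 * t ^ 2 * u) := by
  have h := S.circ.relI (l - 1) (isS_sub_one l hl) 1 (Or.inl rfl) t u
  have e1 : l - 1 + 3 * 1 = l + 2 := by ring
  have e2 : l - 1 + 2 * 1 = l + 1 := by ring
  have e3 : l - 1 + 1 = l := by ring
  rw [e1, e2, e3] at h
  exact h

/-- lifts of a product commute with the lifts of `h` if those of the factors do -/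
theorem CL_mul_left (ψ : E →* G) (hψ : Function.Surjective ψ) {g1 g2 h : G}
    (h1 : CL ψ g1 h) (h2 : CL ψ g2 h) : CL ψ (g1 * g2) h := by
  intro e e' he he'
  obtain ⟨a, ha⟩ := hψ g1
  have hb : ψ (a⁻¹ * e) = g2 := by rw [map_mul, map_inv, ha, he]; group
  have : e = a * (a⁻¹ * e) := by group
  rw [this]
  exact (h1 a e' ha he').mul_left (h2 _ e' hb he')

end LLODD

open LLODD

theorem clr_LL_of_odd (S : B2C K G) (ψ : E →* G) (hψ : Function.Surjective ψ)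
    (hc : ψ.ker ≤ Subgroup.center E) (h2 : (2 : K) ≠ 0) (hsame : ∀ k, CLr S ψ k k)
    (h45 : ∀ k, CLr S ψ k (k + 1)) (l : ZMod 8) (hl : IsL l) : CLr S ψ l (l + 2) := by
  intro w v e e' he he'
  obtain ⟨xp, hxp⟩ := hψ (S.X (l - 1) 1)
  obtain ⟨xq, hxq⟩ := hψ (S.X (l + 1) (w / (2 * S.e3 (l - 1) 1)))
  have h3 := e3_ne_zero S (l - 1) 1
  -- `y` is a lift of `X l w`
  have hy : ψ ⁅xp, xq⁆ = S.X l w := by
    rw [map_commutatorElement, hxp, hxq, relII_mid S l hl]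
    congr 1
    field_simp
  -- `C` is a lift of a product of elements of the root subgroups `l + 1` and `l`
  have hC : ψ ⁅xp, e'⁆ = S.X (l + 1) (S.e1 (l - 1) 1 * 1 * v) *
      S.X l (S.e2 (l - 1) 1 * 1 ^ 2 * v) := by
    rw [map_commutatorElement, hxp, he', relI_mid S l hl]
  have hCq : Commute ⁅xp, e'⁆ xq :=
    CL_mul_left ψ hψ (hsame (l + 1) _ _) (h45 l _ _) _ _ hC hxq
  have hCy : Commute ⁅xp, e'⁆ ⁅xp, xq⁆ :=
    CL_mul_left ψ hψ ((h45 l).symm _ _) (hsame l _ _) _ _ hC hy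
  have hgq : Commute xq e' := by
    have h := h45 (l + 1) (w / (2 * S.e3 (l - 1) 1)) v
    have e1 : l + 1 + 1 = l + 2 := by ring
    rw [e1] at h
    exact h xq e' hxq he'
  -- conjugation by `e'` fixes `y`
  have hA : e' * xp * e'⁻¹ = ⁅xp, e'⁆⁻¹ * xp := by
    simp only [commutatorElement_def]; group
  have hB : e' * xq * e'⁻¹ = xq := by
    rw [← hgq.eq, mul_inv_cancel_right]
  have hconj : e' * ⁅xp, xq⁆ * e'⁻¹ = ⁅e' * xp * e'⁻¹, e' * xq * e'⁻¹⁆ := by
    simp only [commutatorElement_def]; group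
  rw [hA, hB] at hconj
  have h2' : ⁅xp, e'⁆ * xq⁻¹ = xq⁻¹ * ⁅xp, e'⁆ := hCq.inv_right.eq
  have hD : ⁅⁅xp, e'⁆⁻¹ * xp, xq⁆ = ⁅xp, e'⁆⁻¹ * ⁅xp, xq⁆ * ⁅xp, e'⁆ := by
    generalize ⁅xp, e'⁆ = C at h2' ⊢
    calc ⁅C⁻¹ * xp, xq⁆ = C⁻¹ * xp * xq * xp⁻¹ * (C * xq⁻¹) := by
          simp only [commutatorElement_def]; group
      _ = C⁻¹ * xp * xq * xp⁻¹ * (xq⁻¹ * C) := by rw [h2']
      _ = C⁻¹ * ⁅xp, xq⁆ * C := by simp only [commutatorElement_def]; group
  have hE : ⁅xp, e'⁆⁻¹ * ⁅xp, xq⁆ * ⁅xp, e'⁆ = ⁅xp, xq⁆ := by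
    rw [mul_assoc, ← hCy.eq, inv_mul_cancel_left]
  rw [hD, hE] at hconj
  have hye : Commute ⁅xp, xq⁆ e' := by
    show ⁅xp, xq⁆ * e' = e' * ⁅xp, xq⁆
    calc ⁅xp, xq⁆ * e' = (e' * ⁅xp, xq⁆ * e'⁻¹) * e' := by rw [hconj]
      _ = e' * ⁅xp, xq⁆ := by group
  -- a general lift of `X l w`
  have hz : e * ⁅xp, xq⁆⁻¹ ∈ Subgroup.center E := by
    apply hc
    rw [MonoidHom.mem_ker, map_mul, map_inv, he, hy, mul_inv_cancel]
  have hze : Commute (e * ⁅xp, xq⁆⁻¹) e' := (Subgroup.mem_center_iff.mp hz e').symm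
  have : e = (e * ⁅xp, xq⁆⁻¹) * ⁅xp, xq⁆ := by group
  rw [this]
  exact hze.mul_left hye
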