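import Mathlib
import Cfsg.Agent.Helper2.S2400.Defs
import Cfsg.Agent.Helper2.Stein.Tab
import Cfsg.Prelude.Def_KGroupFacts
import Cfsg.Prelude.Def_Steinberg

set_option autoImplicit false
set_option linter.unusedSectionVars false
set_option linter.unusedVariables false

/-! S2400, piece SECQA: the section `secQ` over a long root subgroup (characteristic not 2) is a
lift and is additive. -/

namespace Cfsg.Agent.S2400P

open scoped commutatorElement
open Cfsg.Lie Cfsg.Agent.Helper2.Stb Cfsg.Agent.Helper2.StPerf Cfsg.Agent.Helper2.Stein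
open Cfsg.Agent.S2086P (CL cl map_cl cl_eq commute_comm CL_of_comm)

universe u

variable {K : Type*} [Field K] {G : Type*} [Group G] {E : Type*} [Group E]

namespace SECQA

theorem isS_sub_one (l : ZMod 8) (hl : IsL l) : IsS (l - 1) := by
  revert l; decide

theorem isS_add_one (l : ZMod 8) (hl : IsL l) : IsS (l + 1) := by
  revert l; decide

theorem e3_ne_zero (S : B2C K G) (k s : ZMod 8) : S.e3 k s ≠ 0 := by
  intro h
  have := S.e3_sq k s
  rw [h, mul_zero] at this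
  exact zero_ne_one this

/-- the commutator of lifts of `X (l-1) t`, `X (l+1) u` is a lift of `X l (2 e3 t u)` -/
theorem map_comm (S : B2C K G) (ψ : E →* G) {Ys : ZMod 8 → K → E}
    (hYs : LiftS S ψ Ys) (l : ZMod 8) (hl : IsL l) (t u : K) :
    ψ ⁅Ys (l - 1) t, Ys (l + 1) u⁆ = S.X l (2 * S.e3 (l - 1) 1 * t * u) := by
  rw [map_commutatorElement, hYs.map _ (isS_sub_one l hl), hYs.map _ (isS_add_one l hl)]
  have h := S.circ.relII (l - 1) (isS_sub_one l hl) 1 (Or.inl rfl) t u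
  have e1 : l - 1 + 2 * 1 = l + 1 := by ring
  have e2 : l - 1 + 1 = l := by ring
  rw [e1, e2] at h
  exact h

end SECQA

open SECQA

theorem map_secQ (S : B2C K G) (ψ : E →* G) (h2 : (2 : K) ≠ 0) {Ys : ZMod 8 → K → E}
    (hYs : LiftS S ψ Ys) (l : ZMod 8) (hl : IsL l) (w : K) : ψ (secQ S Ys l w) = S.X l w := by
  unfold secQ
  rw [map_comm S ψ hYs l hl]
  congr 1
  have h3 := e3_ne_zero S (l - 1) 1
  field_simp

theorem secQ_add (S : B2C K G) (ψ : E →* G) (hψ : Function.Surjective ψ)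
    (hc : ψ.ker ≤ Subgroup.center E) (h2 : (2 : K) ≠ 0) {Ys : ZMod 8 → K → E}
    (hYs : LiftS S ψ Ys) (h45 : ∀ k, CLr S ψ k (k + 1)) (l : ZMod 8) (hl : IsL l) (w w' : K) :
    secQ S Ys l (w + w') = secQ S Ys l w * secQ S Ys l w' := by
  have hs := isS_sub_one l hl
  set c : K := 2 * S.e3 (l - 1) 1 with hcdef
  have key : ∀ a b : K, ⁅Ys (l - 1) (a + b), Ys (l + 1) 1⁆ =
      ⁅Ys (l - 1) b, Ys (l + 1) 1⁆ * ⁅Ys (l - 1) a, Ys (l + 1) 1⁆ := by
    intro a b
    rw [← hYs.add _ hs a b]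
    have e : ⁅Ys (l - 1) a * Ys (l - 1) b, Ys (l + 1) 1⁆ =
        (Ys (l - 1) a * ⁅Ys (l - 1) b, Ys (l + 1) 1⁆ * (Ys (l - 1) a)⁻¹) *
          ⁅Ys (l - 1) a, Ys (l + 1) 1⁆ := by
      simp only [commutatorElement_def]; group
    rw [e]
    have hcm : Commute (Ys (l - 1) a) ⁅Ys (l - 1) b, Ys (l + 1) 1⁆ := by
      have h := h45 (l - 1) a (2 * S.e3 (l - 1) 1 * b * 1) (Ys (l - 1) a)
        ⁅Ys (l - 1) b, Ys (l + 1) 1⁆ (hYs.map _ hs a)
      have e2 : l - 1 + 1 = l := by ring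
      rw [e2] at h
      exact h (map_comm S ψ hYs l hl b 1)
    rw [hcm.eq, mul_inv_cancel_right]
  unfold secQ
  rw [add_comm w w', add_div, key]
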