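import Mathlib
import Cfsg.Agent.Helper2.S2096.Defs
import Cfsg.Agent.Helper23.S3352POSCOMB
import Cfsg.Agent.Helper25.S2096WXID
import Cfsg.Agent.Helper25.S2096WXCONJW

set_option autoImplicit false
set_option linter.unusedSectionVars false
set_option linter.unusedVariables false

/-! S2096/S2097 part B, piece HNORM: `N̂` normalizes `Ĥ`. -/

namespace Cfsg.Agent.S2096P

open Matrix Cfsg.Agent.S3352P Cfsg.Agent.S3351P Cfsg.Agent.S2086P

variable {n : ℕ} {F : Type*} [Field F] [Fintype F] {M : Type*} [Group M] {X : J n → J n → F → M}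

namespace HNORM

/-- a Weyl generator conjugates a torus generator into `Ĥ` -/
theorem gen_conj_gen (π : M →* Matrix (J n) (J n) F)
    (hπ : ∀ a b, IsRoot a b → ∀ t : F, π (X a b t) = xm a b t) (hn : 3 ≤ n) (hX : DRel X)
    {a b : J n} (hab : IsRoot a b) {t : F} (ht : t ≠ 0) {c d : J n} (hcd : IsRoot c d) {u : F}
    (hu : u ≠ 0) : wX X a b t * tX X c d u * (wX X a b t)⁻¹ ∈ Hh X := by
  obtain ⟨η, hη, hconj⟩ := wX_conj_wX π hπ hn hX hab ht hcd
  have hr : IsRoot (sw a b c) (sw a b d) := isRoot_sw hcd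
  have h1 := hconj u hu
  have h2 := hconj (-1) (by norm_num)
  have e : wX X a b t * tX X c d u * (wX X a b t)⁻¹ =
      tX X (sw a b c) (sw a b d) (η * u) * (tX X (sw a b c) (sw a b d) η)⁻¹ := by
    have e1 : wX X a b t * tX X c d u * (wX X a b t)⁻¹ =
        (wX X a b t * wX X c d u * (wX X a b t)⁻¹) *
          (wX X a b t * wX X c d (-1) * (wX X a b t)⁻¹) := by
      unfold tX
      group
    rw [e1, h1, h2]
    unfold tX
    rw [_root_.mul_inv_rev, wX_inv' hX hr η, mul_neg_one]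
    group
  rw [e]
  apply Subgroup.mul_mem
  · exact Subgroup.subset_closure ⟨_, _, _, hr, mul_ne_zero hη hu, rfl⟩
  · apply Subgroup.inv_mem
    exact Subgroup.subset_closure ⟨_, _, _, hr, hη, rfl⟩

/-- a Weyl generator normalizes `Ĥ` -/
theorem gen_conj_mem (π : M →* Matrix (J n) (J n) F)
    (hπ : ∀ a b, IsRoot a b → ∀ t : F, π (X a b t) = xm a b t) (hn : 3 ≤ n) (hX : DRel X)
    {a b : J n} (hab : IsRoot a b) {t : F} (ht : t ≠ 0) {h : M} (hh : h ∈ Hh X) :
    wX X a b t * h * (wX X a b t)⁻¹ ∈ Hh X := by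
  unfold Hh at hh
  induction hh using Subgroup.closure_induction with
  | mem x hx =>
    obtain ⟨c, d, u, hcd, hu, rfl⟩ := hx
    exact gen_conj_gen π hπ hn hX hab ht hcd hu
  | one =>
    rw [mul_one, mul_inv_cancel]
    exact Subgroup.one_mem _
  | mul x y _ _ ihx ihy =>
    have : wX X a b t * (x * y) * (wX X a b t)⁻¹ =
        (wX X a b t * x * (wX X a b t)⁻¹) * (wX X a b t * y * (wX X a b t)⁻¹) := by group
    rw [this]
    exact Subgroup.mul_mem _ ihx ihy
  | inv x _ ihx =>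
    have : wX X a b t * x⁻¹ * (wX X a b t)⁻¹ = (wX X a b t * x * (wX X a b t)⁻¹)⁻¹ := by group
    rw [this]
    exact Subgroup.inv_mem _ ihx

end HNORM

/-- HNORM -/
theorem Hh_conj_mem (π : M →* Matrix (J n) (J n) F)
    (hπ : ∀ a b, IsRoot a b → ∀ t : F, π (X a b t) = xm a b t) (hn : 3 ≤ n) (hX : DRel X) {g h : M} (hg : g ∈ Nh X) (hh : h ∈ Hh X) :
    g * h * g⁻¹ ∈ Hh X := by
  -- the elements `g` with `g Ĥ g⁻¹ ⊆ Ĥ` and `g⁻¹ Ĥ g ⊆ Ĥ`
  have key : ∀ g ∈ Nh X, (∀ h ∈ Hh X, g * h * g⁻¹ ∈ Hh X) ∧ (∀ h ∈ Hh X, g⁻¹ * h * g ∈ Hh X) := by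
    intro g hg
    unfold Nh at hg
    induction hg using Subgroup.closure_induction with
    | mem x hx =>
      obtain ⟨a, b, t, hab, ht, rfl⟩ := hx
      refine ⟨fun h hh => HNORM.gen_conj_mem π hπ hn hX hab ht hh, fun h hh => ?_⟩
      have := HNORM.gen_conj_mem π hπ hn hX hab (neg_ne_zero.mpr ht) hh
      rw [← wX_inv' hX hab t, inv_inv] at this
      exact this
    | one =>
      refine ⟨fun h hh => ?_, fun h hh => ?_⟩
      · rw [one_mul, inv_one, mul_one]; exact hh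
      · rw [inv_one, one_mul, mul_one]; exact hh
    | mul x y _ _ ihx ihy =>
      refine ⟨fun h hh => ?_, fun h hh => ?_⟩
      · have : x * y * h * (x * y)⁻¹ = x * (y * h * y⁻¹) * x⁻¹ := by group
        rw [this]
        exact ihx.1 _ (ihy.1 h hh)
      · have : (x * y)⁻¹ * h * (x * y) = y⁻¹ * (x⁻¹ * h * x) * y := by group
        rw [this]
        exact ihy.2 _ (ihx.2 h hh)
    | inv x _ ihx =>
      refine ⟨fun h hh => ?_, fun h hh => ?_⟩
      · rw [inv_inv]; exact ihx.2 h hh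
      · rw [inv_inv]; exact ihx.1 h hh
  exact (key g hg).1 h hh

end Cfsg.Agent.S2096P
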