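import Cfsg.Agent.Helper3.DihedralLift

set_option autoImplicit false

namespace Cfsg.Agent.Helper3

open DihedralGroup

theorem zmod3_cases : ∀ i : ZMod 3, i = 0 ∨ i = 1 ∨ i = 2 := by decide

/-- the lift `DihedralGroup 3 →* G` attached to two involutions whose product has order dividing 3 -/
noncomputable def s3Lift {G : Type*} [Group G] (d e : G) (hd : d * d = 1) (he : e * e = 1)
    (hde : (d * e) ^ 3 = 1) : DihedralGroup 3 →* G :=
  dihedralLift 3 (d * e) d hde hd (by
    have hdinv : d⁻¹ = d := inv_eq_of_mul_eq_one_left hd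
    have heinv : e⁻¹ = e := inv_eq_of_mul_eq_one_left he
    rw [mul_inv_rev, hdinv, heinv, ← mul_assoc, hd, one_mul])

theorem s3Lift_r {G : Type*} [Group G] (d e : G) (hd : d * d = 1) (he : e * e = 1)
    (hde : (d * e) ^ 3 = 1) (k : ℤ) : s3Lift d e hd he hde (r (k : ZMod 3)) = (d * e) ^ k :=
  dihedralLift_r _ _ _ _ _ _ k

theorem s3Lift_sr {G : Type*} [Group G] (d e : G) (hd : d * d = 1) (he : e * e = 1)
    (hde : (d * e) ^ 3 = 1) (k : ℤ) : s3Lift d e hd he hde (sr (k : ZMod 3)) = d * (d * e) ^ k :=
  dihedralLift_sr _ _ _ _ _ _ k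

theorem s3Lift_injective {G : Type*} [Group G] (d e : G) (hd : d * d = 1) (he : e * e = 1)
    (hde : (d * e) ^ 3 = 1) (hnc : ¬ Commute d e) : Function.Injective (s3Lift d e hd he hde) := by
  have hd1 : d ≠ 1 := by rintro rfl; exact hnc (Commute.one_left e)
  have he1 : e ≠ 1 := by rintro rfl; exact hnc (Commute.one_right d)
  have hde1 : d * e ≠ 1 := by
    intro h
    have : e = d := by
      have : d * e = d * d := by rw [h, hd]
      exact mul_left_cancel this
    exact hnc (by rw [this])
  rw [injective_iff_map_eq_one]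
  intro a ha
  cases a with
  | r i =>
    rcases zmod3_cases i with rfl | rfl | rfl
    · exact r_zero
    · exfalso
      have := s3Lift_r d e hd he hde 1
      simp only [Int.cast_one, zpow_one] at this
      rw [this] at ha
      exact hde1 ha
    · exfalso
      have := s3Lift_r d e hd he hde 2
      simp only [Int.cast_ofNat] at this
      rw [this] at ha
      apply hde1
      have h3 : (d * e) ^ (3 : ℤ) = 1 := by exact_mod_cast hde
      have : (d * e) ^ (3 : ℤ) = (d * e) ^ (2 : ℤ) * (d * e) := by
        rw [show (3 : ℤ) = 2 + 1 by norm_num, zpow_add, zpow_one]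
      rw [this, ha, one_mul] at h3
      exact h3
  | sr i =>
    exfalso
    rcases zmod3_cases i with rfl | rfl | rfl
    · have := s3Lift_sr d e hd he hde 0
      simp only [Int.cast_zero, zpow_zero, mul_one] at this
      rw [this] at ha
      exact hd1 ha
    · have := s3Lift_sr d e hd he hde 1
      simp only [Int.cast_one, zpow_one] at this
      rw [this, ← mul_assoc, hd, one_mul] at ha
      exact he1 ha
    · have := s3Lift_sr d e hd he hde 2
      simp only [Int.cast_ofNat] at this
      rw [this] at ha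
      have h2 : (d * e) ^ (2 : ℤ) = d * e * (d * e) := by
        rw [show (2 : ℤ) = 1 + 1 by norm_num, zpow_add, zpow_one]
      rw [h2] at ha
      -- d * (d e d e) = e d e = 1
      have h3 : e * d * e = 1 := by
        have : d * (d * e * (d * e)) = e * d * e := by
          simp only [← mul_assoc]; rw [hd, one_mul]
        rw [← this]; exact ha
      apply hd1
      have : e * d * e = e * 1 * e := by rw [h3, mul_one, he]
      exact mul_left_cancel (mul_right_cancel this)

theorem s3Lift_range {G : Type*} [Group G] (d e : G) (hd : d * d = 1) (he : e * e = 1)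
    (hde : (d * e) ^ 3 = 1) : (s3Lift d e hd he hde).range = Subgroup.closure {d, e} := by
  have hdm : d ∈ Subgroup.closure ({d, e} : Set G) := Subgroup.subset_closure (by simp)
  have hem : e ∈ Subgroup.closure ({d, e} : Set G) := Subgroup.subset_closure (by simp)
  apply le_antisymm
  · rintro _ ⟨a, rfl⟩
    cases a with
    | r i =>
      obtain ⟨k, rfl⟩ := ZMod.intCast_surjective i
      rw [s3Lift_r]
      exact Subgroup.zpow_mem _ (Subgroup.mul_mem _ hdm hem) k
    | sr i =>
      obtain ⟨k, rfl⟩ := ZMod.intCast_surjective i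
      rw [s3Lift_sr]
      exact Subgroup.mul_mem _ hdm (Subgroup.zpow_mem _ (Subgroup.mul_mem _ hdm hem) k)
  · rw [Subgroup.closure_le]
    rintro x (rfl | rfl)
    · refine ⟨sr ((0 : ℤ) : ZMod 3), ?_⟩
      rw [s3Lift_sr]; simp
    · refine ⟨sr ((1 : ℤ) : ZMod 3), ?_⟩
      rw [s3Lift_sr, zpow_one, ← mul_assoc, hd, one_mul]

/-- `DihedralGroup 3` is the symmetric group on three letters -/
theorem dihedral3_equiv_perm : Nonempty (DihedralGroup 3 ≃* Equiv.Perm (Fin 3)) := by
  have hd : (Equiv.swap (0 : Fin 3) 1) * Equiv.swap 0 1 = 1 := by simp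
  have he : (Equiv.swap (1 : Fin 3) 2) * Equiv.swap 1 2 = 1 := by simp
  have hde : ((Equiv.swap (0 : Fin 3) 1) * Equiv.swap 1 2) ^ 3 = 1 := by decide
  have hnc : ¬ Commute (Equiv.swap (0 : Fin 3) 1) (Equiv.swap 1 2) := by
    unfold Commute SemiconjBy; decide
  have hinj := s3Lift_injective _ _ hd he hde hnc
  have hbij : Function.Bijective (s3Lift _ _ hd he hde) := by
    rw [Fintype.bijective_iff_injective_and_card]
    refine ⟨hinj, ?_⟩
    rw [DihedralGroup.card, Fintype.card_perm, Fintype.card_fin]; rfl
  exact ⟨MulEquiv.ofBijective _ hbij⟩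

/-- two non-commuting involutions whose product has order dividing three generate a copy of `S₃` -/
theorem closure_pair_equiv_perm {G : Type*} [Group G] (d e : G) (hd : d * d = 1) (he : e * e = 1)
    (hde : (d * e) ^ 3 = 1) (hnc : ¬ Commute d e) :
    Nonempty (Subgroup.closure ({d, e} : Set G) ≃* Equiv.Perm (Fin 3)) := by
  obtain ⟨φ⟩ := dihedral3_equiv_perm
  have e1 : DihedralGroup 3 ≃* (s3Lift d e hd he hde).range :=
    MonoidHom.ofInjective (s3Lift_injective d e hd he hde hnc)
  have e2 : (s3Lift d e hd he hde).range ≃* Subgroup.closure ({d, e} : Set G) :=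
    MulEquiv.subgroupCongr (s3Lift_range d e hd he hde)
  exact ⟨(e2.symm.trans e1.symm).trans φ⟩

end Cfsg.Agent.Helper3
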