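import Mathlib
import Cfsg.Agent.Helper7.S2862Defs
import Cfsg.Agent.S0027

/-! Board `s2862pieces`, rows COP (`triv_of_coprime`) and NC (`noncentral_of_not_triv`). -/

set_option autoImplicit false
set_option linter.unusedVariables false

namespace Cfsg.Agent.S2862P

open Cfsg
open Cfsg.Agent.Helper14 (cj)
open Subgroup
open scoped commutatorElement

variable {G : Type*} [Group G] [Finite G] {p : ℕ} [Fact p.Prime]
variable {H Y D L L0 Vt Vb : Subgroup G}

omit [Finite G] in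
/-- the elements normalising `N` and trivial on `Z/N` are closed under products -/
theorem COP_aux_mul {Z N : Subgroup G} {x y : G} (hx : x ∈ normalizer (N : Set G))
    (h1 : TrivOn x Z N) (h2 : TrivOn y Z N) : TrivOn (x * y) Z N := by
  intro v hv
  have e : ⁅v, x * y⁆ = ⁅v, x⁆ * (x * ⁅v, y⁆ * x⁻¹) := by
    simp only [commutatorElement_def]; group
  rw [e]
  exact N.mul_mem (h1 v hv) ((mem_normalizer_iff.mp hx _).mp (h2 v hv))

omit [Finite G] in
/-- and under inverses -/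
theorem COP_aux_inv {Z N : Subgroup G} {x : G} (hx : x ∈ normalizer (N : Set G))
    (h1 : TrivOn x Z N) : TrivOn x⁻¹ Z N := by
  intro v hv
  have e : ⁅v, x⁻¹⁆ = x⁻¹ * (⁅v, x⁆)⁻¹ * (x⁻¹)⁻¹ := by
    simp only [commutatorElement_def]; group
  rw [e]
  exact (mem_normalizer_iff.mp ((normalizer (N : Set G)).inv_mem hx) _).mp (N.inv_mem (h1 v hv))

omit [Finite G] in
theorem COP_aux_one {Z N : Subgroup G} : TrivOn (1 : G) Z N := by
  intro v _
  have : ⁅v, (1 : G)⁆ = 1 := by simp [commutatorElement_def]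
  rw [this]; exact N.one_mem

omit [Finite G] in
/-- `[Z, ⟨g⟩] ≤ N` if `g` normalises `N` and is trivial on `Z/N`. -/
theorem COP_aux_comm_le {Z N : Subgroup G} {g : G} (hg : g ∈ normalizer (N : Set G))
    (h1 : TrivOn g Z N) : ⁅Z, zpowers g⁆ ≤ N := by
  let S : Subgroup G :=
    { carrier := {x | x ∈ normalizer (N : Set G) ∧ TrivOn x Z N}
      one_mem' := ⟨(normalizer (N : Set G)).one_mem, COP_aux_one⟩
      mul_mem' := fun {a b} ha hb =>
        ⟨(normalizer (N : Set G)).mul_mem ha.1 hb.1, COP_aux_mul ha.1 ha.2 hb.2⟩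
      inv_mem' := fun {a} ha => ⟨(normalizer (N : Set G)).inv_mem ha.1, COP_aux_inv ha.1 ha.2⟩ }
  have hgS : g ∈ S := ⟨hg, h1⟩
  have hle : zpowers g ≤ S := (zpowers_le).mpr hgS
  have key : ∀ x ∈ zpowers g, x ∈ normalizer (N : Set G) ∧ TrivOn x Z N := fun x hx => hle hx
  rw [Subgroup.commutator_le]
  intro v hv x hx
  exact (key x hx).2 v hv

/-- COP : coprime action on a chain of normal subgroups of the `p`-group `Zt`. -/
theorem triv_of_coprime {g : G} (hg : (orderOf g).Coprime p) {Zt Zm Zb : Subgroup G} (hZt : IsPGroup p ↥Zt)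
    (hbm : Zb ≤ Zm) (hmt : Zm ≤ Zt) (hnb : Zt ≤ normalizer (Zb : Set G)) (hnm : Zt ≤ normalizer (Zm : Set G))
    (hgt : g ∈ normalizer (Zt : Set G)) (hgm : g ∈ normalizer (Zm : Set G)) (hgb : g ∈ normalizer (Zb : Set G))
    (h1 : TrivOn g Zt Zm) (h2 : TrivOn g Zm Zb) : TrivOn g Zt Zb := by
  have hA : zpowers g ≤ normalizer (Zt : Set G) := (zpowers_le).mpr hgt
  have hcop : (Nat.card ↥(zpowers g)).Coprime (Nat.card ↥Zt) := by
    rw [Nat.card_zpowers]
    obtain ⟨k, hk⟩ := IsPGroup.iff_card.mp hZt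
    rw [hk]
    exact Nat.Coprime.pow_right k hg
  have hsolv : Group.IsSolvable ↥(zpowers g) ∨ Group.IsSolvable ↥Zt := Or.inl inferInstance
  have e := Cfsg.Agent.S0027.result (zpowers g) Zt hA hcop hsolv
  have c1 : ⁅Zt, zpowers g⁆ ≤ Zm := COP_aux_comm_le hgm h1
  have c2 : ⁅Zm, zpowers g⁆ ≤ Zb := COP_aux_comm_le hgb h2
  have c3 : ⁅Zt, zpowers g⁆ ≤ Zb := by
    rw [← e]
    exact (Subgroup.commutator_mono c1 le_rfl).trans c2
  intro v hv
  exact c3 (Subgroup.commutator_mem_commutator hv (mem_zpowers g))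

/-- NC -/
theorem noncentral_of_not_triv (C : ChiefPair p H Vt Vb) {g : G} (hgH : g ∈ H) (h : ¬ TrivOn g Vt Vb) :
    Noncentral H Vt Vb := by
  intro hle
  apply h
  intro v hv
  exact hle (Subgroup.commutator_mem_commutator hv hgH)

end Cfsg.Agent.S2862P
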