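import Mathlib
import Cfsg.Agent.Helper27.S3001QDefs

/-! Board `s3001qpieces`, row S1: basics on `O^p(P)` and `V₀ = C_V(O^p(P))`. -/

set_option autoImplicit false

namespace Cfsg.Agent.S3001P

open Cfsg.Agent.S2789P Cfsg.Agent.S2999P Cfsg.Agent.S3000P

universe u

variable {G : Type u} [Group G]

variable {p : ℕ} {V P : Subgroup G}

theorem OpP_le (p : ℕ) (P : Subgroup G) : OpP p P ≤ P := by
  unfold OpP
  rw [Subgroup.closure_le]
  intro g hg
  exact hg.1

theorem S1_aux_conj_le (p : ℕ) {P : Subgroup G} {g : G} (hg : g ∈ P) : cjs g (OpP p P) ≤ OpP p P := by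
  unfold cjs OpP
  rw [Subgroup.map_le_iff_le_comap, Subgroup.closure_le]
  intro x hx
  rw [SetLike.mem_coe, Subgroup.mem_comap]
  apply Subgroup.subset_closure
  refine ⟨?_, ?_⟩
  · change g * x * g⁻¹ ∈ P
    exact P.mul_mem (P.mul_mem hg hx.1) (P.inv_mem hg)
  · have : orderOf ((MulAut.conj g).toMonoidHom x) = orderOf x := by
      change orderOf ((MulAut.conj g) x) = orderOf x
      exact MulEquiv.orderOf_eq (MulAut.conj g) x
    rw [this]
    exact hx.2

theorem OpP_conj (p : ℕ) {P : Subgroup G} {g : G} (hg : g ∈ P) : cjs g (OpP p P) = OpP p P := by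
  apply le_antisymm (S1_aux_conj_le p hg)
  have h1 : cjs g⁻¹ (OpP p P) ≤ OpP p P := S1_aux_conj_le p (P.inv_mem hg)
  have h2 := cj_mono (g := g) h1
  rwa [cj_cj_inv] at h2

theorem mem_OpP_of_coprime {p : ℕ} {P : Subgroup G} {x : G} (hx : x ∈ P) (hc : (orderOf x).Coprime p) : x ∈ OpP p P :=
  Subgroup.subset_closure ⟨hx, hc⟩

theorem V0_le_V (p : ℕ) (V P : Subgroup G) : V0 p V P ≤ V := fix_le V _

theorem S1_aux_comm (hV : Cfsg.IsElementaryAbelian p V) {x y : G} (hx : x ∈ V) (hy : y ∈ V) : x * y = y * x := by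
  have := hV.1.is_comm.comm (⟨x, hx⟩ : ↥V) ⟨y, hy⟩
  exact congrArg Subtype.val this

theorem V_le_NR (hV : Cfsg.IsElementaryAbelian p V) : V ≤ NR (V0 p V P) := by
  intro v hv
  rw [Subgroup.mem_normalizer_iff]
  intro h
  constructor
  · intro hh
    have hhV : h ∈ V := V0_le_V p V P hh
    have : v * h * v⁻¹ = h := by
      rw [S1_aux_comm hV hv hhV, mul_assoc, mul_inv_cancel, mul_one]
    rw [this]; exact hh
  · intro hh
    have hhV : v * h * v⁻¹ ∈ V := V0_le_V p V P hh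
    have hhV' : h ∈ V := by
      have := V.mul_mem (V.mul_mem (V.inv_mem hv) hhV) hv
      simpa [mul_assoc] using this
    have : v * h * v⁻¹ = h := by
      rw [S1_aux_comm hV hv hhV', mul_assoc, mul_inv_cancel, mul_one]
    rw [this] at hh; exact hh

theorem S1_aux_mem_normalizer_of_cjs {g : G} {E : Subgroup G} (h1 : cjs g E ≤ E) (h2 : cjs g⁻¹ E ≤ E) :
    g ∈ Subgroup.normalizer (E : Set G) := by
  rw [Subgroup.mem_normalizer_iff]
  intro x
  constructor
  · intro hx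
    apply h1
    exact cj_mem_conj.mpr hx
  · intro hx
    have := h2 (cj_mem_conj.mpr hx)
    simpa [mul_assoc] using this

theorem P_le_NR (hPV : P ≤ Subgroup.normalizer (V : Set G)) : P ≤ NR (V0 p V P) := by
  intro g hg
  have key : ∀ g ∈ P, cjs g (V0 p V P) ≤ V0 p V P := by
    intro g hg
    unfold V0
    rw [← cj_fix _ (hPV hg), OpP_conj p hg]
  exact S1_aux_mem_normalizer_of_cjs (key g hg) (key g⁻¹ (P.inv_mem hg))

theorem P_inf_V (hV : Cfsg.IsElementaryAbelian p V) (hf : P ⊓ Subgroup.centralizer (V : Set G) = ⊥) : P ⊓ V = ⊥ := by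
  rw [eq_bot_iff, ← hf]
  intro x hx
  refine Subgroup.mem_inf.mpr ⟨hx.1, ?_⟩
  rw [Subgroup.mem_centralizer_iff]
  intro y hy
  exact S1_aux_comm hV hy hx.2

theorem P_inf_V0 (hV : Cfsg.IsElementaryAbelian p V) (hf : P ⊓ Subgroup.centralizer (V : Set G) = ⊥) :
    P ⊓ V0 p V P = ⊥ := by
  rw [eq_bot_iff, ← P_inf_V hV hf]
  exact inf_le_inf_left P (V0_le_V p V P)

end Cfsg.Agent.S3001P
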