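import Mathlib
import Cfsg.Agent.Helper27.S3001QDefs
import Cfsg.Agent.Helper3.S3001S1

/-! Board `s3001qpieces`, row S2a: every `p'`-element of `P` centralising `V / V₀` is trivial. -/

set_option autoImplicit false

namespace Cfsg.Agent.S3001P

open Cfsg.Agent.S2789P Cfsg.Agent.S2999P Cfsg.Agent.S3000P

universe u

variable {G : Type u} [Group G]

variable {p : ℕ} {V P : Subgroup G}

theorem S2a_aux_pow {x v c : G} (hxc : x * c = c * x) (hcv : x * v * x⁻¹ = c * v) (k : ℕ) :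
    x ^ k * v * (x ^ k)⁻¹ = c ^ k * v := by
  induction k with
  | zero => simp
  | succ k ih =>
    have hxck : x * c ^ k = c ^ k * x := (Commute.pow_right (show Commute x c from hxc) k).eq
    calc x ^ (k + 1) * v * (x ^ (k + 1))⁻¹
        = x * (x ^ k * v * (x ^ k)⁻¹) * x⁻¹ := by
          rw [pow_succ', mul_inv_rev]; group
      _ = x * (c ^ k * v) * x⁻¹ := by rw [ih]
      _ = (x * c ^ k) * v * x⁻¹ := by group
      _ = c ^ k * (x * v * x⁻¹) := by rw [hxck]; group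
      _ = c ^ k * (c * v) := by rw [hcv]
      _ = c ^ (k + 1) * v := by rw [pow_succ]; group

/-- every `p'`-element of `P` which centralises `V / V₀` is trivial -/
theorem QFAITH_pprime [Finite G] [Fact p.Prime] (H : Hyp1 p V P) {x : G} (hx : x ∈ P) (hc : (orderOf x).Coprime p)
    (hq : ∀ v ∈ V, x * v * x⁻¹ * v⁻¹ ∈ V0 p V P) : x = 1 := by
  have hxO : x ∈ OpP p P := mem_OpP_of_coprime hx hc
  have hxp : x ^ p ∈ P ⊓ Subgroup.centralizer (V : Set G) := by
    refine Subgroup.mem_inf.mpr ⟨P.pow_mem hx p, ?_⟩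
    rw [Subgroup.mem_centralizer_iff]
    intro v hv
    have hcV0 := hq v hv
    unfold V0 at hcV0
    rw [mem_fix] at hcV0
    obtain ⟨hcV, hcO⟩ := hcV0
    have hxc : x * (x * v * x⁻¹ * v⁻¹) = (x * v * x⁻¹ * v⁻¹) * x := hcO x hxO
    have hcv : x * v * x⁻¹ = (x * v * x⁻¹ * v⁻¹) * v := by group
    have h1 := S2a_aux_pow hxc hcv p
    rw [H.hV.2 _ hcV, one_mul] at h1
    -- x^p * v * (x^p)⁻¹ = v
    calc v * x ^ p = (x ^ p * v * (x ^ p)⁻¹) * x ^ p := by rw [h1]
      _ = x ^ p * v := by group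
  rw [H.hf, Subgroup.mem_bot] at hxp
  have hdvd : orderOf x ∣ p := orderOf_dvd_of_pow_eq_one hxp
  have h1 : orderOf x ∣ 1 := by
    have := Nat.dvd_gcd (dvd_refl (orderOf x)) hdvd
    rwa [hc.gcd_eq_one] at this
  exact orderOf_eq_one_iff.mp (Nat.dvd_one.mp h1)

end Cfsg.Agent.S3001P
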