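import Mathlib

/-! # S3557 piece K1 (helper3)

If some nontrivial element of the `p`-group `P` fixes the orbit of `a` pointwise (where the central `z` of
order `p` moves everything) and `z` fixes `b`, then `z * z₁` is a derangement with `p`-th power `1`, for a
central `z₁` of order `p` fixing the orbit of `a` pointwise.  Mathlib only. -/

set_option autoImplicit false

namespace Cfsg.Agent.S3557P

open MulAction

/-- a nontrivial normal subgroup of a finite `p`-group contains a nontrivial central element. -/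
theorem K1_normal_inf_center {P : Type*} [Group P] [Finite P] (p : ℕ) [Fact p.Prime] (hP : IsPGroup p P)
    (K : Subgroup P) [K.Normal] (hK : K ≠ ⊥) : ∃ c : P, c ∈ K ∧ c ∈ Subgroup.center P ∧ c ≠ 1 := by
  have hKp : IsPGroup p K := hP.to_subgroup K
  have hnt : Nontrivial K := (Subgroup.nontrivial_iff_ne_bot K).2 hK
  have dvd : p ∣ Nat.card K := by
    obtain ⟨n, hn0, hn⟩ := hKp.nontrivial_iff_card.mp hnt
    exact hn.symm ▸ dvd_pow_self _ (ne_of_gt hn0)
  have h1 : (1 : K) ∈ fixedPoints (ConjAct P) K := by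
    intro g
    apply Subtype.ext
    rw [ConjAct.Subgroup.val_conj_smul, ConjAct.smul_def]
    simp
  obtain ⟨b, hb, hb1⟩ :=
    (hP.of_equiv ConjAct.toConjAct).exists_fixed_point_of_prime_dvd_card_of_fixed_point K dvd h1
  refine ⟨(b : P), b.2, ?_, ?_⟩
  · rw [Subgroup.mem_center_iff]
    intro g
    have := hb (ConjAct.toConjAct g)
    have h2 := congrArg (Subtype.val) this
    rw [ConjAct.Subgroup.val_conj_smul, ConjAct.smul_def, ConjAct.ofConjAct_toConjAct] at h2
    -- h2 : g * b * g⁻¹ = b
    calc g * (b : P) = g * (b : P) * g⁻¹ * g := by group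
      _ = (b : P) * g := by rw [h2]
  · intro h
    apply hb1
    apply Subtype.ext
    rw [h]; rfl

/-- an element of order a positive power of `p` has a power of order exactly `p`. -/
theorem K1_pow_order {P : Type*} [Group P] [Finite P] (p : ℕ) [Fact p.Prime] (hP : IsPGroup p P)
    (c : P) (hc : c ≠ 1) : ∃ j : ℕ, orderOf (c ^ j) = p := by
  obtain ⟨k, hk⟩ := (IsPGroup.iff_orderOf.1 hP) c
  have hk0 : k ≠ 0 := by
    intro h
    rw [h, pow_zero, orderOf_eq_one_iff] at hk
    exact hc hk
  obtain ⟨m, rfl⟩ := Nat.exists_eq_succ_of_ne_zero hk0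
  refine ⟨p ^ m, ?_⟩
  have hpos : 0 < p := (Fact.out : p.Prime).pos
  have hdvd : p ^ m ∣ orderOf c := by rw [hk]; exact pow_dvd_pow p (Nat.le_succ m)
  rw [orderOf_pow_of_dvd (pow_ne_zero m hpos.ne') hdvd, hk, pow_succ]
  exact Nat.mul_div_cancel_left p (pow_pos hpos m)

/-- K1: if some nontrivial element fixes the orbit of `a` (where `z` moves everything) pointwise, then `z * z₁`
is a derangement for a suitable central `z₁` of order `p` fixing that orbit pointwise. -/
theorem K1 {P Ω : Type*} [Group P] [Finite P] [MulAction P Ω] [FaithfulSMul P Ω] (p : ℕ) [Fact p.Prime]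
    (hP : IsPGroup p P) (a b : Ω) (hsplit : ∀ x : Ω, x ∈ orbit P a ∨ x ∈ orbit P b)
    (z : P) (hz : z ∈ Subgroup.center P) (hzp : orderOf z = p) (hzb : z • b = b) (hza : z • a ≠ a)
    (k : P) (hk1 : k ≠ 1) (hk : ∀ x ∈ orbit P a, k • x = x) :
    ∃ g : P, g ^ p = 1 ∧ ∀ x : Ω, g • x ≠ x := by
  classical
  -- the kernel of the action on the orbit of `a`
  let K : Subgroup P :=
    { carrier := {g | ∀ x ∈ orbit P a, g • x = x}
      one_mem' := fun x _ => one_smul _ x
      mul_mem' := by
        intro g h hg hh x hx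
        rw [mul_smul, hh x hx, hg x hx]
      inv_mem' := by
        intro g hg x hx
        rw [inv_smul_eq_iff, hg x hx] }
  have hKn : K.Normal := by
    refine ⟨fun n hn g x hx => ?_⟩
    have hx' : g⁻¹ • x ∈ orbit P a := by
      obtain ⟨h, rfl⟩ := hx
      exact ⟨g⁻¹ * h, by show (g⁻¹ * h) • a = g⁻¹ • h • a; rw [mul_smul]⟩
    have := hn (g⁻¹ • x) hx'
    rw [mul_smul, mul_smul, this, smul_inv_smul]
  have hKne : K ≠ ⊥ := by
    intro h
    have : k ∈ K := hk
    rw [h, Subgroup.mem_bot] at this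
    exact hk1 this
  obtain ⟨c, hcK, hcZ, hc1⟩ := K1_normal_inf_center p hP K hKne
  obtain ⟨j, hj⟩ := K1_pow_order p hP c hc1
  set z₁ := c ^ j with hz₁
  have hz₁K : z₁ ∈ K := K.pow_mem hcK j
  have hz₁Z : z₁ ∈ Subgroup.center P := (Subgroup.center P).pow_mem hcZ j
  have hz₁1 : z₁ ≠ 1 := by
    intro h
    rw [h, orderOf_one] at hj
    exact (Fact.out : p.Prime).one_lt.ne hj
  have hcomm : ∀ (c' : P), c' ∈ Subgroup.center P → ∀ g : P, g * c' = c' * g := fun c' hc' g =>
    (Subgroup.mem_center_iff.1 hc' g)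
  -- `z₁` fixes no point of the orbit of `b`
  have hz₁b : ∀ x ∈ orbit P b, z₁ • x ≠ x := by
    rintro x ⟨h, rfl⟩ hfix
    -- then `z₁ • b = b`, so `z₁` fixes everything
    have hb' : z₁ • b = b := by
      have h3 : z₁ • h • b = h • (z₁ • b) := by
        rw [← mul_smul, ← hcomm z₁ hz₁Z h, mul_smul]
      have hfix' : z₁ • h • b = h • b := hfix
      rw [h3] at hfix'
      exact smul_left_cancel h hfix'
    apply hz₁1
    apply FaithfulSMul.eq_of_smul_eq_smul (α := Ω)
    intro y
    rw [one_smul]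
    rcases hsplit y with hy | hy
    · exact hz₁K y hy
    · obtain ⟨h', rfl⟩ := hy
      rw [← mul_smul, ← hcomm z₁ hz₁Z h', mul_smul, hb']
  refine ⟨z * z₁, ?_, ?_⟩
  · have hc : Commute z z₁ := (hcomm z₁ hz₁Z z)
    rw [hc.mul_pow, ← hzp, pow_orderOf_eq_one, hzp, ← hj, pow_orderOf_eq_one, one_mul]
  · intro x hx
    rcases hsplit x with hxa | hxb
    · -- on the orbit of `a`: acts as `z`, which moves everything
      have h1 : z₁ • x = x := hz₁K x hxa
      rw [mul_smul, h1] at hx
      obtain ⟨h, rfl⟩ := hxa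
      have hx' : z • h • a = h • a := hx
      have h3 : z • h • a = h • (z • a) := by
        rw [← mul_smul, ← hcomm z hz h, mul_smul]
      rw [h3] at hx'
      exact hza (smul_left_cancel h hx')
    · -- on the orbit of `b`: `z` fixes, `z₁` moves
      have hzx : z • x = x := by
        obtain ⟨h, rfl⟩ := hxb
        show z • h • b = h • b
        rw [← mul_smul, ← hcomm z hz h, mul_smul, hzb]
      have : z₁ • x = x := by
        have h4 : (z * z₁) • x = z₁ • (z • x) := by
          rw [← mul_smul, ← hcomm z hz z₁]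
        rw [h4, hzx] at hx
        exact hx
      exact hz₁b x hxb this

end Cfsg.Agent.S3557P
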