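import Mathlib
import Cfsg.Agent.Helper10.S3805Defs
import Cfsg.Agent.Helper10.S3805IND3

/-!
# S3805 piece LAMFACTS (helper3): behaviour of `A j`, `B i` under multiplication by `sign ∘ π`.
-/

set_option autoImplicit false

namespace Cfsg.Agent.S3805P

open Cfsg

theorem LAMFACTS_chiZ_conj (t s : D3) : chiZ 1 (s * t * s⁻¹) = chiZ 1 t := by
  revert t s; decide

theorem LAMFACTS_aZ (j : Fin 3) (q : Q) : chiZ 1 q.1 * aZ j q = aZ j q := by
  revert j q; decide

theorem LAMFACTS_bZ (q : Q) : chiZ 1 q.1 * bZ 0 q = bZ 1 q := by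
  revert q; decide

variable {G : Type*} [Group G] [Fintype G] [Fintype (IrrCharacter G)]

/-- **LAMFACTS.** Behaviour of `A j`, `B i` under multiplication by `sign ∘ π`. -/
theorem lambda_facts (c : Cfg G) (π : G →* D3) (hπ : ∀ q : Q, π (c.ι q) = q.1) :
    (∀ j : Fin 3, (fun g => chiC 1 (π g) * c.A j g) = c.A j) ∧
    ((fun g => chiC 1 (π g) * c.B 0 g) = c.B 1) := by
  have hμ : IsClassFunction G (fun g => chiC 1 (π g)) := by
    intro g h
    simp only [chiC, map_mul, map_inv]
    rw [LAMFACTS_chiZ_conj]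
  constructor
  · intro j
    have h := mul_ind c (aC j) (fun g => chiC 1 (π g)) hμ
    unfold Cfg.A
    rw [h]
    congr 1
    funext q
    rw [hπ]
    simp only [chiC, aC]
    rw [← Int.cast_mul, LAMFACTS_aZ]
  · have h := mul_ind c (bC 0) (fun g => chiC 1 (π g)) hμ
    unfold Cfg.B
    rw [h]
    congr 1
    funext q
    rw [hπ]
    simp only [chiC, bC]
    rw [← Int.cast_mul, LAMFACTS_bZ]

end Cfsg.Agent.S3805P
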