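import Mathlib
import Cfsg.Agent.Helper10.S4017Defs

/-!
# S4017, piece A2MAX: `N_G(⟨c⟩) ≤ N_G(Q)` for a `p`-element `c ≠ 1` of `C_G(Q)`
-/

set_option autoImplicit false

namespace Cfsg.Agent.S4017P

/-- a 2-element normalizing `Q` lies in `Q` (`Q` has the full 2-part of `|G|`). -/
theorem A2MAX.aux_two_mem {G : Type*} [Group G] [Finite G] {p a : ℕ} {Q : Subgroup G} {z : G}
    (h : Cfg G p a Q z) (x : G) (hxN : x ∈ Subgroup.normalizer (Q : Set G)) (hx : IsPEl 2 x) :
    x ∈ Q := by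
  have : Fact (Nat.Prime 2) := ⟨Nat.prime_two⟩
  obtain ⟨k, hk⟩ := hx
  have hQ2 : IsPGroup 2 Q := IsPGroup.of_card h.hQ
  have hx2 : IsPGroup 2 (Subgroup.zpowers x) := IsPGroup.of_card (by rw [Nat.card_zpowers, hk])
  have hle : Subgroup.zpowers x ≤ Subgroup.normalizer (Q : Set G) := Subgroup.zpowers_le.mpr hxN
  have hS : IsPGroup 2 (Q ⊔ Subgroup.zpowers x : Subgroup G) :=
    IsPGroup.to_sup_of_normal_left' hQ2 hx2 hle
  obtain ⟨n, hn⟩ := IsPGroup.iff_card.mp hS
  have hdvd : 2 ^ n ∣ Nat.card G := hn ▸ Subgroup.card_subgroup_dvd_card _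
  have hna : n ≤ a := by
    have := (Nat.Prime.pow_dvd_iff_le_factorization Nat.prime_two Nat.card_pos.ne').mp hdvd
    rwa [h.hG2] at this
  have hSQ : Q = Q ⊔ Subgroup.zpowers x :=
    Subgroup.eq_of_le_of_card_ge le_sup_left
      (by rw [hn, h.hQ]; exact Nat.pow_le_pow_right (by norm_num) hna)
  rw [hSQ]
  exact Subgroup.mem_sup_right (Subgroup.mem_zpowers x)

theorem A2MAX {G : Type*} [Group G] [Finite G] {p a : ℕ} {Q : Subgroup G} {z : G}
    (h : Cfg G p a Q z) (f : Facts G p a Q z) (hA : CaseA p Q)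
    (hmm : ∀ L : Subgroup G, Subgroup.normalizer (Q : Set G) ≤ L → L ≠ ⊤ →
      L ≤ Subgroup.normalizer (Q : Set G)) :
    ∀ c : G, c ≠ 1 → IsPEl p c → (∀ v ∈ Q, c * v = v * c) →
      Subgroup.normalizer ((Subgroup.zpowers c : Subgroup G) : Set G)
        ≤ Subgroup.normalizer (Q : Set G) := by
  intro c hc1 hcp hcQ
  have hp := h.hp
  have hQM : Q ≤ Subgroup.normalizer (Q : Set G) := Subgroup.le_normalizer
  have ha1 : 1 ≤ a := by
    by_contra hcon
    have ha0 : a = 0 := by omega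
    have h1 := h.ha
    rw [ha0] at h1
    have := hp.two_le
    omega
  have h2a : 2 ≤ 2 ^ a := by
    calc 2 = 2 ^ 1 := by norm_num
      _ ≤ 2 ^ a := Nat.pow_le_pow_right (by norm_num) ha1
  have hQne : Q ≠ ⊥ := by
    intro hbot
    have h1 := h.hQ
    rw [hbot, Subgroup.card_bot] at h1
    omega
  have hMtop : Subgroup.normalizer (Q : Set G) ≠ ⊤ := by
    intro htop
    have hQn : Q.Normal := Subgroup.normalizer_eq_top_iff.mp htop
    exact hQne (h.hO2 Q hQn (IsPGroup.of_card h.hQ))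
  have h2M : 2 ∣ Nat.card (Subgroup.normalizer (Q : Set G)) := by
    have h1 : Nat.card Q ∣ Nat.card (Subgroup.normalizer (Q : Set G)) :=
      Subgroup.card_dvd_of_le hQM
    rw [h.hQ] at h1
    exact (dvd_pow_self 2 (by omega)).trans h1
  have hMord := f.maxord _ hMtop h2M
  have hmemC : ∀ y : G, y ∈ Subgroup.centralizer ({c} : Set G) ↔ y * c = c * y := by
    intro y
    rw [Subgroup.mem_centralizer_iff]
    constructor
    · intro hy; exact (hy c rfl).symm
    · intro hy x hx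
      rw [Set.mem_singleton_iff] at hx
      rw [hx]; exact hy.symm
  -- Step 1: `N_G(Q) ≤ C_G(c)`
  have hMC : Subgroup.normalizer (Q : Set G) ≤ Subgroup.centralizer ({c} : Set G) := by
    intro m hm
    have hom : orderOf m ∣ 2 ^ a * p ^ (Nat.card G).factorization p :=
      (Subgroup.orderOf_dvd_natCard _ hm).trans hMord
    obtain ⟨u, w, hu, hw, huw⟩ := exists_dvd_and_dvd_of_dvd_mul hom
    obtain ⟨i, -, rfl⟩ := (Nat.dvd_prime_pow Nat.prime_two).mp hu
    obtain ⟨j, -, rfl⟩ := (Nat.dvd_prime_pow hp).mp hw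
    have hcop : Nat.Coprime (2 ^ i) (p ^ j) :=
      Nat.Coprime.pow _ _ ((Nat.coprime_primes Nat.prime_two hp).mpr (Ne.symm h.hp2))
    have h2el : IsPEl 2 (m ^ (p ^ j)) := by
      have h1 : orderOf (m ^ (p ^ j)) ∣ 2 ^ i := by
        apply orderOf_dvd_of_pow_eq_one
        rw [← pow_mul, mul_comm, ← huw, pow_orderOf_eq_one]
      obtain ⟨k, -, hk⟩ := (Nat.dvd_prime_pow Nat.prime_two).mp h1
      exact ⟨k, hk⟩
    have hpel : IsPEl p (m ^ (2 ^ i)) := by
      have h1 : orderOf (m ^ (2 ^ i)) ∣ p ^ j := by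
        apply orderOf_dvd_of_pow_eq_one
        rw [← pow_mul, ← huw, pow_orderOf_eq_one]
      obtain ⟨k, -, hk⟩ := (Nat.dvd_prime_pow hp).mp h1
      exact ⟨k, hk⟩
    have h2Q : m ^ (p ^ j) ∈ Q := A2MAX.aux_two_mem h _ (Subgroup.pow_mem _ hm _) h2el
    have hc2 : m ^ (p ^ j) ∈ Subgroup.centralizer ({c} : Set G) :=
      (hmemC _).mpr (hcQ _ h2Q).symm
    have hcp' : m ^ (2 ^ i) ∈ Subgroup.centralizer ({c} : Set G) :=
      (hmemC _).mpr (f.zc _ c (Subgroup.pow_mem _ hm _) hpel hcp hcQ)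
    have hm_eq : m = (m ^ (2 ^ i)) ^ (Nat.gcdA (2 ^ i) (p ^ j)) *
        (m ^ (p ^ j)) ^ (Nat.gcdB (2 ^ i) (p ^ j)) := by
      rw [← zpow_natCast m (2 ^ i), ← zpow_natCast m (p ^ j), ← zpow_mul, ← zpow_mul, ← zpow_add,
        ← Nat.gcd_eq_gcd_ab, hcop.gcd_eq_one]
      simp
    rw [hm_eq]
    exact Subgroup.mul_mem _ (Subgroup.zpow_mem _ hcp' _) (Subgroup.zpow_mem _ hc2 _)
  -- Step 2: `C_G(c) ≠ ⊤`
  have hCtop : Subgroup.centralizer ({c} : Set G) ≠ ⊤ := by
    intro htop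
    obtain ⟨k, hk⟩ := hcp
    have hk1 : k ≠ 0 := by
      rintro rfl
      rw [pow_zero, orderOf_eq_one_iff] at hk
      exact hc1 hk
    have hcen : c ∈ Subgroup.center G := by
      rw [Subgroup.mem_center_iff]
      intro g
      have hg : g ∈ Subgroup.centralizer ({c} : Set G) := by rw [htop]; trivial
      exact (hmemC g).mp hg
    obtain ⟨k', rfl⟩ := Nat.exists_eq_succ_of_ne_zero hk1
    have ho : orderOf (c ^ (p ^ k')) = p := by
      rw [orderOf_pow_of_dvd (pow_ne_zero _ hp.ne_zero)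
        (by rw [hk]; exact pow_dvd_pow p (Nat.le_succ k')), hk, pow_succ,
        Nat.mul_div_cancel_left _ (pow_pos hp.pos k')]
    exact h.hcen _ (Subgroup.pow_mem _ hcen _) ho
  -- Step 3: `C_G(c) ≤ N_G(Q)`
  have hCM := hmm _ hMC hCtop
  -- Step 4
  have hCN : Subgroup.centralizer ({c} : Set G) ≤
      Subgroup.normalizer ((Subgroup.zpowers c : Subgroup G) : Set G) := by
    intro g hg
    have hgc := (hmemC g).mp hg
    have hgz : ∀ y ∈ Subgroup.zpowers c, g * y * g⁻¹ = y := by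
      intro y hy
      obtain ⟨n, rfl⟩ := Subgroup.mem_zpowers_iff.mp hy
      have : Commute g (c ^ n) := (show Commute g c from hgc).zpow_right n
      rw [this.eq, mul_inv_cancel_right]
    rw [Subgroup.mem_normalizer_iff]
    intro y
    constructor
    · intro hy
      rw [hgz y hy]; exact hy
    · intro hy
      have h1 := hgz _ hy
      -- `g (g y g⁻¹) g⁻¹ = g y g⁻¹` gives `g y g⁻¹ = y`
      have h2 : g * y * g⁻¹ = y := by
        have h3 : g * (g * y * g⁻¹) * g⁻¹ = g * y * g⁻¹ := h1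
        have h4 : g * y * g⁻¹ = g⁻¹ * (g * (g * y * g⁻¹) * g⁻¹) * g := by group
        rw [h3] at h4
        rw [h4]; group
      rw [← h2]; exact hy
  by_cases hNtop : Subgroup.normalizer ((Subgroup.zpowers c : Subgroup G) : Set G) = ⊤
  · exfalso
    have hzn : (Subgroup.zpowers c).Normal := Subgroup.normalizer_eq_top_iff.mp hNtop
    have hQn : Q.Normal := by
      constructor
      intro v hv g
      -- `g v g⁻¹` commutes with `c`
      have hconj : g⁻¹ * c * g⁻¹⁻¹ ∈ Subgroup.zpowers c :=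
        hzn.conj_mem c (Subgroup.mem_zpowers c) g⁻¹
      obtain ⟨n, hn⟩ := Subgroup.mem_zpowers_iff.mp hconj
      have hvc : Commute v (c ^ n) := (show Commute v c from (hcQ v hv).symm).zpow_right n
      have hcomm : (g * v * g⁻¹) * c = c * (g * v * g⁻¹) := by
        have e1 : (g * v * g⁻¹) * c = g * (v * (g⁻¹ * c * g⁻¹⁻¹)) * g⁻¹ := by group
        have e2 : c * (g * v * g⁻¹) = g * ((g⁻¹ * c * g⁻¹⁻¹) * v) * g⁻¹ := by group
        rw [e1, e2, ← hn, hvc.eq]
      have hmemM : g * v * g⁻¹ ∈ Subgroup.normalizer (Q : Set G) :=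
        hCM ((hmemC _).mpr hcomm)
      have h2el : IsPEl 2 (g * v * g⁻¹) := by
        have h1 : orderOf v ∣ 2 ^ a := by
          have := Subgroup.orderOf_dvd_natCard Q hv
          rwa [h.hQ] at this
        obtain ⟨k, -, hk⟩ := (Nat.dvd_prime_pow Nat.prime_two).mp h1
        refine ⟨k, ?_⟩
        rw [← hk]
        have : g * v * g⁻¹ = MulAut.conj g v := by simp [MulAut.conj_apply]
        rw [this, MulEquiv.orderOf_eq]
      exact A2MAX.aux_two_mem h _ hmemM h2el
    exact hQne (h.hO2 Q hQn (IsPGroup.of_card h.hQ))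
  · exact hmm _ (hMC.trans hCN) hNtop

end Cfsg.Agent.S4017P
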