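import Mathlib
import Cfsg.Agent.Helper10.S4017Defs

/-!
# S4017, piece AALL: Case A for one `t ∈ Q - 1` gives Case A for all (conjugation by powers of `z`)
-/

set_option autoImplicit false

namespace Cfsg.Agent.S4017P

/-- private copy of `UCONJ`: `x ∈ U p t → g x g⁻¹ ∈ U p (g t g⁻¹)`. -/
theorem AALL.aux_uconj {G : Type*} [Group G] (p : ℕ) (g t x : G) (hx : x ∈ U p t) :
    g * x * g⁻¹ ∈ U p (g * t * g⁻¹) := by
  unfold U at hx ⊢
  induction hx using Subgroup.closure_induction with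
  | mem y hy =>
    apply Subgroup.subset_closure
    obtain ⟨hc, k, hk⟩ := hy
    refine ⟨?_, k, ?_⟩
    · calc g * y * g⁻¹ * (g * t * g⁻¹) = g * (y * t) * g⁻¹ := by group
        _ = g * (t * y) * g⁻¹ := by rw [hc]
        _ = g * t * g⁻¹ * (g * y * g⁻¹) := by group
    · rw [← hk]
      have : g * y * g⁻¹ = MulAut.conj g y := by simp [MulAut.conj_apply]
      rw [this, MulEquiv.orderOf_eq]
  | one =>
    have : g * 1 * g⁻¹ = 1 := by group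
    rw [this]; exact Subgroup.one_mem _
  | mul y y' _ _ ihy ihy' =>
    have : g * (y * y') * g⁻¹ = (g * y * g⁻¹) * (g * y' * g⁻¹) := by group
    rw [this]; exact Subgroup.mul_mem _ ihy ihy'
  | inv y _ ihy =>
    have : g * y⁻¹ * g⁻¹ = (g * y * g⁻¹)⁻¹ := by group
    rw [this]; exact Subgroup.inv_mem _ ihy

theorem AALL {G : Type*} [Group G] [Finite G] {p a : ℕ} {Q : Subgroup G} {z : G}
    (h : Cfg G p a Q z) (f : Facts G p a Q z) (t : G) (htQ : t ∈ Q) (ht1 : t ≠ 1)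
    (hA : ∀ x ∈ U p t, ∀ v ∈ Q, x * v = v * x) : CaseA p Q := by
  intro t' ht'Q ht'1 x hx v hv
  obtain ⟨i, hi⟩ := h.htrans t htQ ht1 t' ht'Q ht'1
  -- `g = z ^ i` normalizes `Q`
  have hgN : z ^ i ∈ Subgroup.normalizer (Q : Set G) := Subgroup.pow_mem _ h.hzN i
  have hx' : (z ^ i)⁻¹ * x * (z ^ i)⁻¹⁻¹ ∈ U p t := by
    have := AALL.aux_uconj p (z ^ i)⁻¹ t' x hx
    have e : (z ^ i)⁻¹ * t' * (z ^ i)⁻¹⁻¹ = t := by rw [← hi]; group
    rwa [e] at this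
  have hv' : (z ^ i)⁻¹ * v * (z ^ i)⁻¹⁻¹ ∈ Q :=
    (Subgroup.mem_normalizer_iff.mp (Subgroup.inv_mem _ hgN) v).mp hv
  have := hA _ hx' _ hv'
  calc x * v = z ^ i * (((z ^ i)⁻¹ * x * (z ^ i)⁻¹⁻¹) * ((z ^ i)⁻¹ * v * (z ^ i)⁻¹⁻¹)) * (z ^ i)⁻¹ := by
        group
    _ = z ^ i * (((z ^ i)⁻¹ * v * (z ^ i)⁻¹⁻¹) * ((z ^ i)⁻¹ * x * (z ^ i)⁻¹⁻¹)) * (z ^ i)⁻¹ := by
        rw [this]
    _ = v * x := by group

end Cfsg.Agent.S4017P
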