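import Mathlib
import Cfsg.Agent.Helper10.S4017Defs
import Cfsg.Agent.Helper14.S4017BSWc
import Cfsg.Agent.Helper3.S4017AALL
import Cfsg.Agent.S3282

/-!
# S4017, piece B2HYP: for `a = 2` the hypotheses of S3282 (Brauer–Suzuki–Wall) hold, and
`|N_G(U p t)| = 4 |U p t|`
-/

set_option autoImplicit false

namespace Cfsg.Agent.S4017P

/-- an `r`-element normalizing a subgroup `X` of order the full `r`-part of `|G|` lies in `X`. -/
theorem B2HYP.aux_sylow_mem {G : Type*} [Group G] [Finite G] (r : ℕ) (hr : r.Prime)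
    (X : Subgroup G) (hX : Nat.card X = r ^ (Nat.card G).factorization r) (x : G)
    (hxN : x ∈ Subgroup.normalizer (X : Set G)) (hx : IsPEl r x) : x ∈ X := by
  have : Fact (Nat.Prime r) := ⟨hr⟩
  obtain ⟨k, hk⟩ := hx
  have hX2 : IsPGroup r X := IsPGroup.of_card hX
  have hx2 : IsPGroup r (Subgroup.zpowers x) := IsPGroup.of_card (by rw [Nat.card_zpowers, hk])
  have hle : Subgroup.zpowers x ≤ Subgroup.normalizer (X : Set G) := Subgroup.zpowers_le.mpr hxN
  have hS : IsPGroup r (X ⊔ Subgroup.zpowers x : Subgroup G) :=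
    IsPGroup.to_sup_of_normal_left' hX2 hx2 hle
  obtain ⟨n, hn⟩ := IsPGroup.iff_card.mp hS
  have hdvd : r ^ n ∣ Nat.card G := hn ▸ Subgroup.card_subgroup_dvd_card _
  have hna : n ≤ (Nat.card G).factorization r :=
    (Nat.Prime.pow_dvd_iff_le_factorization hr Nat.card_pos.ne').mp hdvd
  have hSX : X = X ⊔ Subgroup.zpowers x :=
    Subgroup.eq_of_le_of_card_ge le_sup_left
      (by rw [hn, hX]; exact Nat.pow_le_pow_right hr.pos hna)
  rw [hSX]
  exact Subgroup.mem_sup_right (Subgroup.mem_zpowers x)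

/-- elements of `zpowers t` for `t * t = 1`. -/
theorem B2HYP.aux_zpowers {G : Type*} [Group G] (t : G) (htt : t * t = 1) (y : G)
    (hy : y ∈ Subgroup.zpowers t) : y = 1 ∨ y = t := by
  obtain ⟨n, rfl⟩ := Subgroup.mem_zpowers_iff.mp hy
  have h2 : t ^ (2 : ℤ) = 1 := by
    rw [show (2 : ℤ) = 1 + 1 by norm_num, zpow_add, zpow_one]; exact htt
  rcases Int.emod_two_eq_zero_or_one n with h0 | h1
  · left
    have : n = 2 * (n / 2) := by omega
    rw [this, zpow_mul, h2, one_zpow]
  · right
    have : n = 2 * (n / 2) + 1 := by omega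
    rw [this, zpow_add, zpow_mul, h2, one_zpow, one_mul, zpow_one]

theorem B2HYP {G : Type*} [Group G] [Finite G] {p a : ℕ} {Q : Subgroup G} {z : G}
    (h : Cfg G p a Q z) (f : Facts G p a Q z) (ha2 : a = 2) (t : G) (htQ : t ∈ Q) (ht1 : t ≠ 1)
    (hB1 : Nat.card (U p t) = p ^ (Nat.card G).factorization p)
    (hB2 : ∀ b ∈ U p t, b ≠ 1 → ∀ g : G, IsPEl p g → g * b = b * g → g ∈ U p t)
    (hB3 : ∀ s ∈ Q, s ≠ 1 → s ≠ t → ∀ x ∈ U p t, s * x * s⁻¹ = x⁻¹) :
    BSWc G ∧ Nat.card (Subgroup.normalizer ((U p t : Subgroup G) : Set G))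
      = 4 * p ^ (Nat.card G).factorization p := by
  have : Fact (Nat.Prime 2) := ⟨Nat.prime_two⟩
  have hp := h.hp
  have : Fact p.Prime := ⟨hp⟩
  have hcardQ : Nat.card Q = 4 := by rw [h.hQ, ha2]; norm_num
  -- `t` is an involution
  have htt : t * t = 1 := f.elem t htQ
  have hot : orderOf t = 2 := orderOf_eq_prime (by rw [pow_two]; exact htt) ht1
  have htinv : t⁻¹ = t := inv_eq_of_mul_eq_one_left htt
  -- `Q` is abelian
  have hQab : ∀ x ∈ Q, ∀ y ∈ Q, x * y = y * x := by
    intro x hx y hy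
    have h1 := f.elem x hx
    have h2 := f.elem y hy
    have h3 := f.elem (x * y) (Q.mul_mem hx hy)
    calc x * y = x * ((x * y) * (x * y)) * y := by rw [h3, mul_one]
      _ = (x * x) * y * x * (y * y) := by simp only [mul_assoc]
      _ = y * x := by rw [h1, h2, one_mul, mul_one]
  -- the subgroup `B = U p t`
  have hBp : IsPGroup p (U p t) := f.utp t hot
  have hBab : ∀ x ∈ U p t, ∀ y ∈ U p t, x * y = y * x := h.hab _ hBp
  have hBC : U p t ≤ Subgroup.centralizer ({t} : Set G) := by
    unfold U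
    rw [Subgroup.closure_le]
    intro y hy
    rw [SetLike.mem_coe, Subgroup.mem_centralizer_iff]
    intro k hk
    rw [Set.mem_singleton_iff] at hk
    rw [hk]; exact hy.1.symm
  have hmemC : ∀ y : G, y ∈ Subgroup.centralizer ({t} : Set G) ↔ y * t = t * y := by
    intro y
    rw [Subgroup.mem_centralizer_iff]
    constructor
    · intro hy; exact (hy t rfl).symm
    · intro hy x hx
      rw [Set.mem_singleton_iff] at hx
      rw [hx]; exact hy.symm
  have hBt : ∀ x ∈ U p t, x * t = t * x := fun x hx => (hmemC x).mp (hBC hx)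
  have hBodd : ∀ b ∈ U p t, b * b = 1 → b = 1 := by
    intro b hb hbb
    obtain ⟨k, hk⟩ := (IsPGroup.iff_orderOf.mp hBp) ⟨b, hb⟩
    rw [Subgroup.orderOf_mk] at hk
    have h1 : orderOf b ∣ 2 := orderOf_dvd_of_pow_eq_one (by rw [pow_two]; exact hbb)
    rw [hk] at h1
    have h2 : k = 0 := by
      by_contra hk0
      have : p ∣ 2 := (dvd_pow_self p hk0).trans h1
      exact h.hp2 ((Nat.prime_dvd_prime_iff_eq hp Nat.prime_two).mp this)
    rw [h2, pow_zero, orderOf_eq_one_iff] at hk
    exact hk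
  -- `C(t) ≤ N(B)`
  have hCN : Subgroup.centralizer ({t} : Set G) ≤ Subgroup.normalizer ((U p t : Subgroup G) : Set G) := by
    intro g hg
    have hgt : g * t = t * g := (hmemC g).mp hg
    rw [Subgroup.mem_normalizer_iff]
    intro x
    constructor
    · intro hx
      have h1 := AALL.aux_uconj p g t x hx
      have e : g * t * g⁻¹ = t := by rw [hgt]; group
      rwa [e] at h1
    · intro hx
      have h1 := AALL.aux_uconj p g⁻¹ t _ hx
      have e : g⁻¹ * t * g⁻¹⁻¹ = t := by
        calc g⁻¹ * t * g⁻¹⁻¹ = g⁻¹ * (t * g) := by group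
          _ = g⁻¹ * (g * t) := by rw [hgt]
          _ = t := by group
      have e2 : g⁻¹ * (g * x * g⁻¹) * g⁻¹⁻¹ = x := by group
      rwa [e, e2] at h1
  have hCcard : Nat.card (Subgroup.centralizer ({t} : Set G)) =
      4 * p ^ (Nat.card G).factorization p := by
    rw [f.utcard t hot, hB1, ha2]; norm_num
  -- `N(B) ≠ ⊤`
  have hNtop : Subgroup.normalizer ((U p t : Subgroup G) : Set G) ≠ ⊤ := by
    intro htop
    have hBn : (U p t).Normal := Subgroup.normalizer_eq_top_iff.mp htop
    have hzB : z ∈ U p t :=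
      B2HYP.aux_sylow_mem p hp (U p t) hB1 z (by rw [htop]; trivial) h.hzp
    obtain ⟨v, hv, hzv⟩ := f.znc
    exact hzv (f.zout (U p t) hBp (fun v _ x hx => hBn.conj_mem x hx v) z h.hzN h.hzp
      (Subgroup.mem_sup_left hzB) v hv)
  -- `N(B) = C(t)`
  have hNC : Subgroup.centralizer ({t} : Set G) = Subgroup.normalizer ((U p t : Subgroup G) : Set G) := by
    apply Subgroup.eq_of_le_of_card_ge hCN
    have h2N : 2 ∣ Nat.card (Subgroup.normalizer ((U p t : Subgroup G) : Set G)) := by
      have h1 := Subgroup.card_dvd_of_le hCN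
      rw [hCcard] at h1
      exact (Dvd.intro _ (by ring : 2 * (2 * p ^ (Nat.card G).factorization p) = 4 * p ^ (Nat.card G).factorization p)).trans h1
    have h1 := f.maxord _ hNtop h2N
    rw [ha2] at h1
    rw [hCcard]
    exact Nat.le_of_dvd (Nat.mul_pos (by norm_num) (pow_pos hp.pos _)) (by norm_num at h1 ⊢; exact h1)
  refine ⟨?_, by rw [← hNC, hCcard]⟩
  -- choose `s ∈ Q - {1, t}`
  obtain ⟨s, hsQ, hs1, hst⟩ : ∃ s ∈ Q, s ≠ 1 ∧ s ≠ t := by
    by_contra hcon
    push Not at hcon
    have hle : Q ≤ Subgroup.zpowers t := by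
      intro s hs
      by_cases h1 : s = 1
      · rw [h1]; exact Subgroup.one_mem _
      · rw [hcon s hs h1]; exact Subgroup.mem_zpowers t
    have := Subgroup.card_le_of_le hle
    rw [hcardQ, Nat.card_zpowers, hot] at this
    omega
  have hss : s * s = 1 := f.elem s hsQ
  have hos : orderOf s = 2 := orderOf_eq_prime (by rw [pow_two]; exact hss) hs1
  have hsinv : s⁻¹ = s := inv_eq_of_mul_eq_one_left hss
  have hstc : s * t = t * s := hQab s hsQ t htQ
  have hsinvB : ∀ x ∈ U p t, s * x * s⁻¹ = x⁻¹ := hB3 s hsQ hs1 hst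
  -- the subgroup `K = B ⊔ ⟨t⟩` and its elements
  have htN : Subgroup.zpowers t ≤ Subgroup.normalizer ((U p t : Subgroup G) : Set G) :=
    Subgroup.zpowers_le.mpr (hCN ((hmemC t).mpr rfl))
  have hKmem : ∀ x ∈ U p t ⊔ Subgroup.zpowers t, ∃ b ∈ U p t, ∃ y : G, (y = 1 ∨ y = t) ∧ x = b * y := by
    intro x hx
    have h1 : x ∈ ((U p t ⊔ Subgroup.zpowers t : Subgroup G) : Set G) := hx
    rw [Subgroup.coe_mul_of_right_le_normalizer_left _ _ htN] at h1
    obtain ⟨b, hb, y, hy, rfl⟩ := Set.mem_mul.mp h1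
    exact ⟨b, hb, y, B2HYP.aux_zpowers t htt y hy, rfl⟩
  have hBK : U p t ≤ U p t ⊔ Subgroup.zpowers t := le_sup_left
  have htK : t ∈ U p t ⊔ Subgroup.zpowers t := Subgroup.mem_sup_right (Subgroup.mem_zpowers t)
  have hycomm : ∀ y : G, (y = 1 ∨ y = t) → ∀ b ∈ U p t, b * y = y * b := by
    rintro y (rfl | rfl) b hb
    · rw [mul_one, one_mul]
    · exact hBt b hb
  have hyy : ∀ y : G, (y = 1 ∨ y = t) → y * y = 1 := by
    rintro y (rfl | rfl)
    · rw [mul_one]
    · exact htt
  have hys : ∀ y : G, (y = 1 ∨ y = t) → s * y * s⁻¹ = y := by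
    rintro y (rfl | rfl)
    · group
    · rw [hstc, mul_inv_cancel_right]
  have hKab : IsMulCommutative ↥(U p t ⊔ Subgroup.zpowers t) := by
    refine ⟨⟨fun x x' => Subtype.ext ?_⟩⟩
    obtain ⟨b, hb, y, hy, hx⟩ := hKmem x.1 x.2
    obtain ⟨b', hb', y', hy', hx'⟩ := hKmem x'.1 x'.2
    show x.1 * x'.1 = x'.1 * x.1
    rw [hx, hx']
    have e1 := hycomm y hy b' hb'
    have e2 := hycomm y' hy' b hb
    have e3 := hBab b hb b' hb'
    have e4 : y * y' = y' * y := by
      rcases hy with rfl | rfl <;> rcases hy' with rfl | rfl <;> simp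
    calc b * y * (b' * y') = b * (y * b') * y' := by simp only [mul_assoc]
      _ = b * (b' * y) * y' := by rw [e1]
      _ = (b * b') * (y * y') := by simp only [mul_assoc]
      _ = (b' * b) * (y' * y) := by rw [e3, e4]
      _ = b' * (b * y') * y := by simp only [mul_assoc]
      _ = b' * (y' * b) * y := by rw [e2]
      _ = b' * y' * (b * y) := by simp only [mul_assoc]
  have hKH : U p t ⊔ Subgroup.zpowers t ≤ Subgroup.centralizer ({t} : Set G) :=
    sup_le hBC (Subgroup.zpowers_le.mpr ((hmemC t).mpr rfl))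
  have hsH : s ∈ Subgroup.centralizer ({t} : Set G) := (hmemC s).mpr hstc
  have hsK : s ∉ U p t ⊔ Subgroup.zpowers t := by
    intro hs
    obtain ⟨b, hb, y, hy, hx⟩ := hKmem s hs
    have hbb : b * b = 1 := by
      have e1 := hycomm y hy b hb
      have : (b * y) * (b * y) = b * b := by
        calc (b * y) * (b * y) = b * (y * b) * y := by simp only [mul_assoc]
          _ = b * (b * y) * y := by rw [e1]
          _ = b * b * (y * y) := by simp only [mul_assoc]
          _ = b * b := by rw [hyy y hy, mul_one]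
      rw [← this, ← hx]; exact hss
    have hb1 := hBodd b hb hbb
    rw [hb1, one_mul] at hx
    rcases hy with rfl | rfl
    · exact hs1 hx
    · exact hst hx
  have hinv : ∀ x ∈ U p t ⊔ Subgroup.zpowers t, s * x * s⁻¹ = x⁻¹ := by
    intro x hx
    obtain ⟨b, hb, y, hy, rfl⟩ := hKmem x hx
    have e1 : s * (b * y) * s⁻¹ = (s * b * s⁻¹) * (s * y * s⁻¹) := by group
    rw [e1, hsinvB b hb, hys y hy, mul_inv_rev]
    have e2 : y⁻¹ = y := inv_eq_of_mul_eq_one_left (hyy y hy)
    rw [e2]
    have e3 := hycomm y hy b⁻¹ ((U p t).inv_mem hb)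
    exact e3
  have hCK : (U p t ⊔ Subgroup.zpowers t) ⊓ Subgroup.centralizer ({s} : Set G) = Subgroup.zpowers t := by
    apply le_antisymm
    · intro x hx
      obtain ⟨hxK, hxs⟩ := Subgroup.mem_inf.mp hx
      have hxs' : s * x = x * s := by
        rw [Subgroup.mem_centralizer_iff] at hxs
        exact hxs s rfl
      have h1 := hinv x hxK
      have h2 : s * x * s⁻¹ = x := by rw [hxs', mul_inv_cancel_right]
      obtain ⟨b, hb, y, hy, rfl⟩ := hKmem x hxK
      -- `(b y)⁻¹ = b y` gives `b * b = 1`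
      have hbb : b * b = 1 := by
        have e0 : (b * y) * (b * y) = 1 := by
          have : (b * y)⁻¹ = b * y := by rw [← h1, h2]
          calc (b * y) * (b * y) = (b * y)⁻¹ * (b * y) := by rw [this]
            _ = 1 := inv_mul_cancel _
        have e1 := hycomm y hy b hb
        calc b * b = b * b * (y * y) := by rw [hyy y hy, mul_one]
          _ = b * (b * y) * y := by simp only [mul_assoc]
          _ = b * (y * b) * y := by rw [e1]
          _ = (b * y) * (b * y) := by simp only [mul_assoc]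
          _ = 1 := e0
      rw [hBodd b hb hbb, one_mul]
      rcases hy with rfl | rfl
      · exact Subgroup.one_mem _
      · exact Subgroup.mem_zpowers _
    · intro x hx
      refine Subgroup.mem_inf.mpr ⟨Subgroup.mem_sup_right hx, ?_⟩
      rcases B2HYP.aux_zpowers t htt x hx with rfl | rfl
      · exact Subgroup.one_mem _
      · rw [Subgroup.mem_centralizer_iff]
        intro k hk
        rw [Set.mem_singleton_iff] at hk
        rw [hk]; exact hstc
  -- `K ⊔ ⟨s⟩ = C(t)`
  have hH : (U p t ⊔ Subgroup.zpowers t) ⊔ Subgroup.zpowers s = Subgroup.centralizer ({t} : Set G) := by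
    have hle : (U p t ⊔ Subgroup.zpowers t) ⊔ Subgroup.zpowers s ≤ Subgroup.centralizer ({t} : Set G) :=
      sup_le hKH (Subgroup.zpowers_le.mpr hsH)
    apply Subgroup.eq_of_le_of_card_ge hle
    rw [hCcard]
    -- `Q ≤ K ⊔ ⟨s⟩`
    have hTQ : Subgroup.zpowers t ⊔ Subgroup.zpowers s ≤ Q :=
      sup_le (Subgroup.zpowers_le.mpr htQ) (Subgroup.zpowers_le.mpr hsQ)
    have hTcard : Nat.card (Subgroup.zpowers t ⊔ Subgroup.zpowers s : Subgroup G) = 4 := by
      have hd4 : Nat.card (Subgroup.zpowers t ⊔ Subgroup.zpowers s : Subgroup G) ∣ 4 := by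
        have := Subgroup.card_dvd_of_le hTQ
        rwa [hcardQ] at this
      have hd2 : 2 ∣ Nat.card (Subgroup.zpowers t ⊔ Subgroup.zpowers s : Subgroup G) := by
        have := Subgroup.card_dvd_of_le
          (le_sup_left : Subgroup.zpowers t ≤ Subgroup.zpowers t ⊔ Subgroup.zpowers s)
        rwa [Nat.card_zpowers, hot] at this
      have hne2 : Nat.card (Subgroup.zpowers t ⊔ Subgroup.zpowers s : Subgroup G) ≠ 2 := by
        intro h2
        have heq : Subgroup.zpowers t = Subgroup.zpowers t ⊔ Subgroup.zpowers s :=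
          Subgroup.eq_of_le_of_card_ge le_sup_left (by rw [h2, Nat.card_zpowers, hot])
        have hs' : s ∈ Subgroup.zpowers t := by
          rw [heq]; exact Subgroup.mem_sup_right (Subgroup.mem_zpowers s)
        rcases B2HYP.aux_zpowers t htt s hs' with h1 | h1
        · exact hs1 h1
        · exact hst h1
      have hle4 := Nat.le_of_dvd (by norm_num) hd4
      obtain ⟨k, hk⟩ := hd2
      have : k = 2 := by
        rcases hd4 with ⟨m, hm⟩
        have hk1 : k ≠ 1 := by intro h1; apply hne2; rw [hk, h1]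
        have hk0 : k ≠ 0 := by
          intro h0
          rw [hk, h0] at hm
          omega
        omega
      rw [hk, this]
    have h4 : 4 ∣ Nat.card ((U p t ⊔ Subgroup.zpowers t) ⊔ Subgroup.zpowers s : Subgroup G) := by
      have hle' : Subgroup.zpowers t ⊔ Subgroup.zpowers s ≤
          (U p t ⊔ Subgroup.zpowers t) ⊔ Subgroup.zpowers s :=
        sup_le_sup_right le_sup_right _
      have := Subgroup.card_dvd_of_le hle'
      rwa [hTcard] at this
    have hpB : p ^ (Nat.card G).factorization p ∣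
        Nat.card ((U p t ⊔ Subgroup.zpowers t) ⊔ Subgroup.zpowers s : Subgroup G) := by
      have := Subgroup.card_dvd_of_le (hBK.trans (le_sup_left :
        U p t ⊔ Subgroup.zpowers t ≤ (U p t ⊔ Subgroup.zpowers t) ⊔ Subgroup.zpowers s))
      rwa [hB1] at this
    have hcop : Nat.Coprime 4 (p ^ (Nat.card G).factorization p) := by
      apply Nat.Coprime.pow_right
      have : Nat.Coprime 2 p := (Nat.coprime_primes Nat.prime_two hp).mpr (Ne.symm h.hp2)
      exact (show (4 : ℕ) = 2 ^ 2 by norm_num) ▸ Nat.Coprime.pow_left 2 this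
    exact Nat.le_of_dvd Nat.card_pos (Nat.Coprime.mul_dvd_of_dvd_of_dvd hcop h4 hpB)
  -- the TI property
  have hTI : ∀ g : G, g ∉ Subgroup.centralizer ({t} : Set G) →
      (U p t ⊔ Subgroup.zpowers t) ⊓ (U p t ⊔ Subgroup.zpowers t).map (MulAut.conj g).toMonoidHom = ⊥ := by
    intro g hg
    rw [eq_bot_iff]
    intro x hx
    obtain ⟨hxK, hxKg⟩ := Subgroup.mem_inf.mp hx
    rw [Subgroup.mem_bot]
    by_contra hx1
    obtain ⟨x', hx'K, hx'⟩ := hxKg
    have hx'' : g * x' * g⁻¹ = x := by
      rw [← hx']; simp [MulAut.conj_apply]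
    obtain ⟨b, hb, y, hy, hxby⟩ := hKmem x hxK
    obtain ⟨b', hb', y', hy', hx'by⟩ := hKmem x' hx'K
    -- odd powers
    obtain ⟨n, hn⟩ : ∃ n : ℕ, Nat.card (U p t) = 2 * n + 1 := by
      have hodd : Odd (Nat.card (U p t)) := by
        rw [hB1]
        exact Odd.pow (hp.odd_of_ne_two h.hp2)
      obtain ⟨n, hn⟩ := hodd
      exact ⟨n, hn⟩
    have hpowB : ∀ c ∈ U p t, c ^ (2 * n + 1) = 1 := by
      intro c hc
      rw [← hn]
      have := Subgroup.orderOf_dvd_natCard (U p t) hc
      exact orderOf_dvd_iff_pow_eq_one.mp this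
    have hpowy : ∀ y : G, (y = 1 ∨ y = t) → y ^ (2 * n + 1) = y := by
      intro y hy
      rw [pow_succ, pow_mul, pow_two, hyy y hy, one_pow, one_mul]
    have hpowK : ∀ c ∈ U p t, ∀ y : G, (y = 1 ∨ y = t) → (c * y) ^ (2 * n + 1) = y := by
      intro c hc y hy
      have hcomm : Commute c y := hycomm y hy c hc
      rw [hcomm.mul_pow, hpowB c hc, hpowy y hy, one_mul]
    have hyconj : g * y' * g⁻¹ = y := by
      have h1 : (g * x' * g⁻¹) ^ (2 * n + 1) = g * x' ^ (2 * n + 1) * g⁻¹ := by
        have := conj_pow (a := g) (b := x') (i := 2 * n + 1)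
        exact this
      rw [hx'', hxby, hpowK b hb y hy, hx'by, hpowK b' hb' y' hy'] at h1
      exact h1.symm
    rcases hy with rfl | rfl
    · -- `y = 1`: then `y' = 1`, `x = b`, `x' = b'`
      have hy'1 : y' = 1 := by
        have : g * y' * g⁻¹ = 1 := hyconj
        have e : y' = g⁻¹ * (g * y' * g⁻¹) * g := by group
        rw [e, this]; group
      rw [mul_one] at hxby
      rw [hy'1, mul_one] at hx'by
      have hb1 : b ≠ 1 := by rw [← hxby]; exact hx1
      have hbconj : g * b' * g⁻¹ = b := by rw [← hx'by, ← hxby]; exact hx''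
      -- `g B g⁻¹ ≤ B`
      have hsub : ∀ w ∈ U p t, g * w * g⁻¹ ∈ U p t := by
        intro w hw
        apply hB2 b hb hb1
        · obtain ⟨k, hk⟩ := (IsPGroup.iff_orderOf.mp hBp) ⟨w, hw⟩
          rw [Subgroup.orderOf_mk] at hk
          refine ⟨k, ?_⟩
          rw [← hk]
          have : g * w * g⁻¹ = MulAut.conj g w := by simp [MulAut.conj_apply]
          rw [this, MulEquiv.orderOf_eq]
        · rw [← hbconj]
          have := hBab w hw b' hb'
          calc g * w * g⁻¹ * (g * b' * g⁻¹) = g * (w * b') * g⁻¹ := by group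
            _ = g * (b' * w) * g⁻¹ := by rw [this]
            _ = g * b' * g⁻¹ * (g * w * g⁻¹) := by group
      have hmap : (U p t).map (MulAut.conj g).toMonoidHom = U p t := by
        apply Subgroup.eq_of_le_of_card_ge
        · rintro _ ⟨w, hw, rfl⟩
          have := hsub w hw
          simpa [MulAut.conj_apply] using this
        · rw [Subgroup.card_map_of_injective (MulAut.conj g).injective]
      have hgN : g ∈ Subgroup.normalizer ((U p t : Subgroup G) : Set G) := by
        rw [Subgroup.mem_normalizer_iff]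
        intro w
        constructor
        · exact hsub w
        · intro hw
          rw [← hmap] at hw
          obtain ⟨w', hw', hww'⟩ := hw
          have : w' = w := by
            have h2 : g * w' * g⁻¹ = g * w * g⁻¹ := by
              rw [← hww']; simp [MulAut.conj_apply]
            have e : w' = g⁻¹ * (g * w' * g⁻¹) * g := by group
            rw [e, h2]; group
          rw [← this]; exact hw'
      rw [← hNC] at hgN
      exact hg hgN
    · -- `y = t`
      rcases hy' with rfl | rfl
      · have : (1 : G) = y := by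
          rw [← hyconj]; group
        exact ht1 this.symm
      · apply hg
        rw [hmemC]
        calc g * y' = (g * y' * g⁻¹) * g := by group
          _ = y' * g := by rw [hyconj]
  have hconj : ∀ x y : G, orderOf x = 2 → orderOf y = 2 → IsConj x y := by
    intro x y hx hy
    obtain ⟨g, hg⟩ := f.conj x y hx hy
    exact isConj_iff.mpr ⟨g, hg⟩
  exact Cfsg.Agent.S3282.result t hot (U p t ⊔ Subgroup.zpowers t) hKab hKH htK s hos hsH hsK hH hCK
    hinv hTI hconj

end Cfsg.Agent.S4017P
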