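import Mathlib
import Cfsg.Prelude.Def_Classical
import Cfsg.Agent.Helper23.S5953Defs

set_option autoImplicit false
open scoped MatrixGroups Matrix

/-!
# S5953 piece NOROOT (helper3): if the norm-one element `z` of `F = GF(q²)` has no norm-one
`r`-th root (`r` odd prime dividing `q + 1`) then `X ^ r - z` is irreducible and the order of `z` is
divisible by the full `r`-part of `q + 1`.
-/

universe u

namespace Cfsg.Agent.S5953P

open Polynomial

namespace NOROOT

/-- in `GF(q²)`: `z ^ ((q + 1) / r) = 1` implies that `z` is the `r`-th power of a norm-one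
element -/
theorem exists_root {F : Type*} [Field F] [Fintype F] {q : ℕ}
    (hF : Fintype.card F = q ^ 2) (r : ℕ) (hr0 : 0 < r) (hrq : r ∣ q + 1)
    (z : F) (hz : z ^ ((q + 1) / r) = 1) : ∃ w : F, w ^ (q + 1) = 1 ∧ w ^ r = z := by
  classical
  obtain ⟨s, hs⟩ := hrq
  have hs0 : 0 < s := by
    rcases Nat.eq_zero_or_pos s with h | h
    · rw [h, mul_zero] at hs; omega
    · exact h
  have hdiv : (q + 1) / r = s := by rw [hs, Nat.mul_div_cancel_left _ hr0]
  rw [hdiv] at hz
  have hz0 : z ≠ 0 := by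
    rintro rfl
    rw [zero_pow hs0.ne'] at hz
    exact zero_ne_one hz
  obtain ⟨g, hg⟩ := IsCyclic.exists_monoid_generator (α := Fˣ)
  have hord : orderOf g = q ^ 2 - 1 := by
    rw [orderOf_eq_card_of_forall_mem_powers hg, Nat.card_eq_fintype_card, Fintype.card_units, hF]
  have hq2 : q ^ 2 - 1 = (q - 1) * (q + 1) := by
    rcases Nat.eq_zero_or_pos q with h | h
    · rw [h]; rfl
    · obtain ⟨q', rfl⟩ : ∃ q', q = q' + 1 := ⟨q - 1, by omega⟩
      rw [Nat.add_sub_cancel]
      have : (q' + 1) ^ 2 = q' * (q' + 1 + 1) + 1 := by ring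
      rw [this, Nat.add_sub_cancel]
  obtain ⟨a, ha⟩ := hg (Units.mk0 z hz0)
  have ha' : g ^ a = Units.mk0 z hz0 := ha
  have h1 : g ^ (a * s) = 1 := by
    rw [pow_mul, ha']
    apply Units.ext
    rw [Units.val_pow_eq_pow_val, Units.val_mk0, hz, Units.val_one]
  have h2 : orderOf g ∣ a * s := orderOf_dvd_of_pow_eq_one h1
  rw [hord, hq2, hs] at h2
  have h3 : (q - 1) * r ∣ a := by
    apply Nat.dvd_of_mul_dvd_mul_right hs0
    have : (q - 1) * (r * s) = (q - 1) * r * s := by ring
    rw [← this]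
    exact h2
  obtain ⟨b, hb⟩ := h3
  refine ⟨((g ^ ((q - 1) * b) : Fˣ) : F), ?_, ?_⟩
  · rw [← Units.val_pow_eq_pow_val, ← pow_mul]
    have : (q - 1) * b * (q + 1) = (q ^ 2 - 1) * b := by rw [hq2]; ring
    rw [this, pow_mul, ← hord, pow_orderOf_eq_one, one_pow, Units.val_one]
  · rw [← Units.val_pow_eq_pow_val, ← pow_mul]
    have : (q - 1) * b * r = a := by rw [hb]; ring
    rw [this, ha', Units.val_mk0]

end NOROOT

/-- NOROOT -/
theorem irreducible_of_no_root {F : Type*} [Field F] [Fintype F] {q : ℕ}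
    (hF : Fintype.card F = q ^ 2) (r : ℕ) [Fact r.Prime] (hr2 : r ≠ 2) (hrq : r ∣ q + 1)
    (z : F) (hz : z ^ (q + 1) = 1)
    (hno : ¬ ∃ μ : F, μ ^ (q + 1) = 1 ∧ μ ^ r * z = 1) :
    Irreducible (X ^ r - C z : F[X]) ∧
    ∀ k : ℕ, z ^ k = 1 → r ^ padicValNat r (q + 1) ∣ k := by
  classical
  have hr : r.Prime := Fact.out
  have hz0 : z ≠ 0 := by
    rintro rfl
    rw [zero_pow (by omega)] at hz
    exact zero_ne_one hz
  have hq2 : q ^ 2 - 1 = (q + 1) * (q - 1) := by
    rcases Nat.eq_zero_or_pos q with h | h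
    · rw [h]; rfl
    · obtain ⟨q', rfl⟩ : ∃ q', q = q' + 1 := ⟨q - 1, by omega⟩
      rw [Nat.add_sub_cancel]
      have : (q' + 1) ^ 2 = (q' + 1 + 1) * q' + 1 := by ring
      rw [this, Nat.add_sub_cancel]
  -- a norm-one `r`-th root gives a contradiction
  have hcontra : ∀ w : F, w ^ (q + 1) = 1 → w ^ r = z → False := by
    intro w hw1 hwr
    apply hno
    have hw0 : w ≠ 0 := by
      rintro rfl
      rw [zero_pow (by omega)] at hw1
      exact zero_ne_one hw1
    refine ⟨w⁻¹, by rw [inv_pow, hw1, inv_one], ?_⟩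
    rw [inv_pow, hwr, inv_mul_cancel₀ hz0]
  constructor
  · apply X_pow_sub_C_irreducible_of_prime hr
    intro w hw
    have hw0 : w ≠ 0 := by
      rintro rfl
      rw [zero_pow hr.ne_zero] at hw
      exact hz0 hw.symm
    have h1 : w ^ (q ^ 2 - 1) = 1 := by
      rw [← hF]
      exact FiniteField.pow_card_sub_one_eq_one w hw0
    have h2 : w ^ ((q + 1) * r) = 1 := by
      rw [mul_comm, pow_mul, hw, hz]
    have hd1 : orderOf w ∣ (q + 1) * (q - 1) := by
      rw [← hq2]; exact orderOf_dvd_of_pow_eq_one h1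
    have hd2 : orderOf w ∣ (q + 1) * r := orderOf_dvd_of_pow_eq_one h2
    have hgcd : Nat.gcd (q - 1) r = 1 := by
      rw [Nat.gcd_comm]
      apply (Nat.Prime.coprime_iff_not_dvd hr).2
      intro hdvd
      -- `r ∣ q - 1` and `r ∣ q + 1` give `r ∣ 2`
      have hq1 : 1 ≤ q := by
        rcases Nat.eq_zero_or_pos q with h | h
        · exfalso
          rw [h] at hF
          have := Fintype.one_lt_card (α := F)
          omega
        · exact h
      have : r ∣ (q + 1) - (q - 1) := Nat.dvd_sub hrq hdvd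
      have h2' : (q + 1) - (q - 1) = 2 := by omega
      rw [h2'] at this
      have := (Nat.prime_dvd_prime_iff_eq hr Nat.prime_two).1 this
      exact hr2 this
    have hd : orderOf w ∣ q + 1 := by
      have := Nat.dvd_gcd hd1 hd2
      rwa [Nat.gcd_mul_left, hgcd, mul_one] at this
    exact hcontra w (orderOf_dvd_iff_pow_eq_one.1 hd) hw
  · intro k hk
    by_contra hnd
    have hv : r ^ padicValNat r (q + 1) ∣ q + 1 := pow_padicValNat_dvd
    obtain ⟨s, hs⟩ := hrq
    have hdiv : (q + 1) / r = s := by rw [hs, Nat.mul_div_cancel_left _ hr.pos]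
    have ho1 : orderOf z ∣ q + 1 := orderOf_dvd_of_pow_eq_one hz
    have ho2 : orderOf z ∣ k := orderOf_dvd_of_pow_eq_one hk
    have hos : orderOf z ∣ s := by
      obtain ⟨t, ht⟩ := ho1
      by_cases hrt : r ∣ t
      · obtain ⟨t', rfl⟩ := hrt
        refine ⟨t', ?_⟩
        have : r * s = r * (orderOf z * t') := by rw [← hs, ht]; ring
        exact Nat.eq_of_mul_eq_mul_left hr.pos this
      · exfalso
        apply hnd
        have hcop : Nat.Coprime (r ^ padicValNat r (q + 1)) t :=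
          Nat.Coprime.pow_left _ ((Nat.Prime.coprime_iff_not_dvd hr).2 hrt)
        have hv' : r ^ padicValNat r (q + 1) ∣ orderOf z * t := by rw [← ht]; exact hv
        exact (hcop.dvd_of_dvd_mul_right hv').trans ho2
    have hzs : z ^ ((q + 1) / r) = 1 := by
      rw [hdiv]
      exact orderOf_dvd_iff_pow_eq_one.1 hos
    obtain ⟨w, hw1, hwr⟩ := NOROOT.exists_root hF r hr.pos ⟨s, hs⟩ z hzs
    exact hcontra w hw1 hwr

end Cfsg.Agent.S5953P
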