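import Mathlib
import Cfsg.Prelude.Def_GeometricClasses
import Cfsg.Agent.Helper12.LSUDefs

/-!
# S2335, piece COL: realising every corner and every first column
-/

set_option autoImplicit false

namespace Cfsg.Agent.Helper12.LSU

open Matrix Cfsg Cfsg.Agent.Helper2.SUGen

variable {F : Type*} [Field F] {q : ℕ}

/-- the lower triangular matrix with first column `(lam, b)` and diagonal `(lam, d)` -/
def col_mat {m : ℕ} (lam : F) (b d : Fin m → F) : Matrix (Fin (m + 1)) (Fin (m + 1)) F :=
  Matrix.of fun i k =>
    Fin.cases (Fin.cases lam (fun _ => 0) k)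
      (fun j => Fin.cases (b j) (fun k' => if k' = j then d j else 0) k) i

theorem col_mat_zero_zero {m : ℕ} (lam : F) (b d : Fin m → F) : col_mat lam b d 0 0 = lam := rfl

theorem col_mat_zero_succ {m : ℕ} (lam : F) (b d : Fin m → F) (k : Fin m) :
    col_mat lam b d 0 k.succ = 0 := rfl

theorem col_mat_succ_zero {m : ℕ} (lam : F) (b d : Fin m → F) (j : Fin m) :
    col_mat lam b d j.succ 0 = b j := rfl

theorem col_mat_succ_succ {m : ℕ} (lam : F) (b d : Fin m → F) (j k : Fin m) :
    col_mat lam b d j.succ k.succ = if k = j then d j else 0 := rfl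

theorem col_mat_det {m : ℕ} (lam : F) (b d : Fin m → F) :
    (col_mat lam b d).det = lam * ∏ j, d j := by
  have htri : (col_mat lam b d).BlockTriangular OrderDual.toDual := by
    intro i k hik
    have hlt : i < k := hik
    induction i using Fin.cases with
    | zero =>
      induction k using Fin.cases with
      | zero => exact absurd hlt (lt_irrefl _)
      | succ k' => rfl
    | succ j =>
      induction k using Fin.cases with
      | zero => exact absurd hlt (Fin.not_lt_zero _)
      | succ k' =>
        rw [col_mat_succ_succ]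
        have hne : k' ≠ j := by
          intro h
          rw [h] at hlt
          exact lt_irrefl _ hlt
        rw [if_neg hne]
  rw [Matrix.det_of_isLowerTriangular _ htri, Fin.prod_univ_succ, col_mat_zero_zero]
  congr 1
  refine Finset.prod_congr rfl fun j _ => ?_
  rw [col_mat_succ_succ, if_pos rfl]

/-- the first column of `hact σ A H` when the first row of `A` is `lam • e₀` -/
theorem col_hact_col (σ : F →+* F) {m : ℕ} (lam : F) (b d : Fin m → F)
    (H : Matrix (Fin (m + 1)) (Fin (m + 1)) F) (i : Fin (m + 1)) :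
    hact σ (col_mat lam b d) H i 0 =
      (∑ l, col_mat lam b d i l * H l 0) * σ lam := by
  unfold hact
  rw [Matrix.mul_apply, Fin.sum_univ_succ]
  have hrest : ∑ k : Fin m, (col_mat lam b d * H) i k.succ * ct σ (col_mat lam b d) k.succ 0 = 0 := by
    refine Finset.sum_eq_zero fun k _ => ?_
    rw [ct_apply, col_mat_zero_succ, map_zero, mul_zero]
  rw [hrest, add_zero, ct_apply, col_mat_zero_zero, Matrix.mul_apply]

/-! ### COL -/
theorem exists_corner_col [Finite F] (D : Frob F q) {m : ℕ} (hm : 1 ≤ m)
    (H : Matrix (Fin (m + 1)) (Fin (m + 1)) F) (hH : H ∈ Herm D.σ (m + 1)) (hc : H 0 0 ≠ 0)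
    (c' : F) (hc' : c' ≠ 0) (hfix : D.σ c' = c') (w : Fin m → F) :
    ∃ A : Matrix (Fin (m + 1)) (Fin (m + 1)) F, A.det ≠ 0 ∧ D.σ A.det = A.det ∧
      hact D.σ A H 0 0 = c' ∧ ∀ j : Fin m, hact D.σ A H j.succ 0 = w j := by
  classical
  set c : F := H 0 0 with hcdef
  -- `c` is fixed
  have hcfix : D.σ c = c := by
    rw [mem_Herm] at hH
    have := congrFun (congrFun hH 0) 0
    rw [ct_apply] at this
    exact this
  -- the scalar `lam`
  have hquot_ne : c' / c ≠ 0 := div_ne_zero hc' hc
  have hquot_fix : D.σ (c' / c) = c' / c := by rw [map_div₀, hfix, hcfix]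
  obtain ⟨lam, hlam⟩ := exists_norm D (c' / c) hquot_ne hquot_fix
  have hlam0 : lam ≠ 0 := by
    rintro rfl
    rw [zero_mul] at hlam
    exact hquot_ne hlam.symm
  have hslam0 : D.σ lam ≠ 0 := σ_ne_zero D hlam0
  -- the diagonal and the first column
  let j0 : Fin m := ⟨0, hm⟩
  let d : Fin m → F := fun j => if j = j0 then D.σ lam else 1
  let b : Fin m → F := fun j => (w j / D.σ lam - d j * H j.succ 0) / c
  have hprod : ∏ j, d j = D.σ lam := by
    show ∏ j, (if j = j0 then D.σ lam else 1) = D.σ lam
    rw [Finset.prod_ite_eq' Finset.univ j0 (fun _ => D.σ lam), if_pos (Finset.mem_univ _)]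
  have hdet : (col_mat lam b d).det = lam * D.σ lam := by rw [col_mat_det, hprod]
  refine ⟨col_mat lam b d, ?_, ?_, ?_, ?_⟩
  · rw [hdet]
    exact mul_ne_zero hlam0 hslam0
  · rw [hdet, map_mul, D.invol, mul_comm]
  · rw [col_hact_col, Fin.sum_univ_succ, col_mat_zero_zero]
    have hrest : ∑ l : Fin m, col_mat lam b d 0 l.succ * H l.succ 0 = 0 := by
      refine Finset.sum_eq_zero fun l _ => ?_
      rw [col_mat_zero_succ, zero_mul]
    rw [hrest, add_zero]
    have h1 : lam * H 0 0 * D.σ lam = (lam * D.σ lam) * c := by rw [hcdef]; ring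
    rw [h1, hlam]
    field_simp
  · intro j
    rw [col_hact_col, Fin.sum_univ_succ, col_mat_succ_zero]
    have hrest : ∑ l : Fin m, col_mat lam b d j.succ l.succ * H l.succ 0 = d j * H j.succ 0 := by
      rw [Finset.sum_eq_single j]
      · rw [col_mat_succ_succ, if_pos rfl]
      · intro l _ hl
        rw [col_mat_succ_succ, if_neg hl, zero_mul]
      · intro h
        exact absurd (Finset.mem_univ j) h
    rw [hrest]
    show ((w j / D.σ lam - d j * H j.succ 0) / c * H 0 0 + d j * H j.succ 0) * D.σ lam = w j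
    rw [← hcdef]
    field_simp
    ring

end Cfsg.Agent.Helper12.LSU
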