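import Mathlib
import Cfsg.Agent.Helper7.K2M.Defs

set_option autoImplicit false
set_option linter.unusedSectionVars false
set_option linter.unusedVariables false

/-! # S5694, `k = 2` minus blocks (designer helper7), chapter G, piece RACT (helper3):
the reflection in a block vector: formula, action on components, the binary reflection `r2`. -/

namespace Cfsg.Agent.K2M

open Matrix Cfsg.Agent.OC2P Cfsg.Agent.Helper28.Sg Cfsg.Agent.Helper28.Spin
  Cfsg.Agent.Helper12.OrthGen

variable {F : Type*} [Field F] {t : ℕ} {Q : QuadraticForm F (Fin t × Fin 2 → F)}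
  {q : QuadraticForm F (Fin 2 → F)}

theorem RACT.mulVec (v : Fin t × Fin 2 → F) (hv : Q v ≠ 0) (x : Fin t × Fin 2 → F) :
    mt Q (reflO Q v hv) *ᵥ x = x - ((Q v)⁻¹ * B Q v x) • v := by
  show Cfsg.reflectionMatrix ⇑Q v *ᵥ x = _
  exact refl_mulVec Q v x

/-- the binary reflection -/
noncomputable def r2 (q : QuadraticForm F (Fin 2 → F)) (y a : Fin 2 → F) : Fin 2 → F :=
  a - ((q y)⁻¹ * QuadraticMap.polar ⇑q y a) • y

theorem RACT.aux_Q_binj (bm : BM Q q) (i : Fin t) (y : Fin 2 → F) : Q (binj i y) = q y := by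
  rw [bm.sum, Finset.sum_eq_single i]
  · rw [bproj_binj]
  · intro i' _ hi'
    rw [bproj_binj_ne hi', map_zero]
  · intro h
    exact absurd (Finset.mem_univ i) h

theorem RACT.aux_B_eq (bm : BM Q q) (x x' : Fin t × Fin 2 → F) :
    B Q x x' = ∑ i : Fin t, QuadraticMap.polar ⇑q (bproj i x) (bproj i x') := by
  show QuadraticMap.polar ⇑Q x x' = _
  unfold QuadraticMap.polar
  rw [bm.sum, bm.sum, bm.sum, ← Finset.sum_sub_distrib, ← Finset.sum_sub_distrib]
  rfl

theorem RACT.aux_B_binj_left (bm : BM Q q) (i : Fin t) (y : Fin 2 → F) (x : Fin t × Fin 2 → F) :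
    B Q (binj i y) x = QuadraticMap.polar ⇑q y (bproj i x) := by
  rw [RACT.aux_B_eq bm, Finset.sum_eq_single i]
  · rw [bproj_binj]
  · intro i' _ hi'
    rw [bproj_binj_ne hi']
    unfold QuadraticMap.polar
    rw [zero_add, map_zero]
    ring
  · intro h
    exact absurd (Finset.mem_univ i) h

theorem RACT.bproj_same (bm : BM Q q) (i : Fin t) (y : Fin 2 → F) (hv : Q (binj i y) ≠ 0)
    (x : Fin t × Fin 2 → F) :
    bproj i (mt Q (reflO Q (binj i y) hv) *ᵥ x) = r2 q y (bproj i x) := by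
  rw [RACT.mulVec, RACT.aux_Q_binj bm, RACT.aux_B_binj_left bm]
  unfold r2
  show bproj i x - ((q y)⁻¹ * QuadraticMap.polar ⇑q y (bproj i x)) • bproj i (binj i y) = _
  rw [bproj_binj]

theorem RACT.bproj_ne (bm : BM Q q) {i i' : Fin t} (h : i' ≠ i) (y : Fin 2 → F)
    (hv : Q (binj i y) ≠ 0) (x : Fin t × Fin 2 → F) :
    bproj i' (mt Q (reflO Q (binj i y) hv) *ᵥ x) = bproj i' x := by
  rw [RACT.mulVec]
  show bproj i' x - ((Q (binj i y))⁻¹ * B Q (binj i y) x) • bproj i' (binj i y) = _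
  rw [bproj_binj_ne h, smul_zero, sub_zero]

theorem RACT.q_r2 (bm : BM Q q) {y : Fin 2 → F} (hy : y ≠ 0) (a : Fin 2 → F) : q (r2 q y a) = q a := by
  have hq : q y ≠ 0 := fun h0 => hy (bm.aniso y h0)
  unfold r2
  have h1 : a - ((q y)⁻¹ * QuadraticMap.polar ⇑q y a) • y
      = a + (-((q y)⁻¹ * QuadraticMap.polar ⇑q y a)) • y := by
    rw [neg_smul, sub_eq_add_neg]
  rw [h1, QuadraticMap.map_add (⇑q), QuadraticMap.map_smul, QuadraticMap.polar_smul_right,
    QuadraticMap.polar_comm ⇑q a y]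
  simp only [smul_eq_mul]
  field_simp
  ring

/-- `r_{w - w'}` moves `w'` to `w` -/
theorem RACT.r2_move (bm : BM Q q) {w w' : Fin 2 → F} (h : q w = q w') (hne : w ≠ w') :
    r2 q (w - w') w' = w := by
  have hq : q (w - w') ≠ 0 := fun h0 => hne (sub_eq_zero.mp (bm.aniso _ h0))
  have hpol : QuadraticMap.polar ⇑q (w - w') w' = - q (w - w') := by
    have e1 : q w = q ((w - w') + w') := by rw [sub_add_cancel]
    rw [QuadraticMap.map_add (⇑q)] at e1
    rw [h] at e1
    have e2 : QuadraticMap.polar ⇑q (w - w') w' = - q (w - w') := by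
      have : q w' = q (w - w') + q w' + QuadraticMap.polar ⇑q (w - w') w' := e1
      linear_combination -this
    exact e2
  unfold r2
  rw [hpol, mul_neg, inv_mul_cancel₀ hq, neg_smul, one_smul, sub_neg_eq_add]
  abel

end Cfsg.Agent.K2M
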