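import Mathlib
import Cfsg.Prelude.Def_LieExceptional
import Cfsg.Agent.S0035
import Cfsg.Agent.Helper5.Zassenhaus
import Cfsg.Agent.Helper16.ZassOdd2

/-!
# Zassenhaus groups: the Frobenius kernel of a point stabiliser as a subgroup
-/

set_option autoImplicit false
set_option linter.style.haveILetI false
set_option linter.unusedSectionVars false

namespace Cfsg.Agent.Helper3.ZassPSL

open Cfsg MulAction
open Cfsg.Agent.Helper5.Zassenhaus

variable {G Ω : Type*} [Group G] [MulAction G Ω]

/-- The point stabiliser of a finite Zassenhaus group has a normal subgroup acting regularly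
on the remaining points. -/
theorem exists_kernel [Finite G] [Fintype Ω] (hZ : IsZassenhausGroup G Ω) {a b : Ω}
    (hab : a ≠ b) :
    ∃ F : Subgroup G, F ≤ stabilizer G a ∧ (F.subgroupOf (stabilizer G a)).Normal ∧
      (∀ y z : Ω, y ≠ a → z ≠ a → ∃! u : F, (u : G) • y = z) := by
  classical
  set S := stabilizer G a with hS
  set C : Subgroup S := (stabilizer G a ⊓ stabilizer G b : Subgroup G).subgroupOf S with hC
  have hCf : IsFrobeniusComplement C :=
    Cfsg.Agent.Helper16.ZassOdd.isFrobeniusComplement_two_point hZ hab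
  obtain ⟨N', hN', hNn, -⟩ := Cfsg.Agent.S0035.result C hCf
  -- membership in the kernel
  have hmem : ∀ u : S, u ∈ N' ↔ (u = 1 ∨ ∀ c : Ω, (u : G) • c = c → c = a) := by
    intro u
    have h1 : u ∈ N' ↔ u ∈ frobeniusKernel C := by rw [← hN']; rfl
    rw [h1]
    constructor
    · rintro (h | h)
      · exact Or.inl h
      · right
        intro c hc
        by_contra hca
        obtain ⟨g, hga, hgb⟩ := two_trans hZ hab (Ne.symm hca)
        apply h ⟨g, hga⟩
        rw [Subgroup.mem_pointwise_smul_iff_inv_smul_mem]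
        show (MulAut.conj (⟨g, hga⟩ : S))⁻¹ • u ∈ C
        rw [← map_inv, MulAut.smul_def, MulAut.conj_apply, hC, Subgroup.mem_subgroupOf]
        have hua : (u : G) • a = a := u.2
        refine ⟨?_, ?_⟩
        · show ((⟨g, hga⟩ : S)⁻¹ * u * (⟨g, hga⟩ : S)⁻¹⁻¹ : S).1 • a = a
          simp only [inv_inv, Subgroup.coe_mul, Subgroup.coe_inv, mul_smul]
          rw [hga, hua, ← hga, inv_smul_smul, hga]
        · show ((⟨g, hga⟩ : S)⁻¹ * u * (⟨g, hga⟩ : S)⁻¹⁻¹ : S).1 • b = b
          simp only [inv_inv, Subgroup.coe_mul, Subgroup.coe_inv, mul_smul]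
          rw [hgb, hc, ← hgb, inv_smul_smul]
    · rintro (h | h)
      · exact Or.inl h
      · by_cases hu1 : u = 1
        · exact Or.inl hu1
        right
        intro g hg
        rw [Subgroup.mem_pointwise_smul_iff_inv_smul_mem] at hg
        have hg' : (MulAut.conj g)⁻¹ • u ∈ C := hg
        rw [← map_inv, MulAut.smul_def, MulAut.conj_apply, hC, Subgroup.mem_subgroupOf] at hg'
        have hb : ((g⁻¹ * u * g⁻¹⁻¹ : S) : G) • b = b := hg'.2
        simp only [inv_inv, Subgroup.coe_mul, Subgroup.coe_inv, mul_smul] at hb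
        have hfix : (u : G) • ((g : G) • b) = (g : G) • b := by
          have := congrArg (fun x => (g : G) • x) hb
          simpa using this
        have := h _ hfix
        have hga : (g : G) • a = a := g.2
        have : (g : G) • b = (g : G) • a := by rw [this, hga]
        exact hab (smul_left_cancel _ this).symm
  have hcardN : Nat.card N' + 1 = Fintype.card Ω := by
    rw [← card_kernel_set hZ a]
    congr 1
    apply Nat.card_congr
    exact Equiv.subtypeEquivRight hmem
  -- semiregularity
  have hsemi : ∀ u : S, u ∈ N' → ∀ c : Ω, c ≠ a → (u : G) • c = c → u = 1 := by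
    intro u hu c hca hc
    rcases (hmem u).mp hu with h | h
    · exact h
    · exact absurd (h c hc) hca
  refine ⟨N'.map S.subtype, Subgroup.map_subtype_le N', ?_, ?_⟩
  · have : (N'.map S.subtype).subgroupOf S = N' :=
      Subgroup.comap_map_eq_self_of_injective (Subgroup.subtype_injective S) N'
    rw [this]
    exact hNn
  · intro y z hy hz
    -- the orbit map of `N'` on `y`
    have hyN : ∀ u : N', ((u : S) : G) • y ≠ a := by
      intro u h
      have hua : ((u : S) : G) • a = a := (u : S).2
      have : ((u : S) : G) • y = ((u : S) : G) • a := by rw [h, hua]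
      exact hy (smul_left_cancel _ this)
    let f : N' → {x : Ω // x ≠ a} := fun u => ⟨((u : S) : G) • y, hyN u⟩
    have hf : Function.Injective f := by
      intro u v huv
      have h1 : ((u : S) : G) • y = ((v : S) : G) • y := congrArg Subtype.val huv
      have h2 : ((v⁻¹ * u : N') : S) ∈ N' := (v⁻¹ * u).2
      have h3 : (((v⁻¹ * u : N') : S) : G) • y = y := by
        simp only [Subgroup.coe_mul, Subgroup.coe_inv, mul_smul]
        rw [h1, inv_smul_smul]
      have h4 := hsemi _ h2 y hy h3
      have h5 : (v⁻¹ * u : N') = 1 := Subtype.ext h4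
      exact (inv_mul_eq_one.mp h5).symm
    have hcardT : Nat.card {x : Ω // x ≠ a} + 1 = Fintype.card Ω := by
      rw [Nat.card_eq_fintype_card, Fintype.card_subtype_compl, Fintype.card_subtype_eq]
      have : 1 ≤ Fintype.card Ω := Fintype.card_pos_iff.mpr ⟨a⟩
      omega
    have hbij : Function.Bijective f := hf.bijective_of_nat_card_le (by omega)
    obtain ⟨u, hu⟩ := hbij.2 ⟨z, hz⟩
    have huz : ((u : S) : G) • y = z := congrArg Subtype.val hu
    refine ⟨⟨((u : S) : G), ⟨(u : S), u.2, rfl⟩⟩, huz, ?_⟩
    rintro ⟨_, ⟨v, hv, rfl⟩⟩ hvz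
    have hvz' : (v : G) • y = z := hvz
    have : f ⟨v, hv⟩ = f u := Subtype.ext (by show (v : G) • y = ((u : S) : G) • y; rw [hvz', huz])
    have := hf this
    apply Subtype.ext
    show (v : G) = ((u : S) : G)
    rw [← this]

end Cfsg.Agent.Helper3.ZassPSL
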