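import Mathlib
import Cfsg.Prelude
import Cfsg.Agent.Helper4.Zassenhaus
import Cfsg.Agent.Helper5.Zassenhaus2

/-!
# Zassenhaus groups with `2 d ≤ n - 2`, `d` even: all involutions have two fixed points and every
element interchanging two points is an involution
-/

set_option autoImplicit false
set_option linter.style.haveILetI false
set_option linter.unusedSectionVars false

namespace Cfsg.Agent.Helper3.ZassPSL

open MulAction Cfsg.Agent.Helper4

variable {G Ω : Type*} [Group G] [MulAction G Ω]

theorem swap_facts [Finite G] [Fintype Ω] [DecidableEq Ω] (hZ : Cfsg.IsZassenhausGroup G Ω)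
    {a b : Ω} (hab : a ≠ b)
    (heven : Even (Nat.card ↥(stabilizer G a ⊓ stabilizer G b)))
    (hd2 : 2 * Nat.card ↥(stabilizer G a ⊓ stabilizer G b) ≤ Fintype.card Ω - 2) :
    (∀ t : G, t * t = 1 → t ≠ 1 → (Finset.univ.filter (fun y : Ω => t • y = y)).card = 2) ∧
    (∀ g : G, g • a = b → g • b = a → g * g = 1) := by
  classical
  letI : Fintype G := Fintype.ofFinite G
  have hN3 : 3 ≤ Fintype.card Ω := Cfsg.Agent.Helper5.Zassenhaus.three_le_card hZ
  obtain ⟨hfaith, h2, h3, hex, hnoreg⟩ := hZ
  have hZ' : Cfsg.IsZassenhausGroup G Ω := ⟨hfaith, h2, h3, hex, hnoreg⟩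
  have h2' := h2
  rw [is_two_pretransitive_iff] at h2'
  set N := Fintype.card Ω with hN
  set d := Nat.card ↥(stabilizer G a ⊓ stabilizer G b) with hd
  -- the involution z in the two point stabiliser
  haveI : Fact (Nat.Prime 2) := ⟨Nat.prime_two⟩
  obtain ⟨z, hz⟩ := exists_prime_orderOf_dvd_card'
    (G := ↥(stabilizer G a ⊓ stabilizer G b)) 2 heven.two_dvd
  have hz' : orderOf (z : G) = 2 := by rw [Subgroup.orderOf_coe]; exact hz
  have hz1 : (z : G) ≠ 1 := by
    intro e; rw [e, orderOf_one] at hz'; omega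
  have hzz : (z : G) * (z : G) = 1 := by
    have := pow_orderOf_eq_one (z : G)
    rwa [hz', pow_two] at this
  have hza : (z : G) • a = a := z.2.1
  have hzb : (z : G) • b = b := z.2.2
  -- the involutions
  let I : Finset G := Finset.univ.filter (fun t => t * t = 1 ∧ t ≠ 1)
  have hI : ∀ t, t ∈ I ↔ t * t = 1 ∧ t ≠ 1 := by
    intro t
    simp [I]
  let P : Finset (Ω × Ω) := (Finset.univ : Finset Ω).offDiag
  have hP : P.card = N * N - N := by
    rw [Finset.offDiag_card, Finset.card_univ]
  have hPmem : ∀ q : Ω × Ω, q ∈ P ↔ q.1 ≠ q.2 := by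
    intro q
    simp [P]
  let Fx : G → Finset Ω := fun g => Finset.univ.filter (fun y => g • y = y)
  have hFx : ∀ t ∈ I, (Fx t).card ≤ 2 := by
    intro t ht
    have h1 := zassenhaus_card_fixedBy_le_two hZ' t ((hI t).mp ht).2
    have e : Nat.card (fixedBy Ω t) = (Fx t).card := by
      rw [Nat.card_eq_fintype_card, Fintype.card_subtype]
      rfl
    rwa [e] at h1
  let rF : G → Ω × Ω → Prop := fun t q => t • q.1 = q.1 ∧ t • q.2 = q.2
  let rS : G → Ω × Ω → Prop := fun t q => t • q.1 = q.2 ∧ t • q.2 = q.1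
  have keyF := Finset.sum_card_bipartiteAbove_eq_sum_card_bipartiteBelow (s := I) (t := P) rF
  have keyS := Finset.sum_card_bipartiteAbove_eq_sum_card_bipartiteBelow (s := I) (t := P) rS
  have hFP : ∀ t ∈ I, (P.bipartiteAbove rF t).card = (Fx t).card * ((Fx t).card - 1) := by
    intro t ht
    have : P.bipartiteAbove rF t = (Fx t).offDiag := by
      ext q
      simp only [Finset.bipartiteAbove, Finset.mem_filter, Finset.mem_offDiag, Finset.mem_univ,
        true_and, P, rF, Fx]
      tauto
    rw [this, Finset.offDiag_card]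
    have := hFx t ht
    interval_cases (Fx t).card <;> omega
  have hSP : ∀ t ∈ I, N - (Fx t).card ≤ (P.bipartiteAbove rS t).card := by
    intro t ht
    obtain ⟨htt, ht1⟩ := (hI t).mp ht
    let Mv : Finset Ω := Finset.univ.filter (fun y => t • y ≠ y)
    have hMv : Mv.card + (Fx t).card = N := by
      rw [add_comm]
      exact Finset.card_filter_add_card_filter_not (s := Finset.univ) (fun y => t • y = y)
    have h1 : N - (Fx t).card ≤ Mv.card := by omega
    refine h1.trans ?_
    have hinj : Set.InjOn (fun x : Ω => (x, t • x)) (Mv : Set Ω) := by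
      intro x _ y _ hxy
      exact (Prod.mk.inj hxy).1
    rw [← Finset.card_image_of_injOn hinj]
    apply Finset.card_le_card
    intro q hq
    rw [Finset.mem_image] at hq
    obtain ⟨x, hx, rfl⟩ := hq
    have hx' : t • x ≠ x := by simpa [Mv] using hx
    simp only [Finset.bipartiteAbove, Finset.mem_filter, hPmem, rS]
    refine ⟨fun h => hx' h.symm, trivial, ?_⟩
    rw [← mul_smul, htt, one_smul]
  -- termwise inequality
  have hterm : ∀ t ∈ I, (P.bipartiteAbove rF t).card * (N - 2) ≤
      2 * (P.bipartiteAbove rS t).card := by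
    intro t ht
    have h1 := hFP t ht
    have h2 := hSP t ht
    have h3 := hFx t ht
    rw [h1]
    interval_cases hc : (Fx t).card
    · simp
    · simp
    · have : N - 2 ≤ (P.bipartiteAbove rS t).card := h2
      calc 2 * (2 - 1) * (N - 2) = 2 * (N - 2) := by norm_num
        _ ≤ 2 * (P.bipartiteAbove rS t).card := Nat.mul_le_mul_left 2 this
  have hbelowF : ∀ q ∈ P, 1 ≤ (I.bipartiteBelow rF q).card := by
    rintro ⟨x, y⟩ hq
    have hxy : x ≠ y := (hPmem _).mp hq
    obtain ⟨g, hga, hgb⟩ := h2' hab hxy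
    rw [Nat.succ_le_iff, Finset.card_pos]
    refine ⟨g * z * g⁻¹, ?_⟩
    simp only [Finset.bipartiteBelow, Finset.mem_filter, hI, rF]
    refine ⟨⟨?_, ?_⟩, ?_, ?_⟩
    · have : g * ↑z * g⁻¹ * (g * ↑z * g⁻¹) = g * (↑z * ↑z) * g⁻¹ := by group
      rw [this, hzz, mul_one, mul_inv_cancel]
    · intro h
      apply hz1
      have := congrArg (fun u => g⁻¹ * u * g) h
      simpa [mul_assoc] using this
    · rw [mul_smul, mul_smul, ← hga, inv_smul_smul, hza]
    · rw [mul_smul, mul_smul, ← hgb, inv_smul_smul, hzb]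
  -- the number of elements swapping a pair is at most d
  have hswab : ∀ S : Finset G, (∀ t ∈ S, t • a = b ∧ t • b = a) → S.card ≤ d := by
    intro S hS
    rcases S.eq_empty_or_nonempty with rfl | ⟨t0, ht0⟩
    · simp
    · have h0 := hS t0 ht0
      have hmem : ∀ t ∈ S, t0⁻¹ * t ∈ stabilizer G a ⊓ stabilizer G b := by
        intro t ht
        have h1 := hS t ht
        rw [Subgroup.mem_inf, mem_stabilizer_iff, mem_stabilizer_iff, mul_smul, mul_smul,
          h1.1, h1.2, inv_smul_eq_iff, inv_smul_eq_iff]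
        exact ⟨h0.1.symm, h0.2.symm⟩
      have : S.card ≤ Nat.card ↥(stabilizer G a ⊓ stabilizer G b) := by
        rw [Nat.card_eq_fintype_card, ← Finset.card_univ]
        refine Finset.card_le_card_of_injOn
          (fun t => if h : t ∈ S then ⟨t0⁻¹ * t, hmem t h⟩ else 1)
          (fun _ _ => Finset.mem_univ _) ?_
        intro t ht t' ht' htt'
        have ht_ : t ∈ S := ht
        have ht'_ : t' ∈ S := ht'
        simp only [dif_pos ht_, dif_pos ht'_] at htt'
        have := congrArg Subtype.val htt'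
        simpa using this
      exact this
  have hbelowS : ∀ q ∈ P, (I.bipartiteBelow rS q).card ≤ d := by
    rintro ⟨x, y⟩ hq
    have hxy : x ≠ y := (hPmem _).mp hq
    obtain ⟨g, hga, hgb⟩ := h2' hab hxy
    have hinj : Set.InjOn (fun t : G => g⁻¹ * t * g)
        ((I.bipartiteBelow rS (x, y) : Finset G) : Set G) := by
      intro t _ t' _ htt'
      have := congrArg (fun u => g * u * g⁻¹) htt'
      simpa [mul_assoc] using this
    rw [← Finset.card_image_of_injOn hinj]
    apply hswab
    intro u hu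
    rw [Finset.mem_image] at hu
    obtain ⟨t, ht, rfl⟩ := hu
    simp only [Finset.bipartiteBelow, Finset.mem_filter, rS] at ht
    obtain ⟨_, ht1, ht2⟩ := ht
    constructor
    · rw [mul_smul, mul_smul, hga, ht1, ← hgb, inv_smul_smul]
    · rw [mul_smul, mul_smul, hgb, ht2, ← hga, inv_smul_smul]
  -- the chain of (in)equalities
  set M := N * N - N with hM
  have hMpos : 0 < M := by
    have : N * 3 ≤ N * N := Nat.mul_le_mul_left N hN3
    omega
  set sumF := ∑ t ∈ I, (P.bipartiteAbove rF t).card with hsF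
  set sumS := ∑ t ∈ I, (P.bipartiteAbove rS t).card with hsS
  have c1 : M ≤ sumF := by
    calc M = P.card := hP.symm
      _ = ∑ q ∈ P, 1 := by simp
      _ ≤ ∑ q ∈ P, (I.bipartiteBelow rF q).card := Finset.sum_le_sum hbelowF
      _ = sumF := keyF.symm
  have c2 : sumF * (N - 2) ≤ 2 * sumS := by
    rw [hsF, hsS, Finset.sum_mul, Finset.mul_sum]
    exact Finset.sum_le_sum hterm
  have c3 : sumS ≤ M * d := by
    calc sumS = ∑ q ∈ P, (I.bipartiteBelow rS q).card := keyS
      _ ≤ ∑ q ∈ P, d := Finset.sum_le_sum hbelowS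
      _ = M * d := by rw [Finset.sum_const, smul_eq_mul, hP]
  have c4 : 2 * (M * d) ≤ M * (N - 2) := by
    calc 2 * (M * d) = M * (2 * d) := by ring
      _ ≤ M * (N - 2) := Nat.mul_le_mul_left M hd2
  have hN2pos : 0 < N - 2 := by omega
  -- equalities
  have e1 : sumF * (N - 2) = 2 * sumS := by
    apply le_antisymm c2
    calc 2 * sumS ≤ 2 * (M * d) := Nat.mul_le_mul_left 2 c3
      _ ≤ M * (N - 2) := c4
      _ ≤ sumF * (N - 2) := Nat.mul_le_mul_right _ c1
  have e2 : sumS = M * d := by
    apply le_antisymm c3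
    have : 2 * (M * d) ≤ 2 * sumS := by
      calc 2 * (M * d) ≤ M * (N - 2) := c4
        _ ≤ sumF * (N - 2) := Nat.mul_le_mul_right _ c1
        _ = 2 * sumS := e1
    omega
  -- termwise equalities
  have hterm_eq : ∀ t ∈ I, (P.bipartiteAbove rF t).card * (N - 2) =
      2 * (P.bipartiteAbove rS t).card := by
    have hsum : ∑ t ∈ I, (P.bipartiteAbove rF t).card * (N - 2) =
        ∑ t ∈ I, 2 * (P.bipartiteAbove rS t).card := by
      rw [← Finset.sum_mul, ← Finset.mul_sum]
      exact e1
    exact (Finset.sum_eq_sum_iff_of_le hterm).mp hsum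
  have hbelow_eq : ∀ q ∈ P, (I.bipartiteBelow rS q).card = d := by
    have hsum : ∑ q ∈ P, (I.bipartiteBelow rS q).card = ∑ q ∈ P, d := by
      rw [← keyS, Finset.sum_const, smul_eq_mul, hP]
      exact e2
    exact (Finset.sum_eq_sum_iff_of_le hbelowS).mp hsum
  constructor
  · intro t htt ht1
    have ht : t ∈ I := (hI t).mpr ⟨htt, ht1⟩
    have h1 := hFP t ht
    have h2 := hSP t ht
    have h3 := hFx t ht
    have h4 := hterm_eq t ht
    show (Fx t).card = 2
    rw [h1] at h4
    interval_cases hc : (Fx t).card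
    · exfalso
      simp only [Nat.zero_mul] at h4
      omega
    · exfalso
      simp only [Nat.sub_self, Nat.mul_zero, Nat.zero_mul] at h4
      omega
    · rfl
  · intro g hga hgb
    let Sw : Finset G := Finset.univ.filter (fun t => t • a = b ∧ t • b = a)
    have hSw : Sw.card ≤ d := hswab Sw (fun t ht => by simpa [Sw] using ht)
    have hsub : I.bipartiteBelow rS (a, b) ⊆ Sw := by
      intro t ht
      simp only [Finset.bipartiteBelow, Finset.mem_filter, rS] at ht
      simp only [Sw, Finset.mem_filter, Finset.mem_univ, true_and]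
      exact ht.2
    have hcard := hbelow_eq (a, b) ((hPmem _).mpr hab)
    have heq : I.bipartiteBelow rS (a, b) = Sw :=
      Finset.eq_of_subset_of_card_le hsub (by rw [hcard]; exact hSw)
    have hg : g ∈ Sw := by
      simp only [Sw, Finset.mem_filter, Finset.mem_univ, true_and]
      exact ⟨hga, hgb⟩
    rw [← heq] at hg
    simp only [Finset.bipartiteBelow, Finset.mem_filter] at hg
    exact ((hI g).mp hg.1).1

end Cfsg.Agent.Helper3.ZassPSL
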