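import Mathlib

/-!
# A finite abelian group with an irreducible commuting family of automorphisms is the additive
group of a finite field on which the family acts by multiplications
-/

set_option autoImplicit false
set_option linter.style.haveILetI false
set_option linter.unusedSectionVars false

namespace Cfsg.Agent.Helper3.ZassPSL

universe u

/-- A copy of `Fin n` without algebraic instances. -/
structure FinCopy (n : ℕ) : Type where
  /-- the underlying element -/
  val : Fin n

/-- `FinCopy n` is equivalent to `Fin n`. -/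
def FinCopy.equivFin (n : ℕ) : FinCopy n ≃ Fin n where
  toFun x := x.val
  invFun x := ⟨x⟩
  left_inv _ := rfl
  right_inv _ := rfl

instance (n : ℕ) : Fintype (FinCopy n) := Fintype.ofEquiv (Fin n) (FinCopy.equivFin n).symm

/-- Every finite field has a copy in `Type`. -/
theorem exists_field_type0 (K₀ : Type u) [Field K₀] [Finite K₀] :
    ∃ (K : Type) (_ : Field K) (_ : Fintype K), Nonempty (K ≃+* K₀) := by
  classical
  haveI := Fintype.ofFinite K₀
  let e₀ : FinCopy (Fintype.card K₀) ≃ K₀ :=
    (FinCopy.equivFin _).trans (Fintype.equivFinOfCardEq rfl).symm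
  letI fld : Field (FinCopy (Fintype.card K₀)) := e₀.field
  refine ⟨FinCopy (Fintype.card K₀), fld, inferInstance, ⟨?_⟩⟩
  exact
    { e₀ with
      map_mul' := fun x y => by
        show e₀ (e₀.symm (e₀ x * e₀ y)) = e₀ x * e₀ y
        rw [Equiv.apply_symm_apply]
      map_add' := fun x y => by
        show e₀ (e₀.symm (e₀ x + e₀ y)) = e₀ x + e₀ y
        rw [Equiv.apply_symm_apply] }

section Field

variable {V : Type*} [AddCommGroup V] [Finite V] {H : Type*} [Group H]

theorem exists_field_of_irreducible (ρ : H →* AddMonoid.End V)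
    (hcomm : ∀ x y : H, ρ x * ρ y = ρ y * ρ x)
    (hirr : ∀ W : AddSubgroup V, (∀ h : H, ∀ w ∈ W, ρ h w ∈ W) → W = ⊥ ∨ W = ⊤)
    (e : V) (he : e ≠ 0) :
    ∃ (K : Type) (_ : Field K) (_ : Fintype K) (ι : K ≃+ V) (σ : H →* Kˣ),
      ι 1 = e ∧ ∀ (h : H) (k : K), ι ((σ h : K) * k) = ρ h (ι k) := by
  classical
  let R : Subring (AddMonoid.End V) := Subring.closure (Set.range ρ)
  have hRcomm : IsMulCommutative R := Subring.isMulCommutative_closure (by
    rintro _ ⟨x, rfl⟩ _ ⟨y, rfl⟩
    exact hcomm x y)
  have hρR : ∀ h : H, ρ h ∈ R := fun h => Subring.subset_closure ⟨h, rfl⟩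
  letI cr : CommRing R :=
    { (inferInstance : Ring R) with mul_comm := fun a b => hRcomm.is_comm.comm a b }
  -- elements of `R` commute with `ρ h`
  have hcommR : ∀ (φ : R) (h : H) (v : V), (φ : AddMonoid.End V) (ρ h v) = ρ h ((φ : AddMonoid.End V) v) := by
    intro φ h v
    have h1 : φ * ⟨ρ h, hρR h⟩ = ⟨ρ h, hρR h⟩ * φ := mul_comm _ _
    have h2 := congrArg (fun ψ : R => (ψ : AddMonoid.End V) v) h1
    exact h2
  -- nonzero elements are injective
  have hinj : ∀ φ : R, φ ≠ 0 → ∀ v : V, (φ : AddMonoid.End V) v = 0 → v = 0 := by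
    intro φ hφ v hv
    let W : AddSubgroup V := AddMonoidHom.ker (φ : AddMonoid.End V)
    have hW : ∀ h : H, ∀ w ∈ W, ρ h w ∈ W := by
      intro h w hw
      have hw' : (φ : AddMonoid.End V) w = 0 := AddMonoidHom.mem_ker.mp hw
      apply AddMonoidHom.mem_ker.mpr
      exact (hcommR φ h w).trans (by rw [hw', map_zero])
    rcases hirr W hW with h | h
    · have : v ∈ W := AddMonoidHom.mem_ker.mpr hv
      rw [h] at this
      exact (AddSubgroup.mem_bot).mp this
    · exfalso
      apply hφ
      apply Subtype.ext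
      apply AddMonoidHom.ext
      intro w
      have : w ∈ W := by rw [h]; exact AddSubgroup.mem_top w
      exact AddMonoidHom.mem_ker.mp this
  -- evaluation at `e`
  let ev : R →+ V :=
    { toFun := fun φ => (φ : AddMonoid.End V) e
      map_zero' := rfl
      map_add' := fun φ ψ => rfl }
  have hev : ∀ φ : R, ev φ = (φ : AddMonoid.End V) e := fun _ => rfl
  have hevinj : Function.Injective ev := by
    rw [injective_iff_map_eq_zero]
    intro φ hφ
    by_contra h0
    exact he (hinj φ h0 e hφ)
  have hevsurj : Function.Surjective ev := by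
    let W : AddSubgroup V := AddMonoidHom.range ev
    have hW : ∀ h : H, ∀ w ∈ W, ρ h w ∈ W := by
      rintro h _ ⟨φ, rfl⟩
      exact ⟨⟨ρ h, hρR h⟩ * φ, rfl⟩
    rcases hirr W hW with h | h
    · exfalso
      have : e ∈ W := ⟨1, rfl⟩
      rw [h] at this
      exact he ((AddSubgroup.mem_bot).mp this)
    · intro v
      have : v ∈ W := by rw [h]; exact AddSubgroup.mem_top v
      exact this
  haveI : Finite R := Finite.of_injective ev hevinj
  haveI : Nontrivial R := ⟨⟨0, 1, fun h => he (by
    have := congrArg ev h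
    rw [map_zero] at this
    exact this.symm)⟩⟩
  haveI : NoZeroDivisors R := ⟨by
    intro φ ψ hφψ
    by_contra hcon
    push Not at hcon
    apply hcon.2
    apply Subtype.ext
    apply AddMonoidHom.ext
    intro v
    have h1 : (φ : AddMonoid.End V) ((ψ : AddMonoid.End V) v) = 0 := by
      have := congrArg (fun χ : R => (χ : AddMonoid.End V) v) hφψ
      exact this
    exact hinj φ hcon.1 _ h1⟩
  haveI : IsDomain R := NoZeroDivisors.to_isDomain R
  haveI : Fintype R := Fintype.ofFinite R
  letI fldR : Field R := Fintype.fieldOfDomain R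
  obtain ⟨K, fK, ftK, ⟨eK⟩⟩ := exists_field_type0 R
  let ρR : H →* R := ρ.codRestrict R hρR
  let σ₀ : H →* Rˣ := ρR.toHomUnits
  let σ : H →* Kˣ := (Units.map (eK.symm : R →* K)).comp σ₀
  let ι : K ≃+ V := (eK : K ≃+ R).trans (AddEquiv.ofBijective ev ⟨hevinj, hevsurj⟩)
  refine ⟨K, fK, ftK, ι, σ, ?_, ?_⟩
  · show ev (eK 1) = e
    rw [map_one]
    rfl
  · intro h k
    show ev (eK ((σ h : K) * k)) = ρ h (ev (eK k))
    rw [map_mul]
    have : eK (σ h : K) = ρR h := by
      show eK (eK.symm (σ₀ h : R)) = _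
      rw [RingEquiv.apply_symm_apply]
      rfl
    rw [this]
    rfl

end Field

end Cfsg.Agent.Helper3.ZassPSL
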