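import Mathlib
import Cfsg.Prelude
import Cfsg.Agent.Helper4.Zassenhaus2
import Cfsg.Agent.Helper4.Zassenhaus3
import Cfsg.Agent.Helper3.ZassPSLa
import Cfsg.Agent.Helper3.ZassPSLb
import Cfsg.Agent.Helper3.ZassPSLc

/-!
# Zassenhaus groups with `2 d = n - 2`, `d` even: structure of the point stabiliser
-/

set_option autoImplicit false
set_option linter.style.haveILetI false
set_option linter.unusedSectionVars false

namespace Cfsg.Agent.Helper3.ZassPSL

open MulAction Cfsg.Agent.Helper4
open Cfsg.Agent.Helper5.Zassenhaus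

variable {G Ω : Type*} [Group G] [MulAction G Ω]

/-- The two point stabiliser acts freely by conjugation on the non-identity elements of a
subgroup acting regularly off `a`. -/
theorem conj_free (hZ : Cfsg.IsZassenhausGroup G Ω) {a b : Ω} (hab : a ≠ b)
    (F : Subgroup G) (hFle : F ≤ stabilizer G a)
    (hreg : ∀ y z : Ω, y ≠ a → z ≠ a → ∃! u : F, (u : G) • y = z)
    {h u : G} (hh : h ∈ stabilizer G a ⊓ stabilizer G b) (hu : u ∈ F) (hu1 : u ≠ 1)
    (hconj : h * u * h⁻¹ = u) : h = 1 := by
  have hha : h • a = a := hh.1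
  have hhb : h • b = b := hh.2
  have hua : u • a = a := hFle hu
  have hubb : u • b ≠ b := by
    intro hfix
    apply hu1
    have h1 : ((⟨u, hu⟩ : F) : G) • b = b := hfix
    have h2 : ((1 : F) : G) • b = b := one_smul _ _
    have := (hreg b b hab.symm hab.symm).unique h1 h2
    exact congrArg Subtype.val this
  have huba : u • b ≠ a := by
    intro h
    have : u • b = u • a := by rw [h, hua]
    exact hab (smul_left_cancel _ this).symm
  have hfix : h • (u • b) = u • b := by
    have : h * u = u * h := by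
      have := congrArg (· * h) hconj
      simpa [mul_assoc] using this
    rw [← mul_smul, this, mul_smul, hhb]
  exact eq_one_of_fix3 hZ hab (Ne.symm hubb) (Ne.symm huba) hha hhb hfix

/-- Irreducibility of the action of the two point stabiliser on the kernel. -/
theorem invariant_subgroup [Finite G] (hZ : Cfsg.IsZassenhausGroup G Ω) {a b : Ω} (hab : a ≠ b)
    (F : Subgroup G) (hFle : F ≤ stabilizer G a)
    (hreg : ∀ y z : Ω, y ≠ a → z ≠ a → ∃! u : F, (u : G) • y = z)
    (hcardF : Nat.card F = 2 * Nat.card ↥(stabilizer G a ⊓ stabilizer G b) + 1)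
    (M : Subgroup G) (hMF : M ≤ F)
    (hMinv : ∀ h ∈ stabilizer G a ⊓ stabilizer G b, ∀ x ∈ M, h * x * h⁻¹ ∈ M) :
    M = ⊥ ∨ M = F := by
  classical
  set H := stabilizer G a ⊓ stabilizer G b with hH
  set d := Nat.card H with hd
  have hdpos : 0 < d := Nat.card_pos
  let S : Set G := {x | x ∈ M ∧ x ≠ 1}
  have hS : S = (M : Set G) \ {1} := by
    ext x
    simp [S]
  have hScard : S.ncard = Nat.card M - 1 := by
    rw [hS, Set.ncard_sdiff_singleton_of_mem M.one_mem]
    rfl
  have hdvd : d ∣ S.ncard := by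
    apply card_dvd_ncard_of_free_conj H S
    · intro h hh x hx
      refine ⟨hMinv h hh x hx.1, ?_⟩
      intro h1
      apply hx.2
      have := congrArg (fun u => h⁻¹ * u * h) h1
      simpa [mul_assoc] using this
    · intro h hh x hx hc
      exact conj_free hZ hab F hFle hreg hh (hMF hx.1) hx.2 hc
  have hMdvd : Nat.card M ∣ Nat.card F := Subgroup.card_dvd_of_le hMF
  have hMpos : 0 < Nat.card M := Nat.card_pos
  rw [hScard] at hdvd
  obtain ⟨k, hk⟩ := hdvd
  have hMle : Nat.card M ≤ 2 * d + 1 := by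
    rw [← hcardF]
    exact Nat.le_of_dvd Nat.card_pos hMdvd
  have hk2 : k ≤ 2 := by
    by_contra hcon
    push Not at hcon
    have : d * 3 ≤ d * k := Nat.mul_le_mul_left d hcon
    omega
  interval_cases k
  · left
    apply Subgroup.eq_bot_of_card_eq
    omega
  · exfalso
    have h1 : Nat.card M = d + 1 := by omega
    rw [h1, hcardF] at hMdvd
    have : d + 1 ∣ 2 * (d + 1) - (2 * d + 1) := Nat.dvd_sub (Dvd.intro_left 2 rfl) hMdvd
    have e : 2 * (d + 1) - (2 * d + 1) = 1 := by omega
    rw [e] at this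
    have := Nat.dvd_one.mp this
    omega
  · right
    apply Subgroup.eq_of_le_of_card_ge hMF
    omega

/-- An involution interchanging `a` and `b`, all of whose translates by the two point stabiliser
are involutions, inverts the two point stabiliser, which is therefore commutative. -/
theorem inverts_of_swap {a b : Ω} (hinv : ∀ g : G, g • a = b → g • b = a → g * g = 1)
    {t : G} (hta : t • a = b) (htb : t • b = a) :
    (∀ h ∈ stabilizer G a ⊓ stabilizer G b, t * h * t⁻¹ = h⁻¹) ∧
    (∀ x ∈ stabilizer G a ⊓ stabilizer G b, ∀ y ∈ stabilizer G a ⊓ stabilizer G b,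
      x * y = y * x) := by
  have htt : t * t = 1 := hinv t hta htb
  have htinv : t⁻¹ = t := inv_eq_of_mul_eq_one_left htt
  have h1 : ∀ h ∈ stabilizer G a ⊓ stabilizer G b, t * h * t⁻¹ = h⁻¹ := by
    intro h hh
    have hha : h • a = a := hh.1
    have hhb : h • b = b := hh.2
    have h2 : (t * h) * (t * h) = 1 :=
      hinv (t * h) (by rw [mul_smul, hha, hta]) (by rw [mul_smul, hhb, htb])
    rw [htinv]
    have : t * h * t * h = 1 := by rw [← h2]; group
    exact eq_inv_of_mul_eq_one_left this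
  refine ⟨h1, ?_⟩
  intro x hx y hy
  have hxy := h1 (x * y) (Subgroup.mul_mem _ hx hy)
  have hx' := h1 x hx
  have hy' := h1 y hy
  have e : t * (x * y) * t⁻¹ = (t * x * t⁻¹) * (t * y * t⁻¹) := by group
  rw [e, hx', hy', mul_inv_rev] at hxy
  have := congrArg (fun z => z⁻¹) hxy
  have h3 : y * x = x * y := by simpa using this
  exact h3.symm

/-- Coordinates on a Zassenhaus group with `2 d = n - 2`, `d` even. -/
theorem coordinatize [Finite G] [Fintype Ω] (hZ : Cfsg.IsZassenhausGroup G Ω) {a b : Ω}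
    (hab : a ≠ b)
    (heven : Even (Nat.card ↥(stabilizer G a ⊓ stabilizer G b)))
    (hd2 : 2 * Nat.card ↥(stabilizer G a ⊓ stabilizer G b) ≤ Fintype.card Ω - 2) :
    ∃ (p f : ℕ) (K : Type) (_ : Field K) (_ : Fintype K) (j : K → Ω),
      p.Prime ∧ p ≠ 2 ∧ Fintype.card K = p ^ f ∧ Fintype.card Ω = p ^ f + 1 ∧
      Fintype.card K = 2 * Nat.card ↥(stabilizer G a ⊓ stabilizer G b) + 1 ∧
      Function.Injective j ∧ (∀ x, j x ≠ a) ∧ (∀ y, y ≠ a → ∃ x, j x = y) ∧ j 0 = b ∧
      (2 : K) ≠ 0 ∧ IsSquare (-1 : K) ∧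
      (∀ g : G, g • a = a → ∃ s c : K, s ≠ 0 ∧ IsSquare s ∧ ∀ x, g • j x = j (s * x + c)) ∧
      (∀ s c : K, s ≠ 0 → IsSquare s → ∃ g : G, g • a = a ∧ ∀ x, g • j x = j (s * x + c)) ∧
      (∀ g : G, g • a = j 0 → g • j 0 = a → g * g = 1 ∧ ∃ x, x ≠ 0 ∧ g • j x = j x) := by
  classical
  have hN3 : 3 ≤ Fintype.card Ω := Cfsg.Agent.Helper5.Zassenhaus.three_le_card hZ
  have hle := zassenhaus_degree_le hZ hab heven
  obtain ⟨F, hFle, hFn, hreg⟩ := exists_kernel hZ hab
  obtain ⟨hFcomm, p, f, hp, hexp, hcardΩ⟩ :=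
    zassenhaus_kernel_elementary hZ hab hle F hFle hFn hreg
  obtain ⟨hfix2, hinv⟩ := swap_facts hZ hab heven hd2
  set H := stabilizer G a ⊓ stabilizer G b with hH
  set d := Nat.card H with hd
  have hdpos : 0 < d := Nat.card_pos
  have hNd : Fintype.card Ω = 2 * d + 2 := by omega
  -- basic facts on `F`
  have hFa : ∀ u : F, (u : G) • a = a := fun u => hFle u.2
  have hub : ∀ u : F, (u : G) • b ≠ a := by
    intro u h
    have : (u : G) • b = (u : G) • a := by rw [h, hFa u]
    exact hab (smul_left_cancel _ this).symm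
  have hcardF : Nat.card F = 2 * d + 1 := by
    have e : F ≃ {x : Ω // x ≠ a} := Equiv.ofBijective (fun u => ⟨(u : G) • b, hub u⟩) (by
      constructor
      · intro u u' huu'
        have h1 : (u : G) • b = (u' : G) • b := congrArg Subtype.val huu'
        exact (hreg b ((u' : G) • b) hab.symm (hub u')).unique h1 rfl
      · rintro ⟨x, hx⟩
        obtain ⟨u, hu⟩ := (hreg b x hab.symm hx).exists
        exact ⟨u, Subtype.ext hu⟩)
    rw [Nat.card_congr e, Nat.card_eq_fintype_card, Fintype.card_subtype_compl,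
      Fintype.card_subtype_eq]
    omega
  have hnorm : ∀ h ∈ stabilizer G a, ∀ u ∈ F, h * u * h⁻¹ ∈ F := by
    intro h hh u hu
    have := hFn.conj_mem ⟨u, hFle hu⟩ (Subgroup.mem_subgroupOf.mpr hu) ⟨h, hh⟩
    rw [Subgroup.mem_subgroupOf] at this
    simpa using this
  -- the swapping element
  obtain ⟨t, hta, htb⟩ := two_trans hZ hab hab.symm
  obtain ⟨htinv, hHcomm⟩ := inverts_of_swap hinv hta htb
  -- the module
  letI cgF : CommGroup F :=
    { (inferInstance : Group F) with mul_comm := fun x y => hFcomm.is_comm.comm x y }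
  let cj : H → (F →* F) := fun h =>
    { toFun := fun u => ⟨(h : G) * u * (h : G)⁻¹, hnorm h h.2.1 u u.2⟩
      map_one' := Subtype.ext (by simp)
      map_mul' := fun u v => Subtype.ext (by simp [mul_assoc]) }
  have hcj : ∀ (h : H) (u : F), ((cj h u : F) : G) = (h : G) * u * (h : G)⁻¹ := fun _ _ => rfl
  let ρ : H →* AddMonoid.End (Additive F) :=
    { toFun := fun h => MonoidHom.toAdditive (cj h)
      map_one' := by
        apply AddMonoidHom.ext
        intro v
        show Additive.ofMul (cj 1 (Additive.toMul v)) = Additive.ofMul (Additive.toMul v)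
        apply congrArg Additive.ofMul
        apply Subtype.ext
        rw [hcj]
        simp
      map_mul' := fun h k => by
        apply AddMonoidHom.ext
        intro v
        show Additive.ofMul (cj (h * k) (Additive.toMul v)) =
          Additive.ofMul (cj h (cj k (Additive.toMul v)))
        apply congrArg Additive.ofMul
        apply Subtype.ext
        rw [hcj, hcj, hcj]
        simp [mul_assoc] }
  have hρ : ∀ (h : H) (u : F), ρ h (Additive.ofMul u) = Additive.ofMul (cj h u) := fun _ _ => rfl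
  have hρcomm : ∀ x y : H, ρ x * ρ y = ρ y * ρ x := by
    intro x y
    rw [← map_mul, ← map_mul]
    congr 1
    exact Subtype.ext (hHcomm x x.2 y y.2)
  have hirr : ∀ W : AddSubgroup (Additive F), (∀ h : H, ∀ w ∈ W, ρ h w ∈ W) → W = ⊥ ∨ W = ⊤ := by
    intro W hW
    let M' : Subgroup F := AddSubgroup.toSubgroup' W
    have hM' : ∀ u : F, u ∈ M' ↔ Additive.ofMul u ∈ W := fun u => Iff.rfl
    let M : Subgroup G := M'.map F.subtype
    have hMF : M ≤ F := Subgroup.map_subtype_le M'
    have hMinv : ∀ h ∈ H, ∀ x ∈ M, h * x * h⁻¹ ∈ M := by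
      rintro h hh _ ⟨u, hu, rfl⟩
      refine ⟨cj ⟨h, hh⟩ u, ?_, rfl⟩
      exact hW ⟨h, hh⟩ _ ((hM' u).mp hu)
    rcases invariant_subgroup hZ hab F hFle hreg hcardF M hMF hMinv with h | h
    · left
      rw [eq_bot_iff]
      intro w hw
      have h1 : ((Additive.toMul w : F) : G) ∈ M := ⟨Additive.toMul w, hw, rfl⟩
      rw [h, Subgroup.mem_bot] at h1
      rw [AddSubgroup.mem_bot]
      have h2 : (Additive.toMul w : F) = 1 := Subtype.ext h1
      exact h2
    · right
      rw [eq_top_iff]
      intro w _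
      have h1 : ((Additive.toMul w : F) : G) ∈ M := by rw [h]; exact (Additive.toMul w : F).2
      obtain ⟨u, hu, hu'⟩ := h1
      have : u = Additive.toMul w := Subtype.ext hu'
      rw [this] at hu
      exact hu
  -- a nonidentity element of `F`
  haveI : Nontrivial F := by
    rw [← Finite.one_lt_card_iff_nontrivial]
    omega
  obtain ⟨u₀, hu₀⟩ := exists_ne (1 : F)
  obtain ⟨K, fK, ftK, ι, σ, hι1, hισ⟩ :=
    exists_field_of_irreducible ρ hρcomm hirr (Additive.ofMul u₀) hu₀
  -- cardinality of K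
  have hcardK : Fintype.card K = 2 * d + 1 := by
    rw [← hcardF, ← Nat.card_eq_fintype_card]
    exact Nat.card_congr (ι.toEquiv.trans Additive.toMul)
  -- the coordinate map
  let τ : K → F := fun k => Additive.toMul (ι k)
  have hτadd : ∀ x y, τ (x + y) = τ x * τ y := fun x y => by
    show Additive.toMul (ι (x + y)) = _
    rw [map_add]
    rfl
  have hτ0 : τ 0 = 1 := by
    show Additive.toMul (ι 0) = 1
    rw [map_zero]
    rfl
  have hτ1 : τ 1 = u₀ := by
    show Additive.toMul (ι 1) = u₀
    rw [hι1]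
    rfl
  have hτinj : Function.Injective τ := fun x y h => ι.injective (Additive.toMul.injective h)
  have hτsurj : ∀ u : F, ∃ k, τ k = u := fun u => ⟨ι.symm (Additive.ofMul u), by
    show Additive.toMul (ι (ι.symm _)) = u
    rw [AddEquiv.apply_symm_apply]
    rfl⟩
  have hτσ : ∀ (h : H) (k : K), τ ((σ h : K) * k) = cj h (τ k) := by
    intro h k
    show Additive.toMul (ι ((σ h : K) * k)) = _
    rw [hισ]
    rfl
  let j : K → Ω := fun k => ((τ k : F) : G) • b
  have hjdef : ∀ k, j k = ((τ k : F) : G) • b := fun _ => rfl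
  have hj0 : j 0 = b := by
    rw [hjdef, hτ0]
    simp
  have hjinj : Function.Injective j := by
    intro x y hxy
    have h1 : ((τ x : F) : G) • b = ((τ y : F) : G) • b := hxy
    exact hτinj ((hreg b _ hab.symm (hub (τ y))).unique h1 rfl)
  have hja : ∀ x, j x ≠ a := fun x => hub (τ x)
  have hjcov : ∀ y, y ≠ a → ∃ x, j x = y := by
    intro y hy
    obtain ⟨u, hu⟩ := (hreg b y hab.symm hy).exists
    obtain ⟨k, hk⟩ := hτsurj u
    exact ⟨k, by rw [hjdef, hk]; exact hu⟩
  -- key computation
  have hkey : ∀ (u : F) (h : H) (x c : K), τ c = u →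
      ((u : G) * (h : G)) • j x = j ((σ h : K) * x + c) := by
    intro u h x c hc
    rw [hjdef, hjdef, hτadd, hτσ, hc, mul_comm (cj h (τ x)) u, Subgroup.coe_mul, hcj]
    have hhb : (h : G) • b = b := h.2.2
    have hhb' : (h : G)⁻¹ • b = b := inv_smul_eq_iff.mpr hhb.symm
    simp only [mul_smul]
    rw [hhb']
  have hσinj : Function.Injective σ := by
    rw [injective_iff_map_eq_one]
    intro h hh
    have h1 := hτσ h 1
    rw [hh, Units.val_one, one_mul, hτ1] at h1
    have h2 : (h : G) * u₀ * (h : G)⁻¹ = u₀ := by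
      rw [← hcj]
      exact congrArg Subtype.val h1.symm
    have := conj_free hZ hab F hFle hreg h.2 u₀.2 (fun e => hu₀ (Subtype.ext e)) h2
    exact Subtype.ext this
  -- squares
  have hchar : ringChar K ≠ 2 := by
    intro h
    have := FiniteField.even_card_iff_char_two.mp h
    omega
  have h2K : (2 : K) ≠ 0 := Ring.two_ne_zero hchar
  have hhalf : Fintype.card K / 2 = d := by omega
  have hsq_iff : ∀ s : K, s ≠ 0 → (IsSquare s ↔ s ^ d = 1) := by
    intro s hs
    rw [FiniteField.isSquare_iff hchar hs, hhalf]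
  have hσpow : ∀ h : H, (σ h : K) ^ d = 1 := by
    intro h
    have h1 : h ^ d = 1 := pow_card_eq_one'
    have h2 := congrArg (fun x => ((σ x : Kˣ) : K)) h1
    simpa using h2
  have hσsq : ∀ h : H, IsSquare (σ h : K) := fun h => (hsq_iff _ (σ h).ne_zero).mpr (hσpow h)
  have hσsurj : ∀ s : K, s ≠ 0 → IsSquare s → ∃ h : H, (σ h : K) = s := by
    intro s hs hsq
    have hsd := (hsq_iff s hs).mp hsq
    let T : Finset Kˣ := Finset.univ.filter (fun x => x ^ d = 1)
    have hT : T.card ≤ d := IsCyclic.card_pow_eq_one_le hdpos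
    letI : Fintype H := Fintype.ofFinite H
    have himg : (Finset.univ.image σ) ⊆ T := by
      intro x hx
      obtain ⟨h, -, rfl⟩ := Finset.mem_image.mp hx
      simp only [T, Finset.mem_filter, Finset.mem_univ, true_and]
      apply Units.ext
      rw [Units.val_pow_eq_pow_val, hσpow, Units.val_one]
    have hcardimg : (Finset.univ.image σ).card = d := by
      rw [Finset.card_image_of_injective _ hσinj, Finset.card_univ, ← Nat.card_eq_fintype_card]
    have heq : Finset.univ.image σ = T :=
      Finset.eq_of_subset_of_card_le himg (by rw [hcardimg]; exact hT)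
    have hmem : Units.mk0 s hs ∈ T := by
      simp only [T, Finset.mem_filter, Finset.mem_univ, true_and]
      apply Units.ext
      rw [Units.val_pow_eq_pow_val, Units.val_mk0, hsd, Units.val_one]
    rw [← heq] at hmem
    obtain ⟨h, -, hh⟩ := Finset.mem_image.mp hmem
    exact ⟨h, by rw [hh]; rfl⟩
  have hm1 : IsSquare (-1 : K) :=
    (hsq_iff (-1) (neg_ne_zero.mpr one_ne_zero)).mpr (Even.neg_one_pow heven)
  have hA : ∀ g : G, g • a = a →
      ∃ s c : K, s ≠ 0 ∧ IsSquare s ∧ ∀ x, g • j x = j (s * x + c) := by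
    intro g hga
    have hgb : g • b ≠ a := by
      intro h
      have : g • b = g • a := by rw [h, hga]
      exact hab (smul_left_cancel _ this).symm
    obtain ⟨u, hu⟩ := (hreg b (g • b) hab.symm hgb).exists
    have hh : (u : G)⁻¹ * g ∈ H := by
      refine Subgroup.mem_inf.2 ⟨?_, ?_⟩
      · rw [mem_stabilizer_iff, mul_smul, hga, inv_smul_eq_iff, hFa u]
      · rw [mem_stabilizer_iff, mul_smul, inv_smul_eq_iff, hu]
    obtain ⟨c, hc⟩ := hτsurj u
    refine ⟨σ ⟨_, hh⟩, c, (σ _).ne_zero, hσsq _, ?_⟩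
    intro x
    have := hkey u ⟨_, hh⟩ x c hc
    rw [← this]
    congr 1
    simp
  have hA' : ∀ s c : K, s ≠ 0 → IsSquare s →
      ∃ g : G, g • a = a ∧ ∀ x, g • j x = j (s * x + c) := by
    intro s c hs hsq
    obtain ⟨h, hh⟩ := hσsurj s hs hsq
    refine ⟨((τ c : F) : G) * (h : G), ?_, ?_⟩
    · have hha : (h : G) • a = a := h.2.1
      rw [mul_smul, hha, hFa]
    · intro x
      rw [hkey (τ c) h x c rfl, hh]
  have hB : ∀ g : G, g • a = j 0 → g • j 0 = a →
      g * g = 1 ∧ ∃ x, x ≠ 0 ∧ g • j x = j x := by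
    intro g hg1 hg2
    rw [hj0] at hg1 hg2
    have hgg := hinv g hg1 hg2
    refine ⟨hgg, ?_⟩
    have hg1' : g ≠ 1 := by
      intro h
      rw [h, one_smul] at hg1
      exact hab hg1
    have hc := hfix2 g hgg hg1'
    have hne : (Finset.univ.filter (fun y : Ω => g • y = y)).Nonempty := by
      rw [← Finset.card_pos]
      omega
    obtain ⟨y, hy⟩ := hne
    have hy' : g • y = y := (Finset.mem_filter.mp hy).2
    have hya : y ≠ a := by
      intro h
      rw [h, hg1] at hy'
      exact hab hy'.symm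
    have hyb : y ≠ b := by
      intro h
      rw [h, hg2] at hy'
      exact hab hy'
    obtain ⟨x, hx⟩ := hjcov y hya
    refine ⟨x, ?_, by rw [hx]; exact hy'⟩
    intro h0
    rw [h0, hj0] at hx
    exact hyb hx.symm
  have hp2 : p ≠ 2 := by
    rintro rfl
    have h1 : 2 ^ f = 2 * d + 1 := by omega
    cases f with
    | zero => simp at h1; omega
    | succ n => rw [pow_succ] at h1; omega
  have hKp : Fintype.card K = p ^ f := by omega
  exact ⟨p, f, K, fK, ftK, j, hp, hp2, hKp, hcardΩ, hcardK, hjinj, hja, hjcov, hj0, h2K, hm1, hA,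
    hA', hB⟩

end Cfsg.Agent.Helper3.ZassPSL
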