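import Mathlib

/-!
# The core computation for Zassenhaus groups of type `PSL(2, q)`: the element interchanging
`0` and `∞` can be chosen to be `x ↦ -1/x`
-/

set_option autoImplicit false
set_option linter.style.haveILetI false
set_option linter.unusedSectionVars false

namespace Cfsg.Agent.Helper3.ZassPSL

section Squares

variable {K : Type*} [Field K] [Finite K]

theorem nsq_mul_nsq {x y : K} (hx : ¬ IsSquare x) (hy : ¬ IsSquare y) : IsSquare (x * y) := by
  classical
  haveI := Fintype.ofFinite K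
  have hx0 : x ≠ 0 := by rintro rfl; exact hx ⟨0, by simp⟩
  have hy0 : y ≠ 0 := by rintro rfl; exact hy ⟨0, by simp⟩
  rw [← quadraticChar_one_iff_isSquare (mul_ne_zero hx0 hy0), map_mul,
    quadraticChar_neg_one_iff_not_isSquare.mpr hx, quadraticChar_neg_one_iff_not_isSquare.mpr hy]
  norm_num

theorem sq_mul_nsq {x y : K} (hx0 : x ≠ 0) (hx : IsSquare x) (hy : ¬ IsSquare y) :
    ¬ IsSquare (x * y) := by
  intro h
  apply hy
  have : y = x⁻¹ * (x * y) := by field_simp
  rw [this]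
  exact (isSquare_inv.mpr hx).mul h

theorem nsq_inv {x : K} (hx : ¬ IsSquare x) : ¬ IsSquare x⁻¹ := fun h => hx (isSquare_inv.mp h)

theorem ne_zero_of_nsq {x : K} (hx : ¬ IsSquare x) : x ≠ 0 := by
  rintro rfl; exact hx ⟨0, by simp⟩

/-- There is a non-square `x` with `x + 1` a non-zero square. -/
theorem exists_nsq_succ_sq (h2 : (2 : K) ≠ 0) (hm1 : IsSquare (-1 : K)) :
    ∃ x : K, ¬ IsSquare x ∧ x + 1 ≠ 0 ∧ IsSquare (x + 1) := by
  classical
  haveI := Fintype.ofFinite K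
  have hchar : ringChar K ≠ 2 := by
    intro h
    have : CharP K 2 := ringChar.of_eq h
    exact h2 CharTwo.two_eq_zero
  obtain ⟨ν, hν⟩ := FiniteField.exists_nonsquare (F := K) hchar
  by_contra hcon
  push Not at hcon
  have hstep : ∀ y : K, IsSquare y → IsSquare (y - 1) := by
    intro y hy
    by_contra h
    by_cases hy0 : y = 0
    · rw [hy0, zero_sub] at h
      exact h hm1
    · have := hcon (y - 1) h (by rw [sub_add_cancel]; exact hy0)
      rw [sub_add_cancel] at this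
      exact this hy
  have hsub : ∀ y z : K, IsSquare y → IsSquare z → IsSquare (y - z) := by
    intro y z hy hz
    by_cases hz0 : z = 0
    · rw [hz0, sub_zero]; exact hy
    · have e : y - z = z * (y * z⁻¹ - 1) := by field_simp
      rw [e]
      exact hz.mul (hstep _ (hy.mul (isSquare_inv.mpr hz)))
  let R : AddSubgroup K := AddSubgroup.ofSub {y | IsSquare y} ⟨0, ⟨0, by simp⟩⟩
    (fun x hx y hy => by rw [← sub_eq_add_neg]; exact hsub x y hx hy)
  have hRmem : ∀ y : K, y ∈ R ↔ IsSquare y := fun y => Iff.rfl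
  have hcard := AddSubgroup.card_mul_index R
  rw [Nat.card_eq_fintype_card (α := K)] at hcard
  have hqle : Fintype.card K ≤ 2 * Nat.card R := by
    have hdeg : 0 < (Polynomial.X ^ 2 : Polynomial K).degree := by
      rw [Polynomial.degree_X_pow]; norm_num
    have h1 := FiniteField.card_image_polynomial_eval hdeg
    rw [Polynomial.natDegree_X_pow] at h1
    refine h1.trans (Nat.mul_le_mul_left 2 ?_)
    rw [Nat.card_eq_fintype_card, ← Finset.card_univ (α := R)]
    refine Finset.card_le_card_of_injOn (fun y => if h : IsSquare y then ⟨y, h⟩ else 0)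
      (fun _ _ => Finset.mem_univ _) ?_
    intro y hy z hz hyz
    have hy' : IsSquare y := by
      obtain ⟨x, -, rfl⟩ := Finset.mem_image.mp hy
      exact ⟨x, by simp [pow_two]⟩
    have hz' : IsSquare z := by
      obtain ⟨x, -, rfl⟩ := Finset.mem_image.mp hz
      exact ⟨x, by simp [pow_two]⟩
    simp only [dif_pos hy', dif_pos hz'] at hyz
    exact congrArg Subtype.val hyz
  have hodd : Fintype.card K % 2 = 1 := by
    have := FiniteField.even_card_iff_char_two (F := K)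
    have h3 : ¬ Fintype.card K % 2 = 0 := fun h => hchar (this.mpr h)
    omega
  have hRpos : 0 < Nat.card R := Nat.card_pos
  have hidx : R.index = 1 := by
    have h1 : R.index ≤ 2 := by
      by_contra hc
      push Not at hc
      have : Nat.card R * 3 ≤ Nat.card R * R.index := Nat.mul_le_mul_left _ hc
      omega
    interval_cases hi : R.index
    · omega
    · rfl
    · omega
  have hRtop : R = ⊤ := AddSubgroup.index_eq_one.mp hidx
  apply hν
  rw [← hRmem, hRtop]
  exact AddSubgroup.mem_top ν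

end Squares

section Core

variable {K : Type*} [Field K] [Finite K] {G Ω : Type*} [Group G] [MulAction G Ω]

theorem exists_neg_inv (a : Ω) (j : K → Ω) (hj : Function.Injective j) (hja : ∀ x, j x ≠ a)
    (hcov : ∀ y, y ≠ a → ∃ x, j x = y)
    (h2 : (2 : K) ≠ 0) (hm1 : IsSquare (-1 : K))
    (hA : ∀ g : G, g • a = a → ∃ s c : K, s ≠ 0 ∧ IsSquare s ∧ ∀ x, g • j x = j (s * x + c))
    (hA' : ∀ s c : K, s ≠ 0 → IsSquare s → ∃ g : G, g • a = a ∧ ∀ x, g • j x = j (s * x + c))
    (hB : ∀ g : G, g • a = j 0 → g • j 0 = a → g * g = 1 ∧ ∃ x, x ≠ 0 ∧ g • j x = j x)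
    (hC : ∃ g : G, g • a = j 0 ∧ g • j 0 = a) :
    ∃ g : G, g • a = j 0 ∧ g • j 0 = a ∧ ∀ x, x ≠ 0 → g • j x = j (-x⁻¹) := by
  classical
  let jinv : Ω → K := Function.invFun j
  have hjinv : ∀ x, jinv (j x) = x := Function.leftInverse_invFun hj
  let T : G → K → K := fun g x => jinv (g • j x)
  have hTdef : ∀ g x, T g x = jinv (g • j x) := fun _ _ => rfl
  -- swappers
  have L1 : ∀ g : G, g • a = j 0 → g • j 0 = a → ∀ x, x ≠ 0 →
      g • j x = j (T g x) ∧ T g x ≠ 0 := by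
    intro g hg1 hg2 x hx
    have hne : g • j x ≠ a := by
      intro h
      rw [← hg2] at h
      exact hx (hj (smul_left_cancel _ h))
    obtain ⟨y, hy⟩ := hcov _ hne
    have hT : T g x = y := by rw [hTdef, ← hy, hjinv]
    refine ⟨by rw [hT, hy], ?_⟩
    rw [hT]
    rintro rfl
    rw [← hg1] at hy
    exact hja x (smul_left_cancel _ hy).symm
  have L2 : ∀ g : G, g • a = j 0 → g • j 0 = a → ∀ x, x ≠ 0 → T g (T g x) = x := by
    intro g hg1 hg2 x hx
    obtain ⟨h1, h2⟩ := L1 g hg1 hg2 x hx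
    have hgg := (hB g hg1 hg2).1
    rw [hTdef g (T g x), ← h1, ← mul_smul, hgg, one_smul, hjinv]
  have L3 : ∀ g : G, g • a = j 0 → g • j 0 = a → ∀ s x : K, s ≠ 0 → IsSquare s → x ≠ 0 →
      T g (s * x) = s⁻¹ * T g x := by
    intro g hg1 hg2 s x hs hsq hx
    obtain ⟨h, hha, hh⟩ := hA' s 0 hs hsq
    simp only [add_zero] at hh
    have hgh1 : (g * h) • a = j 0 := by rw [mul_smul, hha, hg1]
    have hgh2 : (g * h) • j 0 = a := by rw [mul_smul, hh, mul_zero, hg2]
    have hsq2 := (hB (g * h) hgh1 hgh2).1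
    have hsx : s * x ≠ 0 := mul_ne_zero hs hx
    obtain ⟨e1, n1⟩ := L1 g hg1 hg2 (s * x) hsx
    have hsT : s * T g (s * x) ≠ 0 := mul_ne_zero hs n1
    obtain ⟨e2, n2⟩ := L1 g hg1 hg2 _ hsT
    have h3 : (g * h) • (g * h) • j x = j x := by rw [← mul_smul, hsq2, one_smul]
    rw [mul_smul, mul_smul, hh, e1, hh, e2] at h3
    have h4 : T g (s * T g (s * x)) = x := hj h3
    have h5 := L2 g hg1 hg2 _ hsT
    rw [h4] at h5
    rw [h5]
    field_simp
  have hchar : ringChar K ≠ 2 := by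
    intro h
    have : CharP K 2 := ringChar.of_eq h
    exact h2 CharTwo.two_eq_zero
  obtain ⟨ν, hν⟩ := FiniteField.exists_nonsquare (F := K) hchar
  have hν0 := ne_zero_of_nsq hν
  obtain ⟨t₀, ht₀1, ht₀2⟩ := hC
  -- Step 2
  set c₁ := T t₀ 1 with hc₁
  have hc₁0 : c₁ ≠ 0 := (L1 t₀ ht₀1 ht₀2 1 one_ne_zero).2
  have hc₁sq : IsSquare c₁ := by
    obtain ⟨x₀, hx₀, hfix⟩ := (hB t₀ ht₀1 ht₀2).2
    have hTx₀ : T t₀ x₀ = x₀ := by rw [hTdef, hfix, hjinv]
    by_cases hsq : IsSquare x₀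
    · have h1 := L3 t₀ ht₀1 ht₀2 x₀ 1 hx₀ hsq one_ne_zero
      rw [mul_one, hTx₀, ← hc₁] at h1
      refine ⟨x₀, ?_⟩
      field_simp at h1
      linear_combination -h1
    · by_contra hc
      have hs : IsSquare (c₁ * x₀⁻¹) := nsq_mul_nsq hc (nsq_inv hsq)
      have hs0 : c₁ * x₀⁻¹ ≠ 0 := mul_ne_zero hc₁0 (inv_ne_zero hx₀)
      have h1 := L3 t₀ ht₀1 ht₀2 (c₁ * x₀⁻¹) x₀ hs0 hs hx₀
      rw [hTx₀] at h1
      have e : c₁ * x₀⁻¹ * x₀ = c₁ := by field_simp
      rw [e] at h1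
      have h2' := L2 t₀ ht₀1 ht₀2 1 one_ne_zero
      rw [← hc₁, h1] at h2'
      apply hc
      refine ⟨x₀, ?_⟩
      field_simp at h2'
      linear_combination -h2'
  -- Step 3
  have hnc : -c₁ ≠ 0 := neg_ne_zero.mpr hc₁0
  have hncsq : IsSquare (-c₁) := by
    have := hm1.mul hc₁sq
    simpa using this
  obtain ⟨h₀, hh₀a, hh₀⟩ := hA' (-c₁) 0 hnc hncsq
  simp only [add_zero] at hh₀
  set t := t₀ * h₀ with ht
  have ht1 : t • a = j 0 := by rw [ht, mul_smul, hh₀a, ht₀1]
  have ht2 : t • j 0 = a := by rw [ht, mul_smul, hh₀, mul_zero, ht₀2]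
  have hTt : ∀ x, T t x = T t₀ (-c₁ * x) := by
    intro x
    rw [hTdef, hTdef, ht, mul_smul, hh₀]
  have hT1 : T t 1 = -1 := by
    rw [hTt, L3 t₀ ht₀1 ht₀2 (-c₁) 1 hnc hncsq one_ne_zero, ← hc₁]
    field_simp
  have hTsq : ∀ x, x ≠ 0 → IsSquare x → T t x = -x⁻¹ := by
    intro x hx hsq
    have := L3 t ht1 ht2 x 1 hx hsq one_ne_zero
    rw [mul_one, hT1] at this
    rw [this]
    ring
  set c := -ν * T t ν with hc
  have hTν0 : T t ν ≠ 0 := (L1 t ht1 ht2 ν hν0).2
  have hc0 : c ≠ 0 := mul_ne_zero (neg_ne_zero.mpr hν0) hTν0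
  have hTν : T t ν = -c * ν⁻¹ := by
    rw [hc]
    field_simp
  have hTnsq : ∀ x, ¬ IsSquare x → T t x = -c * x⁻¹ := by
    intro x hx
    have hx0 := ne_zero_of_nsq hx
    have hs : IsSquare (x * ν⁻¹) := nsq_mul_nsq hx (nsq_inv hν)
    have hs0 : x * ν⁻¹ ≠ 0 := mul_ne_zero hx0 (inv_ne_zero hν0)
    have := L3 t ht1 ht2 (x * ν⁻¹) ν hs0 hs hν0
    have e : x * ν⁻¹ * ν = x := by field_simp
    rw [e, hTν] at this
    rw [this]
    field_simp
  have hcsq : IsSquare c := by
    by_contra hcn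
    have h1 : IsSquare (-c * ν⁻¹) := by
      have := hm1.mul (nsq_mul_nsq hcn (nsq_inv hν))
      have e : -1 * (c * ν⁻¹) = -c * ν⁻¹ := by ring
      rwa [e] at this
    have h10 : -c * ν⁻¹ ≠ 0 := mul_ne_zero (neg_ne_zero.mpr hc0) (inv_ne_zero hν0)
    have h2' := L2 t ht1 ht2 ν hν0
    rw [hTν, hTsq _ h10 h1] at h2'
    apply hcn
    have : c = 1 := by
      field_simp at h2'
      exact h2'.symm
    rw [this]
    exact ⟨1, by simp⟩
  -- Step 4
  obtain ⟨u, hua, hu⟩ := hA' 1 1 one_ne_zero ⟨1, by simp⟩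
  simp only [one_mul] at hu
  have htt : t * t = 1 := (hB t ht1 ht2).1
  have ht_j : ∀ x, x ≠ 0 → t • j x = j (T t x) := fun x hx => (L1 t ht1 ht2 x hx).1
  set ψ := u * t * u * t * u with hψ
  have hψact : ∀ y : Ω, ψ • y = u • t • u • t • u • y := by
    intro y
    simp only [hψ, mul_smul]
  have hψ1 : ψ • a = j 0 := by
    rw [hψact, hua, ht1, hu, zero_add, ht_j 1 one_ne_zero, hT1, hu, neg_add_cancel]
  have hψ2 : ψ • j 0 = a := by
    rw [hψact, hu, zero_add, ht_j 1 one_ne_zero, hT1, hu, neg_add_cancel, ht2, hua]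
  have hk1 : (t * ψ) • a = a := by rw [mul_smul, hψ1, ht2]
  have hk2 : (t * ψ) • j 0 = j 0 := by rw [mul_smul, hψ2, ht1]
  obtain ⟨s, c', hs0, hssq, hk⟩ := hA (t * ψ) hk1
  have hc' : c' = 0 := by
    have := hk 0
    rw [hk2, mul_zero, zero_add] at this
    exact (hj this).symm
  rw [hc'] at hk
  have hψt : ∀ x, ψ • j x = t • j (s * x) := by
    intro x
    have h1 := hk x
    rw [add_zero, mul_smul] at h1
    have h2' : t • t • ψ • j x = t • j (s * x) := congrArg (fun y => t • y) h1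
    rw [← mul_smul, htt, one_smul] at h2'
    exact h2'
  have hs1 : s = 1 := by
    have h1 := hψt (-1)
    have hL : ψ • j (-1) = j 1 := by
      rw [hψact, hu, neg_add_cancel, ht2, hua, ht1, hu, zero_add]
    have hns : -s ≠ 0 := neg_ne_zero.mpr hs0
    have hnssq : IsSquare (-s) := by
      have := hm1.mul hssq
      simpa using this
    rw [hL, mul_neg_one, ht_j _ hns, hTsq _ hns hnssq] at h1
    have h3 := hj h1
    field_simp at h3
    exact h3
  have hstar : ∀ x, x ≠ 0 → x + 1 ≠ 0 → T t (T t (x + 1) + 1) + 1 = T t x := by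
    intro x hx hx1
    have h1 := hψt x
    rw [hs1, one_mul, ht_j x hx] at h1
    have hne : T t (x + 1) + 1 ≠ 0 := by
      intro h
      have h3 : T t (x + 1) = -1 := eq_neg_of_add_eq_zero_left h
      have h4 := L2 t ht1 ht2 (x + 1) hx1
      rw [h3, hTsq (-1) (neg_ne_zero.mpr one_ne_zero) hm1] at h4
      apply hx
      have h5 : x + 1 = 1 := by
        rw [← h4]
        norm_num
      linear_combination h5
    rw [hψact, hu, ht_j _ hx1, hu, ht_j _ hne, hu] at h1
    exact hj h1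
  -- Step 5
  obtain ⟨x, hxn, hx1, hx1sq⟩ := exists_nsq_succ_sq h2 hm1
  have hx0 := ne_zero_of_nsq hxn
  have hc1 : c = 1 := by
    have h1 := hstar x hx0 hx1
    rw [hTsq _ hx1 hx1sq, hTnsq x hxn] at h1
    have e : -(x + 1)⁻¹ + 1 = x * (x + 1)⁻¹ := by
      field_simp
      ring
    have hn : ¬ IsSquare (x * (x + 1)⁻¹) := by
      rw [mul_comm]
      exact sq_mul_nsq (inv_ne_zero hx1) (isSquare_inv.mpr hx1sq) hxn
    rw [e, hTnsq _ hn] at h1
    field_simp at h1
    have h3 : x * (1 - c) = 0 := by linear_combination h1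
    rcases mul_eq_zero.mp h3 with h | h
    · exact absurd h hx0
    · exact (sub_eq_zero.mp h).symm
  refine ⟨t, ht1, ht2, ?_⟩
  intro y hy
  rw [ht_j y hy]
  congr 1
  by_cases hsq : IsSquare y
  · exact hTsq y hy hsq
  · rw [hTnsq y hsq, hc1]
    ring

end Core

end Cfsg.Agent.Helper3.ZassPSL
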