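import Mathlib
import Cfsg.Agent.Helper8.TIFN3
import Cfsg.Agent.Helper24.ColumnOrth
import Cfsg.Agent.Helper24.Regular
import Cfsg.Agent.Helper8.CoherenceKernel
import Cfsg.Agent.Helper8.FeitP3
import Cfsg.Agent.Helper4.FeitP4

set_option autoImplicit false
set_option linter.style.haveILetI false
set_option linter.unusedSectionVars false

/-!
# Feit's theorem on Zassenhaus groups: the counting argument (part A)
-/

namespace Cfsg.Agent.Helper3.FeitMain

open Cfsg Cfsg.Agent.Helper24 Cfsg.Agent.Helper8.FrobKer Cfsg.Agent.Helper8.TIFN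
open Cfsg.Agent.Helper8 (mem_zspan_of_mem zspan_zsmul_mem zspan_sub_mem zspan_add_mem
  mem_zspanOn_compl_one indFun_sub indFun_smul indFun_add frobenius_reciprocity
  indFun_isClassFunction indFun_neg indFun_zero)
open Cfsg.Agent.Helper8.FeitP3 (classInner_ind_ind classInner_ind_lin indFun_of_vanish)
open Cfsg.Agent.Helper4.FeitP4 (class_count)

variable {G : Type*} [Group G] [Fintype G] {K N : Subgroup G} [Fintype N]

/-- The configuration: a T.I. subgroup `K` with Frobenius normaliser `N`, as in the point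
stabiliser of a simple Zassenhaus group, together with a coherent extension `star`. -/
structure Cfg (K N : Subgroup G) [Fintype N] (e h : ℕ) (θ₁ : N → ℂ) (star : (N → ℂ) → (G → ℂ)) : Prop where
  hyp : Hyp K N
  epos : 0 < e
  hcardK : Nat.card K = h
  hidx : (K.subgroupOf N).index = e
  hGN : N.index = h + 1
  hlt : 2 * e < h - 1
  hab : ∀ x y : N, x * y * x⁻¹ * y⁻¹ ∈ K.subgroupOf N
  hInd : ∀ μ : N → ℂ, IsCharacter N μ → μ 1 = 1 → (∀ k : N, (k : G) ∈ K → μ k = 1) →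
      μ ≠ (fun _ => 1) →
      IsIrrCharacter G (indFun N μ) ∧ ∀ u ∈ K, u ≠ 1 → indFun N μ u = 1
  hInd1 : ∀ u ∈ K, u ≠ 1 → indFun N (fun _ : N => (1 : ℂ)) u = 1
  hperm : IsIrrCharacter G (indFun N (fun _ : N => (1 : ℂ)) - 1)
  hcls : e ≤ Nat.card {C : ConjClasses G // ∀ g : G, ConjClasses.mk g = C → g ∉ K}
  hθ₁ : θ₁ ∈ SS K N
  hθ₁1 : θ₁ 1 = (e : ℂ)
  hstar : IsLinearIsometryOn (zspan (SS K N)) star
  hext : ∀ α ∈ zspanOn (SS K N) ({1}ᶜ : Set N), star α = indFun N α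

variable {e h : ℕ} {θ₁ : N → ℂ} {star : (N → ℂ) → (G → ℂ)}

theorem Cfg.card_N (c : Cfg K N e h θ₁ star) : Nat.card N = h * e := by
  have h1 := (K.subgroupOf N).card_mul_index
  rw [c.hidx] at h1
  have h2 : Nat.card (K.subgroupOf N) = Nat.card K :=
    Nat.card_congr (Subgroup.subgroupOfEquivOfLe c.hyp.le).toEquiv
  rw [h2, c.hcardK] at h1
  exact h1.symm

theorem Cfg.hpos (c : Cfg K N e h θ₁ star) : 0 < h := by
  rw [← c.hcardK]
  exact Nat.card_pos

open Classical in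
/-- sum of the squares of the degrees of the members of `S` -/
theorem sum_sq_SS (hyp : Hyp K N) [Fintype (IrrCharacter N)] :
    ∑ ξ : IrrCharacter N, (if (ξ : N → ℂ) ∈ SS K N then ((ξ : N → ℂ) 1) ^ 2 else 0)
      = (Nat.card N : ℂ) - ((K.subgroupOf N).index : ℂ) := by
  haveI := hyp.normal
  have h1 := sum_sq_irr_one (G := N)
  have h2 := sum_const (K.subgroupOf N) (1 : N)
  rw [indK_mem _ (Subgroup.one_mem _), mul_one] at h2
  rw [← h1, ← h2, ← Finset.sum_sub_distrib]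
  refine Finset.sum_congr rfl fun ξ _ => ?_
  by_cases hξ : (ξ : N → ℂ) ∈ SS K N
  · rw [if_pos hξ, if_pos (show NonConst (K.subgroupOf N) (ξ : N → ℂ) from hξ.2), sub_zero]
  · have : ¬ NonConst (K.subgroupOf N) (ξ : N → ℂ) := fun hn => hξ ⟨ξ.2, hn⟩
    rw [if_neg hξ, if_neg this]
    ring


/-- the members of `S`, as a type -/
abbrev T (K N : Subgroup G) := {ξ : IrrCharacter N // (ξ : N → ℂ) ∈ SS K N}

/-- the distinguished member of degree `e` -/
def Cfg.t₁ (c : Cfg K N e h θ₁ star) : T K N := ⟨⟨θ₁, c.hθ₁.1⟩, c.hθ₁⟩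

theorem Cfg.irrDeg_t₁ (c : Cfg K N e h θ₁ star) : irrDeg c.t₁.1 = e := by
  have h1 := irrDeg_spec c.t₁.1
  have h2 : (c.t₁.1 : N → ℂ) 1 = (e : ℂ) := c.hθ₁1
  rw [h2] at h1
  exact_mod_cast h1.symm

theorem Cfg.star_gen (c : Cfg K N e h θ₁ star) (ξ : T K N) :
    IsGeneralizedCharacter G (star (ξ.1 : N → ℂ)) :=
  c.hstar.2.2.2 _ (mem_zspan_of_mem ξ.2)

open Classical in
theorem Cfg.star_inner (c : Cfg K N e h θ₁ star) (ξ ζ : T K N) :
    classInner (star (ξ.1 : N → ℂ)) (star (ζ.1 : N → ℂ)) = if ξ = ζ then 1 else 0 := by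
  rw [c.hstar.2.2.1 _ (mem_zspan_of_mem ξ.2) _ (mem_zspan_of_mem ζ.2), classInner_irr]
  by_cases hh : ξ = ζ
  · rw [if_pos hh, if_pos (congrArg Subtype.val hh)]
  · rw [if_neg hh, if_neg (fun h1 => hh (Subtype.ext h1))]

/-- the key identity coming from coherence -/
theorem Cfg.key (c : Cfg K N e h θ₁ star) (ξ : T K N) :
    (e : ℂ) • indFun N (ξ.1 : N → ℂ)
      = (e : ℂ) • star (ξ.1 : N → ℂ)
        + (irrDeg ξ.1 : ℂ) • (indFun N θ₁ - star θ₁) := by
  have hmem := comb_mem ξ.1 c.t₁.1 ξ.2 c.t₁.2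
  have h1 := c.hext _ hmem
  rw [star_sub c.hstar (zspan_zsmul_mem _ (mem_zspan_of_mem ξ.2))
    (zspan_zsmul_mem _ (mem_zspan_of_mem c.t₁.2)), c.hstar.2.1 _ (mem_zspan_of_mem ξ.2),
    c.hstar.2.1 _ (mem_zspan_of_mem c.t₁.2), indFun_sub, c.irrDeg_t₁,
    ← Int.cast_smul_eq_zsmul ℂ, ← Int.cast_smul_eq_zsmul ℂ, ← Int.cast_smul_eq_zsmul ℂ,
    ← Int.cast_smul_eq_zsmul ℂ, indFun_smul, indFun_smul] at h1
  simp only [Int.cast_natCast] at h1
  have h2 : (c.t₁.1 : N → ℂ) = θ₁ := rfl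
  rw [h2] at h1
  rw [smul_sub]
  have h3 : (e : ℂ) • indFun N (ξ.1 : N → ℂ)
      = (e : ℂ) • star (ξ.1 : N → ℂ) - (irrDeg ξ.1 : ℂ) • star θ₁
        + (irrDeg ξ.1 : ℂ) • indFun N θ₁ := by
    rw [h1]; abel
  rw [h3]; abel


theorem classInner_expand (A B C D : G → ℂ) (p q : ℂ) :
    classInner (p • A + q • B) (C + D)
      = p * classInner A C + p * classInner A D + q * classInner B C + q * classInner B D := by
  rw [classInner_add_left, classInner_smul_left, classInner_smul_left, classInner_add_right,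
    classInner_add_right]
  ring

open Classical in
/-- inner product of an induced member of `S` with the induced distinguished member -/
theorem Cfg.ind_inner_t₁ (c : Cfg K N e h θ₁ star) (ξ : T K N) :
    classInner (indFun N (ξ.1 : N → ℂ)) (indFun N θ₁)
      = (if ξ = c.t₁ then 1 else 0) + (irrDeg ξ.1 : ℂ) := by
  have h1 := classInner_ind_ind c.hyp ξ.1 c.t₁.1 ξ.2 c.t₁.2
  have h2 : (c.t₁.1 : N → ℂ) = θ₁ := rfl
  rw [h2, c.hGN, c.card_N, irrDeg_spec, c.hθ₁1] at h1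
  rw [h1]
  have he : (e : ℂ) ≠ 0 := by exact_mod_cast c.epos.ne'
  have hh : (h : ℂ) ≠ 0 := by exact_mod_cast c.hpos.ne'
  congr 1
  · by_cases hh' : ξ = c.t₁
    · rw [if_pos hh', if_pos (congrArg Subtype.val hh')]
    · rw [if_neg hh', if_neg (fun h1 => hh' (Subtype.ext h1))]
  · push_cast
    field_simp
    ring

end Cfsg.Agent.Helper3.FeitMain
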