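import Mathlib
import Cfsg.Agent.Helper3.FeitMainA
import Cfsg.Agent.Helper8.CharComp
import Cfsg.Agent.Helper24.Induced
import Cfsg.Agent.Helper24.Linear

set_option autoImplicit false
set_option linter.style.haveILetI false
set_option linter.unusedSectionVars false

/-!
# Feit's theorem on Zassenhaus groups: the counting argument (part B)
the irreducible characters of `G` orthogonal to all induced members of `S`
-/

namespace Cfsg.Agent.Helper3.FeitMain

open Cfsg Cfsg.Agent.Helper24 Cfsg.Agent.Helper8.FrobKer Cfsg.Agent.Helper8.TIFN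
open Cfsg.Agent.Helper8 (mem_zspan_of_mem zspan_zsmul_mem zspan_sub_mem zspan_add_mem
  mem_zspanOn_compl_one indFun_sub indFun_smul indFun_add frobenius_reciprocity
  indFun_isClassFunction indFun_neg indFun_zero)
open Cfsg.Agent.Helper8.FeitP3 (classInner_ind_ind classInner_ind_lin indFun_of_vanish)
open Cfsg.Agent.Helper4.FeitP4 (class_count)

variable {G : Type*} [Group G] [Fintype G] {K N : Subgroup G} [Fintype N]
variable {e h : ℕ} {θ₁ : N → ℂ} {star : (N → ℂ) → (G → ℂ)}

/-- an irreducible character of `N` outside `S` is linear and trivial on `K` -/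
theorem Cfg.lin_of_not_mem (c : Cfg K N e h θ₁ star) (ζ : IrrCharacter N)
    (hζ : (ζ : N → ℂ) ∉ SS K N) :
    (ζ : N → ℂ) 1 = 1 ∧ ∀ k : N, (k : G) ∈ K → (ζ : N → ℂ) k = 1 := by
  have hconst : ∀ k : N, (k : G) ∈ K → (ζ : N → ℂ) k = (ζ : N → ℂ) 1 := by
    intro k hk
    by_contra hne
    exact hζ ⟨ζ.2, k, hk, hne⟩
  have h1 : (ζ : N → ℂ) 1 = 1 := by
    apply Cfsg.Agent.Helper8.irr_degree_one_of_commutator_le_ker ζ
    intro a ha
    apply hconst
    have hle : commutator N ≤ K.subgroupOf N := by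
      rw [commutator_def, Subgroup.commutator_le]
      intro x _ y _
      rw [commutatorElement_def]
      exact c.hab x y
    exact Subgroup.mem_subgroupOf.mp (hle ha)
  exact ⟨h1, fun k hk => (hconst k hk).trans h1⟩

/-- inner product of the induced of a class function which is `1` on `K` with the induced
distinguished member -/
theorem Cfg.ind_lin_t₁ (c : Cfg K N e h θ₁ star) (μ : N → ℂ) (hμ : IsClassFunction N μ)
    (hμK : ∀ k : N, (k : G) ∈ K → μ k = 1) :
    classInner (indFun N μ) (indFun N θ₁) = 1 := by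
  have h1 := classInner_ind_lin c.hyp μ hμ hμK c.t₁.1 c.t₁.2
  have h2 : (c.t₁.1 : N → ℂ) = θ₁ := rfl
  rw [h2, c.hGN, c.card_N, c.hθ₁1] at h1
  rw [h1]
  have he : (e : ℂ) ≠ 0 := by exact_mod_cast c.epos.ne'
  have hh : (h : ℂ) ≠ 0 := by exact_mod_cast c.hpos.ne'
  push_cast
  field_simp
  ring


/-- the distinguished member is orthogonal to the principal character of `N` -/
theorem Cfg.inner_t₁_one (c : Cfg K N e h θ₁ star) :
    classInner θ₁ (fun _ : N => (1 : ℂ)) = 0 := by
  have hne : c.t₁.1 ≠ (⟨fun _ => 1, isIrrCharacter_const_one⟩ : IrrCharacter N) := by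
    intro h1
    obtain ⟨k, _, hk⟩ := c.hθ₁.2
    have h2 : (c.t₁.1 : N → ℂ) = fun _ => 1 := congrArg Subtype.val h1
    have h3 : (c.t₁.1 : N → ℂ) = θ₁ := rfl
    rw [h3] at h2
    rw [h2] at hk
    exact hk rfl
  have h4 := classInner_irr_ne hne
  exact h4

/-- No non-principal irreducible character of `G` is orthogonal to all the induced members of
`S`. -/
theorem Cfg.false_of_orth (c : Cfg K N e h θ₁ star) (ψ : IrrCharacter G)
    (hψ1 : (ψ : G → ℂ) ≠ (fun _ => 1))
    (horth : ∀ ξ : T K N, classInner (indFun N (ξ.1 : N → ℂ)) (ψ : G → ℂ) = 0) : False := by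
  classical
  haveI : Fintype (IrrCharacter N) := Fintype.ofFinite _
  have hψcf : IsClassFunction G (ψ : G → ℂ) := isClassFunction_irr ψ
  have hr : IsCharacter N (fun n : N => (ψ : G → ℂ) n) :=
    Cfsg.Agent.Helper8.isCharacter_restrict N (IsIrrCharacter.isCharacter ψ.2)
  -- a constituent of the restriction
  obtain ⟨ζ, hζ⟩ : ∃ ζ : IrrCharacter N,
      classInner (fun n : N => (ψ : G → ℂ) n) (ζ : N → ℂ) ≠ 0 := by
    by_contra hcon
    push Not at hcon
    have h1 := IsCharacter.eq_sum_classInner hr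
    have h2 : (fun n : N => (ψ : G → ℂ) n) = 0 := by
      rw [h1]
      apply Finset.sum_eq_zero
      intro ζ _
      rw [hcon ζ, zero_smul]
    have h3 := congrFun h2 1
    exact irr_one_ne_zero ψ h3
  rw [classInner_restrict _ hψcf] at hζ
  have hζS : (ζ : N → ℂ) ∉ SS K N := by
    intro hmem
    apply hζ
    rw [← classInner_conj_symm, horth ⟨ζ, hmem⟩, map_zero]
  obtain ⟨hζ1, hζK⟩ := c.lin_of_not_mem ζ hζS
  have ht₁ := horth c.t₁
  have h3 : (c.t₁.1 : N → ℂ) = θ₁ := rfl
  rw [h3] at ht₁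
  by_cases hone : (ζ : N → ℂ) = fun _ => 1
  · -- the permutation character
    rw [hone] at hζ
    have hsplit : indFun N (fun _ : N => (1 : ℂ))
        = (fun _ : G => (1 : ℂ)) + (indFun N (fun _ : N => (1 : ℂ)) - 1) := by
      funext g
      simp
    rw [hsplit, classInner_add_right] at hζ
    have h1 : classInner (ψ : G → ℂ) (fun _ : G => (1 : ℂ)) = 0 := by
      have hne : ψ ≠ (⟨fun _ => 1, isIrrCharacter_const_one⟩ : IrrCharacter G) :=
        fun h1 => hψ1 (congrArg Subtype.val h1)
      have h2 := classInner_irr_ne hne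
      exact h2
    rw [h1, zero_add] at hζ
    have h2 : ψ = (⟨_, c.hperm⟩ : IrrCharacter G) := by
      by_contra hne
      have h3 := classInner_irr_ne hne
      exact hζ h3
    have h4 : (ψ : G → ℂ) = indFun N (fun _ : N => (1 : ℂ)) - 1 := congrArg Subtype.val h2
    rw [h4, classInner_sub_right, ← classInner_conj_symm,
      c.ind_lin_t₁ _ (fun _ _ => rfl) (fun _ _ => rfl), map_one,
      frobenius_reciprocity N θ₁ _ (fun _ _ => rfl)] at ht₁
    have h5 : (fun h : N => (1 : G → ℂ) h) = fun _ : N => (1 : ℂ) := rfl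
    rw [h5, c.inner_t₁_one, sub_zero] at ht₁
    exact one_ne_zero ht₁
  · obtain ⟨hirr, -⟩ := c.hInd _ (IsIrrCharacter.isCharacter ζ.2) hζ1 hζK hone
    have h2 : ψ = (⟨_, hirr⟩ : IrrCharacter G) := by
      by_contra hne
      have h3 := classInner_irr_ne hne
      exact hζ h3
    have h4 : (ψ : G → ℂ) = indFun N (ζ : N → ℂ) := congrArg Subtype.val h2
    rw [h4, ← classInner_conj_symm, c.ind_lin_t₁ _ (isClassFunction_irr ζ) hζK, map_one] at ht₁
    exact one_ne_zero ht₁

end Cfsg.Agent.Helper3.FeitMain
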