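import Mathlib
import Cfsg.Agent.Helper3.FeitMainB

set_option autoImplicit false
set_option linter.style.haveILetI false
set_option linter.unusedSectionVars false

/-!
# Feit's theorem on Zassenhaus groups: the counting argument (part C)
-/

namespace Cfsg.Agent.Helper3.FeitMain

open Cfsg Cfsg.Agent.Helper24 Cfsg.Agent.Helper8.FrobKer Cfsg.Agent.Helper8.TIFN
open Cfsg.Agent.Helper8 (mem_zspan_of_mem zspan_zsmul_mem zspan_sub_mem zspan_add_mem
  mem_zspanOn_compl_one indFun_sub indFun_smul indFun_add frobenius_reciprocity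
  indFun_isClassFunction indFun_neg indFun_zero)
open Cfsg.Agent.Helper8.FeitP3 (classInner_ind_ind classInner_ind_lin indFun_of_vanish)
open Cfsg.Agent.Helper4.FeitP4 (class_count)

variable {G : Type*} [Group G] [Fintype G] {K N : Subgroup G} [Fintype N]
variable {e h : ℕ} {θ₁ : N → ℂ} {star : (N → ℂ) → (G → ℂ)}

/-- `star` of a member of `S` is a sign times an irreducible character -/
theorem Cfg.exists_exc (c : Cfg K N e h θ₁ star) (ξ : T K N) :
    ∃ ψ : IrrCharacter G, ∃ s : ℤ, (s = 1 ∨ s = -1) ∧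
      star (ξ.1 : N → ℂ) = (s : ℂ) • (ψ : G → ℂ) := by
  classical
  haveI : Fintype (IrrCharacter G) := Fintype.ofFinite _
  have hn : classInner (star (ξ.1 : N → ℂ)) (star (ξ.1 : N → ℂ)) = 1 := by
    rw [c.star_inner ξ ξ, if_pos rfl]
  obtain ⟨ψ, hψ | hψ⟩ := IsGeneralizedCharacter.eq_or_eq_neg_of_classInner_self (c.star_gen ξ) hn
  · exact ⟨ψ, 1, Or.inl rfl, by rw [hψ]; simp⟩
  · exact ⟨ψ, -1, Or.inr rfl, by rw [hψ]; simp⟩

theorem Cfg.ind_gen (c : Cfg K N e h θ₁ star) (ξ : T K N) :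
    IsGeneralizedCharacter G (indFun N (ξ.1 : N → ℂ)) :=
  IsGeneralizedCharacter.indFun N (IsIrrCharacter.isGeneralizedCharacter ξ.1.2)


/-- sum of squares of the degrees over the subtype -/
theorem Cfg.sum_sq_T (c : Cfg K N e h θ₁ star) [Fintype (T K N)] :
    ∑ ξ : T K N, ((irrDeg ξ.1 : ℤ)) ^ 2 = (h : ℤ) * e - e := by
  classical
  haveI : Fintype (IrrCharacter N) := Fintype.ofFinite _
  have h1 := sum_sq_SS c.hyp
  rw [c.card_N, c.hidx] at h1
  have h2 : ∑ ξ : T K N, ((irrDeg ξ.1 : ℂ)) ^ 2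
      = ∑ ξ : IrrCharacter N, (if (ξ : N → ℂ) ∈ SS K N then ((ξ : N → ℂ) 1) ^ 2 else 0) := by
    rw [← Finset.sum_filter]
    rw [Finset.sum_subtype (Finset.univ.filter fun ξ : IrrCharacter N => (ξ : N → ℂ) ∈ SS K N)
      (p := fun ξ : IrrCharacter N => (ξ : N → ℂ) ∈ SS K N) (by intro x; simp)]
    refine Finset.sum_congr rfl fun ξ _ => ?_
    rw [irrDeg_spec]
  rw [h1] at h2
  have h3 : ((∑ ξ : T K N, ((irrDeg ξ.1 : ℤ)) ^ 2 : ℤ) : ℂ) = (((h : ℤ) * e - e : ℤ) : ℂ) := by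
    push_cast
    push_cast at h2
    exact h2
  exact_mod_cast h3

/-- there are at least two members of `S` -/
theorem Cfg.two_members (c : Cfg K N e h θ₁ star) :
    ∃ χ ∈ SS K N, ∃ ξ ∈ SS K N, χ ≠ ξ := by
  classical
  haveI : Fintype (T K N) := Fintype.ofFinite _
  by_contra hcon
  push Not at hcon
  have hall : ∀ ξ : T K N, ξ = c.t₁ := by
    intro ξ
    apply Subtype.ext
    apply Subtype.ext
    exact hcon _ ξ.2 _ c.t₁.2
  have h1 := c.sum_sq_T
  rw [Finset.sum_eq_single c.t₁ (fun ξ _ hne => absurd (hall ξ) hne)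
    (fun hne => absurd (Finset.mem_univ _) hne), c.irrDeg_t₁] at h1
  have hlt : (2 : ℤ) * e + 2 ≤ h := by have := c.hlt; omega
  have he : (0 : ℤ) < e := by exact_mod_cast c.epos
  nlinarith

end Cfsg.Agent.Helper3.FeitMain
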