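import Mathlib
import Cfsg.Agent.Helper3.FeitMainC

set_option autoImplicit false
set_option linter.style.haveILetI false
set_option linter.unusedSectionVars false

/-!
# Feit's theorem on Zassenhaus groups: the counting argument (part D)
-/

namespace Cfsg.Agent.Helper3.FeitMain

open Cfsg Cfsg.Agent.Helper24 Cfsg.Agent.Helper8.FrobKer Cfsg.Agent.Helper8.TIFN
open Cfsg.Agent.Helper8 (mem_zspan_of_mem zspan_zsmul_mem zspan_sub_mem zspan_add_mem
  mem_zspanOn_compl_one indFun_sub indFun_smul indFun_add frobenius_reciprocity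
  indFun_isClassFunction indFun_neg indFun_zero)
open Cfsg.Agent.Helper8.FeitP3 (classInner_ind_ind classInner_ind_lin indFun_of_vanish)
open Cfsg.Agent.Helper4.FeitP4 (class_count)

variable {G : Type*} [Group G] [Fintype G] {K N : Subgroup G} [Fintype N]
variable {e h : ℕ} {θ₁ : N → ℂ} {star : (N → ℂ) → (G → ℂ)}

/-- the arithmetic heart: `2ce + c²(h-1) ≤ 0` with `h - 1 > 2e` forces `c = 0` -/
theorem arith_c {e h : ℕ} (he : 0 < e) (hlt : 2 * e < h - 1) (cc : ℤ)
    (hle : (e : ℤ) ^ 2 * (2 * cc) + cc ^ 2 * ((h : ℤ) * e - e) ≤ 0) : cc = 0 := by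
  have he' : (0 : ℤ) < e := by exact_mod_cast he
  have hlt' : (2 : ℤ) * e + 2 ≤ h := by omega
  have h1 : 2 * cc * e + cc ^ 2 * ((h : ℤ) - 1) ≤ 0 := by
    have h2 : (e : ℤ) * (2 * cc * e + cc ^ 2 * ((h : ℤ) - 1)) ≤ 0 := by nlinarith
    by_contra hpos
    push Not at hpos
    have := mul_pos he' hpos
    omega
  by_contra hne
  rcases lt_or_gt_of_ne hne with hneg | hpos
  · have h3 : cc ^ 2 ≥ -cc := by nlinarith
    have h4 : cc ^ 2 * ((h : ℤ) - 1) ≥ -cc * (2 * e + 1) := by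
      have h5 : (0 : ℤ) ≤ cc ^ 2 := sq_nonneg cc
      nlinarith
    nlinarith
  · have h3 : 0 ≤ cc ^ 2 * ((h : ℤ) - 1) := by
      have h5 : (0 : ℤ) ≤ cc ^ 2 := sq_nonneg cc
      have h6 : (0 : ℤ) ≤ (h : ℤ) - 1 := by omega
      exact mul_nonneg h5 h6
    nlinarith


set_option maxHeartbeats 1600000 in
/-- **The counting argument.**  Some irreducible character of `G` restricts to the distinguished
member `θ₁` of `S`. -/
theorem Cfg.main (c : Cfg K N e h θ₁ star) :
    ∃ χ : G → ℂ, IsIrrCharacter G χ ∧ ∀ n : N, χ n = θ₁ n := by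
  classical
  haveI : Fintype (IrrCharacter G) := Fintype.ofFinite _
  haveI : Fintype (IrrCharacter N) := Fintype.ofFinite _
  haveI : Fintype (T K N) := Fintype.ofFinite _
  have he0 : (e : ℂ) ≠ 0 := by exact_mod_cast c.epos.ne'
  have heZ : (0 : ℤ) < e := by exact_mod_cast c.epos
  choose exc sgn hsgn hexc using c.exists_exc
  have hsq : ∀ ξ, sgn ξ * sgn ξ = 1 := by
    intro ξ
    rcases hsgn ξ with h1 | h1 <;> rw [h1] <;> norm_num
  have ht₁θ : (c.t₁.1 : N → ℂ) = θ₁ := rfl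
  -- the difference `Δ`
  have hΔgen : IsGeneralizedCharacter G (indFun N θ₁ - star θ₁) :=
    IsGeneralizedCharacter.sub (c.ind_gen c.t₁) (c.star_gen c.t₁)
  obtain ⟨m, hm⟩ := IsGeneralizedCharacter.exists_int_coeff hΔgen
  obtain ⟨Δ, hΔ⟩ : ∃ Δ : G → ℂ, Δ = indFun N θ₁ - star θ₁ := ⟨_, rfl⟩
  rw [← hΔ] at hm
  have hΔψ : ∀ ψ : IrrCharacter G, classInner Δ (ψ : G → ℂ) = (m ψ : ℂ) := by
    intro ψ
    rw [hm]
    exact classInner_sum_irr _ ψ
  have hψΔ : ∀ ψ : IrrCharacter G, classInner (ψ : G → ℂ) Δ = (m ψ : ℂ) := by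
    intro ψ
    rw [← classInner_conj_symm, hΔψ, map_intCast]
  have hΔΔ : classInner Δ Δ = ((∑ ψ : IrrCharacter G, m ψ ^ 2 : ℤ) : ℂ) := by
    conv_lhs => rw [hm]
    rw [classInner_sum_sum]
    push_cast
    refine Finset.sum_congr rfl fun ψ _ => ?_
    rw [map_intCast]
    ring
  have hΔX : ∀ ξ, classInner Δ (star (ξ.1 : N → ℂ)) = ((sgn ξ * m (exc ξ) : ℤ) : ℂ) := by
    intro ξ
    rw [hexc ξ, classInner_smul_right, hΔψ, map_intCast]
    push_cast
    ring
  have hXΔ : ∀ ξ, classInner (star (ξ.1 : N → ℂ)) Δ = ((sgn ξ * m (exc ξ) : ℤ) : ℂ) := by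
    intro ξ
    rw [hexc ξ, classInner_smul_left, hψΔ]
    push_cast
    ring
  have hθ₁ : indFun N θ₁ = star θ₁ + Δ := by rw [hΔ]; abel
  have hkey : ∀ ξ : T K N, (e : ℂ) • indFun N (ξ.1 : N → ℂ)
      = (e : ℂ) • star (ξ.1 : N → ℂ) + (irrDeg ξ.1 : ℂ) • Δ := by
    intro ξ
    rw [hΔ]
    exact c.key ξ
  -- the integers
  obtain ⟨cc, hcc⟩ : ∃ cc : ℤ, cc = sgn c.t₁ * m (exc c.t₁) := ⟨_, rfl⟩
  obtain ⟨nΔ, hnΔ⟩ : ∃ nΔ : ℤ, nΔ = ∑ ψ : IrrCharacter G, m ψ ^ 2 := ⟨_, rfl⟩
  have hEq : ∀ ξ : T K N, (e : ℤ) * irrDeg ξ.1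
      = e * (sgn ξ * m (exc ξ)) + irrDeg ξ.1 * cc + irrDeg ξ.1 * nΔ := by
    intro ξ
    have h1 : classInner ((e : ℂ) • indFun N (ξ.1 : N → ℂ)) (indFun N θ₁)
        = (e : ℂ) * ((if ξ = c.t₁ then 1 else 0) + (irrDeg ξ.1 : ℂ)) := by
      rw [classInner_smul_left, c.ind_inner_t₁]
    have h2 : classInner ((e : ℂ) • indFun N (ξ.1 : N → ℂ)) (indFun N θ₁)
        = (e : ℂ) * (if ξ = c.t₁ then 1 else 0) + (e : ℂ) * ((sgn ξ * m (exc ξ) : ℤ) : ℂ)
          + (irrDeg ξ.1 : ℂ) * ((cc : ℤ) : ℂ) + (irrDeg ξ.1 : ℂ) * ((nΔ : ℤ) : ℂ) := by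
      rw [hkey ξ]
      conv_lhs => rw [hθ₁]
      have hXX : classInner (star (ξ.1 : N → ℂ)) (star θ₁) = if ξ = c.t₁ then 1 else 0 :=
        c.star_inner ξ c.t₁
      have hΔXt : classInner Δ (star θ₁) = ((cc : ℤ) : ℂ) := by
        rw [hcc]
        exact hΔX c.t₁
      rw [classInner_expand, hXX, hXΔ, hΔXt, hΔΔ, ← hnΔ]
    have h3 := h1.symm.trans h2
    have h5 : (e : ℂ) * (irrDeg ξ.1 : ℂ)
        = (e : ℂ) * ((sgn ξ : ℂ) * (m (exc ξ) : ℂ)) + (irrDeg ξ.1 : ℂ) * (cc : ℂ)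
          + (irrDeg ξ.1 : ℂ) * (nΔ : ℂ) := by
      push_cast at h3
      linear_combination h3
    exact_mod_cast h5
  have hnΔ' : nΔ = e - 2 * cc := by
    have h1 := hEq c.t₁
    rw [c.irrDeg_t₁, ← hcc] at h1
    have h2 : (e : ℤ) * (e - 2 * cc - nΔ) = 0 := by linear_combination h1
    rcases mul_eq_zero.mp h2 with h3 | h3
    · omega
    · omega
  have ha : ∀ ξ : T K N, (e : ℤ) * (sgn ξ * m (exc ξ)) = irrDeg ξ.1 * cc := by
    intro ξ
    have h1 := hEq ξ
    rw [hnΔ'] at h1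
    linear_combination -h1
  -- injectivity of `exc`
  have hinj : Function.Injective exc := by
    intro ξ ζ hξζ
    by_contra hne
    have h1 := c.star_inner ξ ζ
    rw [if_neg hne, hexc ξ, hexc ζ, hξζ, classInner_smul_left, classInner_smul_right,
      classInner_irr_self, map_intCast, mul_one] at h1
    have h2 : sgn ξ * sgn ζ = 0 := by exact_mod_cast h1
    rcases hsgn ξ with h3 | h3 <;> rcases hsgn ζ with h4 | h4 <;> rw [h3, h4] at h2 <;>
      norm_num at h2
  -- sums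
  have hsumT : (e : ℤ) ^ 2 * ∑ ξ : T K N, (m (exc ξ)) ^ 2 = cc ^ 2 * ((h : ℤ) * e - e) := by
    rw [← c.sum_sq_T, Finset.mul_sum, Finset.mul_sum]
    refine Finset.sum_congr rfl fun ξ _ => ?_
    linear_combination (e * (sgn ξ * m (exc ξ)) + irrDeg ξ.1 * cc) * ha ξ
      - (e : ℤ) ^ 2 * (m (exc ξ)) ^ 2 * hsq ξ
  obtain ⟨R, hR⟩ : ∃ R : Finset (IrrCharacter G), R = Finset.univ.image exc := ⟨_, rfl⟩
  have hcardR : R.card = Fintype.card (T K N) := by
    rw [hR, Finset.card_image_of_injective _ hinj, Finset.card_univ]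
  have hsumR : ∑ ψ ∈ R, (m ψ) ^ 2 = ∑ ξ : T K N, (m (exc ξ)) ^ 2 := by
    rw [hR]
    exact Finset.sum_image (fun _ _ _ _ h1 => hinj h1)
  have hsplit : nΔ = ∑ ψ ∈ R, m ψ ^ 2 + ∑ ψ ∈ Rᶜ, m ψ ^ 2 := by
    rw [hnΔ]
    exact (Finset.sum_add_sum_compl R _).symm
  -- the covering of the irreducible characters
  have hcover : ∀ ψ : IrrCharacter G, ψ ∉ R → (ψ : G → ℂ) ≠ (fun _ => 1) → m ψ ≠ 0 := by
    intro ψ hψR hψ1 hm0
    apply c.false_of_orth ψ hψ1
    intro ξ
    have hne : exc ξ ≠ ψ := by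
      intro h1
      apply hψR
      rw [hR, ← h1]
      exact Finset.mem_image_of_mem _ (Finset.mem_univ _)
    have h2 := classInner_irr_ne hne
    have h1 : (e : ℂ) * classInner (indFun N (ξ.1 : N → ℂ)) (ψ : G → ℂ) = 0 := by
      rw [← classInner_smul_left, hkey ξ, classInner_add_left, classInner_smul_left,
        classInner_smul_left, hΔψ, hm0, hexc ξ, classInner_smul_left, h2]
      simp
    exact (mul_eq_zero.mp h1).resolve_left he0
  obtain ⟨F, hF⟩ : ∃ F : Finset (IrrCharacter G), F = Rᶜ.filter (fun ψ => m ψ ≠ 0) := ⟨_, rfl⟩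
  have hcount : Fintype.card (IrrCharacter G) ≤ R.card + 1 + F.card := by
    have hsub : (Finset.univ : Finset (IrrCharacter G))
        ⊆ (R ∪ {(⟨fun _ => 1, isIrrCharacter_const_one⟩ : IrrCharacter G)}) ∪ F := by
      intro ψ _
      by_cases hψR : ψ ∈ R
      · exact Finset.mem_union_left _ (Finset.mem_union_left _ hψR)
      by_cases hψ1 : (ψ : G → ℂ) = fun _ => 1
      · apply Finset.mem_union_left
        apply Finset.mem_union_right
        rw [Finset.mem_singleton]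
        exact Subtype.ext hψ1
      · apply Finset.mem_union_right
        rw [hF, Finset.mem_filter, Finset.mem_compl]
        exact ⟨hψR, hcover ψ hψR hψ1⟩
    have h1 := Finset.card_le_card hsub
    rw [Finset.card_univ] at h1
    have h2 := Finset.card_union_le (R ∪ {(⟨fun _ => 1, isIrrCharacter_const_one⟩ :
      IrrCharacter G)}) F
    have h3 := Finset.card_union_le R {(⟨fun _ => 1, isIrrCharacter_const_one⟩ :
      IrrCharacter G)}
    rw [Finset.card_singleton] at h3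
    omega
  have hfilter : (F.card : ℤ) ≤ ∑ ψ ∈ Rᶜ, m ψ ^ 2 := by
    have h1 : (F.card : ℤ) = ∑ ψ ∈ F, (1 : ℤ) := by simp
    rw [h1]
    have h2 : ∑ ψ ∈ F, (1 : ℤ) ≤ ∑ ψ ∈ F, m ψ ^ 2 := by
      apply Finset.sum_le_sum
      intro ψ hψ
      rw [hF, Finset.mem_filter] at hψ
      have h3 : m ψ ≠ 0 := hψ.2
      have h4 : 0 < m ψ ^ 2 := by positivity
      omega
    have h3 : ∑ ψ ∈ F, m ψ ^ 2 ≤ ∑ ψ ∈ Rᶜ, m ψ ^ 2 := by
      apply Finset.sum_le_sum_of_subset_of_nonneg
      · rw [hF]; exact Finset.filter_subset _ _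
      · intro ψ _ _
        positivity
    exact h2.trans h3
  have hclass : Fintype.card (T K N) + 1 + e ≤ Fintype.card (IrrCharacter G) := by
    have h1 := class_count c.hyp e c.hcls
    rw [← card_irr_eq_card_conjClasses, Nat.card_eq_fintype_card, Nat.card_eq_fintype_card] at h1
    exact h1
  have hspade : 2 * cc + ∑ ξ : T K N, (m (exc ξ)) ^ 2 ≤ 0 := by
    have h1 : (e : ℤ) ≤ F.card := by
      have : e ≤ F.card := by omega
      exact_mod_cast this
    linarith [hsplit, hsumR, hnΔ', hfilter]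
  have hcc0 : cc = 0 := by
    apply arith_c c.epos c.hlt cc
    have h1 : (0 : ℤ) ≤ (e : ℤ) ^ 2 := sq_nonneg _
    nlinarith
  -- all exceptional coefficients vanish
  have hm0 : ∀ ξ : T K N, m (exc ξ) = 0 := by
    intro ξ
    have h1 := ha ξ
    rw [hcc0, mul_zero] at h1
    rcases mul_eq_zero.mp h1 with h2 | h2
    · omega
    · rcases mul_eq_zero.mp h2 with h3 | h3
      · rcases hsgn ξ with h4 | h4 <;> omega
      · exact h3
  -- the sign of the distinguished member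
  have hθ₁char : IsCharacter G (indFun N θ₁) :=
    isCharacter_indFun N (IsIrrCharacter.isCharacter c.hθ₁.1)
  have hexc₁ : star θ₁ = (sgn c.t₁ : ℂ) • (exc c.t₁ : G → ℂ) := hexc c.t₁
  have hs1 : sgn c.t₁ = 1 := by
    obtain ⟨n, hn⟩ := IsCharacter.classInner_irr_nat hθ₁char (exc c.t₁)
    have h1 : classInner (indFun N θ₁) (exc c.t₁ : G → ℂ) = (sgn c.t₁ : ℂ) := by
      rw [hθ₁, classInner_add_left, hexc₁, classInner_smul_left, classInner_irr_self, hΔψ, hm0]
      simp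
    rw [h1] at hn
    have h3 : sgn c.t₁ = (n : ℤ) := by exact_mod_cast hn
    rcases hsgn c.t₁ with h4 | h4
    · exact h4
    · omega
  have hχ : star θ₁ = (exc c.t₁ : G → ℂ) := by
    rw [hexc₁, hs1]
    simp
  refine ⟨exc c.t₁, (exc c.t₁).2, ?_⟩
  -- the restriction
  have hχcf : IsClassFunction G (exc c.t₁ : G → ℂ) := isClassFunction_irr _
  have hr : IsCharacter N (fun n : N => (exc c.t₁ : G → ℂ) n) :=
    Cfsg.Agent.Helper8.isCharacter_restrict N (IsIrrCharacter.isCharacter (exc c.t₁).2)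
  have hcoef : ∀ ζ : IrrCharacter N,
      classInner (fun n : N => (exc c.t₁ : G → ℂ) n) (ζ : N → ℂ)
        = if ζ = c.t₁.1 then 1 else 0 := by
    intro ζ
    rw [classInner_restrict _ hχcf]
    by_cases hζS : (ζ : N → ℂ) ∈ SS K N
    · have h1 : (e : ℂ) * classInner (exc c.t₁ : G → ℂ) (indFun N (ζ : N → ℂ))
          = (e : ℂ) * (if ζ = c.t₁.1 then 1 else 0) := by
        have h2 := hkey ⟨ζ, hζS⟩
        have h3 : classInner (exc c.t₁ : G → ℂ) ((e : ℂ) • indFun N (ζ : N → ℂ))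
            = (e : ℂ) * classInner (exc c.t₁ : G → ℂ) (indFun N (ζ : N → ℂ)) := by
          rw [classInner_smul_right, Complex.conj_natCast]
        have h4 : classInner (star θ₁) (star (ζ : N → ℂ))
            = if c.t₁ = (⟨ζ, hζS⟩ : T K N) then 1 else 0 := c.star_inner c.t₁ ⟨ζ, hζS⟩
        rw [← h3, h2, classInner_add_right, classInner_smul_right, classInner_smul_right, hψΔ,
          hm0, ← hχ, h4, Complex.conj_natCast]
        by_cases hh : ζ = c.t₁.1
        · rw [if_pos hh, if_pos (Subtype.ext hh.symm)]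
          simp
        · rw [if_neg hh, if_neg (fun h5 => hh (congrArg Subtype.val h5).symm)]
          simp
      exact mul_left_cancel₀ he0 h1
    · obtain ⟨hζ1, hζK⟩ := c.lin_of_not_mem ζ hζS
      have hne : ζ ≠ c.t₁.1 := fun h1 => hζS (h1 ▸ c.t₁.2)
      rw [if_neg hne]
      obtain ⟨a, ha', b, hb', ha1, hb1, hab⟩ :=
        (main852 c.hyp c.hstar c.hext c.two_members (exc c.t₁ : G → ℂ) (exc c.t₁).2).mp
          ⟨θ₁, c.hθ₁, Or.inl hχ.symm⟩
      by_cases hone : (ζ : N → ℂ) = fun _ => 1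
      · rw [hone]
        have hsplit : indFun N (fun _ : N => (1 : ℂ))
            = (fun _ : G => (1 : ℂ)) + (indFun N (fun _ : N => (1 : ℂ)) - 1) := by
          funext g
          simp
        rw [hsplit, classInner_add_right]
        have h1 : exc c.t₁ ≠ (⟨fun _ => 1, isIrrCharacter_const_one⟩ : IrrCharacter G) := by
          intro h1
          apply hab
          have h2 : (exc c.t₁ : G → ℂ) = fun _ => 1 := congrArg Subtype.val h1
          rw [h2]
        have h2 : exc c.t₁ ≠ (⟨_, c.hperm⟩ : IrrCharacter G) := by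
          intro h2
          apply hab
          have h3 : (exc c.t₁ : G → ℂ) = indFun N (fun _ : N => (1 : ℂ)) - 1 :=
            congrArg Subtype.val h2
          rw [h3]
          simp only [Pi.sub_apply, Pi.one_apply]
          rw [c.hInd1 a ha' ha1, c.hInd1 b hb' hb1]
        have h1' := classInner_irr_ne h1
        have h2' := classInner_irr_ne h2
        rw [h1', h2', add_zero]
      · obtain ⟨hirr, hval⟩ := c.hInd _ (IsIrrCharacter.isCharacter ζ.2) hζ1 hζK hone
        have h1 : exc c.t₁ ≠ (⟨_, hirr⟩ : IrrCharacter G) := by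
          intro h1
          apply hab
          have h2 : (exc c.t₁ : G → ℂ) = indFun N (ζ : N → ℂ) := congrArg Subtype.val h1
          rw [h2, hval a ha' ha1, hval b hb' hb1]
        have h1' := classInner_irr_ne h1
        exact h1'
  intro n
  have h1 := IsCharacter.eq_sum_classInner hr
  simp_rw [hcoef] at h1
  have h2 := congrFun h1 n
  simp only [Finset.sum_apply, ite_smul, one_smul, zero_smul] at h2
  rw [h2, Finset.sum_eq_single c.t₁.1]
  · rw [if_pos rfl]
    rfl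
  · intro ζ _ hne
    rw [if_neg hne]
    rfl
  · intro hn
    exact absurd (Finset.mem_univ _) hn

end Cfsg.Agent.Helper3.FeitMain
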