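import Mathlib
import Cfsg.Agent.Helper3.FeitMainD
import Cfsg.Agent.Helper27.FeitP6
import Cfsg.Agent.Helper8.FS11
import Cfsg.Agent.Helper5.PartG
import Cfsg.Agent.S1535

set_option autoImplicit false
set_option linter.style.haveILetI false
set_option linter.unusedSectionVars false

/-!
# Feit's theorem on Zassenhaus groups: the coherent case is impossible (part E)
-/

namespace Cfsg.Agent.Helper3.FeitMain

open Cfsg Cfsg.Agent.Helper24 Cfsg.Agent.Helper8.FrobKer Cfsg.Agent.Helper8.TIFN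

/-- a Frobenius group with nilpotent kernel has an irreducible character of degree the index of
the kernel which is not constant on the kernel -/
theorem exists_deg_index {N : Type*} [Group N] [Fintype N] (H : Subgroup N) [hH : H.Normal]
    (hF : ∀ n : N, n ∉ H → ∀ k ∈ H, k * n = n * k → k = 1)
    (hnil : Group.IsNilpotent H) (hH1 : H ≠ ⊥) :
    ∃ θ : N → ℂ, IsIrrCharacter N θ ∧ (∃ k ∈ H, θ k ≠ θ 1) ∧ θ 1 = (H.index : ℂ) := by
  classical
  open Cfsg.Agent.Helper8.FS in
  haveI : (⁅H, H⁆ : Subgroup N).Normal := Subgroup.commutator_normal H H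
  obtain ⟨t, ht, hsum⟩ := index_dvd_relIndex_sub_one H hF ⁅H, H⁆ (Subgroup.commutator_le_self H)
  have hne1 : (⁅H, H⁆ : Subgroup N).relIndex H ≠ 1 := by
    intro h1
    rw [Subgroup.relIndex_eq_one] at h1
    haveI := hnil
    haveI : Nontrivial H := by
      rw [← Subgroup.nontrivial_iff_ne_bot] at hH1
      exact hH1
    have h2 := Group.IsSolvable.commutator_lt_top_of_nontrivial H
    apply h2.ne
    rw [eq_top_iff]
    intro x _
    have hx : (x : N) ∈ (⁅H, H⁆ : Subgroup N) := h1 x.2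
    rw [← Subgroup.map_subtype_commutator] at hx
    obtain ⟨y, hy, hyx⟩ := hx
    have : y = x := Subtype.ext hyx
    rw [← this]
    exact hy
  have ht0 : t ≠ 0 := by
    intro h0
    rw [h0, mul_zero] at ht
    exact hne1 ht
  have he0 : 0 < H.index := Nat.pos_of_ne_zero Subgroup.index_ne_zero_of_finite
  have hpos : 0 < ∑ ξ ∈ SA H ⁅H, H⁆, Cfsg.charDegree ξ ^ 2 := by
    rw [hsum]
    positivity
  obtain ⟨ξ, hξ, -⟩ := Finset.exists_ne_zero_of_sum_ne_zero hpos.ne'
  have hdeg := charDegree_eq_index H hF hξ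
  have hξ' := (mem_SA H _ ξ).mp hξ
  refine ⟨ξ, hξ'.1, hξ'.2.1, ?_⟩
  rw [apply_one_eq_charDegree hξ'.1, hdeg]

variable {G : Type*} [Group G] [Fintype G]

/-- the data coming from the Zassenhaus group -/
structure ZData (K N : Subgroup G) (e h : ℕ) : Prop where
  hcardK : Nat.card K = h
  hidx : (K.subgroupOf N).index = e
  hGN : N.index = h + 1
  hab : ∀ x y : N, x * y * x⁻¹ * y⁻¹ ∈ K.subgroupOf N
  hInd : ∀ μ : N → ℂ, IsCharacter N μ → μ 1 = 1 → (∀ k : N, (k : G) ∈ K → μ k = 1) →
      μ ≠ (fun _ => 1) →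
      IsIrrCharacter G (indFun N μ) ∧ ∀ u ∈ K, u ≠ 1 → indFun N μ u = 1
  hInd1 : ∀ u ∈ K, u ≠ 1 → indFun N (fun _ : N => (1 : ℂ)) u = 1
  hperm : IsIrrCharacter G (indFun N (fun _ : N => (1 : ℂ)) - 1)
  hcls : e ≤ Nat.card {C : ConjClasses G // ∀ g : G, ConjClasses.mk g = C → g ∉ K}

/-- **No coherence.**  In the configuration of a simple Zassenhaus group with `2e < h - 1` the
set `S` cannot be coherent. -/
theorem not_coherent {K N : Subgroup G} [Fintype N] {e h : ℕ} (hyp : Hyp K N)
    (d : ZData K N e h) (he2 : 2 ≤ e) (hlt : 2 * e < h - 1)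
    (θ₁ : N → ℂ) (hθ₁ : θ₁ ∈ SS K N) (hθ₁1 : θ₁ 1 = (e : ℂ))
    (star : (N → ℂ) → (G → ℂ)) (hstar : IsLinearIsometryOn (zspan (SS K N)) star)
    (hext : ∀ α ∈ zspanOn (SS K N) ({1}ᶜ : Set N), star α = indFun N α) : False := by
  have c : Cfg K N e h θ₁ star :=
    { hyp := hyp
      epos := by omega
      hcardK := d.hcardK
      hidx := d.hidx
      hGN := d.hGN
      hlt := hlt
      hab := d.hab
      hInd := d.hInd
      hInd1 := d.hInd1
      hperm := d.hperm
      hcls := d.hcls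
      hθ₁ := hθ₁
      hθ₁1 := hθ₁1
      hstar := hstar
      hext := hext }
  obtain ⟨χ, hχ, hres⟩ := c.main
  have h1 := Cfsg.Agent.Helper27.FeitP6.final hyp e h d.hcardK d.hidx d.hGN d.hab d.hInd χ hχ θ₁
    hθ₁ hθ₁1 hres
  have h2 : 2 * e + 2 ≤ h := by omega
  obtain ⟨e', rfl⟩ : ∃ e', e = e' + 2 := ⟨e - 2, by omega⟩
  have h3 : (e' + 2 - 1) = e' + 1 := by omega
  rw [h3] at h1
  nlinarith


/-- **Feit's theorem, normaliser form.** -/
theorem feit_normalizer (H : Subgroup G) [Fintype ↥(Subgroup.normalizer (H : Set G))] {e h : ℕ}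
    (hTI : IsTISubset (H : Set G))
    (hC : ∀ k ∈ H, k ≠ 1 → Subgroup.centralizer ({k} : Set G) ≤ H)
    (d : ZData H (Subgroup.normalizer (H : Set G)) e h) (he2 : 2 ≤ e) (hlt : 2 * e < h - 1) :
    IsPGroup 2 H ∧ (∃ u v : H, u * v ≠ v * u) ∧ (commutator H).index ≤ 4 * e ^ 2 + 1 := by
  classical
  open Cfsg.Agent.Helper8.FS in
  haveI := subgroupOf_normal H
  have hF := frobK H hC
  have hcard := card_subgroupOf_normalizer H
  have hH1 : H ≠ ⊥ := by
    intro h1
    have h2 := d.hcardK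
    rw [h1, Subgroup.card_bot] at h2
    omega
  have hK2 : H.subgroupOf (Subgroup.normalizer (H : Set G)) ≠ ⊤ := by
    intro h1
    have h2 := d.hidx
    rw [h1, Subgroup.index_top] at h2
    omega
  have hlt' : H < Subgroup.normalizer (H : Set G) := by
    refine lt_of_le_of_ne Subgroup.le_normalizer ?_
    intro h1
    apply hK2
    rw [Subgroup.subgroupOf_eq_top]
    exact h1.symm.le
  have hK1 := subgroupOf_ne_bot H hH1
  have hC₀ := centralizer_subgroupOf H hC
  have hnil₀ : Group.IsNilpotent (H.subgroupOf (Subgroup.normalizer (H : Set G))) := by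
    refine Cfsg.Agent.Helper5.Part.frob_kernel_nilpotent _ ⊤ (lt_top_iff_ne_top.mpr hK2)
      (fun x _ k hk => (subgroupOf_normal H).conj_mem k hk x) ?_
    intro x _ hx k hk hxk
    exact hF x hx k hk hxk.symm
  have hnil : Group.IsNilpotent H := by
    haveI := hnil₀
    exact Group.nilpotent_of_mulEquiv
      (Subgroup.subgroupOfEquivOfLe (Subgroup.le_normalizer (H := H)))
  have hyp : Hyp H (Subgroup.normalizer (H : Set G)) := hyp_normalizer H hTI hC
  obtain ⟨θ₁, hθirr, ⟨k, hk, hkne⟩, hθ1⟩ := exists_deg_index _ hF hnil₀ hK1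
  have hθ₁ : θ₁ ∈ SS H (Subgroup.normalizer (H : Set G)) :=
    ⟨hθirr, k, Subgroup.mem_subgroupOf.mp hk, hkne⟩
  rw [d.hidx] at hθ1
  have hne : Nat.card (H.subgroupOf (Subgroup.normalizer (H : Set G)))
      ≠ (H.subgroupOf (Subgroup.normalizer (H : Set G))).index + 1 := by
    rw [hcard, d.hcardK, d.hidx]
    omega
  obtain ⟨hτ, hτ1⟩ := ind_isometry H hTI hC
  rcases Cfsg.Agent.S1535.result (H.subgroupOf (Subgroup.normalizer (H : Set G))) hK1 hK2 hC₀
    hne _ hτ hτ1 with hcoh | ⟨p, hp, ⟨m, hm⟩, hna, hidx⟩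
  · have hcoh' : IsCoherent (SS H (Subgroup.normalizer (H : Set G))) {1}ᶜ
        (fun α => indFun (Subgroup.normalizer (H : Set G)) α) := hcoh
    obtain ⟨-, star, hstar, hext⟩ := hcoh'
    exact (not_coherent hyp d he2 hlt θ₁ hθ₁ hθ1 star hstar hext).elim
  · have hna' := not_comm_subgroupOf H hna
    rw [hcard] at hm
    by_cases hp2 : p = 2
    · subst hp2
      refine ⟨IsPGroup.of_card hm, ?_, ?_⟩
      · by_contra hcon
        push Not at hcon
        exact hna' ⟨⟨fun u v => hcon u v⟩⟩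
      · have hidx' : (⁅H, H⁆ : Subgroup G).relIndex H ≤
            4 * (H.subgroupOf (Subgroup.normalizer (H : Set G))).index ^ 2 + 1 := by
          rw [← relIndex_commutator_subgroupOf H]
          exact hidx
        rw [d.hidx] at hidx'
        have h1 : (commutator H) = (⁅H, H⁆ : Subgroup G).subgroupOf H := by
          rw [← Subgroup.map_subtype_commutator, Subgroup.subgroupOf,
            Subgroup.comap_map_eq_self_of_injective H.subtype_injective]
        rw [h1]
        exact hidx'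
    · exfalso
      have hHodd : Odd (Nat.card H) := by
        rw [hm]
        exact (hp.odd_of_ne_two hp2).pow
      have hodd := odd_normalizer H hHodd hna' hC
      have hcoh' : IsCoherent (SS H (Subgroup.normalizer (H : Set G))) {1}ᶜ
          (fun α => indFun (Subgroup.normalizer (H : Set G)) α) :=
        coherent_of_odd H hodd hlt' hnil hTI hC H hH1 le_rfl
      obtain ⟨-, star, hstar, hext⟩ := hcoh'
      exact not_coherent hyp d he2 hlt θ₁ hθ₁ hθ1 star hstar hext

end Cfsg.Agent.Helper3.FeitMain
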