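import Mathlib
import Cfsg.Agent.Helper2.Zassenhaus
import Cfsg.Agent.Helper5.Zassenhaus2
import Cfsg.Agent.Helper20.ZassB

set_option autoImplicit false
set_option linter.style.haveILetI false

/-!
# Feit's theorem on Zassenhaus groups: reduction to the simple case

For a Zassenhaus group `G` with Frobenius kernel `H` of a point stabiliser, every non-trivial
normal subgroup contains `H`, and the normal closure of `H` is a simple Zassenhaus group.
-/

namespace Cfsg.Agent.Helper3.Feit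

open MulAction Cfsg

variable {G Ω : Type*} [Group G] [MulAction G Ω]

/-- The kernel is normalised by the point stabiliser. -/
theorem kernel_conj_mem [Finite G] [Fintype Ω] (hZ : IsZassenhausGroup G Ω) (a : Ω)
    (H : Subgroup G) (hHa : H ≤ stabilizer G a) (hHcard : Nat.card H + 1 = Fintype.card Ω)
    (hHfix : ∀ u ∈ H, u ≠ 1 → ∀ c : Ω, u • c = c → c = a) {g u : G} (hg : g • a = a)
    (hu : u ∈ H) : g * u * g⁻¹ ∈ H := by
  have hga : g⁻¹ • a = a := by rw [inv_smul_eq_iff, hg]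
  have hua : u • a = a := hHa hu
  have h1 : (g * u * g⁻¹) • a = a := by rw [mul_smul, mul_smul, hga, hua, hg]
  rw [Cfsg.Agent.Helper20.Zass.mem_kernel_iff hZ a H hHa hHcard hHfix _ h1]
  by_cases hu1 : u = 1
  · left
    rw [hu1, mul_one, mul_inv_cancel]
  · right
    intro c hc
    have h2 : u • (g⁻¹ • c) = g⁻¹ • c := by
      have := congrArg (fun x => g⁻¹ • x) hc
      simpa [mul_smul] using this
    have h3 := hHfix u hu hu1 _ h2
    rw [inv_smul_eq_iff, hg] at h3
    exact h3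

/-- Every non-trivial normal subgroup of a Zassenhaus group contains the kernel. -/
theorem kernel_le_of_normal [Finite G] [Fintype Ω] (hZ : IsZassenhausGroup G Ω) (a : Ω)
    (H : Subgroup G) (hHa : H ≤ stabilizer G a) (hHcard : Nat.card H + 1 = Fintype.card Ω)
    (hHfix : ∀ u ∈ H, u ≠ 1 → ∀ c : Ω, u • c = c → c = a)
    (M : Subgroup G) [hMn : M.Normal] (hM : M ≠ ⊥) : H ≤ M := by
  classical
  have hZM : IsZassenhausGroup M Ω := Cfsg.Agent.Helper2.Zass.isZassenhaus_of_normal hZ M hM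
  have h3 := Cfsg.Agent.Helper5.Zassenhaus.three_le_card hZ
  obtain ⟨b, hba⟩ : ∃ b : Ω, b ≠ a := by
    by_contra hcon
    push Not at hcon
    have : Fintype.card Ω ≤ 1 := Fintype.card_le_one_iff.2 (fun x y => (hcon x).trans (hcon y).symm)
    omega
  have hab : a ≠ b := Ne.symm hba
  obtain ⟨y, hy1, hya, hyb⟩ := Cfsg.Agent.Helper5.Zassenhaus.exists_ne_one_fix2 hZM hab
  have hya' : (y : G) • a = a := hya
  have hyb' : (y : G) • b = b := hyb
  have hy1' : (y : G) ≠ 1 := fun h => hy1 (Subtype.ext h)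
  let f : H → ↥(H ⊓ M) := fun x => ⟨(x : G) * (y : G) * (x : G)⁻¹ * (y : G)⁻¹, by
    constructor
    · have h1 : (y : G) * (x : G)⁻¹ * (y : G)⁻¹ ∈ H :=
        kernel_conj_mem hZ a H hHa hHcard hHfix hya' (H.inv_mem x.2)
      have h2 : (x : G) * (y : G) * (x : G)⁻¹ * (y : G)⁻¹
          = (x : G) * ((y : G) * (x : G)⁻¹ * (y : G)⁻¹) := by group
      rw [h2]
      exact H.mul_mem x.2 h1
    · exact M.mul_mem (hMn.conj_mem _ y.2 _) (M.inv_mem y.2)⟩
  have hf : Function.Injective f := by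
    intro x x' hxx
    have h1 : (x : G) * (y : G) * (x : G)⁻¹ * (y : G)⁻¹
        = (x' : G) * (y : G) * (x' : G)⁻¹ * (y : G)⁻¹ := congrArg Subtype.val hxx
    have h2 : (x : G) * (y : G) * (x : G)⁻¹ = (x' : G) * (y : G) * (x' : G)⁻¹ :=
      mul_right_cancel h1
    set z : G := (x' : G)⁻¹ * (x : G) with hz
    have hzH : z ∈ H := H.mul_mem (H.inv_mem x'.2) x.2
    have hcomm : z * (y : G) = (y : G) * z := by
      have : (x' : G)⁻¹ * ((x : G) * (y : G) * (x : G)⁻¹) * (x : G)
          = (x' : G)⁻¹ * ((x' : G) * (y : G) * (x' : G)⁻¹) * (x : G) := by rw [h2]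
      calc z * (y : G) = (x' : G)⁻¹ * ((x : G) * (y : G) * (x : G)⁻¹) * (x : G) := by
            rw [hz]; group
        _ = (x' : G)⁻¹ * ((x' : G) * (y : G) * (x' : G)⁻¹) * (x : G) := this
        _ = (y : G) * z := by rw [hz]; group
    have hza : z • a = a := hHa hzH
    have hzb : (y : G) • (z • b) = z • b := by
      rw [← mul_smul, ← hcomm, mul_smul, hyb']
    have hzb' : z • b = a ∨ z • b = b := by
      by_contra hcon
      push Not at hcon
      exact hy1' (Cfsg.Agent.Helper5.Zassenhaus.eq_one_of_fix3 hZ hab (Ne.symm hcon.2)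
        (Ne.symm hcon.1) hya' hyb' hzb)
    have hz1 : z = 1 := by
      by_contra hne
      rcases hzb' with h | h
      · have : z • b = z • a := h.trans hza.symm
        exact hba (smul_left_cancel z this)
      · exact hba (hHfix z hzH hne b h)
    have : (x : G) = (x' : G) := by
      rw [hz] at hz1
      exact (inv_mul_eq_one.1 hz1).symm
    exact Subtype.ext this
  have hcard : Nat.card H ≤ Nat.card ↥(H ⊓ M) := Nat.card_le_card_of_injective f hf
  have heq : H ⊓ M = H := Subgroup.eq_of_le_of_card_ge inf_le_left hcard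
  rw [← heq]
  exact inf_le_right

/-- The normal closure of the kernel is a simple group. -/
theorem isSimpleGroup_normalClosure [Finite G] [Fintype Ω] (hZ : IsZassenhausGroup G Ω) (a : Ω)
    (H : Subgroup G) (hHa : H ≤ stabilizer G a) (hHcard : Nat.card H + 1 = Fintype.card Ω)
    (hHfix : ∀ u ∈ H, u ≠ 1 → ∀ c : Ω, u • c = c → c = a) :
    IsSimpleGroup ↥(Subgroup.normalClosure (H : Set G)) := by
  classical
  set G₁ := Subgroup.normalClosure (H : Set G) with hG₁
  have h3 := Cfsg.Agent.Helper5.Zassenhaus.three_le_card hZ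
  have hHG₁ : H ≤ G₁ := Subgroup.le_normalClosure
  have hH1 : H ≠ ⊥ := by
    intro h
    rw [h, Subgroup.card_bot] at hHcard
    omega
  have hG₁1 : G₁ ≠ ⊥ := by
    intro h
    apply hH1
    rw [eq_bot_iff, ← h]
    exact hHG₁
  have hZ₁ : IsZassenhausGroup G₁ Ω :=
    Cfsg.Agent.Helper2.Zass.isZassenhaus_of_normal hZ G₁ hG₁1
  haveI : Nontrivial G₁ := by
    rw [← Subgroup.nontrivial_iff_ne_bot] at hG₁1
    exact hG₁1
  refine ⟨fun M₁ hM₁n => ?_⟩
  by_cases hM₁ : M₁ = ⊥
  · exact Or.inl hM₁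
  right
  -- the kernel inside `G₁`
  set H₁ : Subgroup G₁ := H.subgroupOf G₁ with hH₁
  have hH₁a : H₁ ≤ stabilizer G₁ a := by
    intro x hx
    rw [hH₁, Subgroup.mem_subgroupOf] at hx
    exact hHa hx
  have hH₁card : Nat.card H₁ + 1 = Fintype.card Ω := by
    rw [← hHcard]
    congr 1
    exact Nat.card_congr (Subgroup.subgroupOfEquivOfLe hHG₁).toEquiv
  have hH₁fix : ∀ u ∈ H₁, u ≠ 1 → ∀ c : Ω, u • c = c → c = a := by
    intro u hu hu1 c hc
    rw [hH₁, Subgroup.mem_subgroupOf] at hu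
    exact hHfix u hu (fun h => hu1 (Subtype.ext h)) c hc
  haveI := hM₁n
  have hle := kernel_le_of_normal hZ₁ a H₁ hH₁a hH₁card hH₁fix M₁ hM₁
  -- all conjugates of `H` lie in the image of `M₁`
  set M : Subgroup G := M₁.map G₁.subtype with hMdef
  have hHM : H ≤ M := by
    intro x hx
    exact ⟨⟨x, hHG₁ hx⟩, hle (Subgroup.mem_subgroupOf.2 hx), rfl⟩
  haveI := Cfsg.Agent.Helper5.Zassenhaus.isPretransitive_of_zassenhaus hZ₁
  have hconj : Group.conjugatesOfSet (H : Set G) ⊆ M := by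
    intro x hx
    rw [Group.mem_conjugatesOfSet_iff] at hx
    obtain ⟨u, hu, hux⟩ := hx
    rw [isConj_iff] at hux
    obtain ⟨g, rfl⟩ := hux
    obtain ⟨g₁, hg₁⟩ := MulAction.exists_smul_eq G₁ a (g • a)
    have hg₁' : (g₁ : G) • a = g • a := hg₁
    set k : G := (g₁ : G)⁻¹ * g with hk
    have hka : k • a = a := by rw [hk, mul_smul, ← hg₁', inv_smul_smul]
    have h1 : k * u * k⁻¹ ∈ H := kernel_conj_mem hZ a H hHa hHcard hHfix hka hu
    have h2 : g * u * g⁻¹ = (g₁ : G) * (k * u * k⁻¹) * (g₁ : G)⁻¹ := by rw [hk]; group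
    rw [h2]
    obtain ⟨m, hm, hmk⟩ := hHM h1
    refine ⟨g₁ * m * g₁⁻¹, hM₁n.conj_mem m hm g₁, ?_⟩
    rw [← hmk]
    rfl
  have hG₁M : G₁ ≤ M := by
    rw [hG₁]
    exact (Subgroup.closure_le M).2 hconj
  rw [eq_top_iff]
  intro x _
  obtain ⟨m, hm, hmx⟩ := hG₁M x.2
  have : m = x := Subtype.ext hmx
  rw [← this]
  exact hm

end Cfsg.Agent.Helper3.Feit
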