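import Mathlib
import Cfsg.Agent.Helper3.FeitRed

set_option autoImplicit false
set_option linter.style.haveILetI false

/-!
# Feit's theorem on Zassenhaus groups: reduction to simple groups
-/

namespace Cfsg.Agent.Helper3.Feit

open MulAction Cfsg

universe u v

/-- the statement of Feit's theorem for one group -/
def FeitStmt (G : Type u) (Ω : Type v) [Group G] [MulAction G Ω] [Fintype Ω] : Prop :=
  ∀ {a b : Ω} (_ : a ≠ b) (h e : ℕ) (_ : Fintype.card Ω = h + 1)
    (_ : Nat.card ↥(stabilizer G a ⊓ stabilizer G b : Subgroup G) = e) (_ : Odd e)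
    (H : Subgroup G) (_ : H ≤ stabilizer G a) (_ : Nat.card H + 1 = Fintype.card Ω)
    (_ : ∀ u ∈ H, u ≠ 1 → ∀ c : Ω, u • c = c → c = a),
    h - 1 ≤ 2 * e ∨
      (IsPGroup 2 H ∧ (∃ u v : H, u * v ≠ v * u) ∧ (commutator H).index ≤ 4 * e ^ 2 + 1)

/-- index of the commutator subgroup is invariant under isomorphism -/
theorem index_commutator_congr {A B : Type*} [Group A] [Group B] (φ : A ≃* B) :
    (commutator A).index = (commutator B).index := by
  have h1 : (commutator A).map φ.toMonoidHom = commutator B := by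
    rw [commutator_def, commutator_def, Subgroup.map_commutator,
      Subgroup.map_top_of_surjective _ φ.surjective]
  rw [← h1]
  exact (Subgroup.index_map_equiv (commutator A) φ).symm

/-- **Reduction.**  If Feit's theorem holds for all simple Zassenhaus groups on `Ω` (in the same
universe), it holds for all Zassenhaus groups on `Ω`. -/
theorem feit_of_simple {G : Type u} {Ω : Type v} [Group G] [Finite G] [MulAction G Ω] [Fintype Ω]
    (hsimple : ∀ (G₁ : Type u) [Group G₁] [Finite G₁] [MulAction G₁ Ω] [IsSimpleGroup G₁],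
      IsZassenhausGroup G₁ Ω → FeitStmt G₁ Ω)
    (hZ : IsZassenhausGroup G Ω) : FeitStmt G Ω := by
  classical
  intro a b hab h e hh he hodd H hHa hHcard hHfix
  have h3 := Cfsg.Agent.Helper5.Zassenhaus.three_le_card hZ
  have hH1 : H ≠ ⊥ := by
    intro h1
    rw [h1, Subgroup.card_bot] at hHcard
    omega
  obtain ⟨G₁, hG₁⟩ : ∃ G₁ : Subgroup G, G₁ = Subgroup.normalClosure (H : Set G) := ⟨_, rfl⟩
  have hHG₁ : H ≤ G₁ := by rw [hG₁]; exact Subgroup.le_normalClosure
  have hG₁1 : G₁ ≠ ⊥ := by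
    intro h1
    apply hH1
    rw [eq_bot_iff, ← h1]
    exact hHG₁
  haveI : G₁.Normal := by rw [hG₁]; exact Subgroup.normalClosure_normal
  have hZ₁ : IsZassenhausGroup G₁ Ω := Cfsg.Agent.Helper2.Zass.isZassenhaus_of_normal hZ G₁ hG₁1
  haveI : IsSimpleGroup G₁ := by
    rw [hG₁]
    exact isSimpleGroup_normalClosure hZ a H hHa hHcard hHfix
  -- the kernel inside `G₁`
  have hH₁a : H.subgroupOf G₁ ≤ stabilizer G₁ a := by
    intro x hx
    rw [mem_stabilizer_iff]
    exact hHa (Subgroup.mem_subgroupOf.mp hx)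
  let φ : H.subgroupOf G₁ ≃* H := Subgroup.subgroupOfEquivOfLe hHG₁
  have hcardH₁ : Nat.card (H.subgroupOf G₁) = Nat.card H := Nat.card_congr φ.toEquiv
  have hH₁fix : ∀ u ∈ H.subgroupOf G₁, u ≠ 1 → ∀ c : Ω, u • c = c → c = a := by
    intro u hu hu1 c hc
    exact hHfix (u : G) (Subgroup.mem_subgroupOf.mp hu)
      (fun h1 => hu1 (Subtype.ext h1)) c hc
  -- the two-point stabiliser inside `G₁`
  obtain ⟨e₁, he₁⟩ : ∃ e₁, Nat.card ↥(stabilizer G₁ a ⊓ stabilizer G₁ b : Subgroup G₁) = e₁ :=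
    ⟨_, rfl⟩
  have hdvd : e₁ ∣ e := by
    rw [← he₁, ← he]
    let f : ↥(stabilizer G₁ a ⊓ stabilizer G₁ b : Subgroup G₁) →*
        ↥(stabilizer G a ⊓ stabilizer G b : Subgroup G) :=
      { toFun := fun x => ⟨((x : G₁) : G), ⟨x.2.1, x.2.2⟩⟩
        map_one' := rfl
        map_mul' := fun _ _ => rfl }
    have hf : Function.Injective f := by
      intro x y hxy
      apply Subtype.ext
      apply Subtype.ext
      exact congrArg (fun z : ↥(stabilizer G a ⊓ stabilizer G b : Subgroup G) => (z : G)) hxy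
    exact Subgroup.card_dvd_of_injective f hf
  have hodd₁ : Odd e₁ := Odd.of_dvd_nat hodd hdvd
  have hle : e₁ ≤ e := Nat.le_of_dvd hodd.pos hdvd
  rcases hsimple G₁ hZ₁ hab h e₁ hh he₁ hodd₁ (H.subgroupOf G₁) hH₁a
    (by rw [hcardH₁]; exact hHcard) hH₁fix with h1 | ⟨h1, ⟨u, v, huv⟩, h2⟩
  · left
    omega
  · right
    refine ⟨h1.of_equiv φ, ⟨φ u, φ v, ?_⟩, ?_⟩
    · intro h4
      apply huv
      apply φ.injective
      rw [map_mul, map_mul]
      exact h4
    · rw [← index_commutator_congr φ]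
      have : 4 * e₁ ^ 2 + 1 ≤ 4 * e ^ 2 + 1 := by
        have := Nat.pow_le_pow_left hle 2
        omega
      omega

end Cfsg.Agent.Helper3.Feit
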