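import Mathlib
import Cfsg.Agent.Helper3.FeitMainE
import Cfsg.Agent.Helper3.FeitRed2
import Cfsg.Agent.Helper4.FeitGlue
import Cfsg.Agent.Helper27.FeitG3
import Cfsg.Agent.Helper20.ZassE
import Cfsg.Agent.S0878

set_option autoImplicit false
set_option linter.style.haveILetI false

/-!
# Feit's theorem on Zassenhaus groups: the simple case and the general case
-/

namespace Cfsg.Agent.Helper3.Feit

open MulAction Cfsg Cfsg.Agent.Helper3.FeitMain

/-- Feit's theorem for simple Zassenhaus groups. -/
theorem feit_simple {G Ω : Type*} [Group G] [Finite G] [MulAction G Ω] [Fintype Ω]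
    [IsSimpleGroup G] (hZ : IsZassenhausGroup G Ω) : FeitStmt G Ω := by
  classical
  haveI : Fintype G := Fintype.ofFinite G
  intro a b hab h e hh he hodd H hHa hHcard hHfix
  by_cases hlt : 2 * e < h - 1
  swap
  · left
    omega
  right
  have hodd' : Odd (Nat.card ↥(stabilizer G a ⊓ stabilizer G b : Subgroup G)) := by
    rw [he]; exact hodd
  -- the two-point stabiliser is not trivial
  have he2 : 2 ≤ e := by
    obtain ⟨g, hg1, a', b', hab', hga, hgb⟩ := hZ.2.2.2.1
    have h1 := Cfsg.Agent.Helper20.Zass.card_two_point_stabilizer_eq hZ hab hab'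
    rw [he] at h1
    rw [← h1]
    have h2 : (stabilizer G a' ⊓ stabilizer G b' : Subgroup G) ≠ ⊥ := by
      intro h3
      apply hg1
      have h4 : g ∈ (stabilizer G a' ⊓ stabilizer G b' : Subgroup G) := ⟨hga, hgb⟩
      rw [h3, Subgroup.mem_bot] at h4
      exact h4
    have h5 := (Subgroup.one_lt_card_iff_ne_bot _).mpr h2
    omega
  obtain ⟨hti, hnorm⟩ := Cfsg.Agent.S0878.result hZ a H hHa hHcard hHfix
  have hyp₀ := Cfsg.Agent.Helper4.FeitGlue.hyp_of_zassenhaus hZ a H hHa hHcard hHfix
  have hTI : IsTISubset (H : Set G) := by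
    intro g hg x hx hgx
    rw [hnorm] at hg
    exact hti g hg x hx hgx
  obtain ⟨hI1, hI2, hI3⟩ := Cfsg.Agent.Helper27.FeitG3.zdata_chars hZ hab hodd' H hHa hHcard hHfix
  have d₀ : ZData H (stabilizer G a) e h :=
    { hcardK := by omega
      hidx := by
        rw [Cfsg.Agent.Helper4.FeitGlue.index_kernel hZ a H hHa hHcard hab, he]
      hGN := by
        rw [Cfsg.Agent.Helper4.FeitGlue.index_stab hZ a, hh]
      hab := Cfsg.Agent.Helper4.FeitGlue.comm_mod_kernel hZ a H hHa hHcard hHfix hab hodd'
      hInd := hI1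
      hInd1 := hI2
      hperm := hI3
      hcls := Cfsg.Agent.Helper20.Zass.classes_avoiding_kernel hZ hab h e hh he hodd hlt H hHa
        hHcard hHfix }
  have d : ZData H (Subgroup.normalizer (H : Set G)) e h := by
    rw [hnorm]
    exact d₀
  haveI : Fintype ↥(Subgroup.normalizer (H : Set G)) := Fintype.ofFinite _
  exact feit_normalizer H hTI hyp₀.cent d he2 hlt

/-- **Feit's theorem on Zassenhaus groups** (general case). -/
theorem feit {G Ω : Type*} [Group G] [Finite G] [MulAction G Ω] [Fintype Ω]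
    (hZ : IsZassenhausGroup G Ω) : FeitStmt G Ω :=
  feit_of_simple (fun _ _ _ _ _ hZ₁ => feit_simple hZ₁) hZ

end Cfsg.Agent.Helper3.Feit
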