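import Mathlib
import Cfsg.Agent.Helper13.S2276Defs
import Cfsg.Agent.Helper23.S2276P3ONE
import Cfsg.Agent.Helper4.S2276P3W2
import Cfsg.Agent.Helper10.S2276P3W3
import Cfsg.Agent.Helper8.S2276P3NINE

set_option autoImplicit false

/-! # S2276, piece P3: all parts equal to 3 (assembly of P3ONE, P3NINE, P3W2, P3W3). -/

namespace Cfsg.Agent.S2276P

open Equiv Equiv.Perm

theorem P3.main {r : ℕ} (hr : Odd r) (h9 : 9 ≤ r) {p : ℕ} (hp : p.Prime) (hp2 : p ≠ 2) (j : ℕ)
    (hj : 1 ≤ j) (hsum : 3 * j ≤ r) :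
    ∃ v : Perm (Fin r), v.cycleType = Multiset.replicate j 3 ∧ Good p (finRotate r) v := by
  by_cases hj1 : j = 1
  · subst hj1
    obtain ⟨v, hv, hg⟩ := P3ONE.main hr (by omega) hp hp2
    exact ⟨v, by rw [hv]; rfl, hg⟩
  · by_cases hr9 : r = 9
    · subst hr9
      exact P3NINE.main hp hp2 j (by omega)
    · obtain ⟨t, rfl⟩ : ∃ t, r = 8 + 1 + (t + 1) := ⟨r - 10, by obtain ⟨m, hm⟩ := hr; omega⟩
      have ht : Odd t := by
        obtain ⟨m, hm⟩ := hr
        exact ⟨m - 5, by omega⟩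
      by_cases hj2 : j = 2
      · subst hj2
        exact P3W2.main t ht hp hp2
      · exact P3W3.main t ht hp hp2 j (by omega) (by omega)

end Cfsg.Agent.S2276P
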