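import Mathlib
import Cfsg.Prelude.Def_HallClasses

/-!
S3878, easy directions: if `π` contains at most one prime or all primes, every finite group has
Hall `π`-subgroups and satisfies `D_π`; and `D_π` implies `E_π` for finite groups.
-/

set_option autoImplicit false
set_option linter.unusedSectionVars false
set_option linter.style.haveILetI false

namespace Cfsg.Agent.Helper3.HallUniv

open Subgroup
open scoped Pointwise

variable {G : Type*} [Group G] [Finite G]

theorem conj_one_map (H : Subgroup G) : H.map (MulAut.conj (1 : G)).toMonoidHom = H := by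
  ext x
  simp [Subgroup.mem_map]

theorem smul_eq_map (g : G) (H : Subgroup G) :
    (MulAut.conj g • H : Subgroup G) = H.map (MulAut.conj g).toMonoidHom := rfl

/-- E_π when all primes lie in π. -/
theorem isEPiGroup_of_all (π : Set ℕ) (hB : ∀ p : ℕ, p.Prime → p ∈ π) : Cfsg.IsEPiGroup π G := by
  refine ⟨⊤, fun p hp _ => hB p hp, fun p hp _ => ?_⟩
  rw [Subgroup.index_top]
  exact hp.one_lt.ne' ∘ Nat.dvd_one.mp

/-- E_π when at most one prime lies in π. -/
theorem isEPiGroup_of_atMostOne (π : Set ℕ)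
    (hA : ∀ p q : ℕ, p.Prime → q.Prime → p ∈ π → q ∈ π → p = q) : Cfsg.IsEPiGroup π G := by
  by_cases h : ∃ p₀ : ℕ, p₀.Prime ∧ p₀ ∈ π
  · obtain ⟨p₀, hp₀, hp₀π⟩ := h
    haveI : Fact p₀.Prime := ⟨hp₀⟩
    obtain ⟨P⟩ : Nonempty (Sylow p₀ G) := inferInstance
    refine ⟨(P : Subgroup G), fun p hp hdvd => ?_, fun p hp hpπ => ?_⟩
    · obtain ⟨k, hk⟩ := IsPGroup.iff_card.mp P.isPGroup'
      rw [hk] at hdvd
      have := (Nat.prime_dvd_prime_iff_eq hp hp₀).mp (hp.dvd_of_dvd_pow hdvd)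
      rw [this]
      exact hp₀π
    · have := hA p p₀ hp hp₀ hpπ hp₀π
      rw [this]
      exact P.not_dvd_index
  · push Not at h
    refine ⟨⊥, fun p hp hdvd => ?_, fun p hp hpπ => ?_⟩
    · rw [Subgroup.card_bot] at hdvd
      exact absurd (Nat.dvd_one.mp hdvd) hp.one_lt.ne'
    · exact absurd hpπ (h p hp)

/-- D_π when all primes lie in π. -/
theorem isDPiGroup_of_all (π : Set ℕ) (hB : ∀ p : ℕ, p.Prime → p ∈ π) : Cfsg.IsDPiGroup π G := by
  intro H K hH hK
  have htop : Cfsg.IsPiSubgroup π (⊤ : Subgroup G) := fun p hp _ => hB p hp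
  have h1 : H = ⊤ := top_le_iff.mp (hH.2 htop le_top)
  have h2 : K = ⊤ := top_le_iff.mp (hK.2 htop le_top)
  refine ⟨1, ?_⟩
  rw [conj_one_map, h1, h2]

/-- D_π when at most one prime lies in π. -/
theorem isDPiGroup_of_atMostOne (π : Set ℕ)
    (hA : ∀ p q : ℕ, p.Prime → q.Prime → p ∈ π → q ∈ π → p = q) : Cfsg.IsDPiGroup π G := by
  intro H K hH hK
  by_cases h : ∃ p₀ : ℕ, p₀.Prime ∧ p₀ ∈ π
  · obtain ⟨p₀, hp₀, hp₀π⟩ := h
    haveI : Fact p₀.Prime := ⟨hp₀⟩
    -- π-subgroups are p₀-groups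
    have hpg : ∀ L : Subgroup G, Cfsg.IsPiSubgroup π L → IsPGroup p₀ L := by
      intro L hL
      rw [IsPGroup.iff_card]
      refine ⟨(Nat.card L).primeFactorsList.length, ?_⟩
      apply Nat.eq_prime_pow_of_unique_prime_dvd Nat.card_pos.ne'
      intro d hd hdvd
      exact hA d p₀ hd hp₀ (hL d hd hdvd) hp₀π
    have hsyl : ∀ P : Sylow p₀ G, Cfsg.IsPiSubgroup π (P : Subgroup G) := by
      intro P p hp hdvd
      obtain ⟨k, hk⟩ := IsPGroup.iff_card.mp P.isPGroup'
      rw [hk] at hdvd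
      have := (Nat.prime_dvd_prime_iff_eq hp hp₀).mp (hp.dvd_of_dvd_pow hdvd)
      rw [this]
      exact hp₀π
    obtain ⟨P, hP⟩ := (hpg H hH.1).exists_le_sylow
    obtain ⟨Q, hQ⟩ := (hpg K hK.1).exists_le_sylow
    have hHP : H = P := le_antisymm hP (hH.2 (hsyl P) hP)
    have hKQ : K = Q := le_antisymm hQ (hK.2 (hsyl Q) hQ)
    obtain ⟨g, hg⟩ := MulAction.exists_smul_eq G P Q
    refine ⟨g, ?_⟩
    rw [hHP, hKQ, ← hg, Sylow.coe_subgroup_smul, smul_eq_map]
  · push Not at h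
    have hbot : ∀ L : Subgroup G, Cfsg.IsPiSubgroup π L → L = ⊥ := by
      intro L hL
      apply Subgroup.eq_bot_of_card_eq
      by_contra hne
      obtain ⟨p, hp, hdvd⟩ := Nat.exists_prime_and_dvd hne
      exact h p hp (hL p hp hdvd)
    refine ⟨1, ?_⟩
    rw [conj_one_map, hbot H hH.1, hbot K hK.1]

theorem card_map_conj (g : G) (H : Subgroup G) :
    Nat.card (H.map (MulAut.conj g).toMonoidHom) = Nat.card H :=
  Subgroup.card_map_of_injective (MulAut.conj g).injective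

/-- D_π implies E_π for finite groups. -/
theorem isEPiGroup_of_isDPiGroup (π : Set ℕ) (hD : Cfsg.IsDPiGroup π G) : Cfsg.IsEPiGroup π G := by
  have hfin : {L : Subgroup G | Cfsg.IsPiSubgroup π L}.Finite := Set.toFinite _
  have hbot : (⊥ : Subgroup G) ∈ {L : Subgroup G | Cfsg.IsPiSubgroup π L} := by
    intro p hp hdvd
    rw [Subgroup.card_bot] at hdvd
    exact absurd (Nat.dvd_one.mp hdvd) hp.one_lt.ne'
  obtain ⟨M, _, hM⟩ := hfin.exists_le_maximal hbot
  refine ⟨M, hM.1, fun p hp hpπ hdvd => ?_⟩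
  haveI : Fact p.Prime := ⟨hp⟩
  obtain ⟨P⟩ : Nonempty (Sylow p G) := inferInstance
  have hP : (P : Subgroup G) ∈ {L : Subgroup G | Cfsg.IsPiSubgroup π L} := by
    intro q hq hqdvd
    obtain ⟨k, hk⟩ := IsPGroup.iff_card.mp P.isPGroup'
    rw [hk] at hqdvd
    have := (Nat.prime_dvd_prime_iff_eq hq hp).mp (hq.dvd_of_dvd_pow hqdvd)
    rw [this]
    exact hpπ
  obtain ⟨M', hPM', hM'⟩ := hfin.exists_le_maximal hP
  obtain ⟨g, hg⟩ := hD M M' hM hM'
  have hcard : Nat.card M' = Nat.card M := by rw [hg, card_map_conj]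
  have hidx : M'.index = M.index := by
    have h1 := Subgroup.card_mul_index M
    have h2 := Subgroup.card_mul_index M'
    rw [hcard, ← h1] at h2
    exact Nat.eq_of_mul_eq_mul_left Nat.card_pos h2
  have h3 : M'.index ∣ (P : Subgroup G).index := Subgroup.index_dvd_of_le hPM'
  rw [← hidx] at hdvd
  exact P.not_dvd_index (hdvd.trans h3)

end Cfsg.Agent.Helper3.HallUniv
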