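import Cfsg.Agent.Helper11.S3786Defs

/-! # S3786 board: cores of the rows CSet_exists (from SYL2 + CRIT2) and K_commute (from That_comm) -/

set_option autoImplicit false

namespace Cfsg.Agent.S3786P

open Subgroup

/-- core of CSet_exists: `hSYL` is the conclusion of SYL2, `hCRIT` the statement of CRIT2 for `q = 2` -/
theorem CSet_exists_aux_core {H : Type*} [Group H] (p : ℕ) (T : Subgroup H) (n : ℕ)
    (hSYL : ∃ S₂ : Subgroup H, S₂ ≤ Cfsg.pPrimeCore p H ∧ IsPGroup 2 S₂ ∧ T ≤ normalizer (S₂ : Set H) ∧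
      That T p n ⊓ centralizer (S₂ : Set H) = ⊥)
    (hCRIT : ∀ S : Subgroup H, IsPGroup 2 S →
      ∃ C : Subgroup H, C ≤ S ∧ normalizer (S : Set H) ≤ normalizer (C : Set H) ∧
        (∀ a ∈ C, ∀ b ∈ C, a * b * a⁻¹ * b⁻¹ ∈ centralizer (C : Set H)) ∧
        (∀ a ∈ C, a ^ 2 ∈ centralizer (C : Set H)) ∧
        ∀ t ∈ normalizer (S : Set H), (orderOf t).Coprime 2 → t ∈ centralizer (C : Set H) →
          t ∈ centralizer (S : Set H)) :
    ∃ S₂ C : Subgroup H, CSet p T n S₂ C := by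
  obtain ⟨S₂, h1, h2, h3, h4⟩ := hSYL
  obtain ⟨C, c1, c2, c3, c4, c5⟩ := hCRIT S₂ h2
  exact ⟨S₂, C, ⟨h1, h2, h3, h4, c1, c2, c3, c4, c5⟩⟩

/-- core of K_commute: `hcomm` is the conclusion of That_comm, `hexp` is `KSet.exp` -/
theorem K_commute_aux_core {H : Type*} [Group H] {p : ℕ} [Fact p.Prime] (T : Subgroup H) (n : ℕ)
    (hexp : ∀ w ∈ T, w ^ p ^ n = 1)
    (hcomm : ∀ a ∈ That T p n, ∀ b ∈ That T p n, a * b = b * a)
    {x d : H} (hx : x ∈ T) (hxn : orderOf x = p ^ n) (hd : d ∈ T) :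
    x ^ p ^ (n - 1) * (x * d) ^ p ^ (n - 1) = (x * d) ^ p ^ (n - 1) * x ^ p ^ (n - 1) := by
  have hp : p.Prime := Fact.out
  have h1 : x ^ p ^ (n - 1) ∈ That T p n := subset_closure ⟨x, hx, hxn, rfl⟩
  have hxd : x * d ∈ T := mul_mem hx hd
  have h2 : (x * d) ^ p ^ (n - 1) ∈ That T p n := by
    have hdvd : orderOf (x * d) ∣ p ^ n := orderOf_dvd_of_pow_eq_one (hexp _ hxd)
    obtain ⟨m, hm, hmo⟩ := (Nat.dvd_prime_pow hp).1 hdvd
    rcases Nat.lt_or_ge m n with hlt | hge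
    · have : (x * d) ^ p ^ (n - 1) = 1 := by
        apply orderOf_dvd_iff_pow_eq_one.1
        rw [hmo]
        exact pow_dvd_pow p (by omega)
      rw [this]; exact one_mem _
    · have hmn : m = n := le_antisymm hm hge
      rw [hmn] at hmo
      exact subset_closure ⟨x * d, hxd, hmo, rfl⟩
  exact hcomm _ h1 _ h2

end Cfsg.Agent.S3786P
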