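import Cfsg.Agent.Helper3.S3786Kcore
import Cfsg.Agent.Helper11.S3786That_commcore
import Cfsg.Agent.Helper10.S3786That_le
import Cfsg.Agent.Helper23.S3786LYapply

/-! # S3786 pieces, row `K_commute` (official wrapper).

`That_comm`'s official wrapper (helper11) is not on main yet; `K_commute_aux_That_comm` is the same statement under my own name, from the landed
`That_comm_aux_core` + `That_le` + `LY_apply`. -/

set_option autoImplicit false

namespace Cfsg.Agent.S3786P

open Subgroup

universe u

section K2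

variable {F : Type*} [Field F] {p : ℕ} [Fact p.Prime] [CharP F p] {V : Type*} [AddCommGroup V] [Module F V]
  [FiniteDimensional F V] [Nontrivial V] {H : Type u} [Group H] [Finite H] {ρ₀ : Representation F H V}
  {T : Sylow p H} {n : ℕ}

/-- `T̂` is abelian (own copy of row `That_comm`). -/
theorem K_commute_aux_That_comm (S : KSet ρ₀ p (T : Subgroup H) n) :
    ∀ a ∈ That (T : Subgroup H) p n, ∀ b ∈ That (T : Subgroup H) p n, a * b = b * a := by
  refine That_comm_aux_core (p := p) (T : Subgroup H) (That (T : Subgroup H) p n) T.isPGroup'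
    {z | ∃ w ∈ (T : Subgroup H), orderOf w = p ^ n ∧ z = w ^ p ^ (n - 1)} rfl
    (That_le (T : Subgroup H) p n).1 (That_le (T : Subgroup H) p n).2 ?_
  rintro z ⟨w, hw, hwn, rfl⟩ B hB hBc hTB b hb
  exact LY_apply S hw hwn B hB hBc (hTB hw) b hb

theorem K_commute (S : KSet ρ₀ p (T : Subgroup H) n) {x d : H} (hx : x ∈ (T : Subgroup H)) (hxn : orderOf x = p ^ n)
    (hd : d ∈ (T : Subgroup H)) :
    x ^ p ^ (n - 1) * (x * d) ^ p ^ (n - 1) = (x * d) ^ p ^ (n - 1) * x ^ p ^ (n - 1) :=
  K_commute_aux_core (T : Subgroup H) n S.exp (K_commute_aux_That_comm S) hx hxn hd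

end K2

end Cfsg.Agent.S3786P
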