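import Mathlib
import Cfsg.Prelude.Def_Solvable
import Cfsg.Agent.Helper11.S4409Defs
import Cfsg.Agent.S0017

/-! Board `s4409pieces`, row CFIT. -/

set_option autoImplicit false

namespace Cfsg.Agent.S4409P

open Subgroup

variable {S : Type*} [Group S] [Finite S]

/-- CFIT : `C_S(O_2(S)) ≤ O_2(S)` for solvable `S` with `O_{2'}(S) = 1`. -/
theorem cent_pcore_le [Group.IsSolvable S] (hO : Cfsg.pPrimeCore 2 S = ⊥) :
    centralizer ((Cfsg.pCore 2 S : Subgroup S) : Set S) ≤ Cfsg.pCore 2 S := by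
  haveI : Fact (Nat.Prime 2) := ⟨Nat.prime_two⟩
  exact Cfsg.Agent.S0017.result 2 hO

end Cfsg.Agent.S4409P
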