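import Mathlib
import Cfsg.Prelude.Def_Solvable
import Cfsg.Agent.Helper11.S4409Defs
import Cfsg.Agent.S0003

/-! Board `s4409pieces`, row HALL2. -/

set_option autoImplicit false

namespace Cfsg.Agent.S4409P

open Subgroup

variable {S : Type*} [Group S] [Finite S]

/-- HALL2 (`Cfsg.Agent.S0003.result`) -/
theorem exists_two_compl [Group.IsSolvable S] (X : Sylow 2 S) :
    ∃ K : Subgroup S, Nat.card ↥K * Nat.card ↥X = Nat.card S ∧ Odd (Nat.card ↥K) := by
  have : Fact (Nat.Prime 2) := ⟨Nat.prime_two⟩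
  have hidx : Nat.card S = (X : Subgroup S).index * Nat.card ↥X := by
    rw [mul_comm]; exact ((X : Subgroup S).card_mul_index).symm
  have h2 : ¬ 2 ∣ (X : Subgroup S).index := X.not_dvd_index
  have hcop : ((X : Subgroup S).index).Coprime (Nat.card ↥X) := by
    obtain ⟨k, hk⟩ := IsPGroup.iff_card.mp X.isPGroup'
    have hk' : Nat.card ↥X = 2 ^ k := hk
    rw [hk']
    exact Nat.Coprime.pow_right k ((Nat.Prime.coprime_iff_not_dvd Nat.prime_two).mpr h2).symm
  obtain ⟨K, hK⟩ := Cfsg.Agent.S0003.result (G := S) _ _ hidx hcop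
  refine ⟨K, ?_, ?_⟩
  · rw [hK]; exact hidx.symm
  · rw [hK, Nat.odd_iff]
    omega

end Cfsg.Agent.S4409P
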