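import Mathlib
import Cfsg.Agent.Helper11.S4409Defs

/-! Board `s4409pieces`, row P2BQ: the core (facts about `L = [X,K]` as hypotheses). -/

set_option autoImplicit false

namespace Cfsg.Agent.S4409P

open Subgroup
open scoped commutatorElement

variable {S : Type*} [Group S] [Finite S]

omit [Finite S] in
theorem P2BQ_aux_mem_sup {X Y : Subgroup S} (hc : ∀ x ∈ X, ∀ y ∈ Y, x * y = y * x)
    {v : S} (hv : v ∈ X ⊔ Y) : ∃ x ∈ X, ∃ y ∈ Y, v = x * y := by
  have hc' : ∀ (a : X) (b : Y), Commute (X.subtype a) (Y.subtype b) := fun a b => hc a a.2 b b.2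
  have h1 := MonoidHom.noncommCoprod_range X.subtype Y.subtype hc'
  rw [Subgroup.range_subtype, Subgroup.range_subtype] at h1
  rw [← h1] at hv
  obtain ⟨⟨a, b⟩, rfl⟩ := hv
  exact ⟨a, a.2, b, b.2, rfl⟩

/-- core of P2BQ, with the facts about `L = [X,K]` as hypotheses. -/
theorem P2BQ_aux_core (X K L : Subgroup S) (hX : IsPGroup 2 ↥X)
    (hM : MinA X K) (hlt : L ≠ X) (hLX : L ≤ X) (hKL : K ≤ normalizer (L : Set S))
    (hsup : L ⊔ (X ⊓ centralizer (K : Set S)) = X)
    (hcen : ∀ c ∈ X ⊓ centralizer (K : Set S), c ∈ centralizer (L : Set S))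
    (hhas : ∀ c ∈ centralizer (L : Set S), c ∉ L → (∃ n : ℕ, c ^ (2 ^ n) = 1) → HasA (L ⊔ zpowers c))
    (hiso : Nonempty (↥L ≃* QuaternionGroup 2)) :
    ∃ X₀ : Subgroup S, X₀ ≤ X ∧ X₀.relIndex X = 2 ∧ Nonempty (↥X₀ ≃* QuaternionGroup 2) ∧
      X₀ ⊔ (X ⊓ centralizer (X₀ : Set S)) = X := by
  -- existence of `c ∈ C_X(K) ∖ L`
  have hex : ∃ n : ℕ, ∃ c ∈ X ⊓ centralizer (K : Set S), c ∉ L ∧ c ^ (2 ^ n) = 1 := by
    by_contra hcon
    push Not at hcon
    apply hlt
    have hle : X ⊓ centralizer (K : Set S) ≤ L := by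
      intro c hc
      by_contra hcL
      obtain ⟨n, hn⟩ := hX ⟨c, hc.1⟩
      have hn' : c ^ (2 ^ n) = 1 := by
        have := congrArg Subtype.val hn
        simpa using this
      exact hcon n c hc hcL hn'
    calc L = L ⊔ (X ⊓ centralizer (K : Set S)) := (sup_eq_left.mpr hle).symm
      _ = X := hsup
  classical
  obtain ⟨c, hc, hcL, hcn⟩ := Nat.find_spec hex
  have hmin := fun m (hm : m < Nat.find hex) => Nat.find_min hex hm
  -- `c * c ∈ L`
  have hccL : c * c ∈ L := by
    by_contra hccL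
    rcases Nat.eq_zero_or_eq_succ_pred (Nat.find hex) with h0 | hs
    · rw [h0] at hcn
      simp only [pow_zero, pow_one] at hcn
      exact hcL (hcn ▸ L.one_mem)
    · refine hmin (Nat.find hex - 1) (by omega) ⟨c * c, (X ⊓ centralizer (K : Set S)).mul_mem hc hc, hccL, ?_⟩
      rw [hs, pow_succ, pow_mul'] at hcn
      rw [← pow_two]
      exact hcn
  have hcCL : c ∈ centralizer (L : Set S) := hcen c hc
  -- `L ⊔ ⟨c⟩ = X`
  have hKn : K ≤ normalizer ((L ⊔ zpowers c : Subgroup S) : Set S) := by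
    intro k hk
    apply normalizer_inf_normalizer_le_normalizer_sup
    refine ⟨hKL hk, ?_⟩
    have hkc : Commute k c := (mem_centralizer_iff.mp hc.2) k hk
    have hcz : k ∈ centralizer ((zpowers c : Subgroup S) : Set S) := by
      rw [mem_centralizer_iff]
      rintro h ⟨i, rfl⟩
      exact ((hkc.zpow_right i).eq).symm
    exact centralizer_le_normalizer _ hcz
  have hle : L ⊔ zpowers c ≤ X := sup_le hLX ((zpowers_le).mpr hc.1)
  have heq : L ⊔ zpowers c = X := by
    by_contra hne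
    exact hM _ hle hne hKn (hhas c hcCL hcL ⟨_, hcn⟩)
  have hcomm : ∀ x ∈ L, ∀ y ∈ zpowers c, x * y = y * x := by
    rintro x hx _ ⟨i, rfl⟩
    have h1 : Commute x c := (mem_centralizer_iff.mp hcCL) x hx
    exact (h1.zpow_right i).eq
  refine ⟨L, hLX, ?_, hiso, ?_⟩
  · rw [relIndex_eq_two_iff]
    refine ⟨c, hc.1, ?_⟩
    intro b hb
    rw [← heq] at hb
    obtain ⟨l, hl, y, ⟨i, rfl⟩, rfl⟩ := P2BQ_aux_mem_sup hcomm hb
    have heven : ∀ j : ℤ, c ^ (2 * j) ∈ L := by
      intro j
      rw [zpow_mul, zpow_two]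
      exact L.zpow_mem hccL j
    rcases Int.even_or_odd' i with ⟨j, hj | hj⟩
    · -- even
      right
      have hb' : l * c ^ i ∈ L := by rw [hj]; exact L.mul_mem hl (heven j)
      refine ⟨hb', ?_⟩
      intro h
      apply hcL
      have := L.mul_mem (L.inv_mem hb') h
      rwa [inv_mul_cancel_left] at this
    · -- odd
      left
      have h1 : l * c ^ i * c ∈ L := by
        have : l * c ^ i * c = l * c ^ (2 * (j + 1)) := by
          rw [hj, mul_assoc, ← zpow_add_one]
          congr 2; ring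
        rw [this]
        exact L.mul_mem hl (heven _)
      refine ⟨h1, ?_⟩
      intro h
      apply hcL
      have := L.mul_mem (L.inv_mem h) h1
      rwa [inv_mul_cancel_left] at this
  · apply le_antisymm
    · exact sup_le hLX inf_le_left
    · rw [← heq]
      apply sup_le le_sup_left
      rw [zpowers_le]
      apply mem_sup_right
      refine ⟨?_, hcCL⟩
      rw [heq]; exact hc.1

end Cfsg.Agent.S4409P
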