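import Mathlib
import Cfsg.Agent.Helper11.S4409Defs
import Cfsg.Agent.Helper3.S4409P2BQcore
import Cfsg.Agent.Helper6.S4409CA1
import Cfsg.Agent.Helper15.S4409CA1N
import Cfsg.Agent.Helper15.S4409CA2
import Cfsg.Agent.Helper10.S4409CA3
import Cfsg.Agent.Helper19.S4409Q3
import Cfsg.Agent.Helper16.S4409Q4
import Cfsg.Agent.Helper16.S4409Q5

/-! Board `s4409pieces`, row P2BQ. -/

set_option autoImplicit false

namespace Cfsg.Agent.S4409P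

open Subgroup
open scoped commutatorElement

variable {S : Type*} [Group S] [Finite S]

/-- P2BQ -/
theorem struct_q8 (X K : Subgroup S) (hX : IsPGroup 2 ↥X) (hK : Odd (Nat.card ↥K)) (hKX : K ≤ normalizer (X : Set S))
    (hM : MinA X K) (hlt : ⁅X, K⁆ ≠ X) (hQ : IsQ8 ⁅X, K⁆) :
    ∃ X₀ : Subgroup S, X₀ ≤ X ∧ X₀.relIndex X = 2 ∧ Nonempty (↥X₀ ≃* QuaternionGroup 2) ∧
      X₀ ⊔ (X ⊓ centralizer (X₀ : Set S)) = X := by
  have hLX : ⁅X, K⁆ ≤ X := comm_le X K hKX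
  obtain ⟨hXL, hKL⟩ := comm_normal X K hKX
  have hLL : ⁅⁅X, K⁆, K⁆ = ⁅X, K⁆ := comm_comm X K hX hK hKX
  have hLbot : ⁅X, K⁆ ≠ ⊥ := by
    intro h
    have h8 := hQ.1
    rw [h] at h8
    simp at h8
  have hLK : ⁅⁅X, K⁆, K⁆ ≠ ⊥ := by rw [hLL]; exact hLbot
  have hsup : ⁅X, K⁆ ⊔ (X ⊓ centralizer (K : Set S)) = X := comm_sup_cent X K hX hK hKX
  refine P2BQ_aux_core X K ⁅X, K⁆ hX hM hlt hLX hKL hsup ?_ ?_ ?_
  · intro c hc
    obtain ⟨n, hn⟩ := hX ⟨c, hc.1⟩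
    have hn' : c ^ (2 ^ n) = 1 := by
      have := congrArg Subtype.val hn
      simpa using this
    exact q8_cen ⁅X, K⁆ K hQ hK hKL hLK c (hXL hc.1) hc.2 ⟨n, hn'⟩
  · intro c hc hcL hc2
    exact q8_hasA ⁅X, K⁆ hQ c hc hcL hc2
  · exact q8_iso ⁅X, K⁆ K hQ hK hKL hLK

end Cfsg.Agent.S4409P
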