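import Mathlib
import Cfsg.Prelude.Def_Solvable
import Cfsg.Agent.Helper11.S4409Defs
import Cfsg.Agent.Helper14.PCore

/-! Board `s4409pieces`, row PCORE. -/

set_option autoImplicit false

namespace Cfsg.Agent.S4409P

open Subgroup

variable {S : Type*} [Group S] [Finite S]

/-- PCORE : `O_2(S)` is a normal `2`-subgroup contained in every Sylow `2`-subgroup. -/
theorem pcore_facts : (Cfsg.pCore 2 S).Normal ∧ IsPGroup 2 ↥(Cfsg.pCore 2 S) ∧
    ∀ Q : Sylow 2 S, Cfsg.pCore 2 S ≤ (Q : Subgroup S) := by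
  haveI : Fact (Nat.Prime 2) := ⟨Nat.prime_two⟩
  exact ⟨Cfsg.Agent.Helper14.pCore_normal 2, Cfsg.Agent.Helper14.pCore_isPGroup 2,
    fun Q => Cfsg.Agent.Helper14.pCore_le_sylow 2 Q⟩

end Cfsg.Agent.S4409P
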