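import Mathlib
import Cfsg.Agent.Helper28.S5658.Lib

set_option autoImplicit false

/-! # S5655, half `k = 1`, chapter "q EVEN" (designer helper3; driver of S5655 k = 1: helper7)

Definitions of the chapter. Vocabulary = `Helper2.SUGen` + `Helper28.S5658.Lib`:
`h = Cfsg.hermForm n K q`, `T v c = Cfsg.unitaryTransvection n q v c` (`z ↦ z + c h(z,v) v`),
`Pres A` (`A` preserves `h`), `MS M` (the set of matrices of a subgroup `M` of `GL`), `D : Frob K q`
(the involution `D.σ x = x ^ q`). -/

namespace Cfsg.Agent.S5655K1.EV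

open Matrix
open Cfsg.Agent.S2644 Cfsg.Agent.Helper2.SUGen Cfsg.Agent.Helper28.SimMax Cfsg.Agent.S5658P

variable {K : Type*} [Field K] {q n : ℕ}

open Classical in
/-- the support of a vector -/
noncomputable def supp (v : Fin n → K) : Finset (Fin n) := Finset.univ.filter (fun i => v i ≠ 0)

/-- the weight of a vector -/
noncomputable def wt (v : Fin n → K) : ℕ := (supp v).card

/-- column `j` of a matrix -/
def col (A : Matrix (Fin n) (Fin n) K) (j : Fin n) : Fin n → K := fun i => A i j

/-- monomial: every column has at most one non-zero entry -/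
def IsMono (A : Matrix (Fin n) (Fin n) K) : Prop := ∀ j, wt (col A j) ≤ 1

/-- the monomial matrix `e_j ↦ d j • e_(π j)` -/
def mono (π : Equiv.Perm (Fin n)) (d : Fin n → K) : Matrix (Fin n) (Fin n) K :=
  fun i j => if i = π j then d j else 0

/-- `N ≤ M ≤ GU ⊓ SL` (`N` = the monomial matrices of `GU ⊓ SL` for the standard frame) -/
structure Over (q : ℕ) (M : Subgroup (Matrix.GeneralLinearGroup (Fin n) K)) : Prop where
  le : M ≤ Cfsg.GU n K q ⊓ Cfsg.Geo.specialLinear (Fin n) K
  mono_mem : ∀ A : Matrix (Fin n) (Fin n) K, Pres (q := q) A → A.det = 1 → IsMono A → A ∈ MS M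

/-- property (B): an element of `M` with a monomial column is monomial -/
def PropB (M : Subgroup (Matrix.GeneralLinearGroup (Fin n) K)) : Prop :=
  ∀ A ∈ MS M, (∃ j, wt (col A j) ≤ 1) → IsMono A

/-- all transvections `T z 1` with isotropic centre of weight `w` lie in `M` -/
def Good (q : ℕ) (M : Subgroup (Matrix.GeneralLinearGroup (Fin n) K)) (w : ℕ) : Prop :=
  ∀ z : Fin n → K, Cfsg.hermForm n K q z z = 0 → wt z = w → Cfsg.unitaryTransvection n q z 1 ∈ MS M

/-- the norm `x ↦ x σ(x)` -/
def Nm (D : Frob K q) (x : K) : K := x * D.σ x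

theorem mem_supp {v : Fin n → K} {i : Fin n} : i ∈ supp v ↔ v i ≠ 0 := by
  classical
  simp [supp]

end Cfsg.Agent.S5655K1.EV
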