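import Mathlib
import Cfsg.Agent.Helper3.S5655EVDefs
import Cfsg.Agent.Helper19.S5655EVMUCARD
import Cfsg.Agent.Helper20.S5655EVFIXCARD
import Cfsg.Agent.Helper26.S5655EVE2VALS

set_option autoImplicit false

/-! # S5655 k = 1, chapter "q even", piece E2SOLVE: the choice of the three twists. -/

namespace Cfsg.Agent.S5655K1.EV

open Matrix
open Cfsg.Agent.S2644 Cfsg.Agent.Helper2.SUGen Cfsg.Agent.Helper28.SimMax Cfsg.Agent.S5658P

variable {K : Type*} [Field K] {q n : ℕ}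

theorem E2SOLVE.nm_fix (D : Frob K q) (x : K) : D.σ (Nm D x) = Nm D x := by
  unfold Nm
  rw [map_mul, D.invol, mul_comm]

open Classical in
/-- the value set of `t ↦ Nm (a + t b)` on the norm-one group -/
noncomputable def E2SOLVE.V [Fintype K] (D : Frob K q) (a b : K) : Finset K :=
  (Finset.univ.filter (fun t : K => t * D.σ t = 1)).image (fun t => Nm D (a + t * b))

open Classical in
theorem E2SOLVE.V_sub [Fintype K] (D : Frob K q) (a b : K) :
    E2SOLVE.V D a b ⊆ Finset.univ.filter (fun c : K => D.σ c = c) := by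
  intro y hy
  obtain ⟨t, -, rfl⟩ := Finset.mem_image.1 hy
  exact Finset.mem_filter.2 ⟨Finset.mem_univ _, E2SOLVE.nm_fix D _⟩

open Classical in
theorem E2SOLVE.card_V [Fintype K] (D : Frob K q) (hK : Fintype.card K = q ^ 2) {a b : K}
    (ha : a ≠ 0) (hb : b ≠ 0) : q + 1 ≤ 2 * (E2SOLVE.V D a b).card := by
  rw [← MUCARD.card D hK]
  unfold E2SOLVE.V
  apply Finset.card_le_mul_card_image
  intro c _
  refine le_trans (le_of_eq ?_) (E2VALS.card_le D ha hb c)
  congr 1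
  ext t
  simp only [Finset.mem_filter, Finset.mem_univ, true_and]

theorem E2SOLVE.main [Fintype K] (D : Frob K q) (hK : Fintype.card K = q ^ 2) (hq : 4 ≤ q)
    (h2 : (2 : K) = 0) {a1 b1 a2 b2 a3 b3 : K} (ha1 : a1 ≠ 0) (hb1 : b1 ≠ 0) (ha2 : a2 ≠ 0)
    (hb2 : b2 ≠ 0) (ha3 : a3 ≠ 0) (hb3 : b3 ≠ 0) :
    ∃ t1 t2 t3 : K, t1 * D.σ t1 = 1 ∧ t2 * D.σ t2 = 1 ∧ t3 * D.σ t3 = 1 ∧
      Nm D (a1 + t1 * b1) + Nm D (a2 + t2 * b2) + Nm D (a3 + t3 * b3) = 1 ∧
      Nm D (a3 + t3 * b3) ≠ 0 ∧ Nm D (a3 + t3 * b3) ≠ 1 := by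
  classical
  -- step A: the third twist
  have h3 : ∃ y ∈ E2SOLVE.V D a3 b3, y ≠ 0 ∧ y ≠ 1 := by
    by_contra hcon
    have hcon : ∀ y ∈ E2SOLVE.V D a3 b3, y ≠ 0 → y = 1 := by
      intro y hy h0
      by_contra h1
      exact hcon ⟨y, hy, h0, h1⟩
    have hsub : E2SOLVE.V D a3 b3 ⊆ ({0, 1} : Finset K) := by
      intro y hy
      by_cases h0 : y = 0
      · simp [h0]
      · simp [hcon y hy h0]
    have hc := Finset.card_le_card hsub
    have hc2 : ({0, 1} : Finset K).card ≤ 2 := Finset.card_insert_le _ _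
    have := E2SOLVE.card_V D hK ha3 hb3
    omega
  obtain ⟨y3, hy3, hy30, hy31⟩ := h3
  obtain ⟨t3, ht3, rfl⟩ := Finset.mem_image.1 hy3
  have ht3' : t3 * D.σ t3 = 1 := (Finset.mem_filter.1 ht3).2
  -- step B: pigeonhole in the fixed field
  set c : K := 1 - Nm D (a3 + t3 * b3) with hc
  have hcfix : D.σ c = c := by
    rw [hc, map_sub, map_one, E2SOLVE.nm_fix]
  set W : Finset K := (E2SOLVE.V D a2 b2).image (fun y => c - y) with hW
  have hWcard : W.card = (E2SOLVE.V D a2 b2).card := by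
    apply Finset.card_image_of_injective
    intro y y' hyy
    simpa using hyy
  have hWsub : W ⊆ Finset.univ.filter (fun c : K => D.σ c = c) := by
    intro y hy
    obtain ⟨y', hy', rfl⟩ := Finset.mem_image.1 hy
    have := (Finset.mem_filter.1 (E2SOLVE.V_sub D a2 b2 hy')).2
    exact Finset.mem_filter.2 ⟨Finset.mem_univ _, by rw [map_sub, hcfix, this]⟩
  have hnd : ¬ Disjoint (E2SOLVE.V D a1 b1) W := by
    intro hdis
    have h1 := Finset.card_union_of_disjoint hdis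
    have h2' : (E2SOLVE.V D a1 b1 ∪ W).card ≤ q :=
      le_trans (Finset.card_le_card (Finset.union_subset (E2SOLVE.V_sub D a1 b1) hWsub))
        (le_of_eq (FIXCARD.card D hK))
    have h3 := E2SOLVE.card_V D hK ha1 hb1
    have h4 := E2SOLVE.card_V D hK ha2 hb2
    omega
  rw [Finset.not_disjoint_iff] at hnd
  obtain ⟨y1, hy1, hy1W⟩ := hnd
  obtain ⟨t1, ht1, rfl⟩ := Finset.mem_image.1 hy1
  obtain ⟨y2, hy2, hy2c⟩ := Finset.mem_image.1 hy1W
  obtain ⟨t2, ht2, rfl⟩ := Finset.mem_image.1 hy2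
  refine ⟨t1, t2, t3, (Finset.mem_filter.1 ht1).2, (Finset.mem_filter.1 ht2).2, ht3', ?_, hy30, hy31⟩
  rw [← hy2c, hc]
  ring

end Cfsg.Agent.S5655K1.EV
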