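import Mathlib
import Cfsg.Prelude.Def_BaumannBlocks

/-!
# blkpieces NOFIXSL (helper3): the derived group of `SL₂(F)` contains an element without nonzero
fixed vectors, namely `⁅!![1,1;0,1], !![1,0;1,1]⁆ = !![3,-1;1,0]`.
-/

set_option autoImplicit false

namespace Cfsg.Agent.BLK

open Cfsg Matrix
open scoped commutatorElement

/-- the upper unitriangular element. -/
def NOFIXSL_aux_a (F : Type) [Field F] : Matrix.SpecialLinearGroup (Fin 2) F :=
  ⟨!![1, 1; 0, 1], by simp [Matrix.det_fin_two]⟩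

/-- the lower unitriangular element. -/
def NOFIXSL_aux_b (F : Type) [Field F] : Matrix.SpecialLinearGroup (Fin 2) F :=
  ⟨!![1, 0; 1, 1], by simp [Matrix.det_fin_two]⟩

/-- the commutator as a matrix. -/
theorem NOFIXSL_aux_comm (F : Type) [Field F] :
    ((⁅NOFIXSL_aux_a F, NOFIXSL_aux_b F⁆ : Matrix.SpecialLinearGroup (Fin 2) F) :
      Matrix (Fin 2) (Fin 2) F) = !![3, -1; 1, 0] := by
  have ha : ((NOFIXSL_aux_a F : Matrix.SpecialLinearGroup (Fin 2) F) :
      Matrix (Fin 2) (Fin 2) F) = !![1, 1; 0, 1] := rfl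
  have hb : ((NOFIXSL_aux_b F : Matrix.SpecialLinearGroup (Fin 2) F) :
      Matrix (Fin 2) (Fin 2) F) = !![1, 0; 1, 1] := rfl
  have ha' : (((NOFIXSL_aux_a F)⁻¹ : Matrix.SpecialLinearGroup (Fin 2) F) :
      Matrix (Fin 2) (Fin 2) F) = !![1, -1; 0, 1] := by
    rw [Matrix.SpecialLinearGroup.coe_inv, ha, Matrix.adjugate_fin_two_of]
    simp
  have hb' : (((NOFIXSL_aux_b F)⁻¹ : Matrix.SpecialLinearGroup (Fin 2) F) :
      Matrix (Fin 2) (Fin 2) F) = !![1, 0; -1, 1] := by
    rw [Matrix.SpecialLinearGroup.coe_inv, hb, Matrix.adjugate_fin_two_of]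
    simp
  rw [commutatorElement_def]
  rw [Matrix.SpecialLinearGroup.coe_mul, Matrix.SpecialLinearGroup.coe_mul,
    Matrix.SpecialLinearGroup.coe_mul, ha, hb, ha', hb']
  simp only [Matrix.mul_fin_two]
  ext i j
  fin_cases i <;> fin_cases j <;> simp <;> ring

/-- NOFIXSL: the derived group of `SL₂(F)` contains an element without nonzero fixed vectors
(`c = ⁅!![1,1;0,1], !![1,0;1,1]⁆ = !![3,-1;1,0]`, `det (c - 1) = -1`), any field. -/
theorem NOFIXSL (F : Type) [Field F] :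
    ∃ g ∈ commutator (Matrix.SpecialLinearGroup (Fin 2) F), ∀ v : Fin 2 → F,
      ((g : Matrix.SpecialLinearGroup (Fin 2) F) : Matrix (Fin 2) (Fin 2) F).mulVec v = v → v = 0 := by
  refine ⟨⁅NOFIXSL_aux_a F, NOFIXSL_aux_b F⁆, ?_, ?_⟩
  · rw [commutator_def]
    exact Subgroup.commutator_mem_commutator (Subgroup.mem_top _) (Subgroup.mem_top _)
  · intro v hv
    rw [NOFIXSL_aux_comm] at hv
    have h0 := congrFun hv 0
    have h1 := congrFun hv 1
    simp [Matrix.mulVec, dotProduct, Fin.sum_univ_two] at h0 h1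
    -- h0 : 3 * v 0 - v 1 = v 0 ; h1 : v 0 = v 1
    have hv0 : v 0 = 0 := by
      have : 3 * v 0 + -v 1 - v 0 = v 0 := by rw [← h1]; ring
      have h2 : 3 * v 0 + -v 1 - v 0 = 0 := by rw [h0]; ring
      rw [h2] at this
      exact this.symm
    have hv1 : v 1 = 0 := by rw [← h1]; exact hv0
    funext i
    fin_cases i
    · exact hv0
    · exact hv1

end Cfsg.Agent.BLK
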