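import Mathlib

set_option autoImplicit false
set_option linter.style.haveILetI false

namespace Cfsg.Agent.Helper3

variable {G : Type*} [Group G]

/-- The four-group `{1, a, b, ab}` generated by two commuting involutions. -/
def kleinOf (a b : G) (ha : a * a = 1) (hb : b * b = 1) (hab : a * b = b * a) : Subgroup G where
  carrier := {x | x = 1 ∨ x = a ∨ x = b ∨ x = a * b}
  one_mem' := Or.inl rfl
  mul_mem' := by
    have h1 : a * (a * b) = b := by rw [← mul_assoc, ha, one_mul]
    have h2 : b * (a * b) = a := by rw [hab, ← mul_assoc, hb, one_mul]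
    have h3 : (a * b) * a = b := by rw [mul_assoc, ← hab, h1]
    have h4 : (a * b) * b = a := by rw [mul_assoc, hb, mul_one]
    have h5 : (a * b) * (a * b) = 1 := by rw [mul_assoc, h2, ha]
    rintro _ _ (rfl | rfl | rfl | rfl) (rfl | rfl | rfl | rfl) <;>
      simp only [Set.mem_ofPred_eq, one_mul, mul_one, ha, hb, h1, h2, h3, h4, h5, ← hab, true_or,
        or_true]
  inv_mem' := by
    have h5 : (a * b) * (a * b) = 1 := by
      rw [mul_assoc, hab, ← mul_assoc b, hb, one_mul, ha]
    rintro _ (rfl | rfl | rfl | rfl)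
    · simp
    · rw [inv_eq_of_mul_eq_one_left ha]; simp
    · rw [inv_eq_of_mul_eq_one_left hb]; simp
    · rw [inv_eq_of_mul_eq_one_left h5]; simp

theorem mem_kleinOf {a b : G} {ha : a * a = 1} {hb : b * b = 1} {hab : a * b = b * a} {x : G} :
    x ∈ kleinOf a b ha hb hab ↔ x = 1 ∨ x = a ∨ x = b ∨ x = a * b := Iff.rfl

theorem left_mem_kleinOf {a b : G} {ha : a * a = 1} {hb : b * b = 1} {hab : a * b = b * a} :
    a ∈ kleinOf a b ha hb hab := Or.inr (Or.inl rfl)

theorem right_mem_kleinOf {a b : G} {ha : a * a = 1} {hb : b * b = 1} {hab : a * b = b * a} :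
    b ∈ kleinOf a b ha hb hab := Or.inr (Or.inr (Or.inl rfl))

theorem commute_of_mem_kleinOf {a b c : G} {ha : a * a = 1} {hb : b * b = 1}
    {hab : a * b = b * a} (hca : Commute c a) (hcb : Commute c b) {x : G}
    (hx : x ∈ kleinOf a b ha hb hab) : Commute c x := by
  rcases hx with rfl | rfl | rfl | rfl
  · exact Commute.one_right c
  · exact hca
  · exact hcb
  · exact hca.mul_right hcb

theorem kleinOf_le {a b : G} {ha : a * a = 1} {hb : b * b = 1} {hab : a * b = b * a}
    {H : Subgroup G} (haH : a ∈ H) (hbH : b ∈ H) : kleinOf a b ha hb hab ≤ H := by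
  rintro x (rfl | rfl | rfl | rfl)
  · exact one_mem H
  · exact haH
  · exact hbH
  · exact mul_mem haH hbH

theorem sq_eq_one_of_mem_kleinOf {a b : G} {ha : a * a = 1} {hb : b * b = 1}
    {hab : a * b = b * a} {x : G} (hx : x ∈ kleinOf a b ha hb hab) : x * x = 1 := by
  rcases hx with rfl | rfl | rfl | rfl
  · simp
  · exact ha
  · exact hb
  · rw [mul_assoc, hab, ← mul_assoc b, hb, one_mul, ha]

theorem card_kleinOf {a b : G} {ha : a * a = 1} {hb : b * b = 1} {hab : a * b = b * a}
    (ha1 : a ≠ 1) (hb1 : b ≠ 1) (hne : a ≠ b) : Nat.card (kleinOf a b ha hb hab) = 4 := by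
  classical
  have hset : ((kleinOf a b ha hb hab : Subgroup G) : Set G) = {1, a, b, a * b} := by
    ext x
    simp only [SetLike.mem_coe, mem_kleinOf, Set.mem_insert_iff, Set.mem_singleton_iff]
  have hcard : Nat.card (kleinOf a b ha hb hab) =
      ((kleinOf a b ha hb hab : Subgroup G) : Set G).ncard := by
    rw [← Nat.card_coe_set_eq]
    rfl
  rw [hcard, hset]
  have hab1 : a * b ≠ 1 := by
    intro h
    have : a = b := by
      have h2 : a * b = b * b := by rw [h, hb]
      exact mul_right_cancel h2
    exact hne this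
  have haba : a * b ≠ a := by
    intro h
    apply hb1
    have : a * b = a * 1 := by rw [h, mul_one]
    exact mul_left_cancel this
  have habb : a * b ≠ b := by
    intro h
    apply ha1
    have : a * b = 1 * b := by rw [h, one_mul]
    exact mul_right_cancel this
  rw [Set.ncard_insert_of_notMem, Set.ncard_insert_of_notMem, Set.ncard_pair]
  · exact fun h => habb h.symm
  · simp only [Set.mem_insert_iff, Set.mem_singleton_iff, not_or]
    exact ⟨hne, fun h => haba h.symm⟩
  · simp only [Set.mem_insert_iff, Set.mem_singleton_iff, not_or]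
    exact ⟨fun h => ha1 h.symm, fun h => hb1 h.symm, fun h => hab1 h.symm⟩

theorem isKleinFour_of_card_of_sq' (U : Subgroup G) (h4 : Nat.card ↥U = 4)
    (hsq : ∀ u ∈ U, u * u = 1) : IsKleinFour ↥U where
  card_four := h4
  exponent_two := by
    have hdvd : Monoid.exponent ↥U ∣ 2 := by
      apply Monoid.exponent_dvd_of_forall_pow_eq_one
      rintro ⟨u, hu⟩
      apply Subtype.ext
      rw [pow_two]
      exact hsq u hu
    have hne : Monoid.exponent ↥U ≠ 1 := by
      intro h1
      have hsub : Subsingleton ↥U := Monoid.exp_eq_one_iff.1 h1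
      have : Nat.card ↥U ≤ 1 := Finite.card_le_one_iff_subsingleton.2 hsub
      omega
    rcases (Nat.dvd_prime Nat.prime_two).mp hdvd with h | h
    · exact absurd h hne
    · exact h

theorem isKleinFour_kleinOf {a b : G} {ha : a * a = 1} {hb : b * b = 1} {hab : a * b = b * a}
    (ha1 : a ≠ 1) (hb1 : b ≠ 1) (hne : a ≠ b) : IsKleinFour (kleinOf a b ha hb hab) :=
  isKleinFour_of_card_of_sq' _ (card_kleinOf ha1 hb1 hne) (fun _ hu => sq_eq_one_of_mem_kleinOf hu)

/-- A subgroup all of whose elements are `1` or `z` has at most two elements. -/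
theorem card_le_two_of_forall (K : Subgroup G) (z : G) (h : ∀ x ∈ K, x = 1 ∨ x = z) :
    Nat.card K ≤ 2 := by
  classical
  have hcard : Nat.card K = (K : Set G).ncard := by
    rw [← Nat.card_coe_set_eq]
    rfl
  rw [hcard]
  have hsub : (K : Set G) ⊆ {1, z} := by
    intro x hx
    rcases h x hx with h1 | h1
    · exact Or.inl h1
    · exact Or.inr h1
  calc (K : Set G).ncard ≤ ({1, z} : Set G).ncard := Set.ncard_le_ncard hsub (Set.toFinite _)
    _ ≤ ({z} : Set G).ncard + 1 := Set.ncard_insert_le 1 {z}
    _ = 2 := by rw [Set.ncard_singleton]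

end Cfsg.Agent.Helper3
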