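import Mathlib
import Cfsg.Prelude.Def_GeometricClasses
import Cfsg.Agent.Helper12.LSUDefs

/-!
# S2335, piece ALG: algebra of the conjugate transpose and of the action `A • Y = A Y A*`
-/

set_option autoImplicit false

namespace Cfsg.Agent.Helper12.LSU

open Matrix Cfsg Cfsg.Agent.Helper2.SUGen

variable {F : Type*} [Field F] {q : ℕ}

theorem alg_ct_mul (σ : F →+* F) {m : ℕ} (A B : Matrix (Fin m) (Fin m) F) :
    ct σ (A * B) = ct σ B * ct σ A := by
  unfold ct
  rw [Matrix.map_mul, Matrix.transpose_mul]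

theorem hact_hact (σ : F →+* F) {m : ℕ} (A B Y : Matrix (Fin m) (Fin m) F) :
    hact σ A (hact σ B Y) = hact σ (A * B) Y := by
  unfold hact
  rw [alg_ct_mul]
  simp only [Matrix.mul_assoc]

theorem ct_ct (σ : F →+* F) (hσ2 : ∀ x, σ (σ x) = x) {m : ℕ} (A : Matrix (Fin m) (Fin m) F) :
    ct σ (ct σ A) = A := by
  ext i j
  rw [ct_apply, ct_apply, hσ2]

theorem hact_mem_Herm (σ : F →+* F) (hσ2 : ∀ x, σ (σ x) = x) {m : ℕ} (A : Matrix (Fin m) (Fin m) F)
    {Y : Matrix (Fin m) (Fin m) F} (hY : Y ∈ Herm σ m) : hact σ A Y ∈ Herm σ m := by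
  rw [mem_Herm] at hY ⊢
  unfold hact
  rw [alg_ct_mul, alg_ct_mul, ct_ct σ hσ2, hY, Matrix.mul_assoc]

theorem det_ct (σ : F →+* F) {m : ℕ} (A : Matrix (Fin m) (Fin m) F) : (ct σ A).det = σ A.det := by
  unfold ct
  rw [Matrix.det_transpose, RingHom.map_det]
  rfl

theorem hact_eq_zero_iff (σ : F →+* F) {m : ℕ} (A : Matrix (Fin m) (Fin m) F) (hA : A.det ≠ 0)
    (Y : Matrix (Fin m) (Fin m) F) : hact σ A Y = 0 ↔ Y = 0 := by
  constructor
  · intro h
    unfold hact at h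
    have hA' : IsUnit A.det := isUnit_iff_ne_zero.mpr hA
    have hB' : IsUnit (ct σ A).det := by
      rw [det_ct]
      exact isUnit_iff_ne_zero.mpr ((map_ne_zero σ).mpr hA)
    calc Y = A⁻¹ * (A * Y * ct σ A) * (ct σ A)⁻¹ := by
          rw [Matrix.mul_assoc A, ← Matrix.mul_assoc A⁻¹, Matrix.nonsing_inv_mul _ hA',
            Matrix.one_mul, Matrix.mul_assoc, Matrix.mul_nonsing_inv _ hB', Matrix.mul_one]
      _ = 0 := by rw [h, Matrix.mul_zero, Matrix.zero_mul]
  · intro h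
    rw [h]
    unfold hact
    rw [Matrix.mul_zero, Matrix.zero_mul]

theorem trace_mul_hact (σ : F →+* F) (hσ2 : ∀ x, σ (σ x) = x) {m : ℕ}
    (A H Y : Matrix (Fin m) (Fin m) F) :
    Matrix.trace (H * hact σ (ct σ A) Y) = Matrix.trace (hact σ A H * Y) := by
  unfold hact
  rw [ct_ct σ hσ2]
  calc Matrix.trace (H * (ct σ A * Y * A)) = Matrix.trace ((H * ct σ A * Y) * A) := by
        simp only [Matrix.mul_assoc]
    _ = Matrix.trace (A * (H * ct σ A * Y)) := Matrix.trace_mul_comm _ _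
    _ = Matrix.trace (A * H * ct σ A * Y) := by simp only [Matrix.mul_assoc]

end Cfsg.Agent.Helper12.LSU
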