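import Mathlib
import Cfsg.Prelude.Def_PLocal
import Cfsg.Agent.Helper28.S2768Defs
import Cfsg.Agent.Helper1.S2768VF1
import Cfsg.Agent.Helper25.S2768NOOA
import Cfsg.Agent.Helper2.S2768NOOB

/-! S2768 board, piece NOO (5.5, no over-offender): glue of NOOA, NOOB and Lemma A. -/

set_option autoImplicit false

namespace Cfsg.Agent.S2768P

open Subgroup Cfsg.Agent.S2768P

variable {G : Type*} [Group G] [Finite G] {p : ℕ} [Fact p.Prime]

omit [Finite G] in
/-- membership in a conjugate subgroup -/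
theorem NOO_aux_mem_cj {g x : G} {H : Subgroup G} : x ∈ cj g H ↔ g⁻¹ * x * g ∈ H := by
  unfold cj
  constructor
  · rintro ⟨y, hy, rfl⟩
    have : g⁻¹ * ((MulAut.conj g).toMonoidHom y) * g = y := by
      simp [MulAut.conj_apply, mul_assoc]
    rw [this]; exact hy
  · intro h
    refine ⟨g⁻¹ * x * g, h, ?_⟩
    simp [MulAut.conj_apply, mul_assoc]

/-- NOO (S): 5.5, no over-offender: `|A : A ∩ Q| ≤ |V : C_V(A)|` (glue of NOOA, NOOB, Lemma A). -/
theorem NOO (S : Sylow p G) (M : Subgroup G) (hb : Basic p S M)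
    (hZ : ¬ (Z (S : Subgroup G)).Normal) (A : Subgroup G) (hA : A ≤ (S : Subgroup G)) :
    Nat.card ↥A * Nat.card ↥(V (S : Subgroup G) ⊓ centralizer (A : Set G)) ≤
      Nat.card ↥(V (S : Subgroup G)) * Nat.card ↥(A ⊓ Cfsg.pCore p G) := by
  -- pick `g ∉ M`
  obtain ⟨g, hg⟩ : ∃ g : G, g ∉ M := by
    by_contra hcon
    push Not at hcon
    exact hb.M_ne_top (eq_top_iff.mpr fun x _ => hcon x)
  have hVn : (V (S : Subgroup G)).Normal := by
    unfold V; exact Subgroup.normalClosure_normal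
  obtain ⟨hVQ, hQV, -, -⟩ := VF1 S M hb
  have hVc : ∀ a ∈ V (S : Subgroup G), ∀ b ∈ V (S : Subgroup G), a * b = b * a := by
    intro a ha b hb'
    have h1 : a ∈ centralizer (V (S : Subgroup G) : Set G) := hQV (hVQ ha)
    exact (Subgroup.mem_centralizer_iff.mp h1 b hb').symm
  have hlt := NOOA S M hb hZ g
  refine NOOB (V (S : Subgroup G)) hVc (cj g (S : Subgroup G)) A (A ⊓ Cfsg.pCore p G) hlt ?_
  intro I hTI hItop
  -- `g⁻¹ I g` contains `S` and is proper, hence lies in `M`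
  have hS_le : (S : Subgroup G) ≤ cj g⁻¹ I := by
    intro s hs
    rw [NOO_aux_mem_cj]
    simp only [inv_inv]
    apply hTI
    rw [NOO_aux_mem_cj]
    have : g⁻¹ * (g * s * g⁻¹) * g = s := by group
    rw [this]; exact hs
  have hne : cj g⁻¹ I ≠ ⊤ := by
    intro htop
    apply hItop
    rw [eq_top_iff]
    intro x _
    have hx : g⁻¹ * x * g ∈ cj g⁻¹ I := by rw [htop]; exact Subgroup.mem_top _
    rw [NOO_aux_mem_cj] at hx
    simp only [inv_inv] at hx
    have : g * (g⁻¹ * x * g) * g⁻¹ = x := by group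
    rw [this] at hx; exact hx
  have hle : cj g⁻¹ I ≤ M := hb.proper_le _ hS_le hne
  have hI_le : I ≤ cj g M := by
    intro x hx
    rw [NOO_aux_mem_cj]
    apply hle
    rw [NOO_aux_mem_cj]
    simp only [inv_inv]
    have : g * (g⁻¹ * x * g) * g⁻¹ = x := by group
    rw [this]; exact hx
  intro x hx
  refine ⟨hx.2, ?_⟩
  have : x ∈ (S : Subgroup G) ⊓ cj g M := ⟨hA hx.2, hI_le hx.1⟩
  rw [hb.lemmaA g hg] at this
  exact this

end Cfsg.Agent.S2768P
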