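import Mathlib
import Cfsg.Agent.Helper13.S0679Defs

set_option autoImplicit false
set_option linter.unusedSectionVars false
set_option linter.unusedVariables false

/-! # S0679 tools (d) (helper3): Cauchy, Sylow subgroups as plain subgroups of `Perm α`, groups of order `p²`,
fixed points and orbits of `p`-groups, in the vocabulary of `Cfsg.Agent.Helper13.S0679Defs`. -/

namespace Cfsg.Agent.S0679P

open Equiv Equiv.Perm MulAction

variable {α : Type*} [Fintype α] [DecidableEq α]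

/-- Lagrange for elements -/
theorem SYL.orderOf_dvd (K : Subgroup (Perm α)) {x : Perm α} (hx : x ∈ K) : orderOf x ∣ Nat.card K := by
  have h := orderOf_dvd_natCard (⟨x, hx⟩ : K)
  rwa [Subgroup.orderOf_mk] at h

/-- Lagrange for subgroups -/
theorem SYL.card_dvd {T K : Subgroup (Perm α)} (h : T ≤ K) : Nat.card T ∣ Nat.card K :=
  Subgroup.card_dvd_of_le h

/-- Cauchy in a subgroup of `Perm α` -/
theorem SYL.cauchy (K : Subgroup (Perm α)) {p : ℕ} (hp : p.Prime) (h : p ∣ Nat.card K) :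
    ∃ y ∈ K, orderOf y = p := by
  have : Fact p.Prime := ⟨hp⟩
  obtain ⟨y, hy⟩ := exists_prime_orderOf_dvd_card' p h
  exact ⟨y, y.2, by rw [← hy, Subgroup.orderOf_coe]⟩

/-- the order of a Sylow subgroup -/
theorem SYL.aux_card_sylow (K : Subgroup (Perm α)) {p k m : ℕ} (hp : p.Prime)
    (hK : Nat.card K = p ^ k * m) (hm : ¬ p ∣ m) [Fact p.Prime] (S : Sylow p K) :
    Nat.card (S : Subgroup K) = p ^ k := by
  rw [Sylow.card_eq_multiplicity, hK]
  have hm0 : m ≠ 0 := by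
    rintro rfl
    exact hm (dvd_zero p)
  rw [Nat.factorization_mul (pow_ne_zero k hp.ne_zero) hm0, Nat.factorization_pow]
  simp only [Finsupp.coe_add, Finsupp.coe_smul, Pi.add_apply, Pi.smul_apply, smul_eq_mul]
  rw [hp.factorization_self, Nat.factorization_eq_zero_of_not_dvd hm]
  simp

/-- every `p`-subgroup `P ≤ K` lies in a Sylow `p`-subgroup of `K` (as plain subgroups of `Perm α`) -/
theorem SYL.exists_sylow_ge (K : Subgroup (Perm α)) {p k m : ℕ} (hp : p.Prime)
    (hK : Nat.card K = p ^ k * m) (hm : ¬ p ∣ m) {P : Subgroup (Perm α)} (hPK : P ≤ K) {j : ℕ}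
    (hP : Nat.card P = p ^ j) :
    ∃ T : Subgroup (Perm α), P ≤ T ∧ T ≤ K ∧ Nat.card T = p ^ k := by
  have : Fact p.Prime := ⟨hp⟩
  have hP' : IsPGroup p (P.subgroupOf K) := by
    apply IsPGroup.of_card (n := j)
    rw [← hP]
    exact Nat.card_congr (Subgroup.subgroupOfEquivOfLe hPK).toEquiv
  obtain ⟨S, hS⟩ := hP'.exists_le_sylow
  refine ⟨(S : Subgroup K).map K.subtype, ?_, ?_, ?_⟩
  · intro x hx
    exact ⟨⟨x, hPK hx⟩, hS (by simpa [Subgroup.mem_subgroupOf] using hx), rfl⟩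
  · rintro _ ⟨y, -, rfl⟩
    exact y.2
  · rw [Subgroup.card_map_of_injective K.subtype_injective]
    exact SYL.aux_card_sylow K hp hK hm S

/-- a Sylow `p`-subgroup, as a plain subgroup -/
theorem SYL.exists_sylow (K : Subgroup (Perm α)) {p k m : ℕ} (hp : p.Prime)
    (hK : Nat.card K = p ^ k * m) (hm : ¬ p ∣ m) :
    ∃ T : Subgroup (Perm α), T ≤ K ∧ Nat.card T = p ^ k := by
  obtain ⟨T, -, hTK, hT⟩ := SYL.exists_sylow_ge K hp hK hm (P := ⊥) bot_le (j := 0) (by simp)
  exact ⟨T, hTK, hT⟩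

/-- every `p`-element of `K` lies in a Sylow `p`-subgroup of `K` -/
theorem SYL.exists_sylow_mem (K : Subgroup (Perm α)) {p k m : ℕ} (hp : p.Prime)
    (hK : Nat.card K = p ^ k * m) (hm : ¬ p ∣ m) {x : Perm α} (hx : x ∈ K) {j : ℕ}
    (hxo : orderOf x = p ^ j) :
    ∃ T : Subgroup (Perm α), x ∈ T ∧ T ≤ K ∧ Nat.card T = p ^ k := by
  obtain ⟨T, hPT, hTK, hT⟩ := SYL.exists_sylow_ge K hp hK hm (P := Subgroup.zpowers x)
    (by rw [Subgroup.zpowers_le]; exact hx) (j := j) (by rw [Nat.card_zpowers, hxo])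
  exact ⟨T, hPT (Subgroup.mem_zpowers x), hTK, hT⟩

/-- a group of order `p²` is commutative -/
theorem SYL.comm_of_card_sq (T : Subgroup (Perm α)) {p : ℕ} (hp : p.Prime) (hT : Nat.card T = p ^ 2) :
    ∀ a ∈ T, ∀ b ∈ T, a * b = b * a := by
  have : Fact p.Prime := ⟨hp⟩
  intro a ha b hb
  have h := IsPGroup.commutative_of_card_eq_prime_sq hT (⟨a, ha⟩ : T) ⟨b, hb⟩
  exact congrArg Subtype.val h

end Cfsg.Agent.S0679P
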