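import Mathlib
import Cfsg.Agent.Helper13.S0679Defs
import Cfsg.Agent.Helper3.S0679SYL

set_option autoImplicit false
set_option linter.unusedSectionVars false
set_option linter.unusedVariables false

/-! # S0679 tools (d), part 2 (helper3): orbits of subgroups of `Perm α` as finsets (`orbF`), orbit-stabiliser,
orbits and fixed points of `p`-groups, in the vocabulary of `Cfsg.Agent.Helper13.S0679Defs`. -/

namespace Cfsg.Agent.S0679P

open Equiv Equiv.Perm MulAction

variable {α : Type*} [Fintype α] [DecidableEq α]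

/-- the orbit of `a` under `K`, as a finset -/
noncomputable def orbF (K : Subgroup (Perm α)) (a : α) : Finset α := by
  classical
  exact Finset.univ.filter fun b => ∃ g ∈ K, g a = b

theorem mem_orbF {K : Subgroup (Perm α)} {a b : α} : b ∈ orbF K a ↔ ∃ g ∈ K, g a = b := by
  classical
  simp [orbF]

theorem SYL.mem_orbF_self (K : Subgroup (Perm α)) (a : α) : a ∈ orbF K a :=
  mem_orbF.mpr ⟨1, K.one_mem, rfl⟩

theorem SYL.mem_orbF_of_mem {K : Subgroup (Perm α)} {g : Perm α} (hg : g ∈ K) (a : α) : g a ∈ orbF K a :=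
  mem_orbF.mpr ⟨g, hg, rfl⟩

/-- the orbit of a point of a `K`-invariant finset stays inside it -/
theorem SYL.orbF_subset {K : Subgroup (Perm α)} {S : Finset α} (hS : ∀ g ∈ K, ∀ a ∈ S, g a ∈ S) {a : α}
    (ha : a ∈ S) : orbF K a ⊆ S := by
  intro b hb
  obtain ⟨g, hg, rfl⟩ := mem_orbF.mp hb
  exact hS g hg a ha

/-- `orbF` is the `MulAction.orbit` of the subgroup -/
theorem SYL.aux_coe_orbF (K : Subgroup (Perm α)) (a : α) : (orbF K a : Set α) = MulAction.orbit K a := by
  ext b
  simp only [Finset.mem_coe, mem_orbF, MulAction.mem_orbit_iff]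
  constructor
  · rintro ⟨g, hg, rfl⟩
    exact ⟨⟨g, hg⟩, rfl⟩
  · rintro ⟨g, rfl⟩
    exact ⟨g, g.2, rfl⟩

/-- orbit-stabiliser: `|orbit| * |K_a| = |K|` -/
theorem SYL.card_orbF_mul (K : Subgroup (Perm α)) (a : α) :
    (orbF K a).card * Nat.card (stabF K {a}) = Nat.card K := by
  classical
  have h1 := MulAction.card_orbit_mul_card_stabilizer_eq_card_group K a
  have h2 : Fintype.card (MulAction.orbit K a) = (orbF K a).card := by
    rw [← SYL.aux_coe_orbF K a]
    simp
  have h3 : Nat.card (stabF K {a}) = Fintype.card (MulAction.stabilizer K a) := by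
    rw [← Nat.card_eq_fintype_card]
    refine Nat.card_congr ⟨fun g => ⟨⟨g.1, g.2.1⟩, ?_⟩, fun g => ⟨g.1.1, g.1.2, ?_⟩, ?_, ?_⟩
    · rw [MulAction.mem_stabilizer_iff]
      exact g.2.2 a (Finset.mem_singleton_self a)
    · intro b hb
      rw [Finset.mem_singleton] at hb
      subst hb
      have := g.2
      rw [MulAction.mem_stabilizer_iff] at this
      exact this
    · intro g; rfl
    · intro g; rfl
  rw [← h2, h3, h1, Nat.card_eq_fintype_card]

/-- the orbit length divides the group order -/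
theorem SYL.card_orbF_dvd (K : Subgroup (Perm α)) (a : α) : (orbF K a).card ∣ Nat.card K :=
  ⟨_, (SYL.card_orbF_mul K a).symm⟩

/-- the orbits of a `p`-group have `p`-power length -/
theorem SYL.card_orbF_pow (T : Subgroup (Perm α)) {p k : ℕ} (hp : p.Prime) (hT : Nat.card T = p ^ k)
    (a : α) : ∃ j ≤ k, (orbF T a).card = p ^ j := by
  have h := SYL.card_orbF_dvd T a
  rw [hT] at h
  exact (Nat.dvd_prime_pow hp).mp h

/-- a point with trivial orbit is fixed -/
theorem SYL.orbF_card_one_iff (K : Subgroup (Perm α)) (a : α) :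
    (orbF K a).card = 1 ↔ ∀ g ∈ K, g a = a := by
  constructor
  · intro h g hg
    obtain ⟨b, hb⟩ := Finset.card_eq_one.mp h
    have h1 := SYL.mem_orbF_self K a
    have h2 := SYL.mem_orbF_of_mem hg a
    rw [hb, Finset.mem_singleton] at h1 h2
    rw [h2]
    exact h1.symm
  · intro h
    rw [Finset.card_eq_one]
    refine ⟨a, ?_⟩
    ext b
    rw [Finset.mem_singleton, mem_orbF]
    constructor
    · rintro ⟨g, hg, rfl⟩
      exact h g hg
    · rintro rfl
      exact ⟨1, K.one_mem, rfl⟩

/-- two orbits are equal or disjoint -/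
theorem SYL.orbF_eq_of_mem {K : Subgroup (Perm α)} {a b : α} (hb : b ∈ orbF K a) : orbF K b = orbF K a := by
  obtain ⟨g, hg, rfl⟩ := mem_orbF.mp hb
  ext c
  rw [mem_orbF, mem_orbF]
  constructor
  · rintro ⟨h, hh, rfl⟩
    exact ⟨h * g, K.mul_mem hh hg, rfl⟩
  · rintro ⟨h, hh, rfl⟩
    exact ⟨h * g⁻¹, K.mul_mem hh (K.inv_mem hg), by simp⟩

/-- fixed points of a `p`-group on an invariant finset -/
theorem SYL.card_fixed_modEq (T : Subgroup (Perm α)) {p k : ℕ} (hp : p.Prime) (hT : Nat.card T = p ^ k)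
    (S : Finset α) (hS : ∀ g ∈ T, ∀ a ∈ S, g a ∈ S) [DecidablePred fun a : α => ∀ g ∈ T, g a = a] :
    (S.filter fun a => ∀ g ∈ T, g a = a).card ≡ S.card [MOD p] := by
  have : Fact p.Prime := ⟨hp⟩
  have hTp : IsPGroup p T := IsPGroup.of_card hT
  -- the action of `T` on the subtype `S`
  let act : MulAction T S :=
    { smul := fun g a => ⟨g.1 a.1, hS g.1 g.2 a.1 a.2⟩
      one_smul := fun a => Subtype.ext rfl
      mul_smul := fun g h a => Subtype.ext rfl }
  have h1 := hTp.card_modEq_card_fixedPoints S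
  have h2 : Nat.card S = S.card := by
    rw [Nat.card_eq_fintype_card, Fintype.card_coe]
  have h3 : Nat.card (MulAction.fixedPoints T S) = (S.filter fun a => ∀ g ∈ T, g a = a).card := by
    rw [← Fintype.card_coe, ← Nat.card_eq_fintype_card]
    refine Nat.card_congr ⟨fun a => ⟨a.1.1, ?_⟩, fun a => ⟨⟨a.1, (Finset.mem_filter.mp a.2).1⟩, ?_⟩, ?_, ?_⟩
    · rw [Finset.mem_filter]
      refine ⟨a.1.2, fun g hg => ?_⟩
      have := a.2 ⟨g, hg⟩
      exact congrArg Subtype.val this
    · intro g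
      exact Subtype.ext ((Finset.mem_filter.mp a.2).2 g.1 g.2)
    · intro a; rfl
    · intro a; rfl
  rw [h2, h3] at h1
  exact h1.symm

end Cfsg.Agent.S0679P
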