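import Mathlib
import Cfsg.Agent.Helper12.S5683Lib
import Cfsg.Agent.S0801

/-! S5683 piece DICK (helper3): Dickson's generation theorem (S0801) transported to the form
`upper(μ) ∈ ⟨upper(1), lower(μ)⟩`. -/

set_option autoImplicit false
set_option linter.unusedSectionVars false
set_option linter.unusedVariables false
set_option linter.unusedSimpArgs false

namespace Cfsg.Agent.S5683P

open Matrix Cfsg.Agent.Helper28.Sg Cfsg.Agent.Helper28.Spin Cfsg.Agent.Helper12.OrthGen
  Cfsg.Agent.S2614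

variable {F : Type*} [Field F] {m : ℕ}

namespace DICK

variable {R : Type*} [CommRing R]

abbrev SL2 (R : Type*) [CommRing R] := Matrix.SpecialLinearGroup (Fin 2) R

def U (t : R) : SL2 R := ⟨!![1, t; 0, 1], by simp [Matrix.det_fin_two_of]⟩
def L (t : R) : SL2 R := ⟨!![1, 0; t, 1], by simp [Matrix.det_fin_two_of]⟩
def W : SL2 R := ⟨!![0, 1; -1, 0], by simp [Matrix.det_fin_two_of]⟩
def W' : SL2 R := ⟨!![0, -1; 1, 0], by simp [Matrix.det_fin_two_of]⟩

theorem W_mul_W' : (W : SL2 R) * W' = 1 := by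
  apply Subtype.ext
  show !![0, 1; -1, 0] * !![0, -1; 1, 0] = (1 : Matrix (Fin 2) (Fin 2) R)
  rw [Matrix.one_fin_two]
  simp [Matrix.mul_fin_two]

theorem W_inv : (W : SL2 R)⁻¹ = W' := inv_eq_of_mul_eq_one_right W_mul_W'

theorem U_mul (s t : R) : U s * U t = U (s + t) := by
  apply Subtype.ext
  show !![1, s; 0, 1] * !![1, t; 0, 1] = !![1, s + t; 0, 1]
  simp [Matrix.mul_fin_two, add_comm]

theorem L_mul (s t : R) : L s * L t = L (s + t) := by
  apply Subtype.ext
  show !![1, 0; s, 1] * !![1, 0; t, 1] = !![1, 0; s + t, 1]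
  simp [Matrix.mul_fin_two]

theorem U_zero : U (0 : R) = 1 := by
  apply Subtype.ext
  show !![1, 0; 0, 1] = (1 : Matrix (Fin 2) (Fin 2) R)
  rw [Matrix.one_fin_two]

theorem L_zero : L (0 : R) = 1 := by
  apply Subtype.ext
  show !![1, 0; 0, 1] = (1 : Matrix (Fin 2) (Fin 2) R)
  rw [Matrix.one_fin_two]

theorem U_inv (t : R) : (U t)⁻¹ = U (-t) :=
  inv_eq_of_mul_eq_one_right (by rw [U_mul, add_neg_cancel, U_zero])

theorem L_inv (t : R) : (L t)⁻¹ = L (-t) :=
  inv_eq_of_mul_eq_one_right (by rw [L_mul, add_neg_cancel, L_zero])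

theorem conj_U (t : R) : W * U t * W⁻¹ = L (-t) := by
  rw [W_inv]
  apply Subtype.ext
  show !![0, 1; -1, 0] * !![1, t; 0, 1] * !![0, -1; 1, 0] = !![1, 0; -t, 1]
  simp [Matrix.mul_fin_two]

theorem conj_L (t : R) : W * L t * W⁻¹ = U (-t) := by
  rw [W_inv]
  apply Subtype.ext
  show !![0, 1; -1, 0] * !![1, 0; t, 1] * !![0, -1; 1, 0] = !![1, -t; 0, 1]
  simp [Matrix.mul_fin_two]

theorem map_U {S : Type*} [CommRing S] (f : R →+* S) (t : R) :
    Matrix.SpecialLinearGroup.map f (U t) = U (f t) := by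
  apply Subtype.ext
  show (!![1, t; 0, 1] : Matrix (Fin 2) (Fin 2) R).map f = !![1, f t; 0, 1]
  ext i j
  fin_cases i <;> fin_cases j <;> simp

theorem map_L {S : Type*} [CommRing S] (f : R →+* S) (t : R) :
    Matrix.SpecialLinearGroup.map f (L t) = L (f t) := by
  apply Subtype.ext
  show (!![1, 0; t, 1] : Matrix (Fin 2) (Fin 2) R).map f = !![1, 0; f t, 1]
  ext i j
  fin_cases i <;> fin_cases j <;> simp

/-- the closure of a singleton inside itself is everything -/
theorem closure_self_eq_top {F : Type*} [Field F] (μ : F) :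
    Subfield.closure ({⟨μ, Subfield.subset_closure rfl⟩} : Set ↥(Subfield.closure ({μ} : Set F))) = ⊤ := by
  rw [eq_top_iff]
  rintro ⟨x, hx⟩ -
  induction hx using Subfield.closure_induction with
  | mem x hs =>
    have : x = μ := hs
    subst this
    exact Subfield.subset_closure rfl
  | one => exact Subfield.one_mem _
  | add x y hx hy ihx ihy => exact Subfield.add_mem _ ihx ihy
  | neg x hx ihx => exact Subfield.neg_mem _ ihx
  | inv x hx ihx => exact Subfield.inv_mem _ ihx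
  | mul x y hx hy ihx ihy => exact Subfield.mul_mem _ ihx ihy

end DICK

/-- DICK -/
theorem DICK.upper_mem [Fintype F] (h2 : (2 : F) ≠ 0) (μ : F) (hμ : μ ≠ 0)
    (hexc : ¬ (μ ^ 2 = -1 ∧ Nat.card (Subfield.closure ({μ} : Set F)) = 9))
    (X : Subgroup (Matrix.SpecialLinearGroup (Fin 2) F))
    (h1 : ∀ g : Matrix.SpecialLinearGroup (Fin 2) F,
      (g : Matrix (Fin 2) (Fin 2) F) = !![1, 1; 0, 1] → g ∈ X)
    (hμX : ∀ g : Matrix.SpecialLinearGroup (Fin 2) F,
      (g : Matrix (Fin 2) (Fin 2) F) = !![1, 0; μ, 1] → g ∈ X) :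
    ∀ g : Matrix.SpecialLinearGroup (Fin 2) F,
      (g : Matrix (Fin 2) (Fin 2) F) = !![1, μ; 0, 1] → g ∈ X := by
  classical
  intro g hg
  set F' : Subfield F := Subfield.closure ({μ} : Set F) with hF'
  let _ : Fintype ↥F' := Fintype.ofFinite _
  set μ' : ↥F' := ⟨μ, Subfield.subset_closure rfl⟩ with hμ'
  have h2' : (2 : ↥F') ≠ 0 := by
    intro h
    apply h2
    have := congrArg F'.subtype h
    rwa [map_ofNat, map_zero] at this
  have hμ'0 : μ' ≠ 0 := by
    intro h
    apply hμ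
    have := congrArg F'.subtype h
    rwa [map_zero] at this
  -- the homomorphism `SL₂(F') → SL₂(F)`, conjugated by `W`
  set ψ : Matrix.SpecialLinearGroup (Fin 2) ↥F' →* Matrix.SpecialLinearGroup (Fin 2) F :=
    (MulAut.conj (DICK.W : DICK.SL2 F)).toMonoidHom.comp
      (Matrix.SpecialLinearGroup.map F'.subtype) with hψ
  have hψU : ∀ t : ↥F', ψ (DICK.U t) = DICK.L (-(t : F)) := by
    intro t
    show DICK.W * Matrix.SpecialLinearGroup.map F'.subtype (DICK.U t) * DICK.W⁻¹ = _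
    rw [DICK.map_U, DICK.conj_U]
    rfl
  have hψL : ∀ t : ↥F', ψ (DICK.L t) = DICK.U (-(t : F)) := by
    intro t
    show DICK.W * Matrix.SpecialLinearGroup.map F'.subtype (DICK.L t) * DICK.W⁻¹ = _
    rw [DICK.map_L, DICK.conj_L]
    rfl
  have hU1 : DICK.U (1 : F) ∈ X := h1 _ rfl
  have hLμ : DICK.L μ ∈ X := hμX _ rfl
  -- the comap contains the two generators
  have hgen : Subgroup.closure {g : Matrix.SpecialLinearGroup (Fin 2) ↥F' |
      (g : Matrix (Fin 2) (Fin 2) ↥F') = !![1, 0; 1, 1] ∨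
      (g : Matrix (Fin 2) (Fin 2) ↥F') = !![1, μ'; 0, 1]} ≤ X.comap ψ := by
    rw [Subgroup.closure_le]
    rintro g (hg | hg)
    · have : g = DICK.L 1 := Subtype.ext hg
      rw [this]
      show ψ (DICK.L 1) ∈ X
      rw [hψL, ← DICK.U_inv]
      exact X.inv_mem (by simpa using hU1)
    · have : g = DICK.U μ' := Subtype.ext hg
      rw [this]
      show ψ (DICK.U μ') ∈ X
      rw [hψU, ← DICK.L_inv]
      exact X.inv_mem hLμ
  have htop : Subgroup.closure {g : Matrix.SpecialLinearGroup (Fin 2) ↥F' |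
      (g : Matrix (Fin 2) (Fin 2) ↥F') = !![1, 0; 1, 1] ∨
      (g : Matrix (Fin 2) (Fin 2) ↥F') = !![1, μ'; 0, 1]} = ⊤ := by
    rcases Cfsg.Agent.S0801.result h2' μ' hμ'0 (DICK.closure_self_eq_top μ) with h | h
    · exact h.1
    · exfalso
      apply hexc
      refine ⟨?_, ?_⟩
      · have := congrArg F'.subtype h.2.1
        rwa [map_pow, map_neg, map_one] at this
      · rw [Nat.card_eq_fintype_card]
        convert h.1
  have hmem : DICK.L (-μ') ∈ X.comap ψ := hgen (by rw [htop]; trivial)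
  have hg' : g = DICK.U μ := Subtype.ext hg
  rw [hg']
  have := hψL (-μ')
  have e : -((-μ' : ↥F') : F) = μ := by simp [hμ']
  rw [e] at this
  rw [← this]
  exact hmem
end Cfsg.Agent.S5683P
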