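import Mathlib
import Cfsg.Agent.Helper12.S5683Lib

/-! S5683 piece POLAR (helper3): polarisation over the standard basis. -/

set_option autoImplicit false
set_option linter.unusedSectionVars false
set_option linter.unusedVariables false
set_option linter.unusedSimpArgs false

namespace Cfsg.Agent.S5683P

open Matrix Cfsg.Agent.Helper28.Sg Cfsg.Agent.Helper28.Spin Cfsg.Agent.Helper12.OrthGen
  Cfsg.Agent.S2614

variable {F : Type*} [Field F] {m : ℕ}

namespace POLAR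

/-- the Plücker form of the line `⟨v, w⟩` -/
def A (v w x y : Idx m → F) : F :=
  B (QfOdd m F) x v * B (QfOdd m F) y w - B (QfOdd m F) x w * B (QfOdd m F) y v

theorem bl_add (x y z : Idx m → F) :
    B (QfOdd m F) (x + y) z = B (QfOdd m F) x z + B (QfOdd m F) y z :=
  QuadraticMap.polar_add_left _ _ _ _

theorem bl_sub (x y z : Idx m → F) :
    B (QfOdd m F) (x - y) z = B (QfOdd m F) x z - B (QfOdd m F) y z :=
  QuadraticMap.polar_sub_left _ _ _ _

theorem br_add (x y z : Idx m → F) :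
    B (QfOdd m F) x (y + z) = B (QfOdd m F) x y + B (QfOdd m F) x z :=
  QuadraticMap.polar_add_right _ _ _ _

theorem br_sub (x y z : Idx m → F) :
    B (QfOdd m F) x (y - z) = B (QfOdd m F) x y - B (QfOdd m F) x z :=
  QuadraticMap.polar_sub_right _ _ _ _

theorem q_sub (x y : Idx m → F) :
    QfOdd m F (x - y) = QfOdd m F x + QfOdd m F y - B (QfOdd m F) x y := by
  have h := Q_add (QfOdd m F) (x - y) y
  rw [sub_add_cancel, bl_sub, B_self] at h
  linear_combination -h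

variable (v w : Idx m → F)

theorem A_add_left (x x' y : Idx m → F) : A v w (x + x') y = A v w x y + A v w x' y := by
  unfold A
  rw [bl_add, bl_add]
  ring

theorem A_sub_left (x x' y : Idx m → F) : A v w (x - x') y = A v w x y - A v w x' y := by
  unfold A
  rw [bl_sub, bl_sub]
  ring

theorem A_add_right (x y y' : Idx m → F) : A v w x (y + y') = A v w x y + A v w x y' := by
  unfold A
  rw [bl_add, bl_add]
  ring

theorem A_sub_right (x y y' : Idx m → F) : A v w x (y - y') = A v w x y - A v w x y' := by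
  unfold A
  rw [bl_sub, bl_sub]
  ring

theorem A_self (x : Idx m → F) : A v w x x = 0 := by
  unfold A
  ring

theorem A_swap (x y : Idx m → F) : A v w y x = - A v w x y := by
  unfold A
  ring

/-! ### the table of the standard basis -/

theorem b_ee_ee (i j : Fin m) : B (QfOdd m F) (ee F i) (ee F j) = 0 := by
  rw [B_ee]
  simp [ee]

theorem b_ff_ff (i j : Fin m) : B (QfOdd m F) (ff F i) (ff F j) = 0 := by
  rw [B_ff]
  simp [ff]

theorem b_ee_ff {i j : Fin m} (hij : i ≠ j) : B (QfOdd m F) (ee F i) (ff F j) = 0 := by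
  rw [B_ee]
  simp [ff, hij]

theorem b_ee_ff_self (i : Fin m) : B (QfOdd m F) (ee F i) (ff F i) = 1 := by
  rw [B_ee]
  simp [ff]

theorem b_ff_ee {i j : Fin m} (hij : i ≠ j) : B (QfOdd m F) (ff F i) (ee F j) = 0 := by
  rw [B_ff]
  simp [ee, hij]

theorem b_ff_ee_self (i : Fin m) : B (QfOdd m F) (ff F i) (ee F i) = 1 := by
  rw [B_ff]
  simp [ee]

theorem b_ee_dd (i : Fin m) : B (QfOdd m F) (ee F i) (dd F m) = 0 := by
  rw [B_ee]
  simp [dd]

theorem b_ff_dd (i : Fin m) : B (QfOdd m F) (ff F i) (dd F m) = 0 := by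
  rw [B_ff]
  simp [dd]

theorem b_dd_ee (i : Fin m) : B (QfOdd m F) (dd F m) (ee F i) = 0 := by
  rw [B_comm, b_ee_dd]

theorem b_dd_ff (i : Fin m) : B (QfOdd m F) (dd F m) (ff F i) = 0 := by
  rw [B_comm, b_ff_dd]

/-- coordinate expansion of the polar form -/
theorem B_eq_sum (x z : Idx m → F) :
    B (QfOdd m F) x z = ∑ k : Idx m, x k * B (QfOdd m F) (Pi.single k 1) z := by
  rw [Fintype.sum_sum_type, Fintype.sum_sum_type]
  have e1 : ∀ i : Fin m, B (QfOdd m F) (Pi.single (Sum.inr (Sum.inl i)) 1) z = z (Sum.inr (Sum.inr i)) :=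
    fun i => B_ee i z
  have e2 : ∀ i : Fin m, B (QfOdd m F) (Pi.single (Sum.inr (Sum.inr i)) 1) z = z (Sum.inr (Sum.inl i)) :=
    fun i => B_ff i z
  have e3 : B (QfOdd m F) (Pi.single (Sum.inl ()) 1) z = 2 * z (Sum.inl ()) := B_dd z
  simp only [e1, e2, Finset.univ_unique, Finset.sum_singleton, PUnit.default_eq_unit, e3]
  rw [B_apply, Finset.sum_add_distrib]
  ring

/-- coordinate expansion of the Plücker form -/
theorem A_eq_sum (x y : Idx m → F) :
    A v w x y = ∑ k : Idx m, ∑ l : Idx m,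
      x k * y l * A v w (Pi.single k 1) (Pi.single l 1) := by
  unfold A
  rw [B_eq_sum x v, B_eq_sum y w, B_eq_sum x w, B_eq_sum y v, Finset.sum_mul_sum,
    Finset.sum_mul_sum, ← Finset.sum_sub_distrib]
  refine Finset.sum_congr rfl fun k _ => ?_
  rw [← Finset.sum_sub_distrib]
  refine Finset.sum_congr rfl fun l _ => ?_
  ring

section cases

variable {v w} {F₀ : Subfield F}
  (hA : ∀ a b : Idx m → F, Rat F₀ a → Rat F₀ b → QfOdd m F a = 0 → QfOdd m F b = 0 →
      B (QfOdd m F) a b = 0 → A v w a b ∈ F₀)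

include hA

theorem A_ee_ee (i j : Fin m) : A v w (ee F i) (ee F j) ∈ F₀ :=
  hA _ _ (rat_ee i) (rat_ee j) (Q_ee i) (Q_ee j) (b_ee_ee i j)

theorem A_ff_ff (i j : Fin m) : A v w (ff F i) (ff F j) ∈ F₀ :=
  hA _ _ (rat_ff i) (rat_ff j) (Q_ff i) (Q_ff j) (b_ff_ff i j)

theorem A_ee_ff_ne {i j : Fin m} (hij : i ≠ j) : A v w (ee F i) (ff F j) ∈ F₀ :=
  hA _ _ (rat_ee i) (rat_ff j) (Q_ee i) (Q_ff j) (b_ee_ff hij)

theorem A_ee_ff_self (h2 : (2 : F) ≠ 0) (hm : 2 ≤ m) (i : Fin m) :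
    A v w (ee F i) (ff F i) ∈ F₀ := by
  have : Nontrivial (Fin m) := Fin.nontrivial_iff_two_le.mpr hm
  obtain ⟨j, hj⟩ := exists_ne i
  have hij : i ≠ j := hj.symm
  -- first pair
  have h1 : A v w (ee F i + ee F j) (ff F i - ff F j) ∈ F₀ := by
    refine hA _ _ ((rat_ee i).add (rat_ee j)) ((rat_ff i).sub (rat_ff j)) ?_ ?_ ?_
    · rw [Q_add, Q_ee, Q_ee, b_ee_ee]
      ring
    · rw [q_sub, Q_ff, Q_ff, b_ff_ff]
      ring
    · rw [bl_add, br_sub, br_sub, b_ee_ff_self, b_ee_ff hij, b_ee_ff hj, b_ee_ff_self]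
      ring
  -- second pair
  have h2' : A v w (ee F i + ff F j) (ff F i - ee F j) ∈ F₀ := by
    refine hA _ _ ((rat_ee i).add (rat_ff j)) ((rat_ff i).sub (rat_ee j)) ?_ ?_ ?_
    · rw [Q_add, Q_ee, Q_ff, b_ee_ff hij]
      ring
    · rw [q_sub, Q_ff, Q_ee, b_ff_ee hij]
      ring
    · rw [bl_add, br_sub, br_sub, b_ee_ff_self, b_ee_ee, b_ff_ff, b_ff_ee_self]
      ring
  rw [A_add_left, A_sub_right, A_sub_right] at h1 h2'
  have e : A v w (ee F i) (ff F i) = (2 : F)⁻¹ *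
      ((A v w (ee F i) (ff F i) - A v w (ee F i) (ff F j) +
        (A v w (ee F j) (ff F i) - A v w (ee F j) (ff F j))) +
      (A v w (ee F i) (ff F i) - A v w (ee F i) (ee F j) +
        (A v w (ff F j) (ff F i) - A v w (ff F j) (ee F j))) +
      A v w (ee F i) (ff F j) - A v w (ee F j) (ff F i) + A v w (ee F i) (ee F j) -
        A v w (ff F j) (ff F i)) := by
    rw [A_swap v w (ee F j) (ff F j)]
    field_simp
    ring
  rw [e]
  have h2mem : (2 : F) ∈ F₀ := by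
    have : (2 : F) = 1 + 1 := by norm_num
    rw [this]
    exact F₀.add_mem F₀.one_mem F₀.one_mem
  refine F₀.mul_mem (F₀.inv_mem h2mem) ?_
  refine F₀.sub_mem (F₀.add_mem (F₀.sub_mem (F₀.add_mem (F₀.add_mem h1 h2') ?_) ?_) ?_) ?_
  · exact A_ee_ff_ne hA hij
  · exact A_ee_ff_ne hA hj
  · exact A_ee_ee hA i j
  · exact A_ff_ff hA j i

theorem A_ee_dd (hm : 2 ≤ m) (i : Fin m) : A v w (ee F i) (dd F m) ∈ F₀ := by
  have : Nontrivial (Fin m) := Fin.nontrivial_iff_two_le.mpr hm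
  obtain ⟨j, hj⟩ := exists_ne i
  have hij : i ≠ j := hj.symm
  have h1 : A v w (ee F i) (dd F m + ee F j - ff F j) ∈ F₀ := by
    refine hA _ _ (rat_ee i) ((rat_dd.add (rat_ee j)).sub (rat_ff j)) (Q_ee i) ?_ ?_
    · rw [q_sub, Q_add, Q_dd, Q_ee, Q_ff, b_dd_ee, bl_add, b_dd_ff, b_ee_ff_self]
      ring
    · rw [br_sub, br_add, b_ee_dd, b_ee_ee, b_ee_ff hij]
      ring
  rw [A_sub_right, A_add_right] at h1
  have e : A v w (ee F i) (dd F m) = (A v w (ee F i) (dd F m) + A v w (ee F i) (ee F j) -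
      A v w (ee F i) (ff F j)) - A v w (ee F i) (ee F j) + A v w (ee F i) (ff F j) := by ring
  rw [e]
  exact F₀.add_mem (F₀.sub_mem h1 (A_ee_ee hA i j)) (A_ee_ff_ne hA hij)

theorem A_ff_dd (hm : 2 ≤ m) (i : Fin m) : A v w (ff F i) (dd F m) ∈ F₀ := by
  have : Nontrivial (Fin m) := Fin.nontrivial_iff_two_le.mpr hm
  obtain ⟨j, hj⟩ := exists_ne i
  have hij : i ≠ j := hj.symm
  have h1 : A v w (ff F i) (dd F m + ee F j - ff F j) ∈ F₀ := by
    refine hA _ _ (rat_ff i) ((rat_dd.add (rat_ee j)).sub (rat_ff j)) (Q_ff i) ?_ ?_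
    · rw [q_sub, Q_add, Q_dd, Q_ee, Q_ff, b_dd_ee, bl_add, b_dd_ff, b_ee_ff_self]
      ring
    · rw [br_sub, br_add, b_ff_dd, b_ff_ee hij, b_ff_ff]
      ring
  rw [A_sub_right, A_add_right] at h1
  have e : A v w (ff F i) (dd F m) = (A v w (ff F i) (dd F m) + A v w (ff F i) (ee F j) -
      A v w (ff F i) (ff F j)) - A v w (ff F i) (ee F j) + A v w (ff F i) (ff F j) := by ring
  rw [e]
  refine F₀.add_mem (F₀.sub_mem h1 ?_) (A_ff_ff hA i j)
  rw [A_swap]
  exact F₀.neg_mem (A_ee_ff_ne hA hj)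

theorem A_basis (h2 : (2 : F) ≠ 0) (hm : 2 ≤ m) (k l : Idx m) :
    A v w (Pi.single k 1) (Pi.single l 1) ∈ F₀ := by
  rcases k with u | i | i <;> rcases l with u' | j | j
  · rw [A_self]
    exact F₀.zero_mem
  · rw [A_swap]
    exact F₀.neg_mem (A_ee_dd hA hm j)
  · rw [A_swap]
    exact F₀.neg_mem (A_ff_dd hA hm j)
  · exact A_ee_dd hA hm i
  · exact A_ee_ee hA i j
  · by_cases hij : i = j
    · subst hij
      exact A_ee_ff_self hA h2 hm i
    · exact A_ee_ff_ne hA hij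
  · exact A_ff_dd hA hm i
  · rw [A_swap]
    refine F₀.neg_mem ?_
    by_cases hij : j = i
    · subst hij
      exact A_ee_ff_self hA h2 hm j
    · exact A_ee_ff_ne hA hij
  · exact A_ff_ff hA i j

end cases

end POLAR

/-- POLAR: polarisation over the standard basis. -/
theorem POLAR.form_rat (h2 : (2 : F) ≠ 0) (hm : 2 ≤ m) (F₀ : Subfield F) (v w : Idx m → F)
    (hA : ∀ a b : Idx m → F, Rat F₀ a → Rat F₀ b → QfOdd m F a = 0 → QfOdd m F b = 0 →
      B (QfOdd m F) a b = 0 →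
      B (QfOdd m F) a v * B (QfOdd m F) b w - B (QfOdd m F) a w * B (QfOdd m F) b v ∈ F₀) :
    ∀ x y : Idx m → F, Rat F₀ x → Rat F₀ y →
      B (QfOdd m F) x v * B (QfOdd m F) y w - B (QfOdd m F) x w * B (QfOdd m F) y v ∈ F₀ := by
  intro x y hx hy
  show POLAR.A v w x y ∈ F₀
  rw [POLAR.A_eq_sum]
  exact F₀.sum_mem fun k _ => F₀.sum_mem fun l _ =>
    F₀.mul_mem (F₀.mul_mem (hx k) (hy l)) (POLAR.A_basis hA h2 hm k l)

end Cfsg.Agent.S5683P
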