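import Mathlib
import Cfsg.Agent.Helper12.SzTDefs

/-! SZT piece CENT (helper3): centraliser orders of elements of order 2 and 4 in a Suzuki
configuration. -/

set_option autoImplicit false

namespace Cfsg.Agent.SZT

open Cfsg Cfsg.Agent.Helper11.SCTI Cfsg.Agent.Helper24
open scoped Classical ComplexConjugate

universe u

variable {G : Type u} [Group G] [Fintype G]

/-- orbit-stabiliser for conjugacy classes, `Nat.card` form -/
theorem CENT_card_class_mul (g : G) :
    (Finset.univ.filter (fun h : G => IsConj g h)).card *
      Nat.card (Subgroup.centralizer ({g} : Set G)) = Nat.card G := by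
  rw [Subgroup.nat_card_centralizer_nat_card_stabilizer, Nat.card_eq_fintype_card,
    Nat.card_eq_fintype_card]
  have h := MulAction.card_orbit_mul_card_stabilizer_eq_card_group (ConjAct G) g
  have h2 : Fintype.card (ConjAct G) = Fintype.card G := rfl
  rw [h2] at h
  rw [← h]
  congr 1
  rw [← Fintype.card_subtype]
  apply Fintype.card_congr
  refine Equiv.subtypeEquivRight ?_
  intro x
  rw [ConjAct.mem_orbit_conjAct]
  exact isConj_comm

omit [Fintype G] in
theorem CENT_orderOf_eq_of_isConj {a b : G} (h : IsConj a b) : orderOf a = orderOf b := by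
  obtain ⟨c, hc⟩ := isConj_iff.mp h
  have : SemiconjBy c a b := by
    unfold SemiconjBy
    rw [← hc]
    group
  exact this.orderOf_eq

namespace Cfg

variable (C : Cfg G)

theorem card_centralizer_two {g : G} (hg : orderOf g = 2) :
    Nat.card (Subgroup.centralizer ({g} : Set G)) = C.q ^ 2 := by
  have h1 := CENT_card_class_mul g
  have h2 : (Finset.univ.filter (fun h : G => IsConj g h)).card = (C.q ^ 2 + 1) * (C.q - 1) := by
    rw [← C.card_invol, Nat.card_eq_fintype_card, Fintype.card_subtype]
    congr 1
    ext h
    simp only [Finset.mem_filter, Finset.mem_univ, true_and]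
    constructor
    · intro hc
      rw [← CENT_orderOf_eq_of_isConj hc, hg]
    · intro hh
      exact C.invol_conj g h hg hh
  rw [h2, C.card_G] at h1
  have hq := C.hq
  have hpos : 0 < (C.q ^ 2 + 1) * (C.q - 1) := by
    apply Nat.mul_pos (by positivity)
    omega
  apply Nat.eq_of_mul_eq_mul_left hpos
  rw [h1]
  ring

theorem card_centralizer_four {g : G} (hg : orderOf g = 4) :
    Nat.card (Subgroup.centralizer ({g} : Set G)) = 2 * C.q := by
  have h1 := CENT_card_class_mul g
  have hg' : orderOf g⁻¹ = 4 := by rw [orderOf_inv, hg]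
  have hunion : (Finset.univ.filter (fun h : G => orderOf h = 4)) =
      (Finset.univ.filter (fun h : G => IsConj g h)) ∪
        (Finset.univ.filter (fun h : G => IsConj g⁻¹ h)) := by
    ext h
    simp only [Finset.mem_filter, Finset.mem_univ, true_and, Finset.mem_union]
    constructor
    · intro hh
      rcases C.four_conj g h hg hh with hc | hc
      · exact Or.inl hc
      · right
        obtain ⟨c, hc⟩ := isConj_iff.mp hc
        rw [isConj_iff]
        refine ⟨c, ?_⟩
        have := congrArg (fun x => x⁻¹) hc
        simp only [inv_inv] at this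
        rw [← this]
        group
    · rintro (hc | hc)
      · rw [← CENT_orderOf_eq_of_isConj hc, hg]
      · rw [← CENT_orderOf_eq_of_isConj hc, hg']
  have hdisj : Disjoint (Finset.univ.filter (fun h : G => IsConj g h))
      (Finset.univ.filter (fun h : G => IsConj g⁻¹ h)) := by
    rw [Finset.disjoint_left]
    intro h h1 h2
    simp only [Finset.mem_filter, Finset.mem_univ, true_and] at h1 h2
    exact C.four_not_real g hg (h1.trans h2.symm)
  have hcard : (Finset.univ.filter (fun h : G => IsConj g⁻¹ h)).card =
      (Finset.univ.filter (fun h : G => IsConj g h)).card := by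
    apply Finset.card_nbij' (fun x => x⁻¹) (fun x => x⁻¹)
    · intro h hh
      simp only [Finset.coe_filter, Finset.mem_univ, true_and, Set.mem_ofPred_eq] at hh ⊢
      obtain ⟨c, hc⟩ := isConj_iff.mp hh
      rw [isConj_iff]
      refine ⟨c, ?_⟩
      rw [← hc]
      group
    · intro h hh
      simp only [Finset.coe_filter, Finset.mem_univ, true_and, Set.mem_ofPred_eq] at hh ⊢
      obtain ⟨c, hc⟩ := isConj_iff.mp hh
      rw [isConj_iff]
      refine ⟨c, ?_⟩
      rw [← hc]
      group
    · intro h _
      exact inv_inv h
    · intro h _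
      exact inv_inv h
  have h4 : (Finset.univ.filter (fun h : G => orderOf h = 4)).card =
      (C.q ^ 2 + 1) * (C.q - 1) * C.q := by
    rw [← C.card_four, Nat.card_eq_fintype_card, Fintype.card_subtype]
  rw [hunion, Finset.card_union_of_disjoint hdisj, hcard] at h4
  rw [C.card_G] at h1
  have hq := C.hq
  have hpos : 0 < (C.q ^ 2 + 1) * (C.q - 1) * C.q := by
    apply Nat.mul_pos _ (by omega)
    apply Nat.mul_pos (by positivity)
    omega
  apply Nat.eq_of_mul_eq_mul_left hpos
  have : ((Finset.univ.filter (fun h : G => IsConj g h)).card +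
      (Finset.univ.filter (fun h : G => IsConj g h)).card) *
      Nat.card (Subgroup.centralizer ({g} : Set G)) =
      2 * (C.q ^ 2 * (C.q - 1) * (C.q ^ 2 + 1)) := by
    rw [← h1]
    ring
  rw [h4] at this
  rw [this]
  ring

end Cfg

end Cfsg.Agent.SZT
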