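import Mathlib
import Cfsg.Agent.Helper12.SzTDefs
import Cfsg.Agent.Helper12.SZTARITH
import Cfsg.Agent.Helper12.Dicyclic
import Cfsg.Agent.Helper3.SZTCENT
import Cfsg.Agent.Helper4.SZTCLASSFUN

/-! SZT piece KG (helper3): the class number of a Suzuki configuration is `q + 3`. -/

set_option autoImplicit false

namespace Cfsg.Agent.SZT

open Cfsg Cfsg.Agent.Helper11.SCTI Cfsg.Agent.Helper24
open scoped Classical ComplexConjugate

universe u

variable {G : Type u} [Group G] [Fintype G]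

/-- the class function `g ↦ |C(g)|` -/
noncomputable def KG_cF (g : G) : ℂ := (Nat.card (Subgroup.centralizer ({g} : Set G)) : ℂ)

omit [Fintype G] in
theorem KG_cF_classFun : IsClassFunction G (KG_cF (G := G)) := by
  intro g h
  unfold KG_cF
  rw [centralizer_conj, card_cj]

omit [Fintype G] in
theorem KG_card_commute (g : G) :
    Nat.card {h : G // Commute g h} = Nat.card (Subgroup.centralizer ({g} : Set G)) := by
  apply Nat.card_congr
  refine Equiv.subtypeEquivRight ?_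
  intro h
  rw [mem_centralizer_singleton]
  exact Iff.rfl

/-- sum of a constant over the non-identity elements of a subgroup -/
theorem KG_sum_ne_one (A : Subgroup G) (F : G → ℂ) (c : ℂ) (hF : ∀ x ∈ A, x ≠ 1 → F x = c) :
    ∑ x : A, (if x = 1 then 0 else F (x : G)) = ((Nat.card A : ℂ) - 1) * c := by
  have h1 : ∀ x : A, (if x = 1 then (0 : ℂ) else F (x : G)) = c - (if x = 1 then c else 0) := by
    intro x
    by_cases hx : x = 1
    · rw [if_pos hx, if_pos hx, sub_self]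
    · rw [if_neg hx, if_neg hx, sub_zero]
      apply hF x x.2
      intro h
      apply hx
      exact Subtype.ext h
  rw [Finset.sum_congr rfl (fun x _ => h1 x), Finset.sum_sub_distrib, Finset.sum_const,
    Finset.sum_ite_eq' Finset.univ (1 : A) (fun _ => c), if_pos (Finset.mem_univ _), Finset.card_univ,
    Nat.card_eq_fintype_card, nsmul_eq_mul]
  ring

theorem KG_sum_order (F : G → ℂ) (n : ℕ) (c : ℂ) (hF : ∀ g : G, orderOf g = n → F g = c) :
    ∑ g, (if orderOf g = n then F g else 0) = (Nat.card {g : G // orderOf g = n} : ℂ) * c := by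
  have h1 : ∀ g : G, (if orderOf g = n then F g else 0) = if orderOf g = n then c else 0 := by
    intro g
    by_cases hg : orderOf g = n
    · rw [if_pos hg, if_pos hg, hF g hg]
    · rw [if_neg hg, if_neg hg]
  rw [Finset.sum_congr rfl (fun g _ => h1 g), ← Finset.sum_filter, Finset.sum_const,
    Nat.card_eq_fintype_card, Fintype.card_subtype, nsmul_eq_mul]

namespace Cfg

variable (C : Cfg G)

theorem card_conjClasses : Nat.card (ConjClasses G) = C.q + 3 := by
  have hsum := Cfsg.Agent.Helper12.card_conjClasses_mul_card_eq_sum (N := G)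
  have hsumC : (Nat.card (ConjClasses G) : ℂ) * (Nat.card G : ℂ) = ∑ g : G, KG_cF g := by
    have := congrArg (fun n : ℕ => (n : ℂ)) hsum
    simp only [Nat.cast_mul, Nat.cast_sum] at this
    rw [this]
    apply Finset.sum_congr rfl
    intro g _
    unfold KG_cF
    rw [KG_card_commute]
  rw [C.sum_classFun KG_cF KG_cF_classFun] at hsumC
  have hq := C.hq
  have h2r := C.two_r_le_q
  -- the pieces
  have e1 : KG_cF (1 : G) = (Nat.card G : ℂ) := by
    unfold KG_cF
    congr 1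
    have : Subgroup.centralizer ({1} : Set G) = ⊤ := by
      ext c
      rw [mem_centralizer_singleton]
      simp
    rw [this, Subgroup.card_top]
  have e2 := KG_sum_order (G := G) KG_cF 2 ((C.q : ℂ) ^ 2) (by
    intro g hg
    unfold KG_cF
    rw [C.card_centralizer_two hg]
    push_cast
    rfl)
  have e4 := KG_sum_order (G := G) KG_cF 4 (2 * (C.q : ℂ)) (by
    intro g hg
    unfold KG_cF
    rw [C.card_centralizer_four hg]
    push_cast
    rfl)
  have a0 := KG_sum_ne_one C.A0 KG_cF ((C.q : ℂ) - 1) (by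
    intro x hx hx1
    unfold KG_cF
    rw [C.sc_A0 x hx hx1, C.card_A0, C.cast_n0])
  have a1 := KG_sum_ne_one C.A1 KG_cF ((C.q : ℂ) + C.r + 1) (by
    intro x hx hx1
    unfold KG_cF
    rw [C.sc_A1 x hx hx1, C.card_A1]
    push_cast
    rfl)
  have a2 := KG_sum_ne_one C.A2 KG_cF ((C.q : ℂ) + 1 - C.r) (by
    intro x hx hx1
    unfold KG_cF
    rw [C.sc_A2 x hx hx1, C.card_A2, C.cast_n2])
  rw [e1, e2, e4, a0, a1, a2, C.card_invol, C.card_four, C.card_A0, C.card_A1, C.card_A2,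
    C.card_N0, C.card_N1, C.card_N2, C.card_G] at hsumC
  have hG : ((C.q ^ 2 * (C.q - 1) * (C.q ^ 2 + 1) : ℕ) : ℂ) =
      (C.q : ℂ) ^ 2 * ((C.q : ℂ) - 1) * ((C.q : ℂ) ^ 2 + 1) := by
    rw [Nat.cast_mul, Nat.cast_mul, C.cast_n0]
    push_cast
    rfl
  have hr := C.hrC
  have hq0 : (C.q : ℂ) ≠ 0 := by
    have : C.q ≠ 0 := by omega
    exact_mod_cast this
  have hn0 : (C.q : ℂ) - 1 ≠ 0 := by
    rw [← C.cast_n0]
    have : C.q - 1 ≠ 0 := by omega
    exact_mod_cast this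
  have hn1 : (C.q : ℂ) + C.r + 1 ≠ 0 := by
    have : C.q + C.r + 1 ≠ 0 := by omega
    exact_mod_cast this
  have hn2 : (C.q : ℂ) + 1 - C.r ≠ 0 := by
    rw [← C.cast_n2]
    have : C.q + 1 - C.r ≠ 0 := by omega
    exact_mod_cast this
  have hd0 : (C.q : ℂ) ^ 2 + 1 ≠ 0 := by
    have : C.q ^ 2 + 1 ≠ 0 := by omega
    exact_mod_cast this
  rw [hG] at hsumC
  have hN0 : ((2 * (C.q - 1) : ℕ) : ℂ) = 2 * ((C.q : ℂ) - 1) := by
    rw [Nat.cast_mul, C.cast_n0]; rfl
  have hN1 : ((4 * (C.q + C.r + 1) : ℕ) : ℂ) = 4 * ((C.q : ℂ) + C.r + 1) := by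
    push_cast; rfl
  have hN2 : ((4 * (C.q + 1 - C.r) : ℕ) : ℂ) = 4 * ((C.q : ℂ) + 1 - C.r) := by
    rw [Nat.cast_mul, C.cast_n2]; rfl
  have hI2 : (((C.q ^ 2 + 1) * (C.q - 1) : ℕ) : ℂ) = ((C.q : ℂ) ^ 2 + 1) * ((C.q : ℂ) - 1) := by
    rw [Nat.cast_mul, C.cast_n0]; push_cast; rfl
  have hI4 : (((C.q ^ 2 + 1) * (C.q - 1) * C.q : ℕ) : ℂ) =
      ((C.q : ℂ) ^ 2 + 1) * ((C.q : ℂ) - 1) * (C.q : ℂ) := by
    rw [Nat.cast_mul, Nat.cast_mul, C.cast_n0]; push_cast; rfl
  have hA1 : ((C.q + C.r + 1 : ℕ) : ℂ) = (C.q : ℂ) + C.r + 1 := by push_cast; rfl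
  rw [hN0, hN1, hN2, hI2, hI4, C.cast_n0, C.cast_n2, hA1] at hsumC
  have key : (Nat.card (ConjClasses G) : ℂ) = (C.q : ℂ) + 3 := by
    have hGne : (C.q : ℂ) ^ 2 * ((C.q : ℂ) - 1) * ((C.q : ℂ) ^ 2 + 1) ≠ 0 :=
      mul_ne_zero (mul_ne_zero (pow_ne_zero 2 hq0) hn0) hd0
    apply mul_right_cancel₀ hGne
    rw [hsumC]
    field_simp
    ring
  exact_mod_cast key

end Cfg

end Cfsg.Agent.SZT
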