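import Mathlib
import Cfsg.Prelude.Def_Characters
import Cfsg.Agent.Helper12.LSpWDefs
import Cfsg.Agent.Helper12.WGDefs
import Cfsg.Agent.Helper12.WGDefsC
import Cfsg.Agent.Helper12.WGDefsD
import Cfsg.Agent.Helper12.WGStruct
import Cfsg.Agent.Helper12.CentralScalar
import Cfsg.Agent.Helper24.Regular

set_option autoImplicit false

/-!
# S2524 piece CENTCH (helper3): an irreducible character of `Gam m F = Heis ⋊ Sp` lies over a central
character `s ↦ ψ (z s)` of the centre `{zc m s}`.
-/

namespace Cfsg.Agent.S2524P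

open Matrix Cfsg Cfsg.Agent.S2333P Cfsg.Agent.Helper2.Sp Cfsg.Agent.Helper12.LSp Cfsg.Agent.Helper25

variable {F : Type*} [Field F] [Fintype F]

theorem centch_zc_central {m : ℕ} (s : F) (x : Gam m F) : zc m s * x = x * zc m s := by
  apply SemidirectProduct.ext
  · rw [SemidirectProduct.mul_left, SemidirectProduct.mul_left, zc_right, map_one, zc_left,
      heisPhi_apply]
    apply Heis.ext
    · show (zel m s).v + _ = x.left.v + ((x.right : Matrix (Fin m ⊕ Fin m) (Fin m ⊕ Fin m) F) *ᵥ (zel m s).v)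
      show (0 : Fin m ⊕ Fin m → F) + x.left.v = x.left.v + ((x.right : Matrix (Fin m ⊕ Fin m) (Fin m ⊕ Fin m) F) *ᵥ 0)
      rw [mulVec_zero, zero_add, add_zero]
    · show (zel m s).s + x.left.s + om (zel m s).v x.left.v =
        x.left.s + (zel m s).s + om x.left.v ((x.right : Matrix (Fin m ⊕ Fin m) (Fin m ⊕ Fin m) F) *ᵥ (zel m s).v)
      show s + x.left.s + om (0 : Fin m ⊕ Fin m → F) x.left.v =
        x.left.s + s + om x.left.v ((x.right : Matrix (Fin m ⊕ Fin m) (Fin m ⊕ Fin m) F) *ᵥ 0)
      rw [mulVec_zero, om_zero_left', om_zero_right']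
      ring
  · rw [SemidirectProduct.mul_right, SemidirectProduct.mul_right, zc_right, one_mul, mul_one]

theorem centch_zc_add {m : ℕ} (s t : F) : zc m (s + t) = zc m s * zc m t := by
  apply SemidirectProduct.ext
  · rw [SemidirectProduct.mul_left, zc_right, map_one, zc_left, zc_left, zc_left]
    apply Heis.ext
    · show (0 : Fin m ⊕ Fin m → F) = 0 + 0
      rw [add_zero]
    · show s + t = s + t + om (0 : Fin m ⊕ Fin m → F) 0
      rw [om_zero_left', add_zero]
  · rw [SemidirectProduct.mul_right, zc_right, zc_right, zc_right, one_mul]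

theorem centch_zc_zero {m : ℕ} : zc m (0 : F) = 1 := by
  apply SemidirectProduct.ext
  · rfl
  · rfl

/-- every additive character of a finite field is a shift of a given nontrivial one -/
theorem centch_exists_shift (ψ : AddChar F ℂ) (hψ : ψ ≠ 1) (ω : AddChar F ℂ) :
    ∃ z : F, ∀ s : F, ω s = ψ (z * s) := by
  classical
  have hprim : ψ.IsPrimitive := AddChar.IsPrimitive.of_ne_one hψ
  have hinj : Function.Injective ψ.mulShift := AddChar.to_mulShift_inj_of_isPrimitive hprim
  have hcard : Fintype.card F = Fintype.card (AddChar F ℂ) := (AddChar.card_eq (α := F)).symm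
  have hbij : Function.Bijective ψ.mulShift :=
    (Fintype.bijective_iff_injective_and_card _).2 ⟨hinj, hcard⟩
  obtain ⟨z, hz⟩ := hbij.2 ω
  refine ⟨z, fun s => ?_⟩
  rw [← hz, AddChar.mulShift_apply]

/-- **CENTCH**: the central character -/
theorem exists_liesOver (ψ : AddChar F ℂ) (hψ : ψ ≠ 1) {m : ℕ} (ζ : Gam m F → ℂ)
    (hζ : IsIrrCharacter (Gam m F) ζ) : ∃ z : F, LiesOver ψ ζ z := by
  classical
  have hsc : ∀ s : F, ∃ w : ℂ, ∀ x : Gam m F, ζ (zc m s * x) = w * ζ x := fun s =>
    Cfsg.Agent.Helper12.exists_central_scalar hζ (zc m s) (centch_zc_central s)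
  choose w hw using hsc
  have h1 : ζ 1 ≠ 0 := Cfsg.Agent.Helper24.irr_one_ne_zero ⟨ζ, hζ⟩
  have hw0 : w 0 = 1 := by
    have := hw 0 1
    rw [centch_zc_zero, one_mul] at this
    have h2 : (1 - w 0) * ζ 1 = 0 := by linear_combination this
    rcases mul_eq_zero.1 h2 with h | h
    · linear_combination -h
    · exact absurd h h1
  have hwadd : ∀ s t : F, w (s + t) = w s * w t := by
    intro s t
    have e1 := hw (s + t) 1
    rw [centch_zc_add, mul_assoc, hw s, hw t] at e1
    have h2 : (w s * w t - w (s + t)) * ζ 1 = 0 := by linear_combination e1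
    rcases mul_eq_zero.1 h2 with h | h
    · linear_combination -h
    · exact absurd h h1
  let ω : AddChar F ℂ := ⟨w, hw0, hwadd⟩
  obtain ⟨z, hz⟩ := centch_exists_shift ψ hψ ω
  refine ⟨z, fun s x => ?_⟩
  rw [hw s x]
  congr 1
  exact hz s

end Cfsg.Agent.S2524P
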