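import Mathlib
import Cfsg.Prelude.Def_Characters
import Cfsg.Agent.Helper12.WGDefs
import Cfsg.Agent.Helper12.WGDefsC
import Cfsg.Agent.Helper12.SL2Mackey

set_option autoImplicit false

/-!
# S2524, chapter BASE (`hypLevel_one`, sub-driver helper3): shared definitions

`base_sym1 b` is the `1 × 1` symmetric matrix `(b)`; `base_m ψ f t` is the multiplicity of the
character `b ↦ ψ (t b)` in the restriction of the class function `f` of `SL₂(F)` to the unipotent
subgroup `{u_b = borelMkSL 1 b}`.
-/

namespace Cfsg.Agent.S2524P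

open Matrix Cfsg Cfsg.Agent.S2333P

open scoped ComplexConjugate

variable {F : Type*} [Field F]

/-- the `1 × 1` symmetric matrix `(b)` -/
def base_sym1 (b : F) : ↥(SymM 1 F) :=
  ⟨Matrix.of fun _ _ => b, by
    rw [mem_SymM]
    ext i j
    rfl⟩

theorem base_sym1_apply (b : F) (i j : Fin 1) :
    (base_sym1 b : Matrix (Fin 1) (Fin 1) F) i j = b := rfl

/-- the multiplicity of `b ↦ ψ (t b)` in the restriction of `f` to the unipotent subgroup of
`SL₂(F)` -/
noncomputable def base_m [Fintype F] (ψ : AddChar F ℂ)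
    (f : Matrix.SpecialLinearGroup (Fin 2) F → ℂ) (t : F) : ℂ :=
  (Fintype.card F : ℂ)⁻¹ *
    ∑ b : F, f (Cfsg.Agent.Helper12.borelMkSL (1 : Fˣ) b) * conj (ψ (t * b))

end Cfsg.Agent.S2524P
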