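import Mathlib
import Cfsg.Prelude.Def_Characters
import Cfsg.Agent.Helper12.WGDefs
import Cfsg.Agent.Helper12.WGDefsC
import Cfsg.Agent.Helper12.SL2TableOdd
import Cfsg.Agent.Helper12.SL2Half
import Cfsg.Agent.Helper12.SL2Inv
import Cfsg.Agent.Helper12.SL2BorelVal
import Cfsg.Agent.Helper3.WGBaseDefs
import Cfsg.Agent.Helper18.WGBASEM
import Cfsg.Agent.Helper15.WGBASEHALF

set_option autoImplicit false

/-! # S2524 chapter BASE: `SL₂`-side assembly `base_sl2_main` (helper3) -/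

namespace Cfsg.Agent.S2524P

open Matrix Cfsg Cfsg.Agent.S2333P Cfsg.Agent.Helper12 Cfsg.Agent.Helper24

open scoped ComplexConjugate

variable {F : Type*} [Field F] [Fintype F]

local notation "S2" => Matrix.SpecialLinearGroup (Fin 2) F

/-- `f` is of class `c`: its spectrum on the nonzero `t` is exactly `c • squares`, multiplicity one -/
def base_IsClass (ψ : AddChar F ℂ) (f : S2 → ℂ) (c : F) : Prop :=
  (∀ x : F, x ≠ 0 → base_m ψ f (c * x ^ 2) = 1) ∧
  (∀ t : F, t ≠ 0 → (¬ ∃ x : F, x ≠ 0 ∧ t = c * x ^ 2) → base_m ψ f t = 0)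

theorem base_sl2_not_class {ε : F} (hε : ¬ IsSquare ε) {c : F} (hc : c ≠ 0) :
    c * ε ≠ 0 ∧ ¬ ∃ x : F, x ≠ 0 ∧ c * ε = c * x ^ 2 := by
  have hε0 : ε ≠ 0 := by
    rintro rfl
    exact hε ⟨0, by simp⟩
  refine ⟨mul_ne_zero hc hε0, ?_⟩
  rintro ⟨x, _, hx⟩
  have : ε = x ^ 2 := mul_left_cancel₀ hc hx
  exact hε ⟨x, by rw [this, pow_two]⟩

/-- a class function with `m c = 1`, `m (c ε) = 0` is of class `c` -/
theorem base_sl2_isClass {ε : F} (hε : ¬ IsSquare ε) (ψ : AddChar F ℂ) (f : S2 → ℂ)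
    (hf : IsClassFunction S2 f) {c : F} (hc : c ≠ 0) (h1 : base_m ψ f c = 1)
    (h0 : base_m ψ f (c * ε) = 0) : base_IsClass ψ f c := by
  classical
  constructor
  · intro x hx
    rw [base_m_sq ψ f hf c x hx, h1]
  · intro t ht hnot
    have hns : ¬ IsSquare (t / c) := by
      rintro ⟨y, hy⟩
      apply hnot
      have hy0 : y ≠ 0 := by
        rintro rfl
        rw [mul_zero, div_eq_zero_iff] at hy
        rcases hy with h | h
        · exact ht h
        · exact hc h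
      refine ⟨y, hy0, ?_⟩
      have := (div_eq_iff hc).mp hy
      rw [this]; ring
    obtain ⟨y, hy0, hy⟩ := exists_sq_mul_of_not_isSquare hε hns
    have ht' : t = c * ε * y ^ 2 := by
      have := (div_eq_iff hc).mp hy
      rw [this]; ring
    rw [ht', base_m_sq ψ f hf (c * ε) y hy0, h0]

/-- the dichotomy for a "half" character at an arbitrary class `c` -/
theorem base_sl2_dich (hodd : Odd (Fintype.card F)) {ε : F} (hε : ¬ IsSquare ε)
    (ψ : AddChar F ℂ) (hψ : ψ ≠ 1) (f : S2 → ℂ) (hf : IsCharacter S2 f) (δ : ℂ)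
    (hδ : δ = 1 ∨ δ = -1) (hdeg : 2 * f 1 = (Fintype.card F : ℂ) + δ)
    (hsum : f (borelMkSL (1 : Fˣ) 1) + f (borelMkSL (1 : Fˣ) ε) = δ) {c : F} (hc : c ≠ 0) :
    (base_m ψ f c = 1 ∧ base_m ψ f (c * ε) = 0) ∨
      (base_m ψ f c = 0 ∧ base_m ψ f (c * ε) = 1) := by
  classical
  have hε0 : ε ≠ 0 := by
    rintro rfl
    exact hε ⟨0, by simp⟩
  obtain ⟨_, h⟩ := base_half hodd hε ψ hψ f hf δ hδ hdeg hsum
  by_cases hsq : IsSquare c
  · obtain ⟨d, hd⟩ := hsq
    have hd0 : d ≠ 0 := by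
      rintro rfl
      exact hc (by rw [hd, mul_zero])
    have e1 : c = d ^ 2 := by rw [hd, pow_two]
    have e2 : c * ε = ε * d ^ 2 := by rw [e1]; ring
    rcases h with ⟨hS, hN⟩ | ⟨hS, hN⟩
    · left
      exact ⟨by rw [e1]; exact hS d hd0, by rw [e2]; exact hN d hd0⟩
    · right
      exact ⟨by rw [e1]; exact hS d hd0, by rw [e2]; exact hN d hd0⟩
  · obtain ⟨d, hd0, hd⟩ := exists_sq_mul_of_not_isSquare hε hsq
    have e2 : c * ε = (ε * d) ^ 2 := by rw [hd]; ring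
    have hed : ε * d ≠ 0 := mul_ne_zero hε0 hd0
    rcases h with ⟨hS, hN⟩ | ⟨hS, hN⟩
    · right
      exact ⟨by rw [hd]; exact hN d hd0, by rw [e2]; exact hS _ hed⟩
    · left
      exact ⟨by rw [hd]; exact hN d hd0, by rw [e2]; exact hS _ hed⟩

/-- a "half" character and its twist: exactly one of them is of class `c`, the other one has
`c ε` in its spectrum -/
theorem base_sl2_choose (hodd : Odd (Fintype.card F)) {ε : F} (hε : ¬ IsSquare ε) (hε0 : ε ≠ 0)
    (ψ : AddChar F ℂ) (hψ : ψ ≠ 1) (f : S2 → ℂ) (hf : IsIrrCharacter S2 f) (δ : ℂ)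
    (hδ : δ = 1 ∨ δ = -1) (hdeg : 2 * f 1 = (Fintype.card F : ℂ) + δ)
    (hsum : f (borelMkSL (1 : Fˣ) 1) + f (borelMkSL (1 : Fˣ) ε) = δ) {c : F} (hc : c ≠ 0) :
    ∃ A B : S2 → ℂ, ((A = f ∧ B = fun g => f (tauS hε0 g)) ∨
        (A = (fun g => f (tauS hε0 g)) ∧ B = f)) ∧
      IsIrrCharacter S2 A ∧ base_m ψ A 0 = (1 + δ) / 2 ∧ base_IsClass ψ A c ∧
      base_m ψ B (c * ε) ≠ 0 := by
  classical
  have hfc : IsCharacter S2 f := IsIrrCharacter.isCharacter hf
  have hfcf : IsClassFunction S2 f := IsCharacter.isClassFunction hfc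
  have hg : IsIrrCharacter S2 (fun g => f (tauS hε0 g)) := isIrr_comp_conjS hf _
  have hgc : IsCharacter S2 (fun g => f (tauS hε0 g)) := IsIrrCharacter.isCharacter hg
  have hgcf : IsClassFunction S2 (fun g => f (tauS hε0 g)) := IsCharacter.isClassFunction hgc
  have hm0 : base_m ψ f 0 = (1 + δ) / 2 := (base_half hodd hε ψ hψ f hfc δ hδ hdeg hsum).1
  have hgdeg : 2 * (fun g => f (tauS hε0 g)) 1 = (Fintype.card F : ℂ) + δ := by
    show 2 * f (tauS hε0 1) = _
    rw [map_one]; exact hdeg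
  have hgsum : (fun g => f (tauS hε0 g)) (borelMkSL (1 : Fˣ) 1) +
      (fun g => f (tauS hε0 g)) (borelMkSL (1 : Fˣ) ε) = δ := by
    show f (tauS hε0 (borelMkSL (1 : Fˣ) 1)) + f (tauS hε0 (borelMkSL (1 : Fˣ) ε)) = δ
    rw [twist_u1 hε0 f, twist_ue hε0 f hfcf, add_comm]
    exact hsum
  have hgm0 : base_m ψ (fun g => f (tauS hε0 g)) 0 = (1 + δ) / 2 :=
    (base_half hodd hε ψ hψ _ hgc δ hδ hgdeg hgsum).1
  -- the multiplicities of the twist
  have t1 : base_m ψ (fun g => f (tauS hε0 g)) c = base_m ψ f (c * ε) := by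
    rw [base_m_twist ψ hε0 f c]
    have : ε⁻¹ * c = c * ε * (ε⁻¹) ^ 2 := by field_simp
    rw [this, base_m_sq ψ f hfcf (c * ε) ε⁻¹ (inv_ne_zero hε0)]
  have t2 : base_m ψ (fun g => f (tauS hε0 g)) (c * ε) = base_m ψ f c := by
    rw [base_m_twist ψ hε0 f (c * ε)]
    have : ε⁻¹ * (c * ε) = c := by field_simp
    rw [this]
  rcases base_sl2_dich hodd hε ψ hψ f hfc δ hδ hdeg hsum hc with ⟨h1, h0⟩ | ⟨h0, h1⟩
  · refine ⟨f, fun g => f (tauS hε0 g), Or.inl ⟨rfl, rfl⟩, hf, hm0,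
      base_sl2_isClass hε ψ f hfcf hc h1 h0, ?_⟩
    rw [t2, h1]; exact one_ne_zero
  · refine ⟨fun g => f (tauS hε0 g), f, Or.inr ⟨rfl, rfl⟩, hg, hgm0,
      base_sl2_isClass hε ψ _ hgcf hc (by rw [t1, h1]) (by rw [t2, h0]), ?_⟩
    rw [h1]; exact one_ne_zero

/-- characters which do not distinguish the two unipotent classes have all `t ≠ 0` in their
spectrum -/
theorem base_sl2_full (hodd : Odd (Fintype.card F)) {ε : F} (hε : ¬ IsSquare ε)
    (ψ : AddChar F ℂ) (hψ : ψ ≠ 1) (f : S2 → ℂ) (hf : IsClassFunction S2 f)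
    (heq : f (borelMkSL (1 : Fˣ) 1) = f (borelMkSL (1 : Fˣ) ε))
    (hne : f 1 - f (borelMkSL (1 : Fˣ) 1) ≠ 0) (t : F) (ht : t ≠ 0) : base_m ψ f t ≠ 0 := by
  intro h
  have := base_m_of_eq hodd hε ψ hψ f hf heq t ht
  rw [h, mul_zero] at this
  exact hne this.symm

/-- **BASE-SL2**: the base case in `SL₂` language -/
theorem base_sl2_main (hodd : Odd (Fintype.card F)) (ψ : AddChar F ℂ) (hψ : ψ ≠ 1)
    (c : F) (hc : c ≠ 0) :
    ∃ A0 A1 : S2 → ℂ, IsIrrCharacter S2 A0 ∧ IsIrrCharacter S2 A1 ∧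
      base_m ψ A0 0 = 0 ∧ base_m ψ A1 0 = 1 ∧
      (∀ x : F, x ≠ 0 → base_m ψ A0 (c * x ^ 2) = 1) ∧
      (∀ x : F, x ≠ 0 → base_m ψ A1 (c * x ^ 2) = 1) ∧
      (∀ t : F, t ≠ 0 → (¬ ∃ x : F, x ≠ 0 ∧ t = c * x ^ 2) → base_m ψ A0 t = 0) ∧
      (∀ t : F, t ≠ 0 → (¬ ∃ x : F, x ≠ 0 ∧ t = c * x ^ 2) → base_m ψ A1 t = 0) ∧
      ∀ χ : S2 → ℂ, IsIrrCharacter S2 χ → χ ≠ (fun _ => 1) →
        (∀ t : F, base_m ψ χ t ≠ 0 → t = 0 ∨ ∃ x : F, x ≠ 0 ∧ t = c * x ^ 2) →
        χ = A0 ∨ χ = A1 := by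
  classical
  have : Fintype (IrrCharacter S2) := Fintype.ofFinite _
  have hF := ringChar_ne_two_of_odd hodd
  obtain ⟨ε, hε⟩ := FiniteField.exists_nonsquare hF
  have hε0 : ε ≠ 0 := by
    rintro rfl
    exact hε ⟨0, by simp⟩
  have hq0 : (Fintype.card F : ℂ) ≠ 0 := by
    have : Fintype.card F ≠ 0 := Fintype.card_ne_zero
    exact_mod_cast this
  have hhalf := half_cast_odd hodd (F := F)
  -- the half principal series pair
  set p := pairS (sgnC (F := F)) sgnC_sq with hp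
  have hp1deg : 2 * (p.1 : S2 → ℂ) 1 = (Fintype.card F : ℂ) + 1 := by
    rw [(pairS_sgn_spec hodd).1]; exact hhalf.1
  have hp1sum := xi_unip_sum hodd hε true
  simp only [if_true] at hp1sum
  obtain ⟨A1, B1, hAB1, hA1irr, hA1m0, hA1cl, hB1⟩ :=
    base_sl2_choose hodd hε hε0 ψ hψ (p.1 : S2 → ℂ) p.1.2 1 (Or.inl rfl) hp1deg hp1sum hc
  have hp2 : (fun g => (p.1 : S2 → ℂ) (tauS hε0 g)) = (p.2 : S2 → ℂ) := (xi_twist hodd hε hε0).1
  -- the half cuspidal pair
  have hcard := card_halfCusp hodd (F := F)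
  have hne : (halfCusp (F := F)).Nonempty := by
    rw [← Finset.card_pos, hcard]; norm_num
  obtain ⟨η, hη⟩ := hne
  obtain ⟨hηdeg, hηsum⟩ := halfCusp_spec hodd hε hη
  obtain ⟨η', hη', hηne, hη'eq⟩ := halfCusp_twist hodd hε hε0 hη
  have hpair := halfCusp_eq_pair hodd hη hη' hηne
  obtain ⟨A0, B0, hAB0, hA0irr, hA0m0, hA0cl, hB0⟩ :=
    base_sl2_choose hodd hε hε0 ψ hψ (η : S2 → ℂ) η.2 (-1) (Or.inr rfl)
      (by rw [hηdeg]; ring) hηsum hc
  refine ⟨A0, A1, hA0irr, hA1irr, by rw [hA0m0]; ring, by rw [hA1m0]; ring,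
    hA0cl.1, hA1cl.1, hA0cl.2, hA1cl.2, ?_⟩
  intro χ hχ hχ1 hpure
  have hχc : IsCharacter S2 χ := IsIrrCharacter.isCharacter hχ
  have hχcf : IsClassFunction S2 χ := IsCharacter.isClassFunction hχc
  obtain ⟨hcε0, hcεn⟩ := base_sl2_not_class hε hc
  have hzero : base_m ψ χ (c * ε) = 0 := by
    by_contra hne0
    rcases hpure _ hne0 with h | h
    · exact hcε0 h
    · exact hcεn h
  have hfull : χ (borelMkSL (1 : Fˣ) 1) = χ (borelMkSL (1 : Fˣ) ε) →
      χ 1 - χ (borelMkSL (1 : Fˣ) 1) ≠ 0 → False := fun heq hne =>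
    base_sl2_full hodd hε ψ hψ χ hχcf heq hne (c * ε) hcε0 hzero
  rcases sl2_odd_irr_cases hodd hε χ hχ with h | h | ⟨α, _, h⟩ | h | ⟨hcusp, h⟩
  · exact absurd h hχ1
  · exfalso
    apply hfull
    · rw [h, stS_borel_unip (by simp) one_ne_zero, stS_borel_unip (by simp) hε0]
    · rw [h, stS_one, stS_borel_unip (by simp) one_ne_zero, sub_zero]
      exact hq0
  · exfalso
    apply hfull
    · rw [h, psS_unip α (by simp) one_ne_zero, psS_unip α (by simp) hε0]
    · rw [h, psS_one, psS_unip α (by simp) one_ne_zero]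
      simp only [Units.val_one, map_one]
      intro h'
      apply hq0
      linear_combination h'
  · right
    have hχAB : χ = A1 ∨ χ = B1 := by
      rcases hAB1 with ⟨e1, e2⟩ | ⟨e1, e2⟩
      · rcases h with h | h
        · left; rw [h, e1]
        · right; rw [h, e2, hp2]
      · rcases h with h | h
        · right; rw [h, e2]
        · left; rw [h, e1, hp2]
    rcases hχAB with h' | h'
    · exact h'
    · exfalso
      rw [h'] at hzero
      exact hB1 hzero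
  · rcases h with ⟨hdeg, hsum⟩ | ⟨hdeg, hsum⟩
    · exfalso
      obtain ⟨h1, h2⟩ := cuspS_full_unip hε0 χ hχ hcusp hdeg hsum
      apply hfull
      · rw [h1, h2]
      · rw [hdeg, h1]
        intro h'
        apply hq0
        linear_combination h'
    · left
      have hmem : (⟨χ, hχ⟩ : IrrCharacter S2) ∈ halfCusp (F := F) := by
        rw [mem_halfCusp]
        refine ⟨hcusp, ?_⟩
        intro h'
        have h'' : (χ 1 : ℂ) = (Fintype.card F : ℂ) - 1 := h'
        apply card_sub_one_ne_zero (F := F)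
        linear_combination hdeg - 2 * h''
      rw [hpair, Finset.mem_insert, Finset.mem_singleton] at hmem
      have hχη : χ = (η : S2 → ℂ) ∨ χ = fun g => (η : S2 → ℂ) (tauS hε0 g) := by
        rcases hmem with h' | h'
        · left; exact congrArg Subtype.val h'
        · right; rw [← hη'eq]; exact congrArg Subtype.val h'
      have hχAB : χ = A0 ∨ χ = B0 := by
        rcases hAB0 with ⟨e1, e2⟩ | ⟨e1, e2⟩
        · rcases hχη with h' | h'
          · left; rw [h', e1]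
          · right; rw [h', e2]
        · rcases hχη with h' | h'
          · right; rw [h', e2]
          · left; rw [h', e1]
      rcases hχAB with h' | h'
      · exact h'
      · exfalso
        rw [h'] at hzero
        exact hB0 hzero

end Cfsg.Agent.S2524P
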