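import Mathlib
import Cfsg.Prelude.Def_Characters
import Cfsg.Agent.Helper12.WGDefs
import Cfsg.Agent.Helper12.WGDefsC
import Cfsg.Agent.Helper8.CharComp
import Cfsg.Agent.Helper3.WGBaseDefs
import Cfsg.Agent.Helper19.WGBASEISO
import Cfsg.Agent.Helper15.WGBASESPEC
import Cfsg.Agent.Helper25.WGBaseSYM1
import Cfsg.Agent.Helper3.WGBASESL2

set_option autoImplicit false

/-! # S2524 chapter BASE: `hypLevel_one` (helper3) -/

namespace Cfsg.Agent.S2524P

open Matrix Cfsg Cfsg.Agent.S2333P Cfsg.Agent.Helper12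

open scoped ComplexConjugate

variable {F : Type*} [Field F] [Fintype F]

local notation "S2" => Matrix.SpecialLinearGroup (Fin 2) F

/-- **BASE** (chapter 5) -/
theorem hypLevel_one (hodd : Odd (Fintype.card F)) (ψ : AddChar F ℂ) (hψ : ψ ≠ 1) :
    HypLevel ψ 1 := by
  intro c hc
  obtain ⟨e, he⟩ := base_exists_iso (F := F)
  obtain ⟨A0, A1, hA0, hA1, h00, h10, hc0, hc1, hn0, hn1, huniq⟩ :=
    base_sl2_main hodd ψ hψ c hc
  have key : ∀ (A : S2 → ℂ) (T : ↥(SymM 1 F)),
      spec ψ (fun g => A (e g)) T = base_m ψ A (T.1 0 0) := by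
    intro A T
    show specU ψ (US 1 F) (fun g => A (e g)) T = _
    rw [base_specU_eq]
    unfold base_m
    simp only [he]
  have hzero : ((0 : ↥(SymM 1 F)) : Matrix (Fin 1) (Fin 1) F) 0 0 = 0 := rfl
  have hws : ∀ (A : S2 → ℂ) (k : ℕ), base_m ψ A 0 = (k : ℂ) →
      (∀ x : F, x ≠ 0 → base_m ψ A (c * x ^ 2) = 1) →
      (∀ t : F, t ≠ 0 → (¬ ∃ x : F, x ≠ 0 ∧ t = c * x ^ 2) → base_m ψ A t = 0) →
      WeilSpec ψ (fun g => A (e g)) c k := by
    intro A k h0 h1 h2
    refine ⟨?_, ?_, ?_⟩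
    · rw [key, hzero, h0]
    · intro T hT
      obtain ⟨x, hx0, hx⟩ := (base_ofClass_iff c T).1 hT
      rw [key, hx, h1 x hx0]
    · intro T hT0 hTc
      rw [key]
      apply h2
      · intro h
        exact hT0 ((base_eq_zero_iff T).2 h)
      · intro h
        exact hTc ((base_ofClass_iff c T).2 h)
  have hirr : ∀ A : S2 → ℂ, IsIrrCharacter S2 A →
      IsIrrCharacter ↥(symplecticGroup (Fin 1) F) (fun g => A (e g)) := fun A hA =>
    Cfsg.Agent.Helper8.isIrrCharacter_comp_surjective e.toMonoidHom e.surjective hA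
  refine ⟨fun g => A0 (e g), fun g => A1 (e g),
    ⟨hirr A0 hA0, hirr A1 hA1, hws A0 0 (by rw [h00]; simp) hc0 hn0,
      hws A1 1 (by rw [h10]; simp) hc1 hn1⟩, ?_⟩
  intro χ hχ hχ1 hpure
  have hχ' : IsIrrCharacter S2 (fun h => χ (e.symm h)) :=
    Cfsg.Agent.Helper8.isIrrCharacter_comp_surjective e.symm.toMonoidHom e.symm.surjective hχ
  have hback : (fun g => (fun h => χ (e.symm h)) (e g)) = χ := by
    funext g
    show χ (e.symm (e g)) = χ g
    rw [MulEquiv.symm_apply_apply]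
  have hχ1' : (fun h => χ (e.symm h)) ≠ (fun _ => 1) := by
    intro h
    apply hχ1
    rw [← hback]
    funext g
    exact congrFun h (e g)
  have hpure' : ∀ t : F, base_m ψ (fun h => χ (e.symm h)) t ≠ 0 →
      t = 0 ∨ ∃ x : F, x ≠ 0 ∧ t = c * x ^ 2 := by
    intro t ht
    have hk := key (fun h => χ (e.symm h)) (base_sym1 t)
    rw [hback, base_sym1_apply] at hk
    rw [← hk] at ht
    rcases hpure (base_sym1 t) ht with h | h
    · left
      have := (base_eq_zero_iff (base_sym1 t)).1 h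
      rwa [base_sym1_apply] at this
    · right
      have := (base_ofClass_iff c (base_sym1 t)).1 h
      rwa [base_sym1_apply] at this
  rcases huniq _ hχ' hχ1' hpure' with h | h
  · left
    rw [← hback, h]
  · right
    rw [← hback, h]

end Cfsg.Agent.S2524P
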