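import Mathlib

set_option autoImplicit false
set_option linter.style.haveILetI false

namespace Cfsg.Agent.Helper3

open Function

/-- An automorphism of odd order of a cyclic 2-group is trivial. -/
theorem aut_cyclic_two_group_trivial {R : Type*} [Group R] [Finite R] [IsCyclic R]
    (hR : IsPGroup 2 R) (α : MulAut R) (d : ℕ) (hd : Odd d) (hα : α ^ d = 1) : α = 1 := by
  haveI : Fact (Nat.Prime 2) := ⟨Nat.prime_two⟩
  obtain ⟨j, hj⟩ := IsPGroup.iff_card.mp hR
  have hcard : Nat.card (MulAut R) = (2 ^ j).totient := by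
    rw [IsCyclic.card_mulAut, hj]
  have hpow : ∃ m, Nat.card (MulAut R) = 2 ^ m := by
    rcases Nat.eq_zero_or_pos j with h0 | hpos
    · exact ⟨0, by rw [hcard, h0]; simp⟩
    · exact ⟨j - 1, by rw [hcard, Nat.totient_prime_pow Nat.prime_two hpos]; simp⟩
  obtain ⟨m, hm⟩ := hpow
  have h1 : orderOf α ∣ 2 ^ m := hm ▸ orderOf_dvd_natCard α
  have h2 : orderOf α ∣ d := orderOf_dvd_of_pow_eq_one hα
  have hcop : Nat.Coprime (2 ^ m) d := Nat.Coprime.pow_left m (Nat.coprime_two_left.mpr hd)
  have : orderOf α = 1 := Nat.eq_one_of_dvd_coprimes hcop h1 h2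
  exact orderOf_eq_one_iff.mp this

/-- If an automorphism `α` of odd order of a 2-group maps `x` into `⟨x⟩`, it fixes `x`. -/
theorem aut_fix_of_mem_zpowers {R : Type*} [Group R] [Finite R] (hR : IsPGroup 2 R)
    (α : MulAut R) (d : ℕ) (hd : Odd d) (hα : α ^ d = 1) (x : R)
    (hαx : α x ∈ Subgroup.zpowers x) : α x = x := by
  set H : Subgroup R := Subgroup.zpowers x with hH
  have hmap : H.map ((α : R ≃* R) : R →* R) = H := by
    apply Subgroup.eq_of_le_of_card_ge
    · rw [hH, MonoidHom.map_zpowers]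
      exact Subgroup.zpowers_le.mpr hαx
    · rw [Subgroup.card_map_of_injective]
      exact α.injective
  let β : MulAut H := (MulEquiv.subgroupMap α H).trans (MulEquiv.subgroupCongr hmap)
  have hβ : ∀ y : H, ((β y : H) : R) = α (y : R) := fun y => rfl
  have hβpow : ∀ (i : ℕ) (y : H), (((β ^ i) y : H) : R) = (α ^ i) (y : R) := by
    intro i
    induction i with
    | zero => intro y; simp
    | succ k ih =>
      intro y
      rw [pow_succ', pow_succ', MulAut.mul_apply, MulAut.mul_apply, hβ, ih]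
  have hβd : β ^ d = 1 := by
    ext y
    rw [hβpow, hα]
    simp
  have hH2 : IsPGroup 2 H := hR.to_subgroup H
  have hβ1 : β = 1 := aut_cyclic_two_group_trivial hH2 β d hd hβd
  have hx : x ∈ H := Subgroup.mem_zpowers x
  have h2 := hβ ⟨x, hx⟩
  rw [hβ1] at h2
  simpa using h2.symm

/-- An automorphism of odd order of a 2-group fixing a subgroup `K` pointwise and acting
trivially "modulo `K`" is trivial. -/
theorem aut_trivial_of_chain {R : Type*} [Group R] (hR : IsPGroup 2 R)
    (α : MulAut R) (d : ℕ) (hd : Odd d) (hα : α ^ d = 1) (K : Subgroup R)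
    (hfix : ∀ y ∈ K, α y = y) (hquot : ∀ s : R, s⁻¹ * α s ∈ K) : α = 1 := by
  ext s
  set c := s⁻¹ * α s with hc
  have hcK : c ∈ K := hquot s
  have hαs : α s = s * c := by rw [hc]; group
  have hpow : ∀ i : ℕ, (α ^ i) s = s * c ^ i := by
    intro i
    induction i with
    | zero => simp
    | succ k ih =>
      rw [pow_succ', MulAut.mul_apply, ih, map_mul, map_pow, hfix c hcK, hαs, pow_succ', mul_assoc]
  have h1 : c ^ d = 1 := by
    have h := hpow d
    rw [hα] at h
    have h' : s * 1 = s * c ^ d := by simpa using h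
    exact (mul_left_cancel h').symm
  obtain ⟨k, hk⟩ := hR c
  have h2 : orderOf c ∣ d := orderOf_dvd_of_pow_eq_one h1
  have h3 : orderOf c ∣ 2 ^ k := orderOf_dvd_of_pow_eq_one hk
  have hcop : Nat.Coprime (2 ^ k) d := Nat.Coprime.pow_left k (Nat.coprime_two_left.mpr hd)
  have h4 : orderOf c = 1 := Nat.eq_one_of_dvd_coprimes hcop h3 h2
  have h5 : c = 1 := orderOf_eq_one_iff.mp h4
  rw [MulAut.one_apply, hαs, h5, mul_one]

/-- The rotation subgroup of the dihedral group. -/
def rotSubgroup (n : ℕ) : Subgroup (DihedralGroup n) where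
  carrier := {x | ∃ i, x = DihedralGroup.r i}
  one_mem' := ⟨0, DihedralGroup.one_def⟩
  mul_mem' := by
    rintro _ _ ⟨i, rfl⟩ ⟨j, rfl⟩
    exact ⟨i + j, DihedralGroup.r_mul_r i j⟩
  inv_mem' := by
    rintro _ ⟨i, rfl⟩
    exact ⟨-i, DihedralGroup.inv_r i⟩

/-- index of a dihedral group element. -/
def rotIdx {n : ℕ} : DihedralGroup n → ZMod n
  | DihedralGroup.r i => i
  | DihedralGroup.sr i => i

/-- The main lemma: an odd-order automorphism of a 2-group embedded in a dihedral group,
fixing a nontrivial central element, is trivial. -/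
theorem dihedral_sub_odd_aut_trivial {R : Type*} [Group R] [Finite R] {n : ℕ}
    (ψ : R →* DihedralGroup n) (hψ : Injective ψ) (hR : IsPGroup 2 R)
    (α : MulAut R) (d : ℕ) (hd : Odd d) (hα : α ^ d = 1)
    (τ : R) (hτ1 : τ ≠ 1) (hτc : ∀ x, τ * x = x * τ) (hατ : α τ = τ) : α = 1 := by
  classical
  set R0 : Subgroup R := (rotSubgroup n).comap ψ with hR0
  have hmem : ∀ x, x ∈ R0 ↔ ∃ i, ψ x = DihedralGroup.r i := fun x => Iff.rfl
  have hnot : ∀ x, x ∉ R0 → ∃ i, ψ x = DihedralGroup.sr i := by
    intro x hx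
    cases h : ψ x with
    | r i => exact absurd ((hmem x).mpr ⟨i, h⟩) hx
    | sr i => exact ⟨i, rfl⟩
  have F1 : ∀ x, x ∉ R0 → x * x = 1 := by
    intro x hx
    obtain ⟨i, hi⟩ := hnot x hx
    apply hψ
    rw [map_mul, hi, map_one, DihedralGroup.sr_mul_self]
  have F2 : ∀ x y, x ∉ R0 → y ∉ R0 → x⁻¹ * y ∈ R0 := by
    intro x y hx hy
    obtain ⟨i, hi⟩ := hnot x hx
    obtain ⟨j, hj⟩ := hnot y hy
    rw [hmem]
    refine ⟨j - i, ?_⟩
    rw [map_mul, map_inv, hi, hj, DihedralGroup.inv_sr, DihedralGroup.sr_mul_sr]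
  -- R0 is cyclic
  let f : R0 →* Multiplicative (ZMod n) :=
    { toFun := fun x => Multiplicative.ofAdd (rotIdx (ψ x))
      map_one' := by
        show Multiplicative.ofAdd (rotIdx (ψ ((1 : R0) : R))) = 1
        rw [Subgroup.coe_one, map_one, DihedralGroup.one_def]
        rfl
      map_mul' := by
        intro x y
        obtain ⟨i, hi⟩ := (hmem x).mp x.2
        obtain ⟨j, hj⟩ := (hmem y).mp y.2
        show Multiplicative.ofAdd (rotIdx (ψ ((x * y : R0) : R))) =
          Multiplicative.ofAdd (rotIdx (ψ x)) * Multiplicative.ofAdd (rotIdx (ψ y))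
        rw [Subgroup.coe_mul, map_mul, hi, hj, DihedralGroup.r_mul_r]
        rfl }
  have hf : Injective f := by
    intro x y hxy
    obtain ⟨i, hi⟩ := (hmem x).mp x.2
    obtain ⟨j, hj⟩ := (hmem y).mp y.2
    have h1 : rotIdx (ψ x) = rotIdx (ψ y) := Multiplicative.ofAdd.injective hxy
    rw [hi, hj] at h1
    have h2 : i = j := h1
    apply Subtype.ext
    apply hψ
    rw [hi, hj, h2]
  haveI hcyc : IsCyclic R0 := isCyclic_of_injective f hf
  obtain ⟨g0, hg0⟩ := hcyc.exists_generator
  set g : R := (g0 : R) with hg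
  have hgR0 : g ∈ R0 := g0.2
  have hR0z : ∀ y ∈ R0, y ∈ Subgroup.zpowers g := by
    intro y hy
    obtain ⟨k, hk⟩ := Subgroup.mem_zpowers_iff.mp (hg0 ⟨y, hy⟩)
    refine Subgroup.mem_zpowers_iff.mpr ⟨k, ?_⟩
    have := congrArg (Subtype.val) hk
    simpa using this
  -- key: if α g ∈ R0 then done
  have key : α g ∈ R0 → α = 1 := by
    intro hαg
    have hfixg : α g = g := aut_fix_of_mem_zpowers hR α d hd hα g (hR0z _ hαg)
    have hfix : ∀ y ∈ R0, α y = y := by
      intro y hy
      obtain ⟨k, rfl⟩ := Subgroup.mem_zpowers_iff.mp (hR0z y hy)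
      rw [map_zpow, hfixg]
    apply aut_trivial_of_chain hR α d hd hα R0 hfix
    intro s
    by_cases hs : s ∈ R0
    · rw [hfix s hs, inv_mul_cancel]
      exact one_mem _
    · apply F2 s _ hs
      intro h
      have h2 := hfix _ h
      have h3 : α s = s := α.injective h2
      exact hs (h3 ▸ h)
  apply key
  by_contra hαg
  -- g * g = 1
  have hgg : g * g = 1 := by
    have := F1 _ hαg
    rw [← map_mul] at this
    exact α.injective (this.trans (map_one α).symm)
  have hR0' : ∀ y ∈ R0, y = 1 ∨ y = g := by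
    intro y hy
    obtain ⟨k, rfl⟩ := Subgroup.mem_zpowers_iff.mp (hR0z y hy)
    rcases Int.even_or_odd' k with ⟨m, hm | hm⟩
    · left
      rw [hm, zpow_mul, zpow_two, hgg, one_zpow]
    · right
      rw [hm, zpow_add, zpow_mul, zpow_two, hgg, one_zpow, one_mul, zpow_one]
  -- where is τ?
  have hαg2 : α (α g) = g := by
    by_cases hτ0 : τ ∈ R0
    · exfalso
      rcases hR0' τ hτ0 with h | h
      · exact hτ1 h
      · apply hαg
        rw [← h, hατ]
        exact hτ0
    · have h1 := F2 (α g) τ hαg hτ0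
      rcases hR0' _ h1 with h | h
      · exfalso
        have h2 : τ = α g := by
          have := congrArg (fun z => α g * z) h
          simpa using this
        have h3 : α (α g) = α g := by rw [← h2, hατ]
        have h4 : α g = g := α.injective h3
        exact hαg (h4.symm ▸ hgR0)
      · -- τ = α g * g
        have h2 : τ = α g * g := by
          have := congrArg (fun z => α g * z) h
          simpa using this
        have h3 : α τ = α (α g) * α g := by rw [h2, map_mul]
        rw [hατ] at h3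
        -- τ = α(αg) * αg and τ = αg * g, τ central
        have h4 : α (α g) = τ * (α g)⁻¹ := by rw [h3]; group
        rw [h4, hτc, h2]
        group
  -- odd power
  have heven : ∀ e : ℕ, (α ^ (2 * e)) g = g := by
    intro e
    induction e with
    | zero => simp
    | succ k ih =>
      rw [Nat.mul_succ, pow_add, MulAut.mul_apply, pow_two, MulAut.mul_apply, hαg2, ih]
  obtain ⟨e, he⟩ := hd
  have h5 : (α ^ d) g = α g := by
    rw [he, pow_succ', MulAut.mul_apply, heven]
  rw [hα, MulAut.one_apply] at h5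
  exact hαg (h5 ▸ hgR0)

end Cfsg.Agent.Helper3
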