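import Mathlib

/-! S2496 pieces ARITH3 + ARITH4 (driver helper13): elementary arithmetic of
`M₁ = (q^(2h) - 1)/(q + 1)`. -/

set_option autoImplicit false

namespace Cfsg.Agent.S2496P

namespace ARITH34

theorem sq_sub_one (q : ℕ) (hq : 1 ≤ q) : q ^ 2 - 1 = (q + 1) * (q - 1) := by
  obtain ⟨j, rfl⟩ : ∃ j, q = j + 1 := ⟨q - 1, by omega⟩
  have e : j + 1 - 1 = j := by omega
  rw [e]
  have : (j + 1) ^ 2 = (j + 1 + 1) * j + 1 := by ring
  omega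

end ARITH34

/-- ARITH3: `M₁ ∣ k (q + 1) → M₁ / gcd(M₁, q + 1) ∣ k` and `(M₁ / gcd) (q + 1) = M₁ ((q + 1) / gcd)` -/
theorem div_gcd_dvd (M c k : ℕ) (hM : 0 < M) (h : M ∣ k * c) : M / Nat.gcd M c ∣ k := by
  have hg : 0 < Nat.gcd M c := Nat.gcd_pos_of_pos_left c hM
  obtain ⟨M', hM'⟩ := Nat.gcd_dvd_left M c
  obtain ⟨c', hc'⟩ := Nat.gcd_dvd_right M c
  have hcop : Nat.Coprime M' c' := by
    have := Nat.coprime_div_gcd_div_gcd hg
    have e1 : M / Nat.gcd M c = M' := Nat.div_eq_of_eq_mul_right hg hM'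
    have e2 : c / Nat.gcd M c = c' := Nat.div_eq_of_eq_mul_right hg hc'
    rwa [e1, e2] at this
  have e1 : M / Nat.gcd M c = M' := Nat.div_eq_of_eq_mul_right hg hM'
  rw [e1]
  have h1 : Nat.gcd M c * M' ∣ Nat.gcd M c * (k * c') := by
    have : Nat.gcd M c * (k * c') = k * c := by
      conv_rhs => rw [hc']
      ring
    rw [this, ← hM']
    exact h
  have h2 : M' ∣ k * c' := Nat.dvd_of_mul_dvd_mul_left hg h1
  exact hcop.dvd_of_dvd_mul_right h2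

theorem div_gcd_mul (M c : ℕ) : M / Nat.gcd M c * c = M * (c / Nat.gcd M c) := by
  obtain ⟨M', hM'⟩ := Nat.gcd_dvd_left M c
  obtain ⟨c', hc'⟩ := Nat.gcd_dvd_right M c
  rcases Nat.eq_zero_or_pos (Nat.gcd M c) with h0 | hg
  · have hM0 : M = 0 := Nat.eq_zero_of_gcd_eq_zero_left h0
    have hc0 : c = 0 := Nat.eq_zero_of_gcd_eq_zero_right h0
    rw [hM0, hc0]
    simp
  · have e1 : M / Nat.gcd M c = M' := Nat.div_eq_of_eq_mul_right hg hM'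
    have e2 : c / Nat.gcd M c = c' := Nat.div_eq_of_eq_mul_right hg hc'
    rw [e1, e2]
    calc M' * c = M' * (Nat.gcd M c * c') := by rw [← hc']
      _ = (Nat.gcd M c * M') * c' := by ring
      _ = M * c' := by rw [← hM']

/-- ARITH4: `q + 1 ∣ q^(2h) - 1`, `(q^(2h) - 1)/(q + 1) = (q - 1) * ((q^(2h) - 1)/(q^2 - 1))`, positivity -/
theorem M1_facts (q h : ℕ) (hq : 2 ≤ q) (hh : 1 ≤ h) :
    q + 1 ∣ q ^ (2 * h) - 1 ∧ q ^ 2 - 1 ∣ q ^ (2 * h) - 1 ∧ 0 < (q ^ (2 * h) - 1) / (q + 1) ∧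
      (q ^ (2 * h) - 1) / (q + 1) = (q - 1) * ((q ^ (2 * h) - 1) / (q ^ 2 - 1)) := by
  have hsq := ARITH34.sq_sub_one q (by omega)
  have h2 : q ^ 2 - 1 ∣ q ^ (2 * h) - 1 := by
    have := Nat.sub_dvd_pow_sub_pow (q ^ 2) 1 h
    rwa [one_pow, ← pow_mul] at this
  have h1 : q + 1 ∣ q ^ (2 * h) - 1 := (Dvd.intro _ hsq.symm).trans h2
  obtain ⟨Y, hY⟩ := h2
  have hpos2 : 0 < q ^ 2 - 1 := by
    have : 2 ^ 2 ≤ q ^ 2 := Nat.pow_le_pow_left hq 2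
    omega
  have hdiv2 : (q ^ (2 * h) - 1) / (q ^ 2 - 1) = Y := Nat.div_eq_of_eq_mul_right hpos2 hY
  have hdiv1 : (q ^ (2 * h) - 1) / (q + 1) = (q - 1) * Y := by
    apply Nat.div_eq_of_eq_mul_right (by omega)
    rw [hY, hsq]
    ring
  refine ⟨h1, ⟨Y, hY⟩, ?_, ?_⟩
  · rw [hdiv1]
    have hYpos : 0 < Y := by
      rcases Nat.eq_zero_or_pos Y with h0 | h0
      · exfalso
        rw [h0, mul_zero] at hY
        have : q ^ 2 ≤ q ^ (2 * h) := Nat.pow_le_pow_right (by omega) (by omega)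
        omega
      · exact h0
    exact Nat.mul_pos (by omega) hYpos
  · rw [hdiv1, hdiv2]

end Cfsg.Agent.S2496P
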