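import Mathlib
import Cfsg.Agent.S2495
import Cfsg.Agent.Helper3.S2496ARITH34

/-! S2496 piece ARITH1 (driver helper13): the 2-adic criterion
`q^h + (-1)^h ∣ M₁ / gcd(M₁, q + 1) ↔ v₂(q + 1) < v₂(2h)`, `M₁ = (q^(2h) - 1)/(q + 1)`. -/

set_option autoImplicit false

namespace Cfsg.Agent.S2496P

namespace ARITH1

open Cfsg.Agent.S2495 (gs gs_mul gs_modEq gcd_dvd_half_iff dvd_div_iff)

theorem G_mul (q k : ℕ) (hq : 2 ≤ q) :
    (q + 1) * ((q - 1) * gs (q ^ 2) k) = q ^ (2 * k) - 1 := by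
  have h1 := gs_mul (q ^ 2) k (Nat.one_le_pow 2 q (by omega))
  rw [← pow_mul] at h1
  rw [← h1, ← mul_assoc, ARITH34.sq_sub_one q (by omega)]

theorem G_int (q k : ℕ) (hq : 2 ≤ q) : ((q : ℤ) + 1) ∣ (gs (q ^ 2) k : ℤ) - k := by
  have h1 := gs_modEq (q ^ 2) k (Nat.one_le_pow 2 q (by omega))
  have h2 : ((q ^ 2 - 1 : ℕ) : ℤ) ∣ (k : ℤ) - gs (q ^ 2) k := Nat.modEq_iff_dvd.mp h1
  have h3 : ((q : ℤ) + 1) ∣ ((q ^ 2 - 1 : ℕ) : ℤ) := by
    rw [Nat.cast_sub (Nat.one_le_pow 2 q (by omega))]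
    push_cast
    exact ⟨(q : ℤ) - 1, by ring⟩
  have h4 := h3.trans h2
  have : (gs (q ^ 2) k : ℤ) - k = -((k : ℤ) - gs (q ^ 2) k) := by ring
  rw [this]
  exact (dvd_neg).mpr h4

theorem dvd_iff_of_int (c A h : ℕ) (H : (c : ℤ) ∣ (A : ℤ) + h ∨ (c : ℤ) ∣ (A : ℤ) - h) (d : ℕ)
    (hd : d ∣ c) : d ∣ A ↔ d ∣ h := by
  have hd' : (d : ℤ) ∣ (c : ℤ) := Int.natCast_dvd_natCast.mpr hd
  rw [← Int.natCast_dvd_natCast (m := d) (n := A), ← Int.natCast_dvd_natCast (m := d) (n := h)]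
  rcases H with H | H
  · have H' := hd'.trans H
    constructor
    · intro hA
      exact (dvd_add_right hA).mp H'
    · intro hh
      exact (dvd_add_left hh).mp H'
  · have H' := hd'.trans H
    constructor
    · intro hA
      have := (dvd_sub_right hA).mp H'
      exact this
    · intro hh
      exact (dvd_sub_left hh).mp H'

theorem core (c h e A M : ℕ) (hc : 0 < c) (hh : 0 < h) (he : 0 < e) (hM : M = e * A)
    (h1 : (c : ℤ) ∣ (M : ℤ) + 2 * h) (h2 : ∀ d : ℕ, d ∣ c → (d ∣ A ↔ d ∣ h)) :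
    e ∣ M / Nat.gcd M c ↔ padicValNat 2 c < padicValNat 2 (2 * h) := by
  have hg : Nat.gcd M c = Nat.gcd (2 * h) c := by
    apply Nat.dvd_antisymm
    · apply Nat.dvd_gcd _ (Nat.gcd_dvd_right _ _)
      have a1 : ((Nat.gcd M c : ℕ) : ℤ) ∣ (M : ℤ) + 2 * h :=
        (Int.natCast_dvd_natCast.mpr (Nat.gcd_dvd_right _ _)).trans h1
      have a2 : ((Nat.gcd M c : ℕ) : ℤ) ∣ (M : ℤ) :=
        Int.natCast_dvd_natCast.mpr (Nat.gcd_dvd_left _ _)
      have a3 := (dvd_add_right a2).mp a1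
      exact_mod_cast a3
    · apply Nat.dvd_gcd _ (Nat.gcd_dvd_right _ _)
      have a1 : ((Nat.gcd (2 * h) c : ℕ) : ℤ) ∣ (M : ℤ) + 2 * h :=
        (Int.natCast_dvd_natCast.mpr (Nat.gcd_dvd_right _ _)).trans h1
      have a2 : ((Nat.gcd (2 * h) c : ℕ) : ℤ) ∣ ((2 * h : ℕ) : ℤ) :=
        Int.natCast_dvd_natCast.mpr (Nat.gcd_dvd_left _ _)
      have a2' : ((Nat.gcd (2 * h) c : ℕ) : ℤ) ∣ 2 * (h : ℤ) := by exact_mod_cast a2
      have a3 := (dvd_add_left a2').mp a1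
      exact_mod_cast a3
  have hgpos : 0 < Nat.gcd (2 * h) c := Nat.gcd_pos_of_pos_right _ hc
  have hdM : Nat.gcd (2 * h) c ∣ e * A := by
    rw [← hM, ← hg]
    exact Nat.gcd_dvd_left _ _
  rw [hg, hM, dvd_div_iff e A _ he hgpos hdM, h2 _ (Nat.gcd_dvd_right _ _)]
  have := gcd_dvd_half_iff (2 * h) c (by omega) (even_two_mul h) hc
  rwa [Nat.mul_div_cancel_left h two_pos] at this

theorem M1_eq (q h : ℕ) (hq : 2 ≤ q) :
    (q ^ (2 * h) - 1) / (q + 1) = (q - 1) * gs (q ^ 2) h :=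
  Nat.div_eq_of_eq_mul_right (by omega) (G_mul q h hq).symm

theorem M1_int (q h : ℕ) (hq : 2 ≤ q) :
    ((q + 1 : ℕ) : ℤ) ∣ (((q ^ (2 * h) - 1) / (q + 1) : ℕ) : ℤ) + 2 * h := by
  rw [M1_eq q h hq]
  obtain ⟨w, hw⟩ := G_int q h hq
  push_cast
  rw [Nat.cast_sub (by omega : 1 ≤ q)]
  push_cast
  refine ⟨((q : ℤ) - 1) * w + h, ?_⟩
  have : (gs (q ^ 2) h : ℤ) = ((q : ℤ) + 1) * w + h := by linarith
  rw [this]
  ring

end ARITH1

open ARITH1 in
open Cfsg.Agent.S2495 (gs) in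
/-- ARITH1: the 2-adic criterion.  `M₁ = (q^(2h) - 1)/(q + 1)`, `e = q^h + (-1)^h`. -/
theorem e_dvd_iff (q h : ℕ) (hq : 3 ≤ q) (hqodd : Odd q) (hh : 2 ≤ h) :
    (if Even h then q ^ h + 1 else q ^ h - 1) ∣
        ((q ^ (2 * h) - 1) / (q + 1)) / Nat.gcd ((q ^ (2 * h) - 1) / (q + 1)) (q + 1) ↔
      padicValNat 2 (q + 1) < padicValNat 2 (2 * h) := by
  have hq2 : 2 ≤ q := by omega
  have hqh : 1 ≤ q ^ h := Nat.one_le_pow h q (by omega)
  have hqh2 : 2 ≤ q ^ h := by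
    calc 2 ≤ q := hq2
      _ = q ^ 1 := (pow_one q).symm
      _ ≤ q ^ h := Nat.pow_le_pow_right (by omega) (by omega)
  have hsq : q ^ (2 * h) - 1 = (q ^ h + 1) * (q ^ h - 1) := by
    rw [mul_comm 2 h, pow_mul]
    exact ARITH34.sq_sub_one (q ^ h) hqh
  by_cases hev : Even h
  · rw [if_pos hev]
    obtain ⟨k, hk⟩ := hev
    have hk2 : h = 2 * k := by omega
    -- A = (q - 1) * gs (q^2) k, (q + 1) * A = q^h - 1
    have hA : (q + 1) * ((q - 1) * gs (q ^ 2) k) = q ^ h - 1 := by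
      rw [G_mul q k hq2, ← hk2]
    apply core (q + 1) h (q ^ h + 1) ((q - 1) * gs (q ^ 2) k) _ (by omega) (by omega) (by omega)
    · apply Nat.div_eq_of_eq_mul_right (by omega)
      rw [hsq, ← hA]
      ring
    · exact M1_int q h hq2
    · apply dvd_iff_of_int
      left
      obtain ⟨w, hw⟩ := G_int q k hq2
      push_cast
      rw [Nat.cast_sub (by omega : 1 ≤ q)]
      push_cast
      refine ⟨((q : ℤ) - 1) * w + k, ?_⟩
      have e1 : (gs (q ^ 2) k : ℤ) = ((q : ℤ) + 1) * w + k := by linarith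
      have e2 : (h : ℤ) = 2 * k := by exact_mod_cast hk2
      rw [e1, e2]
      ring
  · rw [if_neg hev]
    have hodd : Odd h := Nat.not_even_iff_odd.mp hev
    obtain ⟨k, hk⟩ := hodd
    -- A = q * ((q - 1) * gs (q^2) k) + 1, (q + 1) * A = q^h + 1
    have hA : (q + 1) * (q * ((q - 1) * gs (q ^ 2) k) + 1) = q ^ h + 1 := by
      have h1 := G_mul q k hq2
      have h2 : (q + 1) * (q * ((q - 1) * gs (q ^ 2) k) + 1) =
          q * ((q + 1) * ((q - 1) * gs (q ^ 2) k)) + (q + 1) := by ring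
      rw [h2, h1, hk, pow_succ]
      have h3 : 1 ≤ q ^ (2 * k) := Nat.one_le_pow _ q (by omega)
      have h4 : q * (q ^ (2 * k) - 1) = q ^ (2 * k) * q - q := by
        rw [Nat.mul_sub, mul_one, mul_comm]
      rw [h4]
      have h5 : q ≤ q ^ (2 * k) * q := Nat.le_mul_of_pos_left q (by omega)
      omega
    apply core (q + 1) h (q ^ h - 1) (q * ((q - 1) * gs (q ^ 2) k) + 1) _ (by omega) (by omega)
      (by omega)
    · apply Nat.div_eq_of_eq_mul_right (by omega)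
      rw [hsq, ← hA]
      ring
    · exact M1_int q h hq2
    · apply dvd_iff_of_int
      right
      obtain ⟨w, hw⟩ := G_int q k hq2
      push_cast
      rw [Nat.cast_sub (by omega : 1 ≤ q)]
      push_cast
      refine ⟨(q : ℤ) * ((q : ℤ) - 1) * w + k * ((q : ℤ) - 2), ?_⟩
      have e1 : (gs (q ^ 2) k : ℤ) = ((q : ℤ) + 1) * w + k := by linarith
      have e2 : (h : ℤ) = 2 * k + 1 := by exact_mod_cast hk
      rw [e1, e2]
      ring

end Cfsg.Agent.S2496P
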