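import Mathlib
import Cfsg.Agent.Helper17.Zsigmondy
import Cfsg.Agent.Helper3.S2496ARITH34

/-! S2496 piece ARITH2 (driver helper13): the Zsigmondy prime of `q^(2h) - 1` (`h` even) resp.
`q^h - 1` (`h` odd). -/

set_option autoImplicit false

namespace Cfsg.Agent.S2496P

namespace ARITH2

open Cfsg.Agent.Helper17.Zsig (zsigmondy cast_pow_eq_one_iff)

theorem dvd_sub_iff {q : ℕ} (hq : 0 < q) (r k : ℕ) :
    r ∣ q ^ k - 1 ↔ orderOf ((q : ℕ) : ZMod r) ∣ k := by
  rw [← cast_pow_eq_one_iff hq k r, orderOf_dvd_iff_pow_eq_one]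

theorem of_dvd_add {q r : ℕ} (hr : r.Prime) (hr2 : r ≠ 2) (k : ℕ) (h : r ∣ q ^ k + 1) :
    orderOf ((q : ℕ) : ZMod r) ∣ 2 * k ∧ ¬ orderOf ((q : ℕ) : ZMod r) ∣ k := by
  have : Fact r.Prime := ⟨hr⟩
  have h1 : ((q : ZMod r)) ^ k = -1 := by
    have h0 : ((q ^ k + 1 : ℕ) : ZMod r) = 0 := (ZMod.natCast_eq_zero_iff _ _).mpr h
    push_cast at h0
    exact eq_neg_of_add_eq_zero_left h0
  constructor
  · rw [orderOf_dvd_iff_pow_eq_one, mul_comm, pow_mul, h1]
    norm_num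
  · rw [orderOf_dvd_iff_pow_eq_one, h1]
    intro h2
    have h3 : ((2 : ℕ) : ZMod r) = 0 := by
      push_cast
      linear_combination (-1 : ZMod r) * h2
    have h4 := (ZMod.natCast_eq_zero_iff 2 r).mp h3
    exact hr2 ((Nat.prime_dvd_prime_iff_eq hr Nat.prime_two).mp h4)

theorem tail (q h r : ℕ) (hq : 3 ≤ q) (hqodd : Odd q) (hh : 2 ≤ h) (hrp : r.Prime)
    (ho : orderOf ((q : ℕ) : ZMod r) = if Even h then 2 * h else h) :
    r ∣ (if Even h then q ^ h + 1 else q ^ h - 1) ∧ ¬ r ∣ q ∧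
      orderOf ((q ^ 2 : ℕ) : ZMod r) = h ∧ (∀ k, Odd k → ¬ r ∣ q ^ k + 1) ∧
      (∀ i, 1 ≤ i → i < 2 * h → ¬ r ∣ (if Even i then q ^ i - 1 else q ^ i + 1)) := by
  have : Fact r.Prime := ⟨hrp⟩
  have hq0 : 0 < q := by omega
  have ho2 : 2 ≤ orderOf ((q : ℕ) : ZMod r) := by
    rw [ho]
    split_ifs <;> omega
  -- r ≠ 2
  have hr2 : r ≠ 2 := by
    rintro rfl
    have h1 : 2 ∣ q ^ 1 - 1 := by
      obtain ⟨j, hj⟩ := hqodd
      rw [pow_one, hj]
      exact ⟨j, by omega⟩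
    have h2 := (dvd_sub_iff hq0 2 1).mp h1
    have := Nat.le_of_dvd one_pos h2
    omega
  -- ¬ r ∣ q
  have hrq : ¬ r ∣ q := by
    intro hd
    have h0 : ((q : ℕ) : ZMod r) = 0 := (ZMod.natCast_eq_zero_iff _ _).mpr hd
    have h1 := pow_orderOf_eq_one ((q : ℕ) : ZMod r)
    have hne : orderOf ((q : ℕ) : ZMod r) ≠ 0 := by omega
    generalize orderOf ((q : ℕ) : ZMod r) = o at h1 hne
    rw [h0, zero_pow hne] at h1
    exact zero_ne_one h1
  have hoddk : ∀ k, Odd k → ¬ r ∣ q ^ k + 1 := by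
    intro k hk hd
    obtain ⟨h1, h2⟩ := of_dvd_add hrp hr2 k hd
    rw [ho] at h1 h2
    by_cases hev : Even h
    · rw [if_pos hev] at h1 h2
      have h3 : h ∣ k := Nat.dvd_of_mul_dvd_mul_left two_pos h1
      have h4 : 2 ∣ k := (even_iff_two_dvd.mp hev).trans h3
      exact (Nat.not_even_iff_odd.mpr hk) (even_iff_two_dvd.mpr h4)
    · rw [if_neg hev] at h1 h2
      have hodd : Odd h := Nat.not_even_iff_odd.mp hev
      have hcop : Nat.Coprime h 2 := Nat.coprime_two_right.mpr hodd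
      exact h2 (hcop.dvd_of_dvd_mul_left h1)
  refine ⟨?_, hrq, ?_, hoddk, ?_⟩
  · by_cases hev : Even h
    · rw [if_pos hev]
      rw [if_pos hev] at ho
      have hqh : 1 ≤ q ^ h := Nat.one_le_pow _ _ hq0
      have h1 : r ∣ q ^ (2 * h) - 1 := (dvd_sub_iff hq0 r (2 * h)).mpr (by rw [ho])
      have h2 : q ^ (2 * h) - 1 = (q ^ h + 1) * (q ^ h - 1) := by
        rw [mul_comm 2 h, pow_mul]
        exact ARITH34.sq_sub_one (q ^ h) hqh
      rw [h2] at h1
      rcases (Nat.Prime.dvd_mul hrp).mp h1 with h3 | h3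
      · exact h3
      · exfalso
        have h4 := (dvd_sub_iff hq0 r h).mp h3
        rw [ho] at h4
        have := Nat.le_of_dvd (by omega) h4
        omega
    · rw [if_neg hev]
      rw [if_neg hev] at ho
      exact (dvd_sub_iff hq0 r h).mpr (by rw [ho])
  · rw [Nat.cast_pow, orderOf_pow' _ (by norm_num : (2 : ℕ) ≠ 0), ho]
    by_cases hev : Even h
    · rw [if_pos hev, Nat.gcd_eq_right (Dvd.intro h rfl), Nat.mul_div_cancel_left h two_pos]
    · rw [if_neg hev]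
      have hodd : Odd h := Nat.not_even_iff_odd.mp hev
      have hcop : Nat.Coprime h 2 := Nat.coprime_two_right.mpr hodd
      rw [hcop, Nat.div_one]
  · intro i hi1 hi2
    by_cases hiev : Even i
    · rw [if_pos hiev]
      intro hd
      have h1 := (dvd_sub_iff hq0 r i).mp hd
      rw [ho] at h1
      by_cases hev : Even h
      · rw [if_pos hev] at h1
        have := Nat.le_of_dvd (by omega) h1
        omega
      · rw [if_neg hev] at h1
        obtain ⟨m, hm⟩ := h1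
        have hm1 : m = 1 := by
          rcases Nat.lt_or_ge m 2 with h2 | h2
          · rcases Nat.eq_zero_or_pos m with h3 | h3
            · rw [h3, mul_zero] at hm
              omega
            · omega
          · exfalso
            have : h * 2 ≤ h * m := Nat.mul_le_mul_left h h2
            omega
        rw [hm1, mul_one] at hm
        rw [hm] at hiev
        exact hev hiev
    · rw [if_neg hiev]
      exact hoddk i (Nat.not_even_iff_odd.mp hiev)

end ARITH2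

open ARITH2 in
open Cfsg.Agent.Helper17.Zsig (zsigmondy cast_pow_eq_one_iff) in
/-- ARITH2: the Zsigmondy prime `r` of `q^(2h) - 1` (`h` even) resp. `q^h - 1` (`h` odd) -/
theorem exists_zsig_prime (q h : ℕ) (hq : 3 ≤ q) (hqodd : Odd q) (hh : 2 ≤ h) :
    ∃ r : ℕ, r.Prime ∧ r ∣ (if Even h then q ^ h + 1 else q ^ h - 1) ∧ ¬ r ∣ q ∧
      orderOf ((q ^ 2 : ℕ) : ZMod r) = h ∧ (∀ k, Odd k → ¬ r ∣ q ^ k + 1) ∧
      (∀ i, 1 ≤ i → i < 2 * h → ¬ r ∣ (if Even i then q ^ i - 1 else q ^ i + 1)) := by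
  have key : ∀ N : ℕ, 3 ≤ N → ∃ r : ℕ, r.Prime ∧ orderOf ((q : ℕ) : ZMod r) = N := by
    intro N hN
    obtain ⟨r, hrp, hrdvd, hrmin⟩ := zsigmondy (a := q) (n := N)
      (by omega) (by omega) (by omega) (by omega)
    refine ⟨r, hrp, ?_⟩
    rw [orderOf_eq_iff (by omega)]
    refine ⟨(cast_pow_eq_one_iff (by omega) N r).2 hrdvd, ?_⟩
    intro m hm hm0 h1
    exact hrmin m hm0 hm ((cast_pow_eq_one_iff (by omega) m r).1 h1)
  by_cases hev : Even h
  · obtain ⟨r, hrp, ho⟩ := key (2 * h) (by omega)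
    exact ⟨r, hrp, tail q h r hq hqodd hh hrp (by rw [if_pos hev]; exact ho)⟩
  · have h3 : 3 ≤ h := by
      rcases Nat.lt_or_ge h 3 with h4 | h4
      · exfalso
        have : h = 2 := by omega
        exact hev ⟨1, by omega⟩
      · exact h4
    obtain ⟨r, hrp, ho⟩ := key h h3
    exact ⟨r, hrp, tail q h r hq hqodd hh hrp (by rw [if_neg hev]; exact ho)⟩

end Cfsg.Agent.S2496P
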