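import Mathlib

/-!
# S0999, piece K: the single-degree arithmetic
-/

set_option autoImplicit false

namespace Cfsg.Agent.Helper3.S0999K

/-- common set-up: the cofactor `d'` of a degree `d ≥ p` prime to `p` -/
theorem k_setup {p f c n d : ℕ} (hp : p.Prime) (hf : 1 ≤ f) (hc : 1 ≤ c) (hn : 1 ≤ n)
    (hsmall : c * f * (1 + n * p) < p ^ 2) (hd : d ∣ p * c * f * (1 + n * p))
    (hcop : ¬ p ∣ d) (hbig : p ≤ d) :
    ∃ d', d * d' = c * f * (1 + n * p) ∧ 1 ≤ d' ∧ d' < p ∧ c * f < p ∧ c * f * n < p := by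
  have hp2 := hp.two_le
  have hcop' : Nat.Coprime d p := ((Nat.Prime.coprime_iff_not_dvd hp).2 hcop).symm
  have hd' : d ∣ c * f * (1 + n * p) * p := by
    have e : p * c * f * (1 + n * p) = c * f * (1 + n * p) * p := by ring
    rwa [e] at hd
  have hdM : d ∣ c * f * (1 + n * p) := hcop'.dvd_of_dvd_mul_right hd'
  obtain ⟨d', hd'⟩ := hdM
  have hcf : 1 ≤ c * f := Nat.mul_pos hc hf
  have hM : 1 ≤ c * f * (1 + n * p) := Nat.mul_pos hcf (by omega)
  have hd'1 : 1 ≤ d' := by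
    rcases Nat.eq_zero_or_pos d' with h | h
    · rw [h, mul_zero] at hd'; omega
    · exact h
  have hd'p : d' < p := by
    by_contra h
    push Not at h
    have : p * p ≤ d * d' := Nat.mul_le_mul hbig h
    rw [← hd'] at this
    nlinarith
  have h1 : c * f * p < p * p := by
    have h2 : c * f * p < c * f * (1 + n * p) := by
      apply Nat.mul_lt_mul_of_pos_left _ hcf
      nlinarith
    nlinarith
  have hcfp : c * f < p := by
    by_contra h
    push Not at h
    have : p * p ≤ c * f * p := Nat.mul_le_mul_right p h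
    omega
  have h3 : c * f * n * p < p * p := by
    have h2 : c * f * n * p < c * f * (1 + n * p) := by nlinarith
    nlinarith
  have hcfn : c * f * n < p := by
    by_contra h
    push Not at h
    have : p * p ≤ c * f * n * p := Nat.mul_le_mul_right p h
    omega
  exact ⟨d', hd'.symm, hd'1, hd'p, hcfp, hcfn⟩

theorem k_eq_of_dvd_sub {p : ℕ} {a b : ℤ} (h : (p : ℤ) ∣ a - b) (ha0 : 0 ≤ a) (hap : a < p)
    (hb0 : 0 ≤ b) (hbp : b < p) : a = b := by
  have : a - b = 0 := by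
    apply Int.eq_zero_of_abs_lt_dvd h
    rw [abs_lt]
    constructor <;> linarith
  linarith

theorem k_not_dvd_f {p f : ℕ} (hp : p.Prime) (hf : 1 ≤ f) (hfd : f ∣ p - 1) : ¬ p ∣ f := by
  intro h
  have hp2 := hp.two_le
  have h1 : f ≤ p - 1 := Nat.le_of_dvd (by omega) hfd
  have h2 : p ≤ f := Nat.le_of_dvd hf h
  omega

end Cfsg.Agent.Helper3.S0999K

namespace Cfsg.Agent.S0999P

open Cfsg.Agent.Helper3.S0999K

theorem arith_K1' {p f c n d : ℕ} (hp : p.Prime) (hf : 1 ≤ f) (hc : 1 ≤ c) (hn : 1 ≤ n)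
    (hsmall : c * f * (1 + n * p) < p ^ 2) (hd : d ∣ p * c * f * (1 + n * p))
    (hmod : (d : ℤ) ≡ 1 [ZMOD p]) (hbig : p ≤ d) : d = 1 + n * p := by
  have hp2 := hp.two_le
  have hmod' : (p : ℤ) ∣ 1 - (d : ℤ) := Int.modEq_iff_dvd.1 hmod
  have hcop : ¬ p ∣ d := by
    intro h
    have h1 : (p : ℤ) ∣ (d : ℤ) := by exact_mod_cast h
    have h2 : (p : ℤ) ∣ 1 := by
      have := dvd_add hmod' h1
      simpa using this
    have h3 : p ∣ 1 := by exact_mod_cast h2
    have := Nat.le_of_dvd one_pos h3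
    omega
  obtain ⟨d', hdd, hd1, hdp, hcfp, hcfn⟩ := k_setup hp hf hc hn hsmall hd hcop hbig
  have hcf : 1 ≤ c * f := Nat.mul_pos hc hf
  -- d' ≡ c f
  have hZ : (d : ℤ) * d' = c * f * (1 + n * p) := by exact_mod_cast hdd
  have hdvd : (p : ℤ) ∣ (d' : ℤ) - (c * f : ℕ) := by
    obtain ⟨k, hk⟩ := hmod'
    refine ⟨k * d' + c * f * n, ?_⟩
    push_cast
    have : (d : ℤ) = 1 - p * k := by linarith
    rw [this] at hZ
    linarith
  have heq : (d' : ℤ) = ((c * f : ℕ) : ℤ) :=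
    k_eq_of_dvd_sub hdvd (by positivity) (by exact_mod_cast hdp) (by positivity)
      (by exact_mod_cast hcfp)
  have heq' : d' = c * f := by exact_mod_cast heq
  rw [heq'] at hdd
  have : d * (c * f) = (1 + n * p) * (c * f) := by rw [hdd]; ring
  exact Nat.eq_of_mul_eq_mul_right hcf this

theorem arith_K2' {p f c n d : ℕ} (hp : p.Prime) (hf : 1 ≤ f) (hfd : f ∣ p - 1) (hc : 1 ≤ c)
    (hn : 1 ≤ n) (hsmall : c * f * (1 + n * p) < p ^ 2) (hd : d ∣ p * c * f * (1 + n * p))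
    (hmod : (d : ℤ) ≡ (f : ℤ) [ZMOD p]) (hbig : p ≤ d) : d = f * (1 + n * p) := by
  have hp2 := hp.two_le
  have hpf := k_not_dvd_f hp hf hfd
  have hmod' : (p : ℤ) ∣ (f : ℤ) - (d : ℤ) := Int.modEq_iff_dvd.1 hmod
  have hcop : ¬ p ∣ d := by
    intro h
    have h1 : (p : ℤ) ∣ (d : ℤ) := by exact_mod_cast h
    have h2 : (p : ℤ) ∣ (f : ℤ) := by
      have := dvd_add hmod' h1
      simpa using this
    exact hpf (by exact_mod_cast h2)
  obtain ⟨d', hdd, hd1, hdp, hcfp, hcfn⟩ := k_setup hp hf hc hn hsmall hd hcop hbig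
  have hZ : (d : ℤ) * d' = c * f * (1 + n * p) := by exact_mod_cast hdd
  have hdvd : (p : ℤ) ∣ (f : ℤ) * ((d' : ℤ) - c) := by
    obtain ⟨k, hk⟩ := hmod'
    refine ⟨k * d' + c * f * n, ?_⟩
    have : (d : ℤ) = f - p * k := by linarith
    rw [this] at hZ
    linarith
  have hpZ : Prime (p : ℤ) := Nat.prime_iff_prime_int.1 hp
  have hdvd2 : (p : ℤ) ∣ (d' : ℤ) - c := by
    rcases hpZ.dvd_or_dvd hdvd with h | h
    · exact absurd (by exact_mod_cast h) hpf
    · exact h
  have hcp : c < p := by nlinarith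
  have heq : (d' : ℤ) = (c : ℤ) :=
    k_eq_of_dvd_sub hdvd2 (by positivity) (by exact_mod_cast hdp) (by positivity)
      (by exact_mod_cast hcp)
  have heq' : d' = c := by exact_mod_cast heq
  rw [heq'] at hdd
  have : d * c = f * (1 + n * p) * c := by rw [hdd]; ring
  exact Nat.eq_of_mul_eq_mul_right hc this

set_option maxHeartbeats 800000 in
theorem arith_K3' {p f c n d : ℕ} (hp : p.Prime) (hf : 2 ≤ f) (hfd : f ∣ p - 1) (hc : 2 ≤ c)
    (hn : 1 ≤ n) (hsmall : c * f * (1 + n * p) < p ^ 2) (hd : d ∣ p * c * f * (1 + n * p))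
    (hmod : (d : ℤ) ≡ -(f : ℤ) [ZMOD p]) (hbig : p ≤ d) :
    f = 2 ∧ n = 1 ∧ 2 * c = p - 1 ∧ d = 2 * p - 2 := by
  have hp2 := hp.two_le
  have hf1 : 1 ≤ f := by omega
  have hc1 : 1 ≤ c := by omega
  have hpf := k_not_dvd_f hp hf1 hfd
  have hmod' : (p : ℤ) ∣ -(f : ℤ) - (d : ℤ) := Int.modEq_iff_dvd.1 hmod
  have hcop : ¬ p ∣ d := by
    intro h
    have h1 : (p : ℤ) ∣ (d : ℤ) := by exact_mod_cast h
    have h2 : (p : ℤ) ∣ -(f : ℤ) := by
      have := dvd_add hmod' h1
      simpa using this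
    rw [dvd_neg] at h2
    exact hpf (by exact_mod_cast h2)
  obtain ⟨d', hdd, hd1, hdp, hcfp, hcfn⟩ := k_setup hp hf1 hc1 hn hsmall hd hcop hbig
  have hZ : (d : ℤ) * d' = c * f * (1 + n * p) := by exact_mod_cast hdd
  obtain ⟨k, hk⟩ := hmod'
  have hdk : (d : ℤ) = -f - p * k := by linarith
  have hdvd : (p : ℤ) ∣ (f : ℤ) * ((d' : ℤ) + c) := by
    refine ⟨-(k * d') - c * f * n, ?_⟩
    rw [hdk] at hZ
    linarith
  have hpZ : Prime (p : ℤ) := Nat.prime_iff_prime_int.1 hp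
  have hdvd2 : (p : ℤ) ∣ (d' : ℤ) + c := by
    rcases hpZ.dvd_or_dvd hdvd with h | h
    · exact absurd (by exact_mod_cast h) hpf
    · exact h
  have hcp : c < p := by nlinarith
  -- d' + c = p
  have hsum : d' + c = p := by
    have h1 : p ∣ d' + c := by exact_mod_cast hdvd2
    obtain ⟨m, hm⟩ := h1
    have hm1 : m = 1 := by
      have h2 : 0 < m := by
        rcases Nat.eq_zero_or_pos m with h | h
        · rw [h, mul_zero] at hm; omega
        · exact h
      have h3 : m < 2 := by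
        by_contra h
        push Not at h
        have : p * 2 ≤ p * m := Nat.mul_le_mul_left p h
        omega
      omega
    rw [hm1, mul_one] at hm
    exact hm
  -- d + f = u p with u ≥ 2
  set u : ℤ := -k with hu
  have hdu : (d : ℤ) = u * p - f := by rw [hu, hdk]; ring
  have hu2 : 2 ≤ u := by
    by_contra h
    push Not at h
    have h1 : u ≤ 1 := by omega
    have h2 : (p : ℤ) ≤ d := by exact_mod_cast hbig
    have h3 : (0 : ℤ) < p := by exact_mod_cast hp.pos
    have h4 : (2 : ℤ) ≤ f := by exact_mod_cast hf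
    have h5 : (u - 1) * (p : ℤ) ≤ 0 :=
      mul_nonpos_of_nonpos_of_nonneg (by linarith) (by linarith)
    rw [hdu] at h2
    linarith
  have hd'Z : (d' : ℤ) = p - c := by
    have : ((d' + c : ℕ) : ℤ) = p := by exact_mod_cast hsum
    push_cast at this
    linarith
  -- the key identity u (p - c) = f + c f n
  have hkey : u * ((p : ℤ) - c) = f + c * f * n := by
    have h3 : (0 : ℤ) < p := by exact_mod_cast hp.pos
    have h5 : (p : ℤ) * (u * ((p : ℤ) - c) - (f + c * f * n)) = 0 := by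
      rw [hdu, hd'Z] at hZ
      linarith
    rcases mul_eq_zero.1 h5 with h | h
    · omega
    · linarith
  have hpZ0 : (0 : ℤ) < p := by exact_mod_cast hp.pos
  have hcfnZ : (c : ℤ) * f * n ≤ p - 1 := by
    have : c * f * n + 1 ≤ p := hcfn
    have h : ((c * f * n + 1 : ℕ) : ℤ) ≤ p := by exact_mod_cast this
    push_cast at h
    linarith
  have hcZ : (2 : ℤ) ≤ c := by exact_mod_cast hc
  have hfZ : (2 : ℤ) ≤ f := by exact_mod_cast hf
  have hnZ : (1 : ℤ) ≤ n := by exact_mod_cast hn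
  have hpc : (1 : ℤ) ≤ (p : ℤ) - c := by
    rw [← hd'Z]; exact_mod_cast hd1
  have h6 : 2 * ((p : ℤ) - c) ≤ f + c * f * n := by
    rw [← hkey]
    have h7 : 0 ≤ (u - 2) * ((p : ℤ) - c) := mul_nonneg (by linarith) (by linarith)
    linarith
  have hcf_le : (c : ℤ) * f ≤ c * f * n := by
    have h7 : 0 ≤ (c : ℤ) * f * (n - 1) :=
      mul_nonneg (mul_nonneg (by linarith) (by linarith)) (by linarith)
    linarith
  have hf2 : (f : ℤ) = 2 := by
    by_contra h
    have h7 : (3 : ℤ) ≤ f := by omega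
    have h8 : 0 ≤ ((c : ℤ) - 2) * (f - 3) := mul_nonneg (by linarith) (by linarith)
    linarith
  have hn1 : (n : ℤ) = 1 := by
    by_contra h
    have h7 : (2 : ℤ) ≤ n := by omega
    rw [hf2] at h6 hcfnZ
    have h8 : 0 ≤ (c : ℤ) * (n - 2) := mul_nonneg (by linarith) (by linarith)
    linarith
  have h2c : 2 * (c : ℤ) = p - 1 := by
    rw [hf2, hn1] at h6 hcfnZ
    linarith
  have hu_eq : u = 2 := by
    rw [hf2, hn1] at hkey
    have h8 : u * ((p : ℤ) - c) = 2 * ((p : ℤ) - c) := by rw [hkey]; linarith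
    have h9 : ((p : ℤ) - c) ≠ 0 := by omega
    exact mul_right_cancel₀ h9 h8
  have hdfin : (d : ℤ) = 2 * p - 2 := by rw [hdu, hu_eq, hf2]
  refine ⟨by exact_mod_cast hf2, by exact_mod_cast hn1, ?_, ?_⟩
  · have : (2 * c : ℤ) = ((p - 1 : ℕ) : ℤ) := by
      rw [Nat.cast_sub (by omega)]; push_cast; linarith
    exact_mod_cast this
  · have : (d : ℤ) = ((2 * p - 2 : ℕ) : ℤ) := by
      rw [Nat.cast_sub (by omega)]; push_cast; linarith
    exact_mod_cast this

end Cfsg.Agent.S0999P
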