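import Mathlib
import Cfsg.Agent.Helper3.S0999K

/-!
# S0999, piece AM: the degree arithmetic in the principal block
-/

set_option autoImplicit false

namespace Cfsg.Agent.S0999P

set_option maxHeartbeats 800000 in
/-- AM: the degree arithmetic (assembly of K1', K2', K3' + the relation). -/
theorem arith_core {ι : Type*} {p f c n : ℕ} (hp : p.Prime) (hf2 : 2 ≤ f) (hfd : f ∣ p - 1)
    (hc : 2 ≤ c) (hn : 1 ≤ n) (hsmall : c * f * (1 + n * p) < p ^ 2)
    (X Y : Finset ι) (deg : ι → ℕ) (δ : ι → ℤ) (ε : ℤ) (o : ι)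
    (hε : ε = 1 ∨ ε = -1) (hX : X.card = f) (hY : Y.Nonempty)
    (ho : o ∈ X) (hoY : o ∉ Y) (hδo : δ o = 1) (hdo : deg o = 1)
    (hδ : ∀ i ∈ X, δ i = 1 ∨ δ i = -1)
    (hdX : ∀ i ∈ X, (deg i : ℤ) ≡ δ i [ZMOD p])
    (hdY : ∀ j ∈ Y, (deg j : ℤ) ≡ ε * (f : ℤ) [ZMOD p])
    (hrel : ∀ j ∈ Y, ∑ i ∈ X, δ i * (deg i : ℤ) = ε * (deg j : ℤ))
    (hdvd : ∀ i, i ∈ X ∨ i ∈ Y → deg i ∣ p * c * f * (1 + n * p))
    (hbig : ∀ i, i ∈ X ∨ i ∈ Y → i ≠ o → p ≤ deg i) : False := by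
  classical
  have hp2 := hp.two_le
  have hf1 : 1 ≤ f := by omega
  have hc1 : 1 ≤ c := by omega
  obtain ⟨j, hj⟩ := hY
  have hjo : j ≠ o := fun h => hoY (h ▸ hj)
  have hpj : p ≤ deg j := hbig j (Or.inr hj) hjo
  have hsplit : ∑ i ∈ X, δ i * (deg i : ℤ) = 1 + ∑ i ∈ X.erase o, δ i * (deg i : ℤ) := by
    rw [← Finset.add_sum_erase X _ ho, hδo, hdo]
    norm_num
  have hcardE : (X.erase o).card = f - 1 := by
    rw [Finset.card_erase_of_mem ho, hX]
  have hr := hrel j hj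
  rw [hsplit] at hr
  rcases hε with rfl | rfl
  · -- ε = 1
    have hmodj : (deg j : ℤ) ≡ (f : ℤ) [ZMOD p] := by
      have := hdY j hj
      rwa [one_mul] at this
    have hdj : deg j = f * (1 + n * p) :=
      arith_K2' hp hf1 hfd hc1 hn hsmall (hdvd j (Or.inr hj)) hmodj hpj
    have hterm : ∀ i ∈ X.erase o, δ i * (deg i : ℤ) ≤ ((1 + n * p : ℕ) : ℤ) := by
      intro i hi
      have hiX : i ∈ X := Finset.mem_of_mem_erase hi
      have hio : i ≠ o := Finset.ne_of_mem_erase hi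
      rcases hδ i hiX with h | h
      · have hmodi : (deg i : ℤ) ≡ 1 [ZMOD p] := by
          have := hdX i hiX
          rwa [h] at this
        have hdi : deg i = 1 + n * p :=
          arith_K1' hp hf1 hc1 hn hsmall (hdvd i (Or.inl hiX)) hmodi (hbig i (Or.inl hiX) hio)
        rw [h, one_mul, hdi]
      · rw [h]
        have h1 : (0 : ℤ) ≤ (deg i : ℤ) := by positivity
        have h2 : (0 : ℤ) ≤ ((1 + n * p : ℕ) : ℤ) := by positivity
        linarith
    have hsum := Finset.sum_le_card_nsmul (X.erase o) _ _ hterm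
    rw [hcardE, nsmul_eq_mul] at hsum
    rw [one_mul, hdj] at hr
    have hfZ : ((f - 1 : ℕ) : ℤ) = (f : ℤ) - 1 := by
      rw [Nat.cast_sub hf1]; simp
    rw [hfZ] at hsum
    push_cast at hsum hr
    have hnp : (1 : ℤ) ≤ (n : ℤ) * p := by
      have : 1 ≤ n * p := Nat.mul_pos hn hp.pos
      exact_mod_cast this
    nlinarith
  · -- ε = -1
    have hmodj : (deg j : ℤ) ≡ -(f : ℤ) [ZMOD p] := by
      have := hdY j hj
      rwa [neg_one_mul] at this
    obtain ⟨hf, hn1, h2c, hdj⟩ :=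
      arith_K3' hp hf2 hfd hc hn hsmall (hdvd j (Or.inr hj)) hmodj hpj
    rw [hf] at hcardE
    obtain ⟨i₂, hi₂⟩ := Finset.card_eq_one.1 hcardE
    have hi₂E : i₂ ∈ X.erase o := by rw [hi₂]; exact Finset.mem_singleton_self _
    have hiX : i₂ ∈ X := Finset.mem_of_mem_erase hi₂E
    have hio : i₂ ≠ o := Finset.ne_of_mem_erase hi₂E
    rw [hi₂, Finset.sum_singleton, hdj] at hr
    have hdjZ : ((2 * p - 2 : ℕ) : ℤ) = 2 * (p : ℤ) - 2 := by
      rw [Nat.cast_sub (by omega)]; push_cast; ring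
    rw [hdjZ] at hr
    have hpZ : (2 : ℤ) ≤ p := by exact_mod_cast hp2
    have hdeg0 : (0 : ℤ) ≤ (deg i₂ : ℤ) := by positivity
    rcases hδ i₂ hiX with h | h
    · rw [h] at hr
      linarith
    · rw [h] at hr
      have hdi : (deg i₂ : ℤ) = 2 * p - 1 := by linarith
      have hdv := hdvd i₂ (Or.inl hiX)
      rw [hf, hn1] at hdv
      have hdvZ : (deg i₂ : ℤ) ∣ ((p * c * 2 * (1 + 1 * p) : ℕ) : ℤ) := by exact_mod_cast hdv
      have h2cZ : 2 * (c : ℤ) = p - 1 := by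
        have : ((2 * c : ℕ) : ℤ) = ((p - 1 : ℕ) : ℤ) := by exact_mod_cast h2c
        rw [Nat.cast_sub (by omega)] at this
        push_cast at this
        linarith
      obtain ⟨k, hk⟩ := hdvZ
      push_cast at hk
      rw [hdi] at hk
      have h3 : (2 * (p : ℤ) - 1) ∣ 3 := by
        refine ⟨2 * p * (2 * p + 1) - 3 - 8 * k, ?_⟩
        have hN : (p : ℤ) * c * 2 * (1 + 1 * p) = p * (p - 1) * (p + 1) := by
          have : (p : ℤ) * c * 2 * (1 + 1 * p) = p * (2 * c) * (p + 1) := by ring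
          rw [this, h2cZ]
        rw [hN] at hk
        have e : (2 * (p : ℤ) - 1) * (2 * p * (2 * p + 1) - 3 - 8 * k) =
            (2 * (p : ℤ) - 1) * (2 * p * (2 * p + 1) - 3) - 8 * ((2 * (p : ℤ) - 1) * k) := by ring
        rw [e, ← hk]
        ring
      have h4 : 2 * (p : ℤ) - 1 ≤ 3 := Int.le_of_dvd (by norm_num) h3
      have hp_eq : p = 2 := by
        have : (p : ℤ) ≤ 2 := by linarith
        have : p ≤ 2 := by exact_mod_cast this
        omega
      rw [hp_eq, hf] at hfd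
      norm_num at hfd

end Cfsg.Agent.S0999P
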