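import Mathlib
import Cfsg.Prelude.Def_Characters
import Cfsg.Agent.Helper1.W2pDefs
import Cfsg.Agent.Helper1.D1PA
import Cfsg.Agent.Helper24.Expansion
import Cfsg.Agent.Helper24.Product
import Cfsg.Agent.Helper24.RealChar
import Cfsg.Agent.Helper24.Orthogonality
import Cfsg.Agent.Helper24.Span
import Cfsg.Agent.Helper8.CharComp

set_option autoImplicit false

/-!
# S0720 piece BR (part a): auxiliary lemmas for Brauer's inequality
-/

namespace Cfsg.Agent.Helper3.W2p

open Cfsg Cfsg.Agent.Helper24 Cfsg.Agent.Helper1.W2p MulAction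

universe u v

/-- If `C(P) = P` for a Sylow subgroup of prime order, every `p`-singular element is conjugate to a
non-identity element of `P`. -/
theorem exists_conj_mem_of_singular {H : Type u} [Group H] [Finite H] (p : ℕ) [Fact p.Prime]
    (P : Sylow p H) (hP : Nat.card P = p)
    (hC : Subgroup.centralizer ((P : Subgroup H) : Set H) = (P : Subgroup H))
    (g : H) (hg : p ∣ orderOf g) :
    ∃ h : H, ∃ y ∈ (P : Subgroup H), y ≠ 1 ∧ g = h * y * h⁻¹ := by
  have hp : p.Prime := Fact.out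
  obtain ⟨k, hk⟩ := hg
  have hk0 : k ≠ 0 := by
    intro h0
    rw [h0, mul_zero] at hk
    exact (orderOf_pos g).ne' hk
  have hy0 : orderOf (g ^ k) = p := by
    rw [orderOf_pow_of_dvd hk0 ⟨p, by rw [hk]; ring⟩, hk]
    exact Nat.mul_div_cancel _ (Nat.pos_of_ne_zero hk0)
  have hzp : IsPGroup p (Subgroup.zpowers (g ^ k)) := by
    rw [IsPGroup.iff_card]
    exact ⟨1, by rw [Nat.card_zpowers, hy0, pow_one]⟩
  obtain ⟨Q, hQ⟩ := hzp.exists_le_sylow
  obtain ⟨h, hh⟩ := MulAction.exists_smul_eq H Q P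
  have hy1P : h * g ^ k * h⁻¹ ∈ (P : Subgroup H) := by
    rw [← hh, Sylow.smul_def]
    have h1 : g ^ k ∈ (Q : Subgroup H) := hQ (Subgroup.mem_zpowers _)
    have h2 := Subgroup.smul_mem_pointwise_smul (g ^ k) (MulAut.conj h) (Q : Subgroup H) h1
    rw [MulAut.smul_def, MulAut.conj_apply] at h2
    exact h2
  have hy1 : h * g ^ k * h⁻¹ ≠ 1 := by
    intro h1
    have : orderOf (h * g ^ k * h⁻¹) = p := by
      rw [← MulAut.conj_apply, MulEquiv.orderOf_eq]; exact hy0
    rw [h1, orderOf_one] at this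
    exact hp.one_lt.ne this
  -- g' = h g h⁻¹ commutes with y1
  have hpow : (h * g * h⁻¹) ^ k = h * g ^ k * h⁻¹ := by
    rw [conj_pow]
  have hcomm : (h * g * h⁻¹) ∈ Subgroup.centralizer ({h * g ^ k * h⁻¹} : Set H) := by
    rw [Subgroup.mem_centralizer_singleton_iff, ← hpow]
    exact (pow_mul_comm' _ _).symm
  rw [Cfsg.Agent.Helper1.D1PA.centralizer_singleton_eq P hP hy1P hy1, hC] at hcomm
  have hg'1 : h * g * h⁻¹ ≠ 1 := by
    intro h1
    rw [h1, one_pow] at hpow
    exact hy1 hpow.symm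
  refine ⟨h⁻¹, h * g * h⁻¹, hcomm, hg'1, ?_⟩
  group

/-- Two functions with complementary supports are orthogonal. -/
theorem classInner_eq_zero_of_mul_eq_zero {H : Type u} [Group H] [Fintype H] (F K : H → ℂ)
    (h : ∀ g, F g = 0 ∨ K g = 0) : classInner F K = 0 := by
  unfold classInner
  rw [Finset.sum_eq_zero, mul_zero]
  intro g _
  rcases h g with h1 | h1
  · rw [h1, zero_mul]
  · rw [h1, map_zero, mul_zero]

/-- The sum of a character over a subgroup is a natural multiple of the order of the subgroup. -/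
theorem exists_sum_subgroup_eq {H : Type u} [Group H] [Finite H] (Q : Subgroup H) [Fintype Q]
    (ξ : H → ℂ) (hξ : IsCharacter H ξ) :
    ∃ k : ℕ, ∑ y : Q, ξ (y : H) = (Nat.card Q : ℂ) * k := by
  classical
  haveI : Fintype (IrrCharacter Q) := Fintype.ofFinite _
  have hres : IsCharacter Q (fun y : Q => ξ y) := Cfsg.Agent.Helper8.isCharacter_restrict Q hξ
  obtain ⟨k, hk⟩ := IsCharacter.classInner_nat hres (isCharacter_const_one (G := Q))
  refine ⟨k, ?_⟩
  unfold classInner at hk
  have hQ : (Nat.card Q : ℂ) ≠ 0 := by exact_mod_cast (Nat.card_pos (α := Q)).ne'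
  simp only [map_one, mul_one] at hk
  rw [← hk]
  field_simp

/-- `⟨ψ ψ̄', 1⟩ = ⟨ψ, ψ'⟩`. -/
theorem classInner_mul_star_one {H : Type u} [Group H] [Fintype H] (a b : H → ℂ) :
    classInner (a * fun g => (starRingEnd ℂ) (b g)) (fun _ => (1 : ℂ)) = classInner a b := by
  unfold classInner
  simp only [Pi.mul_apply, map_one, mul_one]

end Cfsg.Agent.Helper3.W2p
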