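import Mathlib
import Cfsg.Prelude.Def_Characters
import Cfsg.Prelude.Def_Blocks
import Cfsg.Agent.Helper24.Abelian
import Cfsg.Agent.Helper24.Linear
import Cfsg.Agent.Helper8.KleinOrder
import Cfsg.Agent.Helper16.BswLoc
import Cfsg.Agent.Helper7.PLocal

set_option autoImplicit false

/-!
# S4501 piece GT: in a group with Klein four Sylow 2-subgroup `P` with `C(P)` a 2-group, an element
`t ∈ P ∖ ⟨J⟩` inverts every odd-order element of `C(J)`.
-/

namespace Cfsg.Agent.S4501P

open Cfsg Cfsg.Agent.Helper24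
open scoped ComplexConjugate

universe u

variable {G : Type u} [Group G] [Finite G]

theorem invert_of_fpf (P : Sylow 2 G) (hP : IsKleinFour (P : Subgroup G)) (J t : G)
    (hJ : J ∈ P) (ht : t ∈ P) (hJ1 : J ≠ 1) (ht1 : t ≠ 1) (htJ : t ≠ J)
    (hCP : ∀ y : G, Odd (orderOf y) → (∀ s ∈ (P : Subgroup G), s * y = y * s) → y = 1)
    (y : G) (hy : Odd (orderOf y)) (hJy : J * y = y * J) : t * y * t⁻¹ = y⁻¹ := by
  have : Fact (Nat.Prime 2) := ⟨Nat.prime_two⟩
  obtain ⟨hidx, -, -⟩ := Cfsg.Agent.Helper8.KleinB.centralizer_npc P hP J hJ hJ1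
  set C : Subgroup G := Subgroup.centralizer ({J} : Set G) with hCdef
  have hmemC : ∀ x : G, x ∈ C ↔ J * x = x * J := by
    intro x
    rw [hCdef, Subgroup.mem_centralizer_iff]
    constructor
    · intro h; exact h J (Set.mem_singleton J)
    · intro h z hz
      rw [Set.mem_singleton_iff] at hz
      subst hz
      exact h
  -- exponent two in P
  have hexp : ∀ s : G, s ∈ (P : Subgroup G) → s * s = 1 := by
    intro s hs
    have h1 : (⟨s, hs⟩ : (P : Subgroup G)) ^ 2 = 1 := by
      have := Monoid.pow_exponent_eq_one (⟨s, hs⟩ : (P : Subgroup G))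
      rwa [IsKleinFour.exponent_two] at this
    have h2 := congrArg Subtype.val h1
    simpa [pow_two] using h2
  have hcommP : ∀ a ∈ (P : Subgroup G), ∀ b ∈ (P : Subgroup G), a * b = b * a := by
    intro a ha b hb
    have h1 := hexp a ha
    have h2 := hexp b hb
    have h3 := hexp (a * b) (mul_mem ha hb)
    have ha' : a⁻¹ = a := inv_eq_of_mul_eq_one_right h1
    have hb' : b⁻¹ = b := inv_eq_of_mul_eq_one_right h2
    have h4 : (a * b)⁻¹ = a * b := inv_eq_of_mul_eq_one_right h3
    rw [mul_inv_rev, ha', hb'] at h4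
    exact h4.symm
  have htC : t ∈ C := (hmemC t).2 (hcommP J hJ t ht)
  have htt : t * t = 1 := hexp t ht
  -- the subgroup K of G
  set K : Subgroup G := (pPrimeCore 2 ↥C).map C.subtype with hKdef
  have hKn : (pPrimeCore 2 ↥C).Normal := Cfsg.pPrimeCore_normal 2 ↥C
  have hyK : y ∈ K := by
    have hyC : y ∈ C := (hmemC y).2 hJy
    refine ⟨⟨y, hyC⟩, ?_, rfl⟩
    by_contra hnot
    have h2 := Cfsg.Agent.Helper8.KleinOrd.dvd_orderOf_of_not_mem (p := 2) ⟨2, hidx⟩
      (⟨y, hyC⟩ : ↥C) hnot
    rw [Subgroup.orderOf_mk] at h2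
    exact (Nat.not_even_iff_odd.2 hy) (even_iff_two_dvd.2 h2)
  have hnorm : ∀ c ∈ K, t * c * t⁻¹ ∈ K := by
    rintro c ⟨c', hc', rfl⟩
    refine ⟨(⟨t, htC⟩ : ↥C) * c' * (⟨t, htC⟩ : ↥C)⁻¹, hKn.conj_mem c' hc' _, ?_⟩
    simp
  have hfpf : ∀ c ∈ K, t * c * t⁻¹ = c → c = 1 := by
    rintro c ⟨c', hc', rfl⟩ hfix
    have hcop := Cfsg.Agent.Helper7.orderOf_coprime_of_mem_pPrimeCore 2 hc'
    have hodd : Odd (orderOf (C.subtype c')) := by
      rw [Subgroup.coe_subtype, Subgroup.orderOf_coe]
      exact Nat.Coprime.odd_of_right hcop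
    apply hCP _ hodd
    -- the centralizer of c in P is everything
    have hcJ : J * (c' : G) = (c' : G) * J := (hmemC _).1 c'.2
    have hct : t * (c' : G) = (c' : G) * t := by
      have h := hfix
      rw [Subgroup.coe_subtype] at h
      rw [mul_inv_eq_iff_eq_mul] at h
      exact h
    intro s hs
    rw [Subgroup.coe_subtype]
    -- P = {1, J, t, J t}
    set D : Subgroup (P : Subgroup G) :=
      (Subgroup.centralizer ({(c' : G)} : Set G)).subgroupOf (P : Subgroup G) with hDdef
    have hmemD : ∀ (s : G) (hs : s ∈ (P : Subgroup G)),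
        (⟨s, hs⟩ : (P : Subgroup G)) ∈ D ↔ s * (c' : G) = (c' : G) * s := by
      intro s hs
      rw [hDdef, Subgroup.mem_subgroupOf, Subgroup.mem_centralizer_iff]
      constructor
      · intro h; exact (h _ (Set.mem_singleton _)).symm
      · intro h z hz
        rw [Set.mem_singleton_iff] at hz
        subst hz
        exact h.symm
    have hD3 : 3 ≤ Nat.card D := by
      classical
      have : Fintype D := Fintype.ofFinite D
      rw [Nat.card_eq_fintype_card]
      have h1 : (⟨1, one_mem _⟩ : (P : Subgroup G)) ∈ D := (hmemD 1 (one_mem _)).2 (by simp)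
      have h2 : (⟨J, hJ⟩ : (P : Subgroup G)) ∈ D := (hmemD J hJ).2 hcJ
      have h3 : (⟨t, ht⟩ : (P : Subgroup G)) ∈ D := (hmemD t ht).2 hct
      let S : Finset D := {⟨⟨1, one_mem _⟩, h1⟩, ⟨⟨J, hJ⟩, h2⟩, ⟨⟨t, ht⟩, h3⟩}
      have hS : S.card = 3 := by
        apply Finset.card_eq_three.2
        refine ⟨_, _, _, ?_, ?_, ?_, rfl⟩
        · intro h; apply hJ1; have := congrArg (fun z : D => ((z : (P : Subgroup G)) : G)) h
          exact this.symm
        · intro h; apply ht1; have := congrArg (fun z : D => ((z : (P : Subgroup G)) : G)) h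
          exact this.symm
        · intro h; apply htJ; have := congrArg (fun z : D => ((z : (P : Subgroup G)) : G)) h
          exact this.symm
      calc 3 = S.card := hS.symm
        _ ≤ Fintype.card D := Finset.card_le_univ S
    have hDdvd : Nat.card D ∣ 4 := by
      have h := Subgroup.card_subgroup_dvd_card D
      have h4 : Nat.card (P : Subgroup G) = 4 := IsKleinFour.card_four
      rwa [h4] at h
    have hD4 : Nat.card D = 4 := by
      have hle : Nat.card D ≤ 4 := Nat.le_of_dvd (by norm_num) hDdvd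
      interval_cases h : Nat.card D
      · omega
      · exact rfl
    have hDtop : D = ⊤ := by
      apply Subgroup.eq_top_of_card_eq
      have h4 : Nat.card (P : Subgroup G) = 4 := IsKleinFour.card_four
      rw [hD4, h4]
    have : (⟨s, hs⟩ : (P : Subgroup G)) ∈ D := by rw [hDtop]; trivial
    exact (hmemD s hs).1 this
  exact (Cfsg.Agent.Helper21.Bsw.Loc.inverts_of_fpf K t htt hnorm hfpf).1 y hyK

end Cfsg.Agent.S4501P
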