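import Mathlib

set_option autoImplicit false
set_option linter.style.haveILetI false
set_option linter.unusedSectionVars false

/-! Groups in which the centralizer of every involution is elementary abelian of order `4` and all
involutions are conjugate: local analysis of the elements inverted by involutions. -/

namespace Cfsg.Agent.Helper3.V4C

open Subgroup

variable {G : Type*} [Group G]

/-- a fixed-point-free involution normalizing a finite subgroup inverts it -/
theorem inverts_of_fpf (A : Subgroup G) [Finite A] {e : G} (he : e * e = 1)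
    (hnorm : ∀ a ∈ A, e * a * e⁻¹ ∈ A) (hfpf : ∀ a ∈ A, e * a = a * e → a = 1) :
    ∀ a ∈ A, e * a * e⁻¹ = a⁻¹ := by
  have heinv : e⁻¹ = e := inv_eq_of_mul_eq_one_left he
  let f : A → A := fun r =>
    ⟨(r : G)⁻¹ * (e * r * e⁻¹), A.mul_mem (A.inv_mem r.2) (hnorm _ r.2)⟩
  have hinj : Function.Injective f := by
    intro r s hrs
    have h1 : (r : G)⁻¹ * (e * r * e⁻¹) = (s : G)⁻¹ * (e * s * e⁻¹) := congrArg Subtype.val hrs
    have h2 : e * ((s : G) * (r : G)⁻¹) = ((s : G) * (r : G)⁻¹) * e := by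
      have h3 : (s : G) * (r : G)⁻¹ = e * s * e⁻¹ * (e * r * e⁻¹)⁻¹ := by
        have : (s : G) * ((r : G)⁻¹ * (e * r * e⁻¹)) = e * s * e⁻¹ := by
          rw [h1]; group
        calc (s : G) * (r : G)⁻¹ = (s : G) * ((r : G)⁻¹ * (e * r * e⁻¹)) * (e * r * e⁻¹)⁻¹ := by
              group
          _ = e * s * e⁻¹ * (e * r * e⁻¹)⁻¹ := by rw [this]
      have h4 : e * s * e⁻¹ * (e * r * e⁻¹)⁻¹ = e * ((s : G) * (r : G)⁻¹) * e⁻¹ := by group
      rw [h4] at h3
      calc e * ((s : G) * (r : G)⁻¹) = e * ((s : G) * (r : G)⁻¹) * e⁻¹ * e := by group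
        _ = ((s : G) * (r : G)⁻¹) * e := by rw [← h3]
    have h5 := hfpf _ (A.mul_mem s.2 (A.inv_mem r.2)) h2
    have h6 : (s : G) = r := mul_inv_eq_one.mp h5
    exact Subtype.ext h6.symm
  have hsurj : Function.Surjective f := Finite.surjective_of_injective hinj
  intro n hn
  obtain ⟨r, hr⟩ := hsurj ⟨n, hn⟩
  have hr' : (r : G)⁻¹ * (e * r * e⁻¹) = n := congrArg Subtype.val hr
  rw [← hr', heinv]
  have e1 : e * ((r : G)⁻¹ * (e * r * e)) * e = e * (r : G)⁻¹ * e * r * (e * e) := by group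
  have e2 : ((r : G)⁻¹ * (e * r * e))⁻¹ = e⁻¹ * (r : G)⁻¹ * e⁻¹ * r := by group
  rw [e1, e2, he, mul_one, heinv]

theorem comm_of_inverts (A : Subgroup G) {e : G} (hinv : ∀ a ∈ A, e * a * e⁻¹ = a⁻¹)
    {a b : G} (ha : a ∈ A) (hb : b ∈ A) : a * b = b * a := by
  have h1 := hinv _ (A.mul_mem ha hb)
  have h2 := hinv _ ha
  have h3 := hinv _ hb
  have h4 : e * (a * b) * e⁻¹ = (e * a * e⁻¹) * (e * b * e⁻¹) := by group
  rw [h4, h2, h3] at h1
  have h5 : a⁻¹ * b⁻¹ = (b * a)⁻¹ := by group
  rw [h5, inv_inj] at h1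
  exact h1.symm

/-- square roots in odd order -/
theorem exists_sq_of_odd {c : G} (hodd : Odd (orderOf c)) : ∃ k : ℕ, (c ^ k) * (c ^ k) = c := by
  obtain ⟨m, hm⟩ := hodd
  refine ⟨m + 1, ?_⟩
  rw [← pow_add]
  have : m + 1 + (m + 1) = orderOf c + 1 := by omega
  rw [this, pow_succ, pow_orderOf_eq_one, one_mul]

theorem eq_one_of_sq_of_odd {c : G} (hodd : Odd (orderOf c)) (h : c * c = 1) : c = 1 := by
  have h2 : orderOf c ∣ 2 := orderOf_dvd_of_pow_eq_one (by rw [pow_two]; exact h)
  have h3 : orderOf c = 1 ∨ orderOf c = 2 := by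
    have := Nat.le_of_dvd (by norm_num) h2
    have h0 : orderOf c ≠ 0 := by
      intro h0; rw [h0] at hodd; exact absurd hodd (by decide)
    interval_cases (orderOf c) <;> simp_all
  rcases h3 with h3 | h3
  · exact orderOf_eq_one_iff.mp h3
  · rw [h3] at hodd; exact absurd hodd (by decide)

theorem orderOf_two_iff {t : G} : orderOf t = 2 ↔ t * t = 1 ∧ t ≠ 1 := by
  haveI : Fact (Nat.Prime 2) := ⟨Nat.prime_two⟩
  constructor
  · intro h
    refine ⟨?_, ?_⟩
    · have := pow_orderOf_eq_one t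
      rwa [h, pow_two] at this
    · intro h1
      rw [h1, orderOf_one] at h
      norm_num at h
  · rintro ⟨h1, h2⟩
    exact orderOf_eq_prime (by rw [pow_two]; exact h1) h2

/-- The hypotheses: every involution has an elementary abelian centralizer of order `4` and all
involutions are conjugate. -/
structure Hyp (G : Type*) [Group G] : Prop where
  card_cent : ∀ t : G, orderOf t = 2 → Nat.card ↥(centralizer ({t} : Set G)) = 4
  sq_cent : ∀ t : G, orderOf t = 2 → ∀ c : G, c * t = t * c → c * c = 1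
  conj : ∀ s t : G, orderOf s = 2 → orderOf t = 2 → IsConj s t

/-- the hypotheses follow from one involution -/
theorem Hyp.of_one {z : G} (hz : orderOf z = 2)
    (h4 : Nat.card ↥(centralizer ({z} : Set G)) = 4)
    (hsq : ∀ c : G, c * z = z * c → c * c = 1)
    (hconj : ∀ s t : G, orderOf s = 2 → orderOf t = 2 → IsConj s t) : Hyp G := by
  have key : ∀ t : G, orderOf t = 2 → ∃ g : G, g * z * g⁻¹ = t := fun t ht =>
    isConj_iff.mp (hconj z t hz ht)
  refine ⟨?_, ?_, hconj⟩
  · intro t ht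
    obtain ⟨g, rfl⟩ := key t ht
    rw [← h4]
    apply Nat.card_congr
    refine
      { toFun := fun c => ⟨g⁻¹ * c.1 * g, ?_⟩
        invFun := fun c => ⟨g * c.1 * g⁻¹, ?_⟩
        left_inv := fun c => by apply Subtype.ext; simp only; group
        right_inv := fun c => by apply Subtype.ext; simp only; group }
    · have h := mem_centralizer_singleton_iff.mp c.2
      rw [mem_centralizer_singleton_iff]
      calc g⁻¹ * c.1 * g * z = g⁻¹ * (c.1 * (g * z * g⁻¹)) * g := by group
        _ = g⁻¹ * ((g * z * g⁻¹) * c.1) * g := by rw [h]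
        _ = z * (g⁻¹ * c.1 * g) := by group
    · have h := mem_centralizer_singleton_iff.mp c.2
      rw [mem_centralizer_singleton_iff]
      calc g * c.1 * g⁻¹ * (g * z * g⁻¹) = g * (c.1 * z) * g⁻¹ := by group
        _ = g * (z * c.1) * g⁻¹ := by rw [h]
        _ = g * z * g⁻¹ * (g * c.1 * g⁻¹) := by group
  · intro t ht c hc
    obtain ⟨g, rfl⟩ := key t ht
    have h1 : (g⁻¹ * c * g) * z = z * (g⁻¹ * c * g) := by
      calc g⁻¹ * c * g * z = g⁻¹ * (c * (g * z * g⁻¹)) * g := by group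
        _ = g⁻¹ * ((g * z * g⁻¹) * c) * g := by rw [hc]
        _ = z * (g⁻¹ * c * g) := by group
    have h2 := hsq _ h1
    calc c * c = g * ((g⁻¹ * c * g) * (g⁻¹ * c * g)) * g⁻¹ := by group
      _ = 1 := by rw [h2]; group

end Cfsg.Agent.Helper3.V4C
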