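import Mathlib
import Cfsg.Agent.Helper3.V4Count1
import Cfsg.Prelude.Def_OddOrderLocal

set_option autoImplicit false
set_option linter.style.haveILetI false
set_option linter.unusedSectionVars false

/-! Local analysis of a real element `x` (inverted by an involution `s`, `x² ≠ 1`). -/

namespace Cfsg.Agent.Helper3.V4C

open Subgroup

variable {G : Type*} [Group G] [Finite G] (h : Hyp G)

section real

variable {x s : G} (hx2 : x * x ≠ 1) (hs : orderOf s = 2) (hsx : s * x * s⁻¹ = x⁻¹)

include h hx2 in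
theorem no_invol_cent {u : G} (hu : orderOf u = 2) (hux : u * x = x * u) : False :=
  hx2 (h.sq_cent u hu x hux.symm)

include h hx2 in
theorem odd_orderOf_cent {c : G} (hc : c * x = x * c) : Odd (orderOf c) := by
  by_contra hodd
  rw [Nat.not_odd_iff_even, even_iff_two_dvd] at hodd
  obtain ⟨k, hk⟩ := hodd
  have hpos : 0 < orderOf c := orderOf_pos c
  have hk0 : k ≠ 0 := by
    rintro rfl
    omega
  have hu : orderOf (c ^ k) = 2 := by
    rw [orderOf_pow_of_dvd hk0 ⟨2, by rw [hk, mul_comm]⟩, hk]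
    exact Nat.mul_div_cancel _ (Nat.pos_of_ne_zero hk0)
  refine no_invol_cent h hx2 hu ?_
  exact (Commute.pow_left (show Commute c x from hc) k).eq

include h hx2 hs hsx in
/-- `s` inverts the centralizer of `x` -/
theorem inverts_cent {c : G} (hc : c * x = x * c) : s * c * s⁻¹ = c⁻¹ := by
  obtain ⟨hss, hs1⟩ := orderOf_two_iff.mp hs
  have hsinv : s⁻¹ = s := inv_eq_of_mul_eq_one_left hss
  refine inverts_of_fpf (centralizer ({x} : Set G)) hss ?_ ?_ c
    (mem_centralizer_singleton_iff.mpr hc)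
  · intro a ha
    rw [mem_centralizer_singleton_iff] at ha ⊢
    have e1 : s * x⁻¹ * s⁻¹ = x := by
      have : s * x⁻¹ * s⁻¹ = (s * x * s⁻¹)⁻¹ := by group
      rw [this, hsx, inv_inv]
    have ha' : a * x⁻¹ = x⁻¹ * a := (Commute.inv_right (show Commute a x from ha)).eq
    calc s * a * s⁻¹ * x = s * a * s⁻¹ * (s * x⁻¹ * s⁻¹) := by rw [e1]
      _ = s * (a * x⁻¹) * s⁻¹ := by group
      _ = s * (x⁻¹ * a) * s⁻¹ := by rw [ha']
      _ = (s * x⁻¹ * s⁻¹) * (s * a * s⁻¹) := by group
      _ = x * (s * a * s⁻¹) := by rw [e1]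
  · intro a ha hsa
    rw [mem_centralizer_singleton_iff] at ha
    have h1 : a * a = 1 := h.sq_cent s hs a hsa.symm
    exact eq_one_of_sq_of_odd (odd_orderOf_cent h hx2 ha) h1

include h hx2 hs hsx in
theorem cent_comm {c d : G} (hc : c * x = x * c) (hd : d * x = x * d) : c * d = d * c :=
  comm_of_inverts (centralizer ({x} : Set G))
    (fun a ha => inverts_cent h hx2 hs hsx (mem_centralizer_singleton_iff.mp ha))
    (mem_centralizer_singleton_iff.mpr hc) (mem_centralizer_singleton_iff.mpr hd)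

include h hx2 in
theorem sq_ne_one_of_cent {y : G} (hy : y * x = x * y) (hy1 : y ≠ 1) : y * y ≠ 1 := fun h1 =>
  hy1 (eq_one_of_sq_of_odd (odd_orderOf_cent h hx2 hy) h1)

include h hx2 hs hsx in
/-- centralizers of nontrivial elements of `C(x)` coincide with `C(x)` -/
theorem cent_eq {y : G} (hy : y * x = x * y) (hy1 : y ≠ 1) :
    centralizer ({y} : Set G) = centralizer ({x} : Set G) := by
  have hy2 := sq_ne_one_of_cent h hx2 hy hy1
  have hsy := inverts_cent h hx2 hs hsx hy
  ext d
  rw [mem_centralizer_singleton_iff, mem_centralizer_singleton_iff]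
  constructor
  · intro hd
    exact cent_comm h hy2 hs hsy hd hy.symm
  · intro hd
    exact cent_comm h hx2 hs hsx hd hy

include hsx in
omit [Finite G] in
theorem mul_comm_of_inverts {s' : G} (hs'x : s' * x * s'⁻¹ = x⁻¹) :
    (s' * s) * x = x * (s' * s) := by
  have e1 : s * x = x⁻¹ * s := by
    rw [← hsx]; group
  have e2 : s' * x⁻¹ = x * s' := by
    have : s' * x⁻¹ * s'⁻¹ = x := by
      have h1 : s' * x⁻¹ * s'⁻¹ = (s' * x * s'⁻¹)⁻¹ := by group
      rw [h1, hs'x, inv_inv]
    calc s' * x⁻¹ = s' * x⁻¹ * s'⁻¹ * s' := by group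
      _ = x * s' := by rw [this]
  calc s' * s * x = s' * (s * x) := by group
    _ = s' * (x⁻¹ * s) := by rw [e1]
    _ = (s' * x⁻¹) * s := by group
    _ = x * s' * s := by rw [e2]
    _ = x * (s' * s) := by group

include hx2 hsx in
omit [Finite G] in
theorem s_not_comm : s * x ≠ x * s := by
  intro hc
  apply hx2
  have : x = x⁻¹ := by
    calc x = x * s * s⁻¹ := by group
      _ = s * x * s⁻¹ := by rw [hc]
      _ = x⁻¹ := hsx
  calc x * x = x * x⁻¹ := by rw [← this]
    _ = 1 := mul_inv_cancel x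

include h hx2 hs hsx in
/-- the normalizer of `C(x)` is `C(x) ∪ C(x) s` -/
theorem normalizer_cases {g : G}
    (hg : g ∈ normalizer ((centralizer ({x} : Set G) : Subgroup G) : Set G)) :
    g * x = x * g ∨ (g * s) * x = x * (g * s) := by
  obtain ⟨hss, hs1⟩ := orderOf_two_iff.mp hs
  have hsinv : s⁻¹ = s := inv_eq_of_mul_eq_one_left hss
  rw [mem_normalizer_iff] at hg
  have hxA : x ∈ centralizer ({x} : Set G) := mem_centralizer_singleton_iff.mpr rfl
  -- x' = g x g⁻¹
  have hx'A : g * x * g⁻¹ ∈ centralizer ({x} : Set G) := (hg x).mp hxA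
  have hx'c : (g * x * g⁻¹) * x = x * (g * x * g⁻¹) := mem_centralizer_singleton_iff.mp hx'A
  have hx'1 : g * x * g⁻¹ ≠ 1 := by
    intro h1
    apply hx2
    have : x = g⁻¹ * (g * x * g⁻¹) * g := by group
    rw [this, h1]; group
  have hx'2 := sq_ne_one_of_cent h hx2 hx'c hx'1
  have hsx' := inverts_cent h hx2 hs hsx hx'c
  have hCx' := cent_eq h hx2 hs hsx hx'c hx'1
  -- s' = g s g⁻¹
  have hs'x' : (g * s * g⁻¹) * (g * x * g⁻¹) * (g * s * g⁻¹)⁻¹ = (g * x * g⁻¹)⁻¹ := by
    calc (g * s * g⁻¹) * (g * x * g⁻¹) * (g * s * g⁻¹)⁻¹ = g * (s * x * s⁻¹) * g⁻¹ := by group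
      _ = g * x⁻¹ * g⁻¹ := by rw [hsx]
      _ = (g * x * g⁻¹)⁻¹ := by group
  have hc0 := mul_comm_of_inverts hsx' hs'x'
  -- c = s' s ∈ C(x') = C(x)
  set c : G := g * s * g⁻¹ * s with hcdef
  have hcA : c ∈ centralizer ({x} : Set G) := by
    rw [← hCx', mem_centralizer_singleton_iff]; exact hc0
  have hcx : c * x = x * c := mem_centralizer_singleton_iff.mp hcA
  obtain ⟨k, hk⟩ := exists_sq_of_odd (odd_orderOf_cent h hx2 hcx)
  set b : G := c ^ k with hbdef
  have hbA : b ∈ centralizer ({x} : Set G) := Subgroup.pow_mem _ hcA k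
  have hbx : b * x = x * b := mem_centralizer_singleton_iff.mp hbA
  have hbinvx : b⁻¹ * x = x * b⁻¹ :=
    mem_centralizer_singleton_iff.mp (Subgroup.inv_mem _ hbA)
  have hsb := inverts_cent h hx2 hs hsx hbinvx
  rw [inv_inv] at hsb
  -- b s b⁻¹ = s'
  have hbs : b * s * b⁻¹ = g * s * g⁻¹ := by
    calc b * s * b⁻¹ = b * (s * b⁻¹ * s⁻¹) * s := by group
      _ = b * b * s := by rw [hsb]
      _ = c * s := by rw [hk]
      _ = g * s * g⁻¹ * (s * s) := by rw [hcdef]; group
      _ = g * s * g⁻¹ := by rw [hss, mul_one]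
  -- v = b⁻¹ g commutes with s
  set v : G := b⁻¹ * g with hvdef
  have hvs : v * s = s * v := by
    have : v * s * v⁻¹ = s := by
      calc v * s * v⁻¹ = b⁻¹ * (g * s * g⁻¹) * b := by rw [hvdef]; group
        _ = b⁻¹ * (b * s * b⁻¹) * b := by rw [hbs]
        _ = s := by group
    calc v * s = v * s * v⁻¹ * v := by group
      _ = s * v := by rw [this]
  have hvv : v * v = 1 := h.sq_cent s hs v hvs
  by_cases hv1 : v = 1
  · left
    have : g = b := by
      have : g = b * v := by rw [hvdef]; group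
      rw [this, hv1, mul_one]
    rw [this]; exact hbx
  · right
    have hvo : orderOf v = 2 := orderOf_two_iff.mpr ⟨hvv, hv1⟩
    have hvinv : v⁻¹ = v := inv_eq_of_mul_eq_one_left hvv
    -- v normalizes A
    have hvN : ∀ a ∈ centralizer ({x} : Set G), v * a * v⁻¹ ∈ centralizer ({x} : Set G) := by
      intro a ha
      have h1 : g * a * g⁻¹ ∈ centralizer ({x} : Set G) := (hg a).mp ha
      have h2 : v * a * v⁻¹ = b⁻¹ * (g * a * g⁻¹) * b := by rw [hvdef]; group
      rw [h2]
      exact Subgroup.mul_mem _ (Subgroup.mul_mem _ (Subgroup.inv_mem _ hbA) h1) hbA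
    have hvinvA : ∀ a ∈ centralizer ({x} : Set G), v * a * v⁻¹ = a⁻¹ := by
      refine inverts_of_fpf (centralizer ({x} : Set G)) hvv hvN ?_
      intro a ha hva
      have h1 : a * a = 1 := h.sq_cent v hvo a hva.symm
      exact eq_one_of_sq_of_odd (odd_orderOf_cent h hx2 (mem_centralizer_singleton_iff.mp ha)) h1
    have hvx : v * x * v⁻¹ = x⁻¹ := hvinvA x hxA
    have hvsx := mul_comm_of_inverts hsx hvx
    -- v s is an involution or trivial in A
    have hvs2 : (v * s) * (v * s) = 1 := by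
      calc v * s * (v * s) = v * (s * v) * s := by group
        _ = v * (v * s) * s := by rw [hvs]
        _ = (v * v) * (s * s) := by group
        _ = 1 := by rw [hvv, hss, mul_one]
    have hvs1 : v * s = 1 := eq_one_of_sq_of_odd (odd_orderOf_cent h hx2 hvsx) hvs2
    have hveq : v = s := by
      have : v = s⁻¹ := eq_inv_of_mul_eq_one_left hvs1
      rw [this, hsinv]
    have hgs : g * s = b := by
      have : g = b * v := by rw [hvdef]; group
      rw [this, hveq, mul_assoc, hss, mul_one]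
    rw [hgs]; exact hbx

end real

end Cfsg.Agent.Helper3.V4C
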