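import Mathlib
import Cfsg.Agent.Helper3.V4Count2
import Cfsg.Agent.Helper8.TI

set_option autoImplicit false
set_option linter.style.haveILetI false
set_option linter.unusedSectionVars false

/-! Cardinalities attached to a real element. -/

namespace Cfsg.Agent.Helper3.V4C

open Subgroup

variable {G : Type*} [Group G]

/-- conjugation between centralizers -/
def centConjEquiv (g t : G) :
    ↥(centralizer ({t} : Set G)) ≃ ↥(centralizer ({g * t * g⁻¹} : Set G)) where
  toFun c := ⟨g * c.1 * g⁻¹, by
    have h := mem_centralizer_singleton_iff.mp c.2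
    rw [mem_centralizer_singleton_iff]
    calc g * c.1 * g⁻¹ * (g * t * g⁻¹) = g * (c.1 * t) * g⁻¹ := by group
      _ = g * (t * c.1) * g⁻¹ := by rw [h]
      _ = g * t * g⁻¹ * (g * c.1 * g⁻¹) := by group⟩
  invFun c := ⟨g⁻¹ * c.1 * g, by
    have h := mem_centralizer_singleton_iff.mp c.2
    rw [mem_centralizer_singleton_iff]
    calc g⁻¹ * c.1 * g * t = g⁻¹ * (c.1 * (g * t * g⁻¹)) * g := by group
      _ = g⁻¹ * ((g * t * g⁻¹) * c.1) * g := by rw [h]
      _ = t * (g⁻¹ * c.1 * g) := by group⟩
  left_inv c := by apply Subtype.ext; simp only; group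
  right_inv c := by apply Subtype.ext; simp only; group

theorem card_cent_conj (g t : G) :
    Nat.card ↥(centralizer ({g * t * g⁻¹} : Set G)) = Nat.card ↥(centralizer ({t} : Set G)) :=
  (Nat.card_congr (centConjEquiv g t)).symm

variable [Finite G] (h : Hyp G)

section real

variable {x s : G} (hx2 : x * x ≠ 1) (hs : orderOf s = 2) (hsx : s * x * s⁻¹ = x⁻¹)

include h hx2 hs hsx in
theorem s_mem_normalizer :
    s ∈ normalizer ((centralizer ({x} : Set G) : Subgroup G) : Set G) := by
  obtain ⟨hss, hs1⟩ := orderOf_two_iff.mp hs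
  have hsinv : s⁻¹ = s := inv_eq_of_mul_eq_one_left hss
  rw [mem_normalizer_iff]
  intro c
  constructor
  · intro hc
    rw [inverts_cent h hx2 hs hsx (mem_centralizer_singleton_iff.mp hc)]
    exact Subgroup.inv_mem _ hc
  · intro hc
    have h1 := inverts_cent h hx2 hs hsx (mem_centralizer_singleton_iff.mp hc)
    have h2 : c = (s * c * s⁻¹)⁻¹ := by
      rw [← h1, hsinv]
      calc c = (s * s) * c * (s * s) := by rw [hss, one_mul, mul_one]
        _ = s * (s * c * s) * s := by group
    rw [h2]
    exact Subgroup.inv_mem _ hc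

include h hx2 hs hsx in
theorem card_normalizer :
    Nat.card ↥(normalizer ((centralizer ({x} : Set G) : Subgroup G) : Set G)) =
      2 * Nat.card ↥(centralizer ({x} : Set G)) := by
  set A : Subgroup G := centralizer ({x} : Set G) with hA
  set N : Subgroup G := normalizer ((A : Subgroup G) : Set G) with hN
  have hAN : A ≤ N := le_normalizer
  have hsN : s ∈ N := s_mem_normalizer h hx2 hs hsx
  have hidx : (A.subgroupOf N).index = 2 := by
    rw [index_eq_two_iff]
    refine ⟨⟨s, hsN⟩, ?_⟩
    rintro ⟨b, hb⟩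
    simp only [mem_subgroupOf, Subgroup.coe_mul]
    rcases normalizer_cases h hx2 hs hsx hb with hbx | hbx
    · right
      refine ⟨mem_centralizer_singleton_iff.mpr hbx, ?_⟩
      intro hbs
      have hbs' := mem_centralizer_singleton_iff.mp hbs
      apply s_not_comm hx2 hsx
      have hb' : b⁻¹ * x = x * b⁻¹ := (Commute.inv_left (show Commute b x from hbx)).eq
      calc s * x = b⁻¹ * ((b * s) * x) := by group
        _ = b⁻¹ * (x * (b * s)) := by rw [hbs']
        _ = (b⁻¹ * x) * b * s := by group
        _ = x * b⁻¹ * b * s := by rw [hb']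
        _ = x * s := by group
    · left
      refine ⟨mem_centralizer_singleton_iff.mpr hbx, ?_⟩
      intro hb2
      have hb2' := mem_centralizer_singleton_iff.mp hb2
      apply s_not_comm hx2 hsx
      have hb' : b⁻¹ * x = x * b⁻¹ := (Commute.inv_left (show Commute b x from hb2')).eq
      calc s * x = b⁻¹ * ((b * s) * x) := by group
        _ = b⁻¹ * (x * (b * s)) := by rw [hbx]
        _ = (b⁻¹ * x) * b * s := by group
        _ = x * b⁻¹ * b * s := by rw [hb']
        _ = x * s := by group
  have h1 := (A.subgroupOf N).card_mul_index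
  rw [hidx, Nat.card_congr (subgroupOfEquivOfLe hAN).toEquiv] at h1
  omega

include h hx2 hs hsx in
/-- `C(x)` is a TI-subset -/
theorem isTI : Cfsg.IsTISubset ((centralizer ({x} : Set G) : Subgroup G) : Set G) := by
  intro g hg y hy hgy
  by_contra hy1
  apply hg
  have hyx : y * x = x * y := mem_centralizer_singleton_iff.mp hy
  have hCy := cent_eq h hx2 hs hsx hyx hy1
  have hy'x : (g * y * g⁻¹) * x = x * (g * y * g⁻¹) := mem_centralizer_singleton_iff.mp hgy
  have hy'1 : g * y * g⁻¹ ≠ 1 := by
    intro h1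
    apply hy1
    have : y = g⁻¹ * (g * y * g⁻¹) * g := by group
    rw [this, h1]; group
  have hCy' := cent_eq h hx2 hs hsx hy'x hy'1
  rw [mem_normalizer_iff]
  intro c
  have e1 : c ∈ centralizer ({x} : Set G) ↔ c ∈ centralizer ({y} : Set G) := by rw [hCy]
  have e2 : g * c * g⁻¹ ∈ centralizer ({x} : Set G) ↔
      g * c * g⁻¹ ∈ centralizer ({g * y * g⁻¹} : Set G) := by rw [hCy']
  rw [e1, e2, mem_centralizer_singleton_iff, mem_centralizer_singleton_iff]
  constructor
  · intro hc
    calc g * c * g⁻¹ * (g * y * g⁻¹) = g * (c * y) * g⁻¹ := by group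
      _ = g * (y * c) * g⁻¹ := by rw [hc]
      _ = g * y * g⁻¹ * (g * c * g⁻¹) := by group
  · intro hc
    calc c * y = g⁻¹ * ((g * c * g⁻¹) * (g * y * g⁻¹)) * g := by group
      _ = g⁻¹ * ((g * y * g⁻¹) * (g * c * g⁻¹)) * g := by rw [hc]
      _ = y * c := by group

include h hx2 hs hsx in
/-- the number of involutions inverting `x` -/
theorem card_inverters :
    Nat.card {s' : G // orderOf s' = 2 ∧ s' * x * s'⁻¹ = x⁻¹} =
      Nat.card ↥(centralizer ({x} : Set G)) := by
  obtain ⟨hss, hs1⟩ := orderOf_two_iff.mp hs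
  have hsinv : s⁻¹ = s := inv_eq_of_mul_eq_one_left hss
  symm
  apply Nat.card_congr
  refine
    { toFun := fun c => ⟨c.1 * s, ?_, ?_⟩
      invFun := fun s' => ⟨s'.1 * s, ?_⟩
      left_inv := fun c => by
        apply Subtype.ext
        simp only
        rw [mul_assoc, hss, mul_one]
      right_inv := fun s' => by
        apply Subtype.ext
        simp only
        rw [mul_assoc, hss, mul_one] }
  · have hcx := mem_centralizer_singleton_iff.mp c.2
    have hinv := inverts_cent h hx2 hs hsx hcx
    rw [orderOf_two_iff]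
    constructor
    · calc c.1 * s * (c.1 * s) = c.1 * (s * c.1 * s⁻¹) * (s * s) := by group
        _ = 1 := by rw [hinv, hss, mul_inv_cancel, one_mul]
    · intro h1
      apply s_not_comm hx2 hsx
      have : s = (c.1)⁻¹ := by
        have := eq_inv_of_mul_eq_one_right h1
        rw [this]
      rw [this]
      exact (Commute.inv_left (show Commute c.1 x from hcx)).eq
  · have hcx := mem_centralizer_singleton_iff.mp c.2
    have hcx' : c.1 * x⁻¹ = x⁻¹ * c.1 := (Commute.inv_right (show Commute c.1 x from hcx)).eq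
    calc c.1 * s * x * (c.1 * s)⁻¹ = c.1 * (s * x * s⁻¹) * (c.1)⁻¹ := by group
      _ = c.1 * x⁻¹ * (c.1)⁻¹ := by rw [hsx]
      _ = x⁻¹ * c.1 * (c.1)⁻¹ := by rw [hcx']
      _ = x⁻¹ := by group
  · rw [mem_centralizer_singleton_iff]
    exact mul_comm_of_inverts hsx s'.2.2

end real

end Cfsg.Agent.Helper3.V4C
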