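import Mathlib
import Cfsg.Agent.Helper3.V4Count3

set_option autoImplicit false
set_option linter.style.haveILetI false
set_option linter.unusedSectionVars false

/-! Real elements and their conjugacy "clouds". -/

namespace Cfsg.Agent.Helper3.V4C

open Subgroup

variable {G : Type*} [Group G]

/-- `x` is inverted by an involution and is neither trivial nor an involution -/
def IsReal (x : G) : Prop := x * x ≠ 1 ∧ ∃ s : G, orderOf s = 2 ∧ s * x * s⁻¹ = x⁻¹

theorem IsReal.ne_one {x : G} (hx : IsReal x) : x ≠ 1 := by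
  rintro rfl
  exact hx.1 (one_mul 1)

theorem IsReal.conj {x : G} (hx : IsReal x) (g : G) : IsReal (g * x * g⁻¹) := by
  obtain ⟨hx2, s, hs, hsx⟩ := hx
  refine ⟨?_, g * s * g⁻¹, ?_, ?_⟩
  · intro h1
    apply hx2
    have : x * x = g⁻¹ * ((g * x * g⁻¹) * (g * x * g⁻¹)) * g := by group
    rw [this, h1]; group
  · have := orderOf_injective (MulAut.conj g).toMonoidHom (MulAut.conj g).injective s
    rw [← hs, ← this]; rfl
  · calc g * s * g⁻¹ * (g * x * g⁻¹) * (g * s * g⁻¹)⁻¹ = g * (s * x * s⁻¹) * g⁻¹ := by group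
      _ = g * x⁻¹ * g⁻¹ := by rw [hsx]
      _ = (g * x * g⁻¹)⁻¹ := by group

/-- the nonidentity elements conjugate into `C(x)` -/
def Cl (x : G) : Set G := {g | g ≠ 1 ∧ ∃ y : G, y * g * y⁻¹ ∈ centralizer ({x} : Set G)}

theorem IsReal.self_mem_Cl {x : G} (hx : IsReal x) : x ∈ Cl x :=
  ⟨hx.ne_one, 1, by rw [one_mul, inv_one, mul_one]; exact mem_centralizer_singleton_iff.mpr rfl⟩

variable [Finite G] (h : Hyp G)

include h in
theorem IsReal.odd_card {x : G} (hx : IsReal x) :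
    Odd (Nat.card ↥(centralizer ({x} : Set G))) := by
  haveI : Fact (Nat.Prime 2) := ⟨Nat.prime_two⟩
  by_contra hodd
  rw [Nat.not_odd_iff_even, even_iff_two_dvd] at hodd
  obtain ⟨u, hu⟩ := exists_prime_orderOf_dvd_card' (G := ↥(centralizer ({x} : Set G))) 2 hodd
  have hu' : orderOf (u : G) = 2 := by rw [Subgroup.orderOf_coe]; exact hu
  exact no_invol_cent h hx.1 hu' (mem_centralizer_singleton_iff.mp u.2)

include h in
theorem IsReal.three_le_card {x : G} (hx : IsReal x) :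
    3 ≤ Nat.card ↥(centralizer ({x} : Set G)) := by
  have hodd := hx.odd_card h
  have h2 : 1 < Nat.card ↥(centralizer ({x} : Set G)) := by
    rw [Finite.one_lt_card_iff_nontrivial]
    exact ⟨⟨⟨x, mem_centralizer_singleton_iff.mpr rfl⟩, 1, fun h1 =>
      hx.ne_one (congrArg Subtype.val h1)⟩⟩
  obtain ⟨k, hk⟩ := hodd
  omega

include h in
theorem IsReal.card_Cl {x : G} (hx : IsReal x) :
    Nat.card ↥(Cl x) * (2 * Nat.card ↥(centralizer ({x} : Set G))) =
      Nat.card G * (Nat.card ↥(centralizer ({x} : Set G)) - 1) := by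
  classical
  obtain ⟨hx2, s, hs, hsx⟩ := hx
  have h1 := Cfsg.Agent.Helper8.ti_card ((centralizer ({x} : Set G) : Subgroup G) : Set G)
    (isTI h hx2 hs hsx)
  rw [card_normalizer h hx2 hs hsx] at h1
  have h2 : Nat.card {c : G // c ∈ ((centralizer ({x} : Set G) : Subgroup G) : Set G) ∧ c ≠ 1} =
      Nat.card ↥(centralizer ({x} : Set G)) - 1 := by
    haveI : Fintype ↥(centralizer ({x} : Set G)) := Fintype.ofFinite _
    have e : {c : G // c ∈ ((centralizer ({x} : Set G) : Subgroup G) : Set G) ∧ c ≠ 1} ≃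
        {c : ↥(centralizer ({x} : Set G)) // c ≠ 1} :=
      { toFun := fun c => ⟨⟨c.1, c.2.1⟩, fun h1 => c.2.2 (congrArg Subtype.val h1)⟩
        invFun := fun c => ⟨c.1.1, c.1.2, fun h1 => c.2 (Subtype.ext h1)⟩
        left_inv := fun c => rfl
        right_inv := fun c => rfl }
    rw [Nat.card_congr e, Nat.card_eq_fintype_card, Nat.card_eq_fintype_card,
      Fintype.card_subtype_compl, Fintype.card_subtype_eq]
  rw [h2] at h1
  exact h1

include h in
/-- elements of the cloud of `x` are real with centralizers of the same order -/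
theorem IsReal.of_mem_Cl {x g : G} (hx : IsReal x) (hg : g ∈ Cl x) :
    IsReal g ∧ Nat.card ↥(centralizer ({g} : Set G)) = Nat.card ↥(centralizer ({x} : Set G)) := by
  obtain ⟨hx2, s, hs, hsx⟩ := hx
  obtain ⟨hg1, y, hy⟩ := hg
  have hwx : (y * g * y⁻¹) * x = x * (y * g * y⁻¹) := mem_centralizer_singleton_iff.mp hy
  have hw1 : y * g * y⁻¹ ≠ 1 := by
    intro h1
    apply hg1
    have : g = y⁻¹ * (y * g * y⁻¹) * y := by group
    rw [this, h1]; group
  have hw2 := sq_ne_one_of_cent h hx2 hwx hw1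
  have hsw := inverts_cent h hx2 hs hsx hwx
  have hCw := cent_eq h hx2 hs hsx hwx hw1
  have hwreal : IsReal (y * g * y⁻¹) := ⟨hw2, s, hs, hsw⟩
  constructor
  · have := hwreal.conj y⁻¹
    have e : y⁻¹ * (y * g * y⁻¹) * y⁻¹⁻¹ = g := by group
    rwa [e] at this
  · rw [← card_cent_conj y g, hCw]

include h in
/-- distinct clouds are disjoint -/
theorem IsReal.not_mem_Cl {x x' g : G} (hx : IsReal x) (hx' : IsReal x') (hnot : x' ∉ Cl x)
    (hg' : g ∈ Cl x') : g ∉ Cl x := by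
  intro hg
  apply hnot
  obtain ⟨hx2, s, hs, hsx⟩ := hx
  obtain ⟨hx'2, s', hs', hsx'⟩ := hx'
  obtain ⟨hg1, y, hy⟩ := hg
  obtain ⟨-, y', hy'⟩ := hg'
  have hne : ∀ w : G, w * g * w⁻¹ ≠ 1 := by
    intro w h1
    apply hg1
    have : g = w⁻¹ * (w * g * w⁻¹) * w := by group
    rw [this, h1]; group
  have hC := cent_eq h hx2 hs hsx (mem_centralizer_singleton_iff.mp hy) (hne y)
  have hC' := cent_eq h hx'2 hs' hsx' (mem_centralizer_singleton_iff.mp hy') (hne y')
  -- x' ∈ C(x') = C(y' g y'⁻¹); conjugate by y y'⁻¹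
  have hx'mem : x' ∈ centralizer ({y' * g * y'⁻¹} : Set G) := by
    rw [hC']; exact mem_centralizer_singleton_iff.mpr rfl
  have h1 := mem_centralizer_singleton_iff.mp hx'mem
  refine ⟨?_, y * y'⁻¹, ?_⟩
  · rintro rfl
    exact hx'2 (one_mul 1)
  · rw [← hC, mem_centralizer_singleton_iff]
    calc y * y'⁻¹ * x' * (y * y'⁻¹)⁻¹ * (y * g * y⁻¹)
        = y * y'⁻¹ * (x' * (y' * g * y'⁻¹)) * y' * y⁻¹ := by group
      _ = y * y'⁻¹ * ((y' * g * y'⁻¹) * x') * y' * y⁻¹ := by rw [h1]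
      _ = y * g * y⁻¹ * (y * y'⁻¹ * x' * (y * y'⁻¹)⁻¹) := by group

end Cfsg.Agent.Helper3.V4C
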