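import Mathlib
import Cfsg.Agent.Helper3.V4Count4

set_option autoImplicit false
set_option linter.style.haveILetI false
set_option linter.unusedSectionVars false

/-! Global counting of pairs of involutions. -/

namespace Cfsg.Agent.Helper3.V4C

open Subgroup

variable {G : Type*} [Group G] [Fintype G] [DecidableEq G]

theorem card_cent_filter (x : G) :
    (Finset.univ.filter (fun c : G => c * x = x * c)).card =
      Nat.card ↥(centralizer ({x} : Set G)) := by
  classical
  rw [Nat.card_eq_fintype_card, ← Fintype.card_subtype]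
  apply Fintype.card_congr
  exact
    { toFun := fun c => ⟨c.1, mem_centralizer_singleton_iff.mpr c.2⟩
      invFun := fun c => ⟨c.1, mem_centralizer_singleton_iff.mp c.2⟩
      left_inv := fun c => rfl
      right_inv := fun c => rfl }

/-- the involutions -/
noncomputable def Inv (G : Type*) [Group G] [Fintype G] [DecidableEq G] : Finset G :=
  Finset.univ.filter (fun t : G => orderOf t = 2)

theorem mem_Inv {t : G} : t ∈ Inv G ↔ orderOf t = 2 := by
  simp [Inv]

variable (h : Hyp G)

include h in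
/-- `|G| = 4 · #involutions` -/
theorem four_mul_card_Inv {z : G} (hz : orderOf z = 2) :
    4 * (Inv G).card = Fintype.card G := by
  have hmaps : ∀ g ∈ (Finset.univ : Finset G), g * z * g⁻¹ ∈ Inv G := by
    intro g _
    rw [mem_Inv]
    have := orderOf_injective (MulAut.conj g).toMonoidHom (MulAut.conj g).injective z
    rw [← hz, ← this]; rfl
  have h1 := Finset.card_eq_sum_card_fiberwise hmaps
  rw [Finset.card_univ] at h1
  rw [h1]
  have h2 : ∀ t ∈ Inv G, (Finset.univ.filter (fun g : G => g * z * g⁻¹ = t)).card = 4 := by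
    intro t ht
    rw [mem_Inv] at ht
    obtain ⟨g₀, hg₀⟩ := isConj_iff.mp (h.conj z t hz ht)
    rw [← h.card_cent z hz, ← card_cent_filter z]
    symm
    apply Finset.card_bij (fun c _ => g₀ * c)
    · intro c hc
      rw [Finset.mem_filter] at hc ⊢
      refine ⟨Finset.mem_univ _, ?_⟩
      rw [← hg₀]
      calc g₀ * c * z * (g₀ * c)⁻¹ = g₀ * (c * z) * c⁻¹ * g₀⁻¹ := by group
        _ = g₀ * (z * c) * c⁻¹ * g₀⁻¹ := by rw [hc.2]
        _ = g₀ * z * g₀⁻¹ := by group
    · intro c _ c' _ hcc
      exact mul_left_cancel hcc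
    · intro g hg
      rw [Finset.mem_filter] at hg
      refine ⟨g₀⁻¹ * g, ?_, by group⟩
      rw [Finset.mem_filter]
      refine ⟨Finset.mem_univ _, ?_⟩
      have e1 : g * z * g⁻¹ = g₀ * z * g₀⁻¹ := hg.2.trans hg₀.symm
      calc g₀⁻¹ * g * z = g₀⁻¹ * (g * z * g⁻¹) * g := by group
        _ = g₀⁻¹ * (g₀ * z * g₀⁻¹) * g := by rw [e1]
        _ = z * (g₀⁻¹ * g) := by group
  rw [Finset.sum_congr rfl h2, Finset.sum_const, smul_eq_mul, mul_comm]

/-- the number of ways of writing `x` as a product of two involutions -/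
noncomputable def beta (x : G) : ℕ := ((Inv G).filter (fun s => orderOf (s⁻¹ * x) = 2)).card

theorem sum_beta : ∑ x : G, beta x = (Inv G).card * (Inv G).card := by
  have e1 : ∀ s : G, ∑ x : G, (if orderOf (s⁻¹ * x) = 2 then 1 else 0) = (Inv G).card := by
    intro s
    rw [Fintype.sum_equiv (Equiv.mulLeft s⁻¹) (fun x => if orderOf (s⁻¹ * x) = 2 then 1 else 0)
      (fun t => if orderOf t = 2 then 1 else 0) (fun x => rfl)]
    rw [Inv, Finset.card_filter]
  have e2 : ∀ x : G, beta x = ∑ s ∈ Inv G, (if orderOf (s⁻¹ * x) = 2 then 1 else 0) := by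
    intro x
    rw [beta, Finset.card_filter]
  rw [Finset.sum_congr rfl (fun x _ => e2 x), Finset.sum_comm,
    Finset.sum_congr rfl (fun s _ => e1 s), Finset.sum_const, smul_eq_mul]

theorem beta_one : beta (1 : G) = (Inv G).card := by
  rw [beta]
  congr 1
  apply Finset.filter_true_of_mem
  intro s hs
  rw [mul_one, orderOf_inv]
  exact mem_Inv.mp hs

include h in
theorem beta_invol {x : G} (hx : orderOf x = 2) : beta x = 2 := by
  obtain ⟨hxx, hx1⟩ := orderOf_two_iff.mp hx
  have hxinv : x⁻¹ = x := inv_eq_of_mul_eq_one_left hxx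
  have hset : (Inv G).filter (fun s => orderOf (s⁻¹ * x) = 2) =
      ((Finset.univ.filter (fun c : G => c * x = x * c)).erase 1).erase x := by
    ext s
    simp only [Finset.mem_filter, mem_Inv, Finset.mem_erase, Finset.mem_univ, true_and]
    constructor
    · rintro ⟨hs, hsx⟩
      obtain ⟨hss, hs1⟩ := orderOf_two_iff.mp hs
      have hsinv : s⁻¹ = s := inv_eq_of_mul_eq_one_left hss
      obtain ⟨h2, h3⟩ := orderOf_two_iff.mp hsx
      rw [hsinv] at h2 h3
      refine ⟨?_, hs1, ?_⟩
      · rintro rfl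
        exact h3 hss
      · -- s x s x = 1 ⇒ s x = x s
        have : s * x = (s * x)⁻¹ := (inv_eq_of_mul_eq_one_left h2).symm
        rw [this]
        rw [mul_inv_rev, hsinv, hxinv]
    · rintro ⟨hsx, hs1, hc⟩
      have hss : s * s = 1 := h.sq_cent x hx s hc
      have hsinv : s⁻¹ = s := inv_eq_of_mul_eq_one_left hss
      refine ⟨orderOf_two_iff.mpr ⟨hss, hs1⟩, ?_⟩
      rw [hsinv, orderOf_two_iff]
      constructor
      · calc s * x * (s * x) = s * (x * s) * x := by group
          _ = s * (s * x) * x := by rw [hc]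
          _ = (s * s) * (x * x) := by group
          _ = 1 := by rw [hss, hxx, mul_one]
      · intro h1
        apply hsx
        have : s = x⁻¹ := eq_inv_of_mul_eq_one_left h1
        rw [this, hxinv]
  rw [beta, hset]
  have hxmem : x ∈ (Finset.univ.filter (fun c : G => c * x = x * c)).erase 1 := by
    rw [Finset.mem_erase]
    exact ⟨hx1, by simp⟩
  have h1mem : (1 : G) ∈ Finset.univ.filter (fun c : G => c * x = x * c) := by simp
  rw [Finset.card_erase_of_mem hxmem, Finset.card_erase_of_mem h1mem, card_cent_filter,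
    h.card_cent x hx]

include h in
theorem beta_real {x : G} (hx : IsReal x) :
    beta x = Nat.card ↥(centralizer ({x} : Set G)) := by
  classical
  obtain ⟨hx2, s₀, hs₀, hs₀x⟩ := hx
  rw [← card_inverters h hx2 hs₀ hs₀x, Nat.card_eq_fintype_card, Fintype.card_subtype, beta]
  congr 1
  ext s
  simp only [Finset.mem_filter, mem_Inv, Finset.mem_univ, true_and]
  constructor
  · rintro ⟨hs, hsx⟩
    refine ⟨hs, ?_⟩
    obtain ⟨hss, hs1⟩ := orderOf_two_iff.mp hs
    have hsinv : s⁻¹ = s := inv_eq_of_mul_eq_one_left hss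
    obtain ⟨h2, -⟩ := orderOf_two_iff.mp hsx
    rw [hsinv] at h2 ⊢
    -- s x s x = 1
    have : s * x * s = (x)⁻¹ := by
      have h3 : s * x * s * x = 1 := by rw [← h2]; group
      exact eq_inv_of_mul_eq_one_left h3
    exact this
  · rintro ⟨hs, hsx⟩
    refine ⟨hs, ?_⟩
    obtain ⟨hss, hs1⟩ := orderOf_two_iff.mp hs
    have hsinv : s⁻¹ = s := inv_eq_of_mul_eq_one_left hss
    rw [hsinv] at hsx ⊢
    rw [orderOf_two_iff]
    constructor
    · calc s * x * (s * x) = (s * x * s) * x := by group
        _ = 1 := by rw [hsx, inv_mul_cancel]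
    · intro h1
      apply hx2
      have : x = s⁻¹ := eq_inv_of_mul_eq_one_right h1
      rw [this, hsinv, hss]

theorem beta_not_real {x : G} (hx2 : x * x ≠ 1) (hx : ¬ IsReal x) : beta x = 0 := by
  rw [beta, Finset.card_eq_zero, Finset.filter_eq_empty_iff]
  intro s hs hsx
  apply hx
  rw [mem_Inv] at hs
  refine ⟨hx2, s, hs, ?_⟩
  obtain ⟨hss, hs1⟩ := orderOf_two_iff.mp hs
  have hsinv : s⁻¹ = s := inv_eq_of_mul_eq_one_left hss
  obtain ⟨h2, -⟩ := orderOf_two_iff.mp hsx
  rw [hsinv] at h2 ⊢
  have h3 : s * x * s * x = 1 := by rw [← h2]; group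
  exact eq_inv_of_mul_eq_one_left h3

end Cfsg.Agent.Helper3.V4C
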