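import Mathlib
import Cfsg.Agent.Helper3.V4Count5

set_option autoImplicit false
set_option linter.style.haveILetI false
set_option linter.unusedSectionVars false

/-! The order of a group in which involutions have elementary abelian centralizers of order `4`
and are all conjugate is `12` or `60`. -/

namespace Cfsg.Agent.Helper3.V4C

open Subgroup

theorem arith_aux {a b : ℕ} (ga : 3 ≤ a) (hab : a ≤ b) (ha : a ∣ 2 * b - 1)
    (hb : b ∣ 2 * a - 1) : a = 3 ∧ b = 5 := by
  obtain ⟨k, hk⟩ := hb
  have hk1 : k = 1 := by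
    have h0 : k ≠ 0 := by
      rintro rfl
      omega
    have h2 : k < 2 := by
      by_contra hcon
      push Not at hcon
      have : b * 2 ≤ b * k := Nat.mul_le_mul_left b hcon
      omega
    omega
  subst hk1
  rw [mul_one] at hk
  have h3 : a ∣ 3 := by
    have e : 2 * b - 1 = 4 * a - 3 := by omega
    rw [e] at ha
    have h4 : a ∣ 4 * a := dvd_mul_left a 4
    have := Nat.dvd_sub h4 ha
    have e2 : 4 * a - (4 * a - 3) = 3 := by omega
    rwa [e2] at this
  have h5 : a ≤ 3 := Nat.le_of_dvd (by norm_num) h3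
  have h6 : a = 3 := le_antisymm h5 ga
  subst h6
  exact ⟨rfl, by omega⟩

theorem arith {i a b : ℕ} (h1 : i + 1 = 2 * a + 2 * b) (oa : Odd a) (ob : Odd b)
    (ga : 3 ≤ a) (gb : 3 ≤ b) (da : a ∣ 4 * i) (db : b ∣ 4 * i) : i = 15 := by
  have ca : Nat.Coprime a 4 := by
    have : Nat.Coprime a 2 := Nat.coprime_two_right.mpr oa
    exact Nat.Coprime.pow_right 2 this
  have cb : Nat.Coprime b 4 := by
    have : Nat.Coprime b 2 := Nat.coprime_two_right.mpr ob
    exact Nat.Coprime.pow_right 2 this
  have da' : a ∣ i := ca.dvd_of_dvd_mul_left da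
  have db' : b ∣ i := cb.dvd_of_dvd_mul_left db
  have ha : a ∣ 2 * b - 1 := by
    have e : 2 * b - 1 = i - 2 * a := by omega
    rw [e]
    exact Nat.dvd_sub da' (dvd_mul_left a 2)
  have hb : b ∣ 2 * a - 1 := by
    have e : 2 * a - 1 = i - 2 * b := by omega
    rw [e]
    exact Nat.dvd_sub db' (dvd_mul_left b 2)
  rcases le_total a b with hab | hab
  · obtain ⟨rfl, rfl⟩ := arith_aux ga hab ha hb
    omega
  · obtain ⟨rfl, rfl⟩ := arith_aux gb hab hb ha
    omega

variable {G : Type*} [Group G] [Fintype G] [DecidableEq G]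

open Classical in
/-- the real elements -/
noncomputable def RR (G : Type*) [Group G] [Fintype G] : Finset G :=
  Finset.univ.filter (fun x : G => IsReal x)

open Classical in
theorem mem_RR {x : G} : x ∈ RR G ↔ IsReal x := by
  simp [RR]

open Classical in
/-- the cloud of `x` as a finset -/
noncomputable def ClF (x : G) : Finset G := Finset.univ.filter (fun g : G => g ∈ Cl x)

open Classical in
theorem mem_ClF {x g : G} : g ∈ ClF x ↔ g ∈ Cl x := by
  simp [ClF]

open Classical in
theorem card_ClF (x : G) : (ClF x).card = Nat.card ↥(Cl x) := by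
  rw [Nat.card_eq_fintype_card, ClF, ← Fintype.card_subtype]

/-- order of the centralizer -/
noncomputable def cz (x : G) : ℕ := Nat.card ↥(centralizer ({x} : Set G))

variable (h : Hyp G)

include h in
theorem count_pairs :
    (Inv G).card * (Inv G).card = 3 * (Inv G).card + ∑ x ∈ RR G, cz x := by
  classical
  rw [← sum_beta]
  have hpt : ∀ x : G, beta x = (if x = 1 then (Inv G).card else 0) +
      (if orderOf x = 2 then 2 else 0) + (if IsReal x then cz x else 0) := by
    intro x
    by_cases hx1 : x = 1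
    · subst hx1
      have h2 : ¬ orderOf (1 : G) = 2 := by rw [orderOf_one]; norm_num
      have h3 : ¬ IsReal (1 : G) := fun hr => hr.ne_one rfl
      rw [if_pos rfl, if_neg h2, if_neg h3, beta_one, add_zero, add_zero]
    · by_cases hx2 : orderOf x = 2
      · have h3 : ¬ IsReal x := fun hr => hr.1 (orderOf_two_iff.mp hx2).1
        rw [if_neg hx1, if_pos hx2, if_neg h3, beta_invol h hx2]
      · have hxx : x * x ≠ 1 := fun hxx => hx2 (orderOf_two_iff.mpr ⟨hxx, hx1⟩)
        by_cases hr : IsReal x
        · rw [if_neg hx1, if_neg hx2, if_pos hr, beta_real h hr]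
          simp [cz]
        · rw [if_neg hx1, if_neg hx2, if_neg hr, beta_not_real hxx hr]
  rw [Finset.sum_congr rfl (fun x _ => hpt x), Finset.sum_add_distrib, Finset.sum_add_distrib,
    Finset.sum_ite_eq' Finset.univ (1 : G) (fun _ => (Inv G).card), if_pos (Finset.mem_univ _)]
  have e2 : ∑ x : G, (if orderOf x = 2 then 2 else 0) = 2 * (Inv G).card := by
    rw [← Finset.sum_filter, Finset.sum_const, smul_eq_mul, mul_comm]
    rfl
  have e3 : ∑ x : G, (if IsReal x then cz x else 0) = ∑ x ∈ RR G, cz x := by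
    rw [← Finset.sum_filter]
    rfl
  rw [e2, e3]
  ring

include h in
theorem ClF_subset {x : G} (hx : IsReal x) : ClF x ⊆ RR G := by
  intro g hg
  rw [mem_ClF] at hg
  rw [mem_RR]
  exact (hx.of_mem_Cl h hg).1

include h in
theorem sum_ClF {x : G} (hx : IsReal x) : ∑ g ∈ ClF x, cz g = (ClF x).card * cz x := by
  rw [Finset.sum_congr rfl (fun g hg => ?_), Finset.sum_const, smul_eq_mul]
  exact (hx.of_mem_Cl h (mem_ClF.mp hg)).2

include h in
theorem card_ClF_mul {x z : G} (hz : orderOf z = 2) (hx : IsReal x) :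
    (ClF x).card * cz x = 2 * (Inv G).card * (cz x - 1) := by
  have h1 := hx.card_Cl h
  rw [← card_ClF, Nat.card_eq_fintype_card (α := G), ← four_mul_card_Inv h hz] at h1
  have h2 : 2 * ((ClF x).card * cz x) = 2 * (2 * (Inv G).card * (cz x - 1)) := by
    have : (ClF x).card * (2 * cz x) = 4 * (Inv G).card * (cz x - 1) := h1
    calc 2 * ((ClF x).card * cz x) = (ClF x).card * (2 * cz x) := by ring
      _ = 4 * (Inv G).card * (cz x - 1) := this
      _ = 2 * (2 * (Inv G).card * (cz x - 1)) := by ring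
  exact Nat.eq_of_mul_eq_mul_left (by norm_num) h2

include h in
theorem three_mul_card_ClF {x z : G} (hz : orderOf z = 2) (hx : IsReal x) :
    4 * (Inv G).card ≤ 3 * (ClF x).card := by
  have h1 := card_ClF_mul h hz hx
  have h3 : 3 ≤ cz x := hx.three_le_card h
  obtain ⟨a, ha⟩ : ∃ a, cz x = a + 3 := ⟨cz x - 3, by omega⟩
  rw [ha] at h1
  have e : a + 3 - 1 = a + 2 := by omega
  rw [e] at h1
  by_contra hcon
  push Not at hcon
  nlinarith

include h in
/-- **The order is `12` or `60`.** -/
theorem card_eq {z : G} (hz : orderOf z = 2) : Fintype.card G = 12 ∨ Fintype.card G = 60 := by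
  classical
  have hn := four_mul_card_Inv h hz
  have hS := count_pairs h
  set i := (Inv G).card with hi
  have hipos : 0 < i := Finset.card_pos.mpr ⟨z, mem_Inv.mpr hz⟩
  by_cases hR : RR G = ∅
  · left
    rw [hR, Finset.sum_empty, add_zero] at hS
    have : i = 3 := by nlinarith
    omega
  · obtain ⟨x₁, hx₁⟩ := Finset.nonempty_iff_ne_empty.mpr hR
    rw [mem_RR] at hx₁
    have hC₁ := ClF_subset h hx₁
    have hdvd : ∀ x : G, cz x ∣ 4 * i := by
      intro x
      rw [hn, ← Nat.card_eq_fintype_card]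
      exact Subgroup.card_subgroup_dvd_card _
    by_cases h1 : RR G ⊆ ClF x₁
    · exfalso
      have hEq : RR G = ClF x₁ := Finset.Subset.antisymm h1 hC₁
      rw [hEq, sum_ClF h hx₁, card_ClF_mul h hz hx₁] at hS
      have h3 : 3 ≤ cz x₁ := hx₁.three_le_card h
      obtain ⟨a, ha⟩ : ∃ a, cz x₁ = a + 3 := ⟨cz x₁ - 3, by omega⟩
      have hd := hdvd x₁
      rw [ha] at hS hd
      have e : a + 3 - 1 = a + 2 := by omega
      rw [e] at hS
      have hi' : i = 2 * a + 7 := by nlinarith
      rw [hi'] at hd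
      -- a+3 ∣ 4(2a+7) = 8(a+3) + 4
      have hd2 : a + 3 ∣ 4 := by
        have e1 : 4 * (2 * a + 7) = 8 * (a + 3) + 4 := by ring
        rw [e1] at hd
        exact (Nat.dvd_add_right (dvd_mul_left (a + 3) 8)).mp hd
      have hle := Nat.le_of_dvd (by norm_num) hd2
      have hodd := hx₁.odd_card h
      have hcz : cz x₁ = Nat.card ↥(centralizer ({x₁} : Set G)) := rfl
      rw [← hcz, ha] at hodd
      have ha' : a = 0 ∨ a = 1 := by omega
      rcases ha' with rfl | rfl
      · norm_num at hd2
      · exact absurd hodd (by decide)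
    · obtain ⟨x₂, hx₂R, hx₂C⟩ := Finset.not_subset.mp h1
      rw [mem_RR] at hx₂R
      rw [mem_ClF] at hx₂C
      have hC₂ := ClF_subset h hx₂R
      have hdisj12 : Disjoint (ClF x₁) (ClF x₂) := by
        rw [Finset.disjoint_left]
        intro g hg1 hg2
        exact hx₁.not_mem_Cl h hx₂R hx₂C (mem_ClF.mp hg2) (mem_ClF.mp hg1)
      by_cases h2 : RR G ⊆ ClF x₁ ∪ ClF x₂
      · right
        have hEq : RR G = ClF x₁ ∪ ClF x₂ :=
          Finset.Subset.antisymm h2 (Finset.union_subset hC₁ hC₂)
        rw [hEq, Finset.sum_union hdisj12, sum_ClF h hx₁, sum_ClF h hx₂R,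
          card_ClF_mul h hz hx₁, card_ClF_mul h hz hx₂R] at hS
        have h3 : 3 ≤ cz x₁ := hx₁.three_le_card h
        have h3' : 3 ≤ cz x₂ := hx₂R.three_le_card h
        obtain ⟨a, ha⟩ : ∃ a, cz x₁ = a + 3 := ⟨cz x₁ - 3, by omega⟩
        obtain ⟨b, hb⟩ : ∃ b, cz x₂ = b + 3 := ⟨cz x₂ - 3, by omega⟩
        have e : a + 3 - 1 = a + 2 := by omega
        have e' : b + 3 - 1 = b + 2 := by omega
        have hS' := hS
        rw [ha, hb, e, e'] at hS'
        have hi' : i + 1 = 2 * cz x₁ + 2 * cz x₂ := by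
          rw [ha, hb]
          nlinarith
        have := arith hi' (hx₁.odd_card h) (hx₂R.odd_card h) h3 h3' (hdvd x₁) (hdvd x₂)
        omega
      · exfalso
        obtain ⟨x₃, hx₃R, hx₃C⟩ := Finset.not_subset.mp h2
        rw [mem_RR] at hx₃R
        rw [Finset.mem_union, mem_ClF, mem_ClF] at hx₃C
        push Not at hx₃C
        have hC₃ := ClF_subset h hx₃R
        have hdisj13 : Disjoint (ClF x₁) (ClF x₃) := by
          rw [Finset.disjoint_left]
          intro g hg1 hg3
          exact hx₁.not_mem_Cl h hx₃R hx₃C.1 (mem_ClF.mp hg3) (mem_ClF.mp hg1)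
        have hdisj23 : Disjoint (ClF x₂) (ClF x₃) := by
          rw [Finset.disjoint_left]
          intro g hg2 hg3
          exact hx₂R.not_mem_Cl h hx₃R hx₃C.2 (mem_ClF.mp hg3) (mem_ClF.mp hg2)
        have hsub : (ClF x₁ ∪ ClF x₂) ∪ ClF x₃ ⊆ RR G :=
          Finset.union_subset (Finset.union_subset hC₁ hC₂) hC₃
        have hcard := Finset.card_le_card hsub
        rw [Finset.card_union_of_disjoint
          (Finset.disjoint_union_left.mpr ⟨hdisj13, hdisj23⟩),
          Finset.card_union_of_disjoint hdisj12] at hcard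
        have hRlt : (RR G).card < Fintype.card G := by
          rw [← Finset.card_univ]
          apply Finset.card_lt_card
          rw [Finset.ssubset_iff_of_subset (Finset.subset_univ _)]
          refine ⟨1, Finset.mem_univ _, ?_⟩
          rw [mem_RR]
          exact fun hr => hr.ne_one rfl
        have b1 := three_mul_card_ClF h hz hx₁
        have b2 := three_mul_card_ClF h hz hx₂R
        have b3 := three_mul_card_ClF h hz hx₃R
        omega

end Cfsg.Agent.Helper3.V4C
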