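import Mathlib
import Cfsg.Agent.Helper3.V4Count6
import Cfsg.Agent.Helper3.KleinFour
import Cfsg.Agent.Helper18.Klein4

set_option autoImplicit false
set_option linter.style.haveILetI false
set_option linter.unusedSectionVars false

/-! Consequences of the hypotheses `Hyp`: no odd normal subgroups, recognition of `A₅`. -/

namespace Cfsg.Agent.Helper3.V4C

open Subgroup

variable {L : Type*} [Group L] [Finite L] (h : Hyp L)

include h in
theorem Hyp.exists_second {t : L} (ht : orderOf t = 2) :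
    ∃ v : L, v * t = t * v ∧ v ≠ 1 ∧ v ≠ t := by
  by_contra hcon
  push Not at hcon
  have h1 : Nat.card ↥(centralizer ({t} : Set L)) ≤ 2 := by
    apply Cfsg.Agent.Helper3.card_le_two_of_forall _ t
    intro x hx
    by_contra hne
    push Not at hne
    exact hne.2 (hcon x (mem_centralizer_singleton_iff.mp hx) hne.1)
  rw [h.card_cent t ht] at h1
  omega

include h in
/-- normal subgroups of odd order are trivial -/
theorem Hyp.odd_normal {t : L} (ht : orderOf t = 2) (N : Subgroup L) [N.Normal]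
    (hN : Odd (Nat.card N)) : N = ⊥ := by
  obtain ⟨v, hvt, hv1, hvne⟩ := h.exists_second ht
  obtain ⟨htt, ht1⟩ := orderOf_two_iff.mp ht
  have hvv : v * v = 1 := h.sq_cent t ht v hvt
  have hvo : orderOf v = 2 := orderOf_two_iff.mpr ⟨hvv, hv1⟩
  have htinv : t⁻¹ = t := inv_eq_of_mul_eq_one_left htt
  have htv2 : (t * v) * (t * v) = 1 := by
    calc t * v * (t * v) = t * (v * t) * v := by group
      _ = t * (t * v) * v := by rw [hvt]
      _ = (t * t) * (v * v) := by group
      _ = 1 := by rw [htt, hvv, mul_one]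
  have htv1 : t * v ≠ 1 := by
    intro h1
    apply hvne
    have : v = t⁻¹ := eq_inv_of_mul_eq_one_right h1
    rw [this, htinv]
  have htvo : orderOf (t * v) = 2 := orderOf_two_iff.mpr ⟨htv2, htv1⟩
  have hodd : ∀ n ∈ N, Odd (orderOf n) := by
    intro n hn
    have h1 : orderOf (⟨n, hn⟩ : N) ∣ Nat.card N := orderOf_dvd_natCard _
    rw [← Subgroup.orderOf_coe] at h1
    exact Odd.of_dvd_nat hN h1
  have hinv : ∀ w : L, orderOf w = 2 → ∀ n ∈ N, w * n * w⁻¹ = n⁻¹ := by
    intro w hw
    refine inverts_of_fpf N (orderOf_two_iff.mp hw).1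
      (fun a ha => Subgroup.Normal.conj_mem inferInstance a ha w) ?_
    intro n hn hwn
    exact eq_one_of_sq_of_odd (hodd n hn) (h.sq_cent w hw n hwn.symm)
  rw [eq_bot_iff]
  intro n hn
  rw [mem_bot]
  have e2 := hinv v hvo n hn
  have e3 := hinv (t * v) htvo n hn
  have e1' := hinv t ht n⁻¹ (N.inv_mem hn)
  have e4 : (t * v) * n * (t * v)⁻¹ = n := by
    calc (t * v) * n * (t * v)⁻¹ = t * (v * n * v⁻¹) * t⁻¹ := by group
      _ = n := by rw [e2, e1', inv_inv]
  have hnn : n * n = 1 := by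
    have : n = n⁻¹ := e4.symm.trans e3
    calc n * n = n * n⁻¹ := by rw [← this]
      _ = 1 := mul_inv_cancel n
  exact eq_one_of_sq_of_odd (hodd n hn) hnn

include h in
theorem Hyp.sylow_not_subsingleton {t : L} (ht : orderOf t = 2) (p : ℕ) [Fact p.Prime]
    (hp2 : p ≠ 2) (hp : p ∣ Nat.card L) : ¬ Subsingleton (Sylow p L) := by
  intro hsub
  obtain ⟨P⟩ : Nonempty (Sylow p L) := inferInstance
  haveI : (P : Subgroup L).Normal := Sylow.normal_of_subsingleton P
  obtain ⟨n, hn⟩ := IsPGroup.exists_card_eq P.isPGroup'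
  have hpodd : Odd p := (Fact.out : p.Prime).odd_of_ne_two hp2
  have hodd : Odd (Nat.card (P : Subgroup L)) := by
    rw [hn]; exact hpodd.pow
  have hbot := h.odd_normal ht (P : Subgroup L) hodd
  exact P.ne_bot_of_dvd_card hp hbot

include h in
theorem Hyp.no_order_ten (g : L) : orderOf g ≠ 10 := by
  intro hg
  have hu : orderOf (g ^ 5) = 2 := by
    rw [orderOf_pow_of_dvd (by norm_num) (by rw [hg]; norm_num), hg]
  have hcomm : (g ^ 2) * (g ^ 5) = (g ^ 5) * (g ^ 2) := by
    rw [← pow_add, ← pow_add]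
  have h1 := h.sq_cent (g ^ 5) hu (g ^ 2) hcomm
  rw [← pow_add] at h1
  have h2 : orderOf g ∣ 4 := orderOf_dvd_of_pow_eq_one h1
  rw [hg] at h2
  norm_num at h2

include h in
/-- recognition of `A₅` -/
theorem Hyp.equiv_A5 {t : L} (ht : orderOf t = 2) (hcard : Nat.card L = 60) :
    Nonempty (L ≃* ↥(alternatingGroup (Fin 5))) := by
  haveI : Fact (Nat.Prime 3) := ⟨by norm_num⟩
  haveI : Fact (Nat.Prime 5) := ⟨by norm_num⟩
  exact Cfsg.Agent.Helper18.Klein.nonempty_equiv_A5 hcard
    (h.sylow_not_subsingleton ht 3 (by norm_num) (by rw [hcard]; norm_num))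
    (h.sylow_not_subsingleton ht 5 (by norm_num) (by rw [hcard]; norm_num))
    (h.no_order_ten)

end Cfsg.Agent.Helper3.V4C
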