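import Mathlib
import Cfsg.Prelude.Def_CaseTheorems
import Cfsg.Agent.Helper3.KleinFour
import Cfsg.Agent.Helper3.Conj

set_option autoImplicit false
set_option linter.style.haveILetI false

namespace Cfsg.Agent.Helper3

open scoped Pointwise

variable {G : Type*} [Group G]

/-- order 4 and exponent 2, stated without instances -/
def K4 (A : Subgroup G) : Prop := Nat.card A = 4 ∧ ∀ u ∈ A, u * u = 1

theorem K4_iff (A : Subgroup G) : K4 A ↔ IsKleinFour A := by
  constructor
  · rintro ⟨h1, h2⟩
    exact isKleinFour_of_card_of_sq' A h1 h2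
  · intro h
    refine ⟨IsKleinFour.card_four, ?_⟩
    intro u hu
    have := IsKleinFour.mul_self (G := A) ⟨u, hu⟩
    exact congrArg Subtype.val this

theorem K4.comm {A : Subgroup G} (h : K4 A) : ∀ a ∈ A, ∀ b ∈ A, a * b = b * a := by
  intro a ha b hb
  have h1 := h.2 (a * b) (A.mul_mem ha hb)
  have h2 := h.2 a ha
  have h3 := h.2 b hb
  -- abab = 1, aa = 1, bb = 1
  calc a * b = a * (a * b * (a * b)) * b := by rw [h1, mul_one]
    _ = (a * a) * (b * a) * (b * b) := by group
    _ = b * a := by rw [h2, h3, one_mul, mul_one]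

theorem K4.isPGroup {A : Subgroup G} (h : K4 A) : IsPGroup 2 A := by
  haveI : Fact (Nat.Prime 2) := ⟨Nat.prime_two⟩
  apply IsPGroup.of_card (n := 2)
  rw [h.1]; norm_num

theorem K4_conj {A : Subgroup G} [Finite G] (h : K4 A) (g : G) : K4 (MulAut.conj g • A) := by
  refine ⟨by rw [card_conj_smul]; exact h.1, ?_⟩
  intro u hu
  rw [mem_conj_smul_iff] at hu
  have := h.2 _ hu
  calc u * u = g * ((g⁻¹ * u * g) * (g⁻¹ * u * g)) * g⁻¹ := by group
    _ = 1 := by rw [this]; group

/-- The commuting relation on four-subgroups. -/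
def fourRel (A B : Subgroup G) : Prop :=
  IsKleinFour A ∧ IsKleinFour B ∧ ∀ a ∈ A, ∀ b ∈ B, a * b = b * a

theorem fourRel_symm {A B : Subgroup G} (h : fourRel A B) : fourRel B A :=
  ⟨h.2.1, h.1, fun b hb a ha => (h.2.2 a ha b hb).symm⟩

theorem fourRel_conj [Finite G] {A B : Subgroup G} (h : fourRel A B) (g : G) :
    fourRel (MulAut.conj g • A) (MulAut.conj g • B) := by
  refine ⟨(K4_iff _).mp (K4_conj ((K4_iff _).mpr h.1) g),
    (K4_iff _).mp (K4_conj ((K4_iff _).mpr h.2.1) g), ?_⟩
  intro a ha b hb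
  rw [mem_conj_smul_iff] at ha hb
  have := h.2.2 _ ha _ hb
  calc a * b = g * ((g⁻¹ * a * g) * (g⁻¹ * b * g)) * g⁻¹ := by group
    _ = g * ((g⁻¹ * b * g) * (g⁻¹ * a * g)) * g⁻¹ := by rw [this]
    _ = b * a := by group

/-- connectedness relation -/
def fourConn (A B : Subgroup G) : Prop := Relation.ReflTransGen fourRel A B

theorem fourConn_symm {A B : Subgroup G} (h : fourConn A B) : fourConn B A := by
  induction h with
  | refl => exact Relation.ReflTransGen.refl
  | tail _ hbc ih => exact Relation.ReflTransGen.head (fourRel_symm hbc) ih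

theorem fourConn_conj [Finite G] {A B : Subgroup G} (h : fourConn A B) (g : G) :
    fourConn (MulAut.conj g • A) (MulAut.conj g • B) :=
  Relation.ReflTransGen.lift (fun A => MulAut.conj g • A) (fun _ _ hab => fourRel_conj hab g) _ _ h

theorem isFourConnected_iff : Cfsg.IsFourConnected G ↔
    ∀ U V : Subgroup G, K4 U → K4 V → fourConn U V := by
  unfold Cfsg.IsFourConnected
  constructor
  · intro h U V hU hV
    exact h U V ((K4_iff U).mp hU) ((K4_iff V).mp hV)
  · intro h U V hU hV
    exact h U V ((K4_iff U).mpr hU) ((K4_iff V).mpr hV)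

/-- transport along the inclusion of a subgroup -/
theorem K4_map_subtype {S : Subgroup G} {A : Subgroup S} (h : K4 A) : K4 (A.map S.subtype) := by
  refine ⟨by rw [Subgroup.card_map_of_injective S.subtype_injective]; exact h.1, ?_⟩
  rintro _ ⟨u, hu, rfl⟩
  have := h.2 u hu
  exact congrArg Subtype.val this

theorem K4_subgroupOf {S A : Subgroup G} (hAS : A ≤ S) (h : K4 A) : K4 (A.subgroupOf S) := by
  refine ⟨?_, ?_⟩
  · rw [Nat.card_congr (Subgroup.subgroupOfEquivOfLe hAS).toEquiv]; exact h.1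
  · intro u hu
    apply Subtype.ext
    exact h.2 u hu

theorem fourRel_map_subtype {S : Subgroup G} {A B : Subgroup S} (h : fourRel A B) :
    fourRel (A.map S.subtype) (B.map S.subtype) := by
  refine ⟨(K4_iff _).mp (K4_map_subtype ((K4_iff _).mpr h.1)),
    (K4_iff _).mp (K4_map_subtype ((K4_iff _).mpr h.2.1)), ?_⟩
  rintro _ ⟨a, ha, rfl⟩ _ ⟨b, hb, rfl⟩
  exact congrArg Subtype.val (h.2.2 a ha b hb)

/-- If `S` (as a group) is four-connected then its four-subgroups are connected in `G`. -/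
theorem fourConn_of_le {S : Subgroup G} (hS : Cfsg.IsFourConnected S) {A B : Subgroup G}
    (hA : K4 A) (hB : K4 B) (hAS : A ≤ S) (hBS : B ≤ S) : fourConn A B := by
  have h1 := (isFourConnected_iff.mp hS) _ _ (K4_subgroupOf hAS hA) (K4_subgroupOf hBS hB)
  have h2 : fourConn ((A.subgroupOf S).map S.subtype) ((B.subgroupOf S).map S.subtype) :=
    Relation.ReflTransGen.lift (fun A : Subgroup S => A.map S.subtype)
      (fun _ _ hab => fourRel_map_subtype hab) _ _ h1
  rwa [Subgroup.map_subgroupOf_eq_of_le hAS, Subgroup.map_subgroupOf_eq_of_le hBS] at h2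

/-- rank at least two gives a four-subgroup -/
theorem exists_K4_of_not_pRankLE (Q : Subgroup G) (h : ¬ Cfsg.PRankLE 2 1 Q) :
    ∃ U : Subgroup G, U ≤ Q ∧ K4 U := by
  classical
  unfold Cfsg.PRankLE at h
  push Not at h
  obtain ⟨A, hAc, hA2, hcard⟩ := h
  have hcard' : 2 < Nat.card A := by simpa using hcard
  obtain ⟨a, haA, ha1⟩ : ∃ a ∈ A, a ≠ 1 := by
    by_contra hcon
    push Not at hcon
    have := card_le_two_of_forall A 1 (fun x hx => Or.inl (hcon x hx))
    omega
  obtain ⟨b, hbA, hb1, hba⟩ : ∃ b ∈ A, b ≠ 1 ∧ b ≠ a := by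
    by_contra hcon
    push Not at hcon
    have := card_le_two_of_forall A a (fun x hx => by
      by_cases h1 : x = 1
      · exact Or.inl h1
      · exact Or.inr (hcon x hx h1))
    omega
  have haa : (a : G) * a = 1 := by
    have := hA2 a haA
    rw [pow_two] at this
    exact congrArg Subtype.val this
  have hbb : (b : G) * b = 1 := by
    have := hA2 b hbA
    rw [pow_two] at this
    exact congrArg Subtype.val this
  have hab : (a : G) * b = b * a := by
    have := hAc.is_comm.comm ⟨a, haA⟩ ⟨b, hbA⟩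
    exact congrArg Subtype.val (congrArg Subtype.val this)
  refine ⟨kleinOf (a : G) (b : G) haa hbb hab, kleinOf_le a.2 b.2, ?_⟩
  refine ⟨card_kleinOf (fun h => ha1 (Subtype.ext h)) (fun h => hb1 (Subtype.ext h))
    (fun h => hba (Subtype.ext h.symm)), fun u hu => sq_eq_one_of_mem_kleinOf hu⟩

theorem not_pRankLE_of_K4 {Q U : Subgroup G} (hUQ : U ≤ Q) (hU : K4 U) :
    ¬ Cfsg.PRankLE 2 1 Q := by
  intro h
  have h1 := h (U.subgroupOf Q)
    ⟨⟨fun a b => Subtype.ext (Subtype.ext (hU.comm a.1 a.2 b.1 b.2))⟩⟩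
    (fun a ha => by
      apply Subtype.ext
      rw [pow_two]
      exact hU.2 a ha)
  rw [(K4_subgroupOf hUQ hU).1] at h1
  norm_num at h1

end Cfsg.Agent.Helper3
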