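import Mathlib
import Cfsg.Prelude.Def_Characters
import Cfsg.Prelude.Def_Blocks
import Cfsg.Agent.Helper24.Abelian
import Cfsg.Agent.Helper24.Linear
import Cfsg.Agent.Helper1.W2pDefs

set_option autoImplicit false

/-!
# S4501 piece EN: `|N(P) : P| = 2` for a self-centralizing Sylow 3-subgroup of order 3 in a
nonabelian simple group (Burnside transfer).
-/

namespace Cfsg.Agent.S4501P

open Cfsg Cfsg.Agent.Helper24
open scoped ComplexConjugate

universe u

variable {G : Type u} [Group G] [Finite G]

theorem eN_eq_two [IsSimpleGroup G] (hna : ∃ x y : G, x * y ≠ y * x) (P : Sylow 3 G)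
    (hP : Nat.card P = 3)
    (hC : Subgroup.centralizer ((P : Subgroup G) : Set G) = (P : Subgroup G)) :
    Cfsg.Agent.Helper1.W2p.eN (P : Subgroup G) = 2 := by
  have : Fact (Nat.Prime 3) := ⟨by norm_num⟩
  unfold Cfsg.Agent.Helper1.W2p.eN
  have hcyc : IsCyclic (P : Subgroup G) := isCyclic_of_prime_card hP
  have key := Subgroup.card_dvd_of_injective _
    (QuotientGroup.kerLift_injective (P : Subgroup G).normalizerMonoidHom)
  rw [Subgroup.normalizerMonoidHom_ker, ← Subgroup.index, ← Subgroup.relIndex, hC] at key
  rw [hcyc.card_mulAut, hP] at key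
  have h2 : Nat.totient 3 = 2 := by decide
  rw [h2] at key
  rcases (Nat.dvd_prime Nat.prime_two).1 key with h1 | h1
  · exfalso
    have hle : Subgroup.normalizer ((P : Subgroup G) : Set G) ≤ (P : Subgroup G) :=
      Subgroup.relIndex_eq_one.mp h1
    have hNC : Subgroup.normalizer ((P : Subgroup G) : Set G) ≤
        Subgroup.centralizer ((P : Subgroup G) : Set G) := by rw [hC]; exact hle
    have hcompl := MonoidHom.ker_transferSylow_isComplement' P hNC
    rcases (MonoidHom.transferSylow P hNC).normal_ker.eq_bot_or_eq_top with hb | ht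
    · rw [hb, Subgroup.isComplement'_bot_left] at hcompl
      obtain ⟨x, y, hxy⟩ := hna
      have hx : x ∈ (P : Subgroup G) := by rw [hcompl]; trivial
      have hy : y ∈ (P : Subgroup G) := by rw [hcompl]; trivial
      have hyC : y ∈ Subgroup.centralizer ((P : Subgroup G) : Set G) := by rw [hC]; exact hy
      exact hxy (hyC x hx)
    · rw [ht, Subgroup.isComplement'_top_left] at hcompl
      rw [hcompl] at hP
      simp at hP
  · exact h1

end Cfsg.Agent.S4501P
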