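import Mathlib

set_option autoImplicit false
set_option linter.style.haveILetI false
set_option linter.unusedSectionVars false

/-! Permutations of the projective line `Option (ZMod p)` (`none = ∞`): translations, multiplications,
and the candidate "inversion-like" maps used to recognise `PSL(2,p)` from its order. -/

namespace Cfsg.Agent.Helper3.ZP

open Equiv

section defs

variable (p : ℕ) [NeZero p]

/-- value of the candidate map at `y ≠ 0`: `y = k^i ↦ k'^i c₁`, `y = g k^i ↦ k'^i c₂`. -/
def candVal (k g k' c₁ c₂ : ZMod p) (n : ℕ) (y : ZMod p) : ZMod p :=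
  (List.range n).foldr (fun i acc =>
    if y = k ^ i then k' ^ i * c₁ else if y = g * k ^ i then k' ^ i * c₂ else acc) 0

def cand (k g k' c₁ c₂ : ZMod p) (n : ℕ) : Option (ZMod p) → Option (ZMod p)
  | none => some 0
  | some y => if y = 0 then none else some (candVal p k g k' c₁ c₂ n y)

def oadd (w : ZMod p) (y : Option (ZMod p)) : Option (ZMod p) := y.map (w + ·)
def omul (s : ZMod p) (y : Option (ZMod p)) : Option (ZMod p) := y.map (s * ·)

/-- the Bruhat condition at `x = 1`, in a form that is cheap to decide -/
def bruhat1 (n : ℕ) (T : Option (ZMod p) → Option (ZMod p)) : Prop :=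
  ∃ v : ZMod p, T (some (-v)) = some (-1) ∧ ∃ s : ZMod p, s ^ n = 1 ∧
    s * (T (some v)).getD 0 + (T (some 1)).getD 0 = 0 ∧
    ∀ y : Option (ZMod p),
      T (oadd p 1 (T y)) = oadd p ((T (some 1)).getD 0) (omul p s (T (oadd p v y)))

instance (n : ℕ) (T : Option (ZMod p) → Option (ZMod p)) : Decidable (bruhat1 p n T) := by
  unfold bruhat1; infer_instance

/-- generic evaluation lemma for `candVal`. -/
theorem candVal_eq {k g k' c₁ c₂ : ZMod p} {n : ℕ} {y val : ZMod p}
    (h1 : ∀ i < n, y = k ^ i → val = k' ^ i * c₁)
    (h2 : ∀ i < n, y = g * k ^ i → val = k' ^ i * c₂)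
    (hex : ∃ i < n, y = k ^ i ∨ y = g * k ^ i) :
    candVal p k g k' c₁ c₂ n y = val := by
  unfold candVal
  have key : ∀ L : List ℕ, (∀ i ∈ L, i < n) → (∃ i ∈ L, y = k ^ i ∨ y = g * k ^ i) →
      L.foldr (fun i acc =>
        if y = k ^ i then k' ^ i * c₁ else if y = g * k ^ i then k' ^ i * c₂ else acc) 0 = val := by
    intro L
    induction L with
    | nil => rintro - ⟨i, hi, -⟩; simp at hi
    | cons a L ih =>
      intro hL hex
      rw [List.foldr_cons]
      have ha : a < n := hL a (by simp)
      by_cases e1 : y = k ^ a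
      · rw [if_pos e1]; exact (h1 a ha e1).symm
      · rw [if_neg e1]
        by_cases e2 : y = g * k ^ a
        · rw [if_pos e2]; exact (h2 a ha e2).symm
        · rw [if_neg e2]
          apply ih (fun i hi => hL i (by simp [hi]))
          obtain ⟨i, hi, hy⟩ := hex
          rcases List.mem_cons.mp hi with rfl | hi'
          · rcases hy with hy | hy
            · exact absurd hy e1
            · exact absurd hy e2
          · exact ⟨i, hi', hy⟩
  apply key
  · intro i hi; exact List.mem_range.mp hi
  · obtain ⟨i, hi, hy⟩ := hex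
    exact ⟨i, List.mem_range.mpr hi, hy⟩

end defs

end Cfsg.Agent.Helper3.ZP
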