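import Mathlib
import Cfsg.Agent.Helper3.ZPerm1

set_option autoImplicit false
set_option linter.style.haveILetI false
set_option linter.unusedSectionVars false

namespace Cfsg.Agent.Helper3.ZP

open Equiv

variable {p : ℕ} [hp : Fact p.Prime]

instance neZero_of_fact : NeZero p := ⟨hp.out.ne_zero⟩

/-- translation `y ↦ w + y` fixing `∞` -/
def sh (w : ZMod p) : Perm (Option (ZMod p)) := optionCongr (Equiv.addLeft w)
/-- multiplication `y ↦ c y` fixing `∞` -/
def mu (c : (ZMod p)ˣ) : Perm (Option (ZMod p)) := optionCongr (Units.mulLeft c)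

@[simp] theorem sh_none (w : ZMod p) : sh w none = none := rfl
@[simp] theorem sh_some (w y : ZMod p) : sh w (some y) = some (w + y) := rfl
@[simp] theorem mu_none (c : (ZMod p)ˣ) : mu c none = none := rfl
@[simp] theorem mu_some (c : (ZMod p)ˣ) (y : ZMod p) : mu c (some y) = some ((c : ZMod p) * y) := rfl

theorem sh_apply (w : ZMod p) (y : Option (ZMod p)) : sh w y = oadd p w y := by
  cases y <;> rfl

theorem mu_apply (c : (ZMod p)ˣ) (y : Option (ZMod p)) : mu c y = omul p (c : ZMod p) y := by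
  cases y <;> rfl

theorem sh_add (w w' : ZMod p) : sh (w + w') = sh w * sh w' := by
  ext1 y
  cases y with
  | none => rfl
  | some y => simp [Perm.mul_apply, add_assoc]

theorem sh_zero : sh (0 : ZMod p) = 1 := by
  ext1 y
  cases y with
  | none => rfl
  | some y => simp

theorem sh_neg (w : ZMod p) : sh (-w) = (sh w)⁻¹ := by
  rw [eq_inv_iff_mul_eq_one, ← sh_add, neg_add_cancel, sh_zero]

theorem sh_nat (m : ℕ) : sh ((m : ℕ) : ZMod p) = (sh 1) ^ m := by
  induction m with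
  | zero => simp [sh_zero]
  | succ m ih => rw [Nat.cast_succ, sh_add, ih, pow_succ]

theorem sh_mem {R : Subgroup (Perm (Option (ZMod p)))} (h : sh (1 : ZMod p) ∈ R) (w : ZMod p) :
    sh w ∈ R := by
  have : sh w = (sh 1) ^ w.val := by rw [← sh_nat, ZMod.natCast_zmod_val]
  rw [this]; exact pow_mem h _

theorem mu_mul (c c' : (ZMod p)ˣ) : mu (c * c') = mu c * mu c' := by
  ext1 y
  cases y with
  | none => rfl
  | some y => simp [Perm.mul_apply, mul_assoc]

theorem mu_one : mu (1 : (ZMod p)ˣ) = 1 := by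
  ext1 y
  cases y with
  | none => rfl
  | some y => simp

theorem mu_pow (c : (ZMod p)ˣ) (i : ℕ) : mu (c ^ i) = (mu c) ^ i := by
  induction i with
  | zero => simp [mu_one]
  | succ i ih => rw [pow_succ, mu_mul, ih, pow_succ]

theorem mu_inv (c : (ZMod p)ˣ) : mu c⁻¹ = (mu c)⁻¹ := by
  rw [eq_inv_iff_mul_eq_one, ← mu_mul, inv_mul_cancel, mu_one]

theorem mu_sh (c : (ZMod p)ˣ) (v : ZMod p) : mu c * sh v = sh ((c : ZMod p) * v) * mu c := by
  ext1 y
  cases y with
  | none => rfl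
  | some y => simp [Perm.mul_apply, mul_add]

/-- The conditions satisfied by the image of a group of order `p(p²-1)/2` acting on its `p+1`
Sylow `p`-subgroups, after normalisation. -/
structure ZCond (n : ℕ) (R : Subgroup (Perm (Option (ZMod p)))) : Prop where
  sh_mem : sh (1 : ZMod p) ∈ R
  mu_mem : ∀ c : (ZMod p)ˣ, c ^ n = 1 → mu c ∈ R
  stab : ∀ π ∈ R, π none = none → π (some 0) = some 0 → ∃ c : (ZMod p)ˣ, c ^ n = 1 ∧ π = mu c
  swap : ∃ T ∈ R, T none = some 0 ∧ T (some 0) = none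

namespace ZCond

variable {n : ℕ} {R : Subgroup (Perm (Option (ZMod p)))}

theorem stab_none (h : ZCond n R) {π : Perm (Option (ZMod p))} (hπ : π ∈ R)
    (h0 : π none = none) : ∃ (w : ZMod p) (c : (ZMod p)ˣ), c ^ n = 1 ∧ π = sh w * mu c := by
  have h1 : π (some 0) ≠ none := by
    intro h1
    have := π.injective (h1.trans h0.symm)
    simp at this
  obtain ⟨w, hw⟩ := Option.ne_none_iff_exists'.mp h1
  have hmem : sh (-w) * π ∈ R := R.mul_mem (ZP.sh_mem h.sh_mem _) hπ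
  obtain ⟨c, hc, hcπ⟩ := h.stab _ hmem (by simp [Perm.mul_apply, h0])
    (by simp [Perm.mul_apply, hw])
  refine ⟨w, c, hc, ?_⟩
  rw [← hcπ, sh_neg, mul_inv_cancel_left]

theorem conj_mu (h : ZCond n R) {T : Perm (Option (ZMod p))} (hT : T ∈ R)
    (hT0 : T none = some 0) (hT1 : T (some 0) = none) (c : (ZMod p)ˣ) (hc : c ^ n = 1) :
    ∃ c' : (ZMod p)ˣ, c' ^ n = 1 ∧ T * mu c = mu c' * T := by
  have hi0 : T⁻¹ none = some 0 := by rw [Perm.inv_eq_iff_eq]; exact hT1.symm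
  have hi1 : T⁻¹ (some 0) = none := by rw [Perm.inv_eq_iff_eq]; exact hT0.symm
  have hmem : T * mu c * T⁻¹ ∈ R := R.mul_mem (R.mul_mem hT (h.mu_mem c hc)) (R.inv_mem hT)
  obtain ⟨c', hc', hcπ⟩ := h.stab _ hmem (by simp [Perm.mul_apply, hi0, hT1])
    (by simp [Perm.mul_apply, hi1, hT0])
  refine ⟨c', hc', ?_⟩
  rw [← hcπ, inv_mul_cancel_right]

theorem form (h : ZCond n R) {T : Perm (Option (ZMod p))} (hT : T ∈ R)
    (hT0 : T none = some 0) (hT1 : T (some 0) = none) {π : Perm (Option (ZMod p))} (hπ : π ∈ R)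
    (h0 : π none ≠ none) :
    ∃ (w v : ZMod p) (c : (ZMod p)ˣ), c ^ n = 1 ∧ π = sh w * mu c * T * sh v := by
  obtain ⟨w, hw⟩ := Option.ne_none_iff_exists'.mp h0
  have hi1 : T⁻¹ (some 0) = none := by rw [Perm.inv_eq_iff_eq]; exact hT0.symm
  have hmem : T⁻¹ * sh (-w) * π ∈ R :=
    R.mul_mem (R.mul_mem (R.inv_mem hT) (ZP.sh_mem h.sh_mem _)) hπ
  obtain ⟨m, c, hc, hσ⟩ := h.stab_none hmem (by simp [Perm.mul_apply, hw, hi1])
  obtain ⟨c', hc', hcc⟩ := h.conj_mu hT hT0 hT1 c hc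
  refine ⟨w, ((c⁻¹ : (ZMod p)ˣ) : ZMod p) * m, c', hc', ?_⟩
  have e1 : π = sh w * T * (sh m * mu c) := by
    rw [← hσ, sh_neg]; group
  have e2 : sh m * mu c = mu c * sh (((c⁻¹ : (ZMod p)ˣ) : ZMod p) * m) := by
    rw [mu_sh, ← mul_assoc, ← Units.val_mul, mul_inv_cancel, Units.val_one, one_mul]
  rw [e1, e2]
  calc sh w * T * (mu c * sh (((c⁻¹ : (ZMod p)ˣ) : ZMod p) * m))
      = sh w * (T * mu c) * sh (((c⁻¹ : (ZMod p)ˣ) : ZMod p) * m) := by group
    _ = sh w * (mu c' * T) * sh (((c⁻¹ : (ZMod p)ˣ) : ZMod p) * m) := by rw [hcc]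
    _ = sh w * mu c' * T * sh (((c⁻¹ : (ZMod p)ˣ) : ZMod p) * m) := by group

end ZCond

end Cfsg.Agent.Helper3.ZP
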