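import Mathlib
import Cfsg.Agent.Helper3.ZPerm2

set_option autoImplicit false
set_option linter.style.haveILetI false
set_option linter.unusedSectionVars false

namespace Cfsg.Agent.Helper3.ZP

open Equiv

variable {p : ℕ} [hp : Fact p.Prime]

/-- The per-prime facts, to be established by kernel computation. -/
structure PFacts (p : ℕ) [NeZero p] (n : ℕ) (k g kinv c1s c2s : ZMod p) : Prop where
  hn : 0 < n
  hk : k ^ n = 1
  hg : g ≠ 0
  F2 : ∀ y : ZMod p, y ≠ 0 → ∃ i < n, y = k ^ i ∨ y = g * k ^ i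
  F3 : ∀ k' c₂ : ZMod p, ∀ c₁ ∈ [1, g], k' ^ n = 1 → c₂ ≠ 0 →
      bruhat1 p n (cand p k g k' c₁ c₂ n) → (k' = kinv ∧ c₁ = c1s ∧ c₂ = c2s)

namespace ZCond

variable {n : ℕ} {R : Subgroup (Perm (Option (ZMod p)))}

/-- the Bruhat condition for a swapping element -/
theorem bruhat (h : ZCond n R) {T : Perm (Option (ZMod p))} (hT : T ∈ R)
    (hT0 : T none = some 0) (hT1 : T (some 0) = none) : bruhat1 p n ⇑T := by
  have hne : T (some 1) ≠ none := by
    intro h1
    have := T.injective (h1.trans hT1.symm)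
    simp at this
  have hmem : T * sh 1 * T ∈ R := R.mul_mem (R.mul_mem hT h.sh_mem) hT
  obtain ⟨u, v, s, hs, hπ⟩ := h.form hT hT0 hT1 hmem (by
    simp only [Perm.mul_apply, hT0, sh_some, add_zero]; exact hne)
  have hfun : ∀ y : Option (ZMod p), T (sh 1 (T y)) = sh u (mu s (T (sh v y))) := by
    intro y
    have := congrArg (fun π : Perm (Option (ZMod p)) => π y) hπ
    simpa [Perm.mul_apply] using this
  -- `u = T 1`
  have hu : T (some 1) = some u := by
    have := hfun none
    simpa [hT0] using this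
  -- `T (-v) = -1`
  have hv : T (some (-v)) = some (-1) := by
    have h1 := hfun (some (-v))
    simp only [sh_some, add_neg_cancel, hT1, mu_none, sh_none] at h1
    have h2 : sh 1 (T (some (-v))) = some 0 := T.injective (h1.trans hT1.symm)
    cases hz : T (some (-v)) with
    | none => rw [hz] at h2; simp at h2
    | some z =>
      rw [hz, sh_some] at h2
      have : 1 + z = 0 := Option.some.inj h2
      congr 1
      linear_combination this
  -- `s * T v + u = 0`
  have hsv : (s : ZMod p) * (T (some v)).getD 0 + u = 0 := by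
    have h1 := hfun (some 0)
    simp only [hT1, sh_none, hT0, sh_some, add_zero] at h1
    cases hz : T (some v) with
    | none => rw [hz] at h1; simp at h1
    | some z =>
      rw [hz, mu_some, sh_some] at h1
      have : u + (s : ZMod p) * z = 0 := (Option.some.inj h1).symm
      simp only [Option.getD_some]
      linear_combination this
  refine ⟨v, hv, (s : ZMod p), ?_, ?_, ?_⟩
  · rw [← Units.val_pow_eq_pow_val, hs, Units.val_one]
  · rw [hu]; simpa using hsv
  · intro y
    rw [hu, Option.getD_some, ← sh_apply, ← sh_apply, ← sh_apply, ← mu_apply]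
    exact hfun y

/-- a swapping element is a candidate map -/
theorem eq_cand (h : ZCond n R) {k g kinv c1s c2s : ZMod p} (hF : PFacts p n k g kinv c1s c2s)
    {T : Perm (Option (ZMod p))} (hT : T ∈ R)
    (hT0 : T none = some 0) (hT1 : T (some 0) = none) :
    ∃ k' c₁ c₂ : ZMod p, k' ^ n = 1 ∧ c₁ ≠ 0 ∧ c₂ ≠ 0 ∧ T (some 1) = some c₁ ∧
      ⇑T = cand p k g k' c₁ c₂ n := by
  have hk0 : k ≠ 0 := by
    intro h0
    have := hF.hk
    rw [h0, zero_pow hF.hn.ne'] at this
    exact zero_ne_one this
  set ku : (ZMod p)ˣ := Units.mk0 k hk0 with hku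
  have hkun : ku ^ n = 1 := by
    apply Units.ext
    rw [Units.val_pow_eq_pow_val, Units.val_one]; exact hF.hk
  obtain ⟨k'u, hk'n, hconj⟩ := h.conj_mu hT hT0 hT1 ku hkun
  have hstep : ∀ y : ZMod p, T (some (k * y)) = omul p (k'u : ZMod p) (T (some y)) := by
    intro y
    have := congrArg (fun π : Perm (Option (ZMod p)) => π (some y)) hconj
    simp only [Perm.mul_apply, mu_some, hku, Units.val_mk0] at this
    rw [this, mu_apply]
  have hval : ∀ y : ZMod p, y ≠ 0 → ∃ z : ZMod p, z ≠ 0 ∧ T (some y) = some z := by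
    intro y hy
    cases hz : T (some y) with
    | none =>
      exfalso
      have := T.injective (hz.trans hT1.symm)
      exact hy (Option.some.inj this)
    | some z =>
      refine ⟨z, ?_, rfl⟩
      intro hz0
      rw [hz0] at hz
      have := T.injective (hz.trans hT0.symm)
      simp at this
  have hpow : ∀ (i : ℕ) (y z : ZMod p), T (some y) = some z →
      T (some (y * k ^ i)) = some ((k'u : ZMod p) ^ i * z) := by
    intro i
    induction i with
    | zero => intro y z hz; simpa using hz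
    | succ i ih =>
      intro y z hz
      have e1 : y * k ^ (i + 1) = k * (y * k ^ i) := by ring
      rw [e1, hstep, ih y z hz]
      simp only [omul, Option.map_some]
      congr 1; ring
  obtain ⟨c₁, hc₁, hT1'⟩ := hval 1 one_ne_zero
  obtain ⟨c₂, hc₂, hTg⟩ := hval g hF.hg
  refine ⟨(k'u : ZMod p), c₁, c₂, ?_, hc₁, hc₂, hT1', ?_⟩
  · rw [← Units.val_pow_eq_pow_val, hk'n, Units.val_one]
  · funext y
    cases y with
    | none => rw [hT0]; rfl
    | some y =>
      by_cases hy : y = 0
      · rw [hy, hT1]; simp [cand]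
      · obtain ⟨z, -, hz⟩ := hval y hy
        rw [hz]
        simp only [cand, if_neg hy]
        congr 1
        symm
        apply candVal_eq
        · intro i _ hi
          have := hpow i 1 c₁ hT1'
          rw [one_mul, ← hi, hz] at this
          exact Option.some.inj this
        · intro i _ hi
          have := hpow i g c₂ hTg
          rw [← hi, hz] at this
          exact Option.some.inj this
        · exact hF.F2 y hy

/-- after normalisation the swapping element is the fixed candidate map -/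
theorem exists_normalized (h : ZCond n R) {k g kinv c1s c2s : ZMod p}
    (hF : PFacts p n k g kinv c1s c2s) :
    ∃ T ∈ R, T none = some 0 ∧ T (some 0) = none ∧ ⇑T = cand p k g kinv c1s c2s n := by
  obtain ⟨T, hT, hT0, hT1⟩ := h.swap
  obtain ⟨k', c₁, c₂, -, hc₁, -, hT1', -⟩ := h.eq_cand hF hT hT0 hT1
  have hk0 : k ≠ 0 := by
    intro h0
    have := hF.hk
    rw [h0, zero_pow hF.hn.ne'] at this
    exact zero_ne_one this
  set ku : (ZMod p)ˣ := Units.mk0 k hk0 with hku
  have hkun : ku ^ n = 1 := by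
    apply Units.ext
    rw [Units.val_pow_eq_pow_val, Units.val_one]; exact hF.hk
  obtain ⟨i, -, hi⟩ := hF.F2 c₁ hc₁
  set su : (ZMod p)ˣ := (ku ^ i)⁻¹ with hsu
  have hsun : su ^ n = 1 := by
    rw [hsu, inv_pow, ← pow_mul, mul_comm, pow_mul, hkun, one_pow, inv_one]
  have hsuk : (su : ZMod p) * k ^ i = 1 := by
    have : su * ku ^ i = 1 := by rw [hsu, inv_mul_cancel]
    have h2 := congrArg (fun u : (ZMod p)ˣ => (u : ZMod p)) this
    simpa [hku] using h2
  set T' : Perm (Option (ZMod p)) := mu su * T with hT'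
  have hT'R : T' ∈ R := R.mul_mem (h.mu_mem su hsun) hT
  have hT'0 : T' none = some 0 := by simp [hT', Perm.mul_apply, hT0]
  have hT'1 : T' (some 0) = none := by simp [hT', Perm.mul_apply, hT1]
  have hT'one : T' (some 1) = some ((su : ZMod p) * c₁) := by
    simp [hT', Perm.mul_apply, hT1']
  obtain ⟨k'', d₁, d₂, hk'', -, hd₂, hd1, hfun⟩ := h.eq_cand hF hT'R hT'0 hT'1
  have hd₁ : d₁ = (su : ZMod p) * c₁ := by
    rw [hT'one] at hd1; exact (Option.some.inj hd1).symm
  have hmem : d₁ ∈ [1, g] := by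
    rw [hd₁]
    rcases hi with hi | hi
    · rw [hi, hsuk]; simp
    · rw [hi, mul_comm g, ← mul_assoc, hsuk, one_mul]; simp
  have hb := h.bruhat hT'R hT'0 hT'1
  rw [hfun] at hb
  obtain ⟨e1, e2, e3⟩ := hF.F3 k'' d₂ d₁ hmem hk'' hd₂ hb
  refine ⟨T', hT'R, hT'0, hT'1, ?_⟩
  rw [hfun, e1, e2, e3]

theorem le_of_normalized (h : ZCond n R) {R' : Subgroup (Perm (Option (ZMod p)))}
    (h' : ZCond n R') {T : Perm (Option (ZMod p))} (hT : T ∈ R) (hT' : T ∈ R')
    (hT0 : T none = some 0) (hT1 : T (some 0) = none) : R ≤ R' := by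
  intro π hπ
  by_cases h0 : π none = none
  · obtain ⟨w, c, hc, rfl⟩ := h.stab_none hπ h0
    exact R'.mul_mem (ZP.sh_mem h'.sh_mem w) (h'.mu_mem c hc)
  · obtain ⟨w, v, c, hc, rfl⟩ := h.form hT hT0 hT1 hπ h0
    exact R'.mul_mem (R'.mul_mem (R'.mul_mem (ZP.sh_mem h'.sh_mem w) (h'.mu_mem c hc)) hT')
      (ZP.sh_mem h'.sh_mem v)

/-- Uniqueness: two subgroups satisfying the conditions coincide. -/
theorem unique {R₁ R₂ : Subgroup (Perm (Option (ZMod p)))} {k g kinv c1s c2s : ZMod p}
    (hF : PFacts p n k g kinv c1s c2s) (h₁ : ZCond n R₁) (h₂ : ZCond n R₂) : R₁ = R₂ := by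
  obtain ⟨T₁, hT₁, h10, h11, hf₁⟩ := h₁.exists_normalized hF
  obtain ⟨T₂, hT₂, h20, h21, hf₂⟩ := h₂.exists_normalized hF
  have hTT : T₁ = T₂ := DFunLike.coe_injective (hf₁.trans hf₂.symm)
  subst hTT
  exact le_antisymm (h₁.le_of_normalized h₂ hT₁ hT₂ h10 h11)
    (h₂.le_of_normalized h₁ hT₂ hT₁ h10 h11)

end ZCond

end Cfsg.Agent.Helper3.ZP
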