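import Mathlib
import Cfsg.Agent.Helper3.ZPerm3

set_option autoImplicit false
set_option linter.style.haveILetI false
set_option linter.unusedSectionVars false

/-! A group of order `(p+1) p n` (`p = 2n+1`) with `p+1` Sylow `p`-subgroups acting faithfully on
them: normal form of the permutation representation on `Option (ZMod p)`. -/

namespace Cfsg.Agent.Helper3.ZP

open Equiv Subgroup

variable {p : ℕ} [hp : Fact p.Prime] {G : Type*} [Group G] [Finite G]

/-- `b ^ m` for `m : ZMod p` -/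
def zpw (b : G) (m : ZMod p) : G := b ^ m.val

theorem zpw_add {b : G} (hb : b ^ p = 1) (m m' : ZMod p) :
    zpw b (m + m') = zpw b m * zpw b m' := by
  unfold zpw
  rw [ZMod.val_add, ← pow_add]
  conv_rhs => rw [← Nat.mod_add_div (m.val + m'.val) p]
  rw [pow_add, pow_mul, hb, one_pow, mul_one]

theorem zpw_zero (b : G) : zpw b (0 : ZMod p) = 1 := by
  unfold zpw; rw [ZMod.val_zero, pow_zero]

theorem zpw_one {b : G} : zpw b (1 : ZMod p) = b := by
  unfold zpw
  haveI : Fact (1 < p) := ⟨hp.out.one_lt⟩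
  rw [ZMod.val_one, pow_one]

theorem zpw_natCast {b : G} (hb : b ^ p = 1) (j : ℕ) : zpw b ((j : ℕ) : ZMod p) = b ^ j := by
  unfold zpw
  rw [ZMod.val_natCast]
  conv_rhs => rw [← Nat.mod_add_div j p]
  rw [pow_add, pow_mul, hb, one_pow, mul_one]

theorem zpw_mul {b : G} (hb : b ^ p = 1) (c m : ZMod p) :
    zpw (zpw b c) m = zpw b (c * m) := by
  unfold zpw
  rw [← pow_mul, ZMod.val_mul]
  conv_lhs => rw [← Nat.mod_add_div (c.val * m.val) p]
  rw [pow_add, pow_mul, hb, one_pow, mul_one]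

theorem zpw_eq_one {b : G} (hob : orderOf b = p) {m : ZMod p} (h : zpw b m = 1) : m = 0 := by
  unfold zpw at h
  have h1 : p ∣ m.val := by
    have := orderOf_dvd_of_pow_eq_one h
    rwa [hob] at this
  have h2 : m.val < p := ZMod.val_lt m
  have h3 : m.val = 0 := Nat.eq_zero_of_dvd_of_lt h1 h2
  exact (ZMod.val_eq_zero m).mp h3

theorem zpw_mem {b : G} {Q : Subgroup G} (hb : b ∈ Q) (m : ZMod p) : zpw b m ∈ Q :=
  pow_mem hb _

/-- Sylow `p`-subgroups of order `p`: an element of order `p` in `Q` generates `Q`. -/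
theorem zpowers_eq_of_mem {Q : Sylow p G} (hQ : Nat.card ↥(Q : Subgroup G) = p) {b : G}
    (hb : b ∈ (Q : Subgroup G)) (hob : orderOf b = p) : zpowers b = (Q : Subgroup G) := by
  apply Subgroup.eq_of_le_of_card_ge
  · rw [zpowers_le]; exact hb
  · rw [hQ, Nat.card_zpowers, hob]

/-- fixed points of elements of a Sylow subgroup of order `p` -/
theorem eq_of_zpw_smul_eq (hall : ∀ Q : Sylow p G, Nat.card ↥(Q : Subgroup G) = p)
    {Q : Sylow p G} {b : G} (hb : b ∈ (Q : Subgroup G)) (hob : orderOf b = p) {y : Sylow p G}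
    {m : ZMod p} (hm : m ≠ 0) (h : zpw b m • y = y) : y = Q := by
  have h1 := Sylow.smul_eq_iff_mem_normalizer.mp h
  have h2 : zpw b m ∈ (Q : Subgroup G) ⊓ _ := ⟨zpw_mem hb m, h1⟩
  rw [IsPGroup.inf_normalizer_sylow Q.isPGroup' y] at h2
  have h3 : zpw b m ∈ (y : Subgroup G) := h2.2
  -- `zpw b m` has order `p`
  have hne : zpw b m ≠ 1 := fun h0 => hm (zpw_eq_one hob h0)
  have hbp : b ^ p = 1 := by rw [← hob]; exact pow_orderOf_eq_one b
  have hpow : (zpw b m) ^ p = 1 := by
    unfold zpw; rw [← pow_mul, mul_comm, pow_mul, hbp, one_pow]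
  have hoz : orderOf (zpw b m) = p := orderOf_eq_prime hpow hne
  have e1 := zpowers_eq_of_mem (hall y) h3 hoz
  have e2 := zpowers_eq_of_mem (hall Q) (zpw_mem hb m) hoz
  exact Sylow.ext (e1.symm.trans e2)

/-- the map `∞ ↦ Q`, `m ↦ b^m • y` -/
def orbMap (Q : Sylow p G) (b : G) (y : Sylow p G) : Option (ZMod p) → Sylow p G
  | none => Q
  | some m => zpw b m • y

theorem orbMap_injective (hall : ∀ Q : Sylow p G, Nat.card ↥(Q : Subgroup G) = p)
    {Q : Sylow p G} {b : G} (hb : b ∈ (Q : Subgroup G)) (hob : orderOf b = p) {y : Sylow p G}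
    (hy : y ≠ Q) : Function.Injective (orbMap Q b y) := by
  have hbp : b ^ p = 1 := by rw [← hob]; exact pow_orderOf_eq_one b
  have hbQ : ∀ m : ZMod p, zpw b m • Q = Q := fun m =>
    Sylow.smul_eq_iff_mem_normalizer.mpr (le_normalizer (zpw_mem hb m))
  have hne : ∀ m : ZMod p, zpw b m • y ≠ Q := by
    intro m h
    apply hy
    have : y = (zpw b m)⁻¹ • Q := by rw [← h, inv_smul_smul]
    rw [this, inv_smul_eq_iff, hbQ]
  intro x x' hxx
  cases x with
  | none =>
    cases x' with
    | none => rfl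
    | some m' => exact absurd hxx.symm (hne m')
  | some m =>
    cases x' with
    | none => exact absurd hxx (hne m)
    | some m' =>
      simp only [orbMap] at hxx
      congr 1
      by_contra hmm
      have hd : m - m' ≠ 0 := sub_ne_zero.mpr hmm
      have e1 : zpw b (m - m') • (zpw b m' • y) = zpw b m' • y := by
        rw [smul_smul, ← zpw_add hbp, sub_add_cancel, hxx]
      have := eq_of_zpw_smul_eq hall hb hob hd e1
      exact hne m' this

theorem orbMap_bijective (hall : ∀ Q : Sylow p G, Nat.card ↥(Q : Subgroup G) = p)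
    (hsyl : Nat.card (Sylow p G) = p + 1)
    {Q : Sylow p G} {b : G} (hb : b ∈ (Q : Subgroup G)) (hob : orderOf b = p) {y : Sylow p G}
    (hy : y ≠ Q) : Function.Bijective (orbMap Q b y) := by
  apply (orbMap_injective hall hb hob hy).bijective_of_nat_card_le
  rw [hsyl, Finite.card_option, Nat.card_eq_fintype_card, ZMod.card]

theorem exists_zpw_smul_eq (hall : ∀ Q : Sylow p G, Nat.card ↥(Q : Subgroup G) = p)
    (hsyl : Nat.card (Sylow p G) = p + 1)
    {Q : Sylow p G} {b : G} (hb : b ∈ (Q : Subgroup G)) (hob : orderOf b = p) {y z : Sylow p G}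
    (hy : y ≠ Q) (hz : z ≠ Q) : ∃ m : ZMod p, zpw b m • y = z := by
  obtain ⟨x, hx⟩ := (orbMap_bijective hall hsyl hb hob hy).2 z
  cases x with
  | none => exact absurd hx.symm hz
  | some m => exact ⟨m, hx⟩

end Cfsg.Agent.Helper3.ZP
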