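import Mathlib
import Cfsg.Agent.Helper3.ZGroup1

set_option autoImplicit false
set_option linter.style.haveILetI false
set_option linter.unusedSectionVars false

namespace Cfsg.Agent.Helper3.ZP

open Equiv Subgroup

variable {p : ℕ} [hp : Fact p.Prime] {G : Type*} [Group G] [Finite G]

theorem card_normalizer_sylow {n : ℕ} (hcard : Nat.card G = (p + 1) * (p * n))
    (hsyl : Nat.card (Sylow p G) = p + 1) (Q : Sylow p G) :
    Nat.card ↥(normalizer ((Q : Subgroup G) : Set G)) = p * n := by
  have h1 : Nat.card (Sylow p G) = (normalizer ((Q : Subgroup G) : Set G)).index :=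
    Sylow.card_eq_index_normalizer Q
  have h2 := (normalizer ((Q : Subgroup G) : Set G)).card_mul_index
  rw [hsyl] at h1
  rw [← h1, hcard, mul_comm] at h2
  exact Nat.eq_of_mul_eq_mul_left (Nat.succ_pos p) h2

theorem card_sylow_eq {n : ℕ} (hn : 0 < n) (hpn : p = 2 * n + 1)
    (hcard : Nat.card G = (p + 1) * (p * n))
    (hsyl : Nat.card (Sylow p G) = p + 1) (Q : Sylow p G) :
    Nat.card ↥(Q : Subgroup G) = p := by
  have hN := card_normalizer_sylow hcard hsyl Q
  have hdvd : Nat.card ↥(Q : Subgroup G) ∣ p * n := by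
    rw [← hN]; exact Subgroup.card_dvd_of_le le_normalizer
  obtain ⟨j, hj⟩ := Q.isPGroup'.exists_card_eq
  have hidx : ¬ p ∣ (Q : Subgroup G).index := Sylow.not_dvd_index Q
  have hmul := (Q : Subgroup G).card_mul_index
  have hpG : p ∣ Nat.card G := by rw [hcard]; exact ⟨(p + 1) * n, by ring⟩
  have hpQ : p ∣ Nat.card ↥(Q : Subgroup G) := by
    rw [← hmul] at hpG
    rcases (Nat.Prime.dvd_mul hp.out).mp hpG with h | h
    · exact h
    · exact absurd h hidx
  have hj1 : 1 ≤ j := by
    rcases Nat.eq_zero_or_pos j with h0 | h0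
    · rw [h0, pow_zero] at hj
      rw [hj] at hpQ
      exact absurd (Nat.le_of_dvd one_pos hpQ) (by have := hp.out.one_lt; omega)
    · exact h0
  have hj2 : j ≤ 1 := by
    by_contra hlt
    push Not at hlt
    have h2 : p ^ 2 ∣ p * n := by
      rw [hj] at hdvd
      exact (pow_dvd_pow p hlt).trans hdvd
    rw [pow_two] at h2
    have h3 : p ∣ n := Nat.dvd_of_mul_dvd_mul_left hp.out.pos h2
    have := Nat.le_of_dvd hn h3
    omega
  have : j = 1 := le_antisymm hj2 hj1
  rw [hj, this, pow_one]

end Cfsg.Agent.Helper3.ZP
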