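import Mathlib
import Cfsg.Agent.Helper3.ZGroup2

set_option autoImplicit false
set_option linter.style.haveILetI false
set_option linter.unusedSectionVars false

namespace Cfsg.Agent.Helper3.ZP

open Equiv Subgroup

variable {p : ℕ} [hp : Fact p.Prime] {G : Type*} [Group G] [Finite G]

/-- the permutation representation on `Option (ZMod p)` transported along `E` -/
noncomputable def rep (E : Option (ZMod p) ≃ Sylow p G) : G →* Perm (Option (ZMod p)) :=
  (E.symm.permCongrHom).toMonoidHom.comp (MulAction.toPermHom G (Sylow p G))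

theorem rep_apply (E : Option (ZMod p) ≃ Sylow p G) (g : G) (x : Option (ZMod p)) :
    rep E g x = E.symm (g • E x) := by
  simp [rep, Equiv.permCongrHom, MulAction.toPermHom_apply]

theorem rep_injective (hfaith : ∀ g : G, (∀ Q : Sylow p G, g • Q = Q) → g = 1)
    (E : Option (ZMod p) ≃ Sylow p G) : Function.Injective (rep E) := by
  rw [injective_iff_map_eq_one]
  intro g hg
  apply hfaith
  intro Q
  have h1 := congrArg (fun π : Perm (Option (ZMod p)) => π (E.symm Q)) hg
  simp only [rep_apply, Equiv.apply_symm_apply, Perm.coe_one, id_eq] at h1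
  exact E.symm.injective h1

section data

variable {P Q₀ : Sylow p G} {a : G} (E : Option (ZMod p) ≃ Sylow p G)
  (hE : ∀ x, E x = orbMap P a Q₀ x) (ha : a ∈ (P : Subgroup G)) (hoa : orderOf a = p)

include hE in
theorem E_none : E none = P := by rw [hE]; rfl

include hE in
theorem E_some (m : ZMod p) : E (some m) = zpw a m • Q₀ := by rw [hE]; rfl

include hE in
theorem E_zero : E (some 0) = Q₀ := by rw [E_some E hE, zpw_zero, one_smul]

include hE ha hoa in
theorem rep_a : rep E a = sh 1 := by
  have hap : a ^ p = 1 := by rw [← hoa]; exact pow_orderOf_eq_one a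
  ext1 x
  rw [rep_apply]
  cases x with
  | none =>
    rw [E_none E hE, sh_none, Equiv.symm_apply_eq, E_none E hE]
    exact Sylow.smul_eq_iff_mem_normalizer.mpr (le_normalizer ha)
  | some m =>
    rw [E_some E hE, sh_some, Equiv.symm_apply_eq, E_some E hE, smul_smul, zpw_add hap, zpw_one]

include hE in
theorem smul_of_rep_none {g : G} (h : rep E g none = none) : g • P = P := by
  rw [rep_apply, Equiv.symm_apply_eq, E_none E hE] at h; exact h

include hE in
theorem smul_of_rep_zero {g : G} (h : rep E g (some 0) = some 0) : g • Q₀ = Q₀ := by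
  rw [rep_apply, Equiv.symm_apply_eq, E_zero E hE] at h; exact h

include hE ha hoa in
/-- an element fixing `∞` and `0` acts as a multiplication -/
theorem rep_stab (hall : ∀ Q : Sylow p G, Nat.card ↥(Q : Subgroup G) = p) {g : G}
    (h0 : g • P = P) (h1 : g • Q₀ = Q₀) : ∃ c : (ZMod p)ˣ, rep E g = mu c := by
  have hap : a ^ p = 1 := by rw [← hoa]; exact pow_orderOf_eq_one a
  have hgN := Sylow.smul_eq_iff_mem_normalizer.mp h0
  have hmem : g * a * g⁻¹ ∈ (P : Subgroup G) := (mem_normalizer_iff.mp hgN a).mp ha
  rw [← zpowers_eq_of_mem (hall P) ha hoa, ← mem_powers_iff_mem_zpowers] at hmem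
  obtain ⟨j, hj⟩ := Submonoid.mem_powers_iff _ _ |>.mp hmem
  set c : ZMod p := ((j : ℕ) : ZMod p) with hc
  have hzc : zpw a c = g * a * g⁻¹ := by rw [hc, zpw_natCast hap, hj]
  have hc0 : c ≠ 0 := by
    intro h0'
    rw [h0', zpw_zero] at hzc
    have : a = 1 := by
      have e1 : a = g⁻¹ * (g * a * g⁻¹) * g := by group
      rw [e1, ← hzc]; group
    rw [this, orderOf_one] at hoa
    exact hp.out.one_lt.ne hoa
  refine ⟨Units.mk0 c hc0, ?_⟩
  ext1 x
  rw [rep_apply]
  cases x with
  | none =>
    rw [E_none E hE, mu_none, Equiv.symm_apply_eq, E_none E hE]; exact h0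
  | some m =>
    rw [E_some E hE, mu_some, Equiv.symm_apply_eq, E_some E hE, Units.val_mk0]
    have e1 : g * zpw a m = zpw a (c * m) * g := by
      rw [← zpw_mul hap, hzc]
      unfold zpw
      rw [conj_pow]; group
    rw [smul_smul, e1, ← smul_smul, h1]

end data

end Cfsg.Agent.Helper3.ZP
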