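import Mathlib
import Cfsg.Agent.Helper3.ZGroup3

set_option autoImplicit false
set_option linter.style.haveILetI false
set_option linter.unusedSectionVars false

namespace Cfsg.Agent.Helper3.ZP

open Equiv Subgroup

variable {p : ℕ} [hp : Fact p.Prime] {G : Type*} [Group G] [Finite G]

section data

variable {P Q₀ : Sylow p G} {a : G} (E : Option (ZMod p) ≃ Sylow p G)
  (hE : ∀ x, E x = orbMap P a Q₀ x) (ha : a ∈ (P : Subgroup G)) (hoa : orderOf a = p)

/-- the two-point stabiliser -/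
def twoStab (P Q₀ : Sylow p G) : Subgroup G :=
  MulAction.stabilizer G P ⊓ MulAction.stabilizer G Q₀

theorem mem_twoStab {g : G} : g ∈ twoStab P Q₀ ↔ g • P = P ∧ g • Q₀ = Q₀ := by
  simp [twoStab, Subgroup.mem_inf, MulAction.mem_stabilizer_iff]

include hE ha in
theorem card_stab_eq (hPQ : Q₀ ≠ P) :
    Nat.card ↥(MulAction.stabilizer G P) = p * Nat.card ↥(twoStab P Q₀) := by
  have haP : ∀ m : ZMod p, zpw a m • P = P := fun m =>
    Sylow.smul_eq_iff_mem_normalizer.mpr (le_normalizer (zpw_mem ha m))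
  let φ : ZMod p × ↥(twoStab P Q₀) → ↥(MulAction.stabilizer G P) := fun x =>
    ⟨zpw a x.1 * (x.2 : G), by
      rw [MulAction.mem_stabilizer_iff, mul_smul, (mem_twoStab.mp x.2.2).1, haP]⟩
  have hφ : Function.Bijective φ := by
    constructor
    · rintro ⟨m, h⟩ ⟨m', h'⟩ hxx
      have h1 : zpw a m * (h : G) = zpw a m' * (h' : G) := congrArg Subtype.val hxx
      have h2 : zpw a m • Q₀ = zpw a m' • Q₀ := by
        have := congrArg (fun g : G => g • Q₀) h1
        simpa [mul_smul, (mem_twoStab.mp h.2).2, (mem_twoStab.mp h'.2).2] using this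
      rw [← E_some E hE, ← E_some E hE] at h2
      have h3 : m = m' := Option.some.inj (E.injective h2)
      subst h3
      have h4 : (h : G) = h' := mul_left_cancel h1
      rw [Prod.mk.injEq]
      exact ⟨rfl, Subtype.ext h4⟩
    · rintro ⟨g, hg⟩
      rw [MulAction.mem_stabilizer_iff] at hg
      have hne : g • Q₀ ≠ P := by
        intro h
        apply hPQ
        have : Q₀ = g⁻¹ • P := by rw [← h, inv_smul_smul]
        rw [this, inv_smul_eq_iff, hg]
      obtain ⟨x, hx⟩ := E.surjective (g • Q₀)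
      cases x with
      | none => rw [E_none E hE] at hx; exact absurd hx.symm hne
      | some m =>
        rw [E_some E hE] at hx
        have hmem : (zpw a m)⁻¹ * g ∈ twoStab P Q₀ := by
          rw [mem_twoStab]
          constructor
          · rw [mul_smul, hg, inv_smul_eq_iff, haP]
          · rw [mul_smul, inv_smul_eq_iff, hx]
        refine ⟨(m, ⟨(zpw a m)⁻¹ * g, hmem⟩), ?_⟩
        apply Subtype.ext
        show zpw a m * ((zpw a m)⁻¹ * g) = g
        group
  rw [← Nat.card_congr (Equiv.ofBijective φ hφ), Nat.card_prod, Nat.card_eq_fintype_card,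
    ZMod.card]

include hE ha in
theorem card_twoStab {n : ℕ} (hcard : Nat.card G = (p + 1) * (p * n))
    (hsyl : Nat.card (Sylow p G) = p + 1) (hPQ : Q₀ ≠ P) : Nat.card ↥(twoStab P Q₀) = n := by
  have h1 := card_stab_eq E hE ha hPQ
  rw [Sylow.stabilizer_eq_normalizer] at h1
  have h2 : Nat.card ↥(normalizer ((P : Subgroup G) : Set G)) = p * n :=
    card_normalizer_sylow hcard hsyl P
  have h3 : p * Nat.card ↥(twoStab P Q₀) = p * n := h1.symm.trans h2
  exact Nat.eq_of_mul_eq_mul_left hp.out.pos h3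

theorem mu_injective : Function.Injective (mu : (ZMod p)ˣ → Perm (Option (ZMod p))) := by
  intro c c' h
  have := congrArg (fun π : Perm (Option (ZMod p)) => π (some 1)) h
  simp only [mu_some, mul_one] at this
  exact Units.ext (Option.some.inj this)

include hE ha hoa in
theorem rep_twoStab {n : ℕ} (hall : ∀ Q : Sylow p G, Nat.card ↥(Q : Subgroup G) = p)
    (hn : Nat.card ↥(twoStab P Q₀) = n) {g : G} (hg : g ∈ twoStab P Q₀) :
    ∃ c : (ZMod p)ˣ, c ^ n = 1 ∧ rep E g = mu c := by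
  obtain ⟨h0, h1⟩ := mem_twoStab.mp hg
  obtain ⟨c, hc⟩ := rep_stab E hE ha hoa hall h0 h1
  refine ⟨c, ?_, hc⟩
  have hgn : g ^ n = 1 := by
    have : (⟨g, hg⟩ : ↥(twoStab P Q₀)) ^ Nat.card ↥(twoStab P Q₀) = 1 := pow_card_eq_one'
    rw [hn] at this
    exact congrArg Subtype.val this
  have h2 : mu (c ^ n) = mu 1 := by
    rw [mu_pow, ← hc, ← map_pow, hgn, map_one, mu_one]
  exact mu_injective h2

include hE ha hoa in
theorem mu_mem_range {n : ℕ} (hn0 : 0 < n)
    (hfaith : ∀ g : G, (∀ Q : Sylow p G, g • Q = Q) → g = 1)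
    (hall : ∀ Q : Sylow p G, Nat.card ↥(Q : Subgroup G) = p)
    (hn : Nat.card ↥(twoStab P Q₀) = n) (c : (ZMod p)ˣ) (hc : c ^ n = 1) :
    mu c ∈ (rep E).range := by
  classical
  have hex : ∀ h : ↥(twoStab P Q₀), ∃ c : (ZMod p)ˣ, c ^ n = 1 ∧ rep E (h : G) = mu c :=
    fun h => rep_twoStab E hE ha hoa hall hn h.2
  let κ : ↥(twoStab P Q₀) → {c : (ZMod p)ˣ // c ^ n = 1} := fun h =>
    ⟨Classical.choose (hex h), (Classical.choose_spec (hex h)).1⟩
  have hκ : ∀ h : ↥(twoStab P Q₀), rep E (h : G) = mu (κ h : (ZMod p)ˣ) := fun h =>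
    (Classical.choose_spec (hex h)).2
  have hinj : Function.Injective κ := by
    intro h h' hh
    have h1 : rep E (h : G) = rep E (h' : G) := by rw [hκ, hκ, hh]
    exact Subtype.ext (rep_injective hfaith E h1)
  have hle : Nat.card {c : (ZMod p)ˣ // c ^ n = 1} ≤ Nat.card ↥(twoStab P Q₀) := by
    rw [hn, Nat.card_eq_fintype_card, Fintype.card_subtype]
    exact IsCyclic.card_pow_eq_one_le hn0
  obtain ⟨h, hh⟩ := (hinj.bijective_of_nat_card_le hle).2 ⟨c, hc⟩
  refine ⟨(h : G), ?_⟩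
  rw [hκ, hh]

end data

/-- Part A: the normal form of the action on the Sylow `p`-subgroups. -/
theorem exists_rep {n : ℕ} (hn : 0 < n) (hpn : p = 2 * n + 1)
    (hcard : Nat.card G = (p + 1) * (p * n))
    (hsyl : Nat.card (Sylow p G) = p + 1)
    (hfaith : ∀ g : G, (∀ Q : Sylow p G, g • Q = Q) → g = 1) :
    ∃ ρ : G →* Perm (Option (ZMod p)), Function.Injective ρ ∧ ZCond n ρ.range := by
  have hall : ∀ Q : Sylow p G, Nat.card ↥(Q : Subgroup G) = p :=
    card_sylow_eq hn hpn hcard hsyl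
  obtain ⟨P⟩ : Nonempty (Sylow p G) := inferInstance
  -- a second Sylow subgroup
  have hex : ∃ Q₀ : Sylow p G, Q₀ ≠ P := by
    by_contra hcon
    push Not at hcon
    have : Nat.card (Sylow p G) ≤ 1 := by
      rw [Finite.card_le_one_iff_subsingleton]
      exact ⟨fun x y => (hcon x).trans (hcon y).symm⟩
    rw [hsyl] at this
    have := hp.out.pos
    omega
  obtain ⟨Q₀, hPQ⟩ := hex
  -- a generator of `P`
  obtain ⟨a', ha'⟩ := exists_prime_orderOf_dvd_card' (G := ↥(P : Subgroup G)) p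
    (by rw [hall P])
  set a : G := (a' : G) with hadef
  have ha : a ∈ (P : Subgroup G) := a'.2
  have hoa : orderOf a = p := by rw [hadef, Subgroup.orderOf_coe, ha']
  set E : Option (ZMod p) ≃ Sylow p G :=
    Equiv.ofBijective (orbMap P a Q₀) (orbMap_bijective hall hsyl ha hoa hPQ) with hEdef
  have hE : ∀ x, E x = orbMap P a Q₀ x := fun x => rfl
  have hH : Nat.card ↥(twoStab P Q₀) = n := card_twoStab E hE ha hcard hsyl hPQ
  refine ⟨rep E, rep_injective hfaith E, ?_, ?_, ?_, ?_⟩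
  · exact ⟨a, rep_a E hE ha hoa⟩
  · intro c hc
    exact mu_mem_range E hE ha hoa hn hfaith hall hH c hc
  · rintro _ ⟨g, rfl⟩ h0 h1
    have hg : g ∈ twoStab P Q₀ :=
      mem_twoStab.mpr ⟨smul_of_rep_none E hE h0, smul_of_rep_zero E hE h1⟩
    exact rep_twoStab E hE ha hoa hall hH hg
  · -- the swapping element
    obtain ⟨g₀, hg₀⟩ := MulAction.exists_smul_eq G P Q₀
    set y : Sylow p G := g₀ • Q₀ with hy
    have hyQ : y ≠ Q₀ := by
      intro h
      apply hPQ
      have h2 : g₀ • Q₀ = g₀ • P := by rw [← hy, h, hg₀]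
      exact smul_left_cancel g₀ h2
    set b : G := g₀ * a * g₀⁻¹ with hb
    have hbQ : b ∈ (Q₀ : Subgroup G) := by
      rw [← hg₀, Sylow.coe_subgroup_smul, Subgroup.mem_pointwise_smul_iff_inv_smul_mem]
      simp only [MulAut.smul_def, MulAut.inv_apply, MulAut.conj_symm_apply, hb]
      have : g₀⁻¹ * (g₀ * a * g₀⁻¹) * g₀ = a := by group
      rw [this]; exact ha
    have hob : orderOf b = p := by
      have := orderOf_injective (MulAut.conj g₀).toMonoidHom (MulAut.conj g₀).injective a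
      rw [← hoa, ← this]; rfl
    obtain ⟨m, hm⟩ := exists_zpw_smul_eq hall hsyl hbQ hob hyQ hPQ.symm
    refine ⟨rep E (zpw b m * g₀), ⟨_, rfl⟩, ?_, ?_⟩
    · rw [rep_apply, Equiv.symm_apply_eq, E_none E hE, E_zero E hE, mul_smul, hg₀]
      exact Sylow.smul_eq_iff_mem_normalizer.mpr (le_normalizer (zpw_mem hbQ m))
    · rw [rep_apply, Equiv.symm_apply_eq, E_zero E hE, E_none E hE, mul_smul]
      exact hm

end Cfsg.Agent.Helper3.ZP
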