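import Mathlib
import Cfsg.Agent.Helper3.ZPerm3
import Cfsg.Agent.Helper3.ZGroup4
import Cfsg.Agent.Helper11.NoSimple

set_option autoImplicit false
set_option linter.style.haveILetI false
set_option linter.unusedSectionVars false

namespace Cfsg.Agent.Helper3.ZP

open Equiv Subgroup

universe u v

variable {p : ℕ} [hp : Fact p.Prime]

/-- Two groups satisfying the Zassenhaus-type hypotheses (with the per-prime facts) are
isomorphic. -/
theorem iso_of_hyps {G₁ : Type u} [Group G₁] [Finite G₁] {G₂ : Type v} [Group G₂] [Finite G₂]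
    {n : ℕ} {k g kinv c1s c2s : ZMod p} (hF : PFacts p n k g kinv c1s c2s)
    (hpn : p = 2 * n + 1)
    (hcard₁ : Nat.card G₁ = (p + 1) * (p * n))
    (hsyl₁ : Nat.card (Sylow p G₁) = p + 1)
    (hfaith₁ : ∀ g : G₁, (∀ Q : Sylow p G₁, g • Q = Q) → g = 1)
    (hcard₂ : Nat.card G₂ = (p + 1) * (p * n))
    (hsyl₂ : Nat.card (Sylow p G₂) = p + 1)
    (hfaith₂ : ∀ g : G₂, (∀ Q : Sylow p G₂, g • Q = Q) → g = 1) :
    Nonempty (G₁ ≃* G₂) := by
  obtain ⟨ρ₁, hinj₁, hZ₁⟩ := exists_rep hF.hn hpn hcard₁ hsyl₁ hfaith₁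
  obtain ⟨ρ₂, hinj₂, hZ₂⟩ := exists_rep hF.hn hpn hcard₂ hsyl₂ hfaith₂
  have hR : ρ₁.range = ρ₂.range := ZCond.unique hF hZ₁ hZ₂
  exact ⟨(MonoidHom.ofInjective hinj₁).trans
    ((MulEquiv.subgroupCongr hR).trans (MonoidHom.ofInjective hinj₂).symm)⟩

/-- A simple group of the right order satisfies the hypotheses. -/
theorem simple_hyps {G : Type u} [Group G] [Finite G] [IsSimpleGroup G] {n : ℕ}
    (hn : 0 < n) (hpn : p = 2 * n + 1)
    (hcard : Nat.card G = (p + 1) * (p * n))
    (hdiv : ∀ d : ℕ, d ∣ (p + 1) * n → d % p = 1 → d = 1 ∨ d = p + 1) :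
    Nat.card (Sylow p G) = p + 1 ∧ ∀ g : G, (∀ Q : Sylow p G, g • Q = Q) → g = 1 := by
  have hpp := hp.out
  have hnc : ¬ IsMulCommutative G := by
    apply Cfsg.Agent.Helper11.simple_noncomm_of_card
    rw [hcard]
    intro hprime
    have h1 : p ∣ (p + 1) * (p * n) := ⟨(p + 1) * n, by ring⟩
    rcases (Nat.dvd_prime hprime).mp h1 with h | h
    · have := hpp.one_lt; omega
    · have h2 : (p + 1) * (p * n) = p * ((p + 1) * n) := by ring
      rw [h2] at h
      have h3 : (p + 1) * n = 1 := by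
        have := Nat.eq_of_mul_eq_mul_left hpp.pos (h.symm.trans (mul_one p).symm)
        exact this
      have h4 : p + 1 ∣ 1 := ⟨n, h3.symm⟩
      have := Nat.le_of_dvd one_pos h4
      have := hpp.one_lt
      omega
  have hpdvd : p ∣ Nat.card G := by rw [hcard]; exact ⟨(p + 1) * n, by ring⟩
  have hne1 := Cfsg.Agent.Helper11.simple_card_sylow_ne_one hnc p hpdvd
  have hpm : ¬ p ∣ (p + 1) * n := by
    intro h
    rcases (Nat.Prime.dvd_mul hpp).mp h with h | h
    · have : p ∣ 1 := (Nat.dvd_add_right (dvd_refl p)).mp h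
      have := Nat.le_of_dvd one_pos this
      have := hpp.one_lt
      omega
    · have := Nat.le_of_dvd hn h
      omega
  have hmem := Cfsg.Agent.Helper11.card_sylow_mem_filter (G := G) (p := p) ((p + 1) * n) 1
    (by rw [hcard, pow_one]; ring) hpm
  rw [Finset.mem_filter, Nat.mem_divisors] at hmem
  have hsyl : Nat.card (Sylow p G) = p + 1 := by
    rcases hdiv _ hmem.1.1 hmem.2 with h | h
    · exact absurd h hne1
    · exact h
  refine ⟨hsyl, ?_⟩
  intro g hg
  -- kernel of the action on Sylow subgroups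
  let φ : G →* Perm (Sylow p G) := MulAction.toPermHom G (Sylow p G)
  have hker : g ∈ φ.ker := by
    rw [MonoidHom.mem_ker]
    ext Q
    simp only [φ, MulAction.toPermHom_apply, MulAction.toPerm_apply, Perm.coe_one, id_eq]
    rw [hg Q]
  rcases (φ.normal_ker).eq_bot_or_eq_top with h | h
  · rw [h, Subgroup.mem_bot] at hker; exact hker
  · exfalso
    -- the action is transitive on more than one point
    obtain ⟨P⟩ : Nonempty (Sylow p G) := inferInstance
    have hall : ∀ Q : Sylow p G, Q = P := by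
      intro Q
      obtain ⟨x, hx⟩ := MulAction.exists_smul_eq G P Q
      have hx' : x ∈ φ.ker := by rw [h]; exact Subgroup.mem_top x
      rw [MonoidHom.mem_ker] at hx'
      have := congrArg (fun π : Perm (Sylow p G) => π P) hx'
      simp only [φ, MulAction.toPermHom_apply, MulAction.toPerm_apply, Perm.coe_one, id_eq] at this
      rw [← hx, this]
    have : Nat.card (Sylow p G) ≤ 1 := by
      rw [Finite.card_le_one_iff_subsingleton]
      exact ⟨fun x y => (hall x).trans (hall y).symm⟩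
    rw [hsyl] at this
    have := hpp.pos
    omega

/-- Uniqueness of the simple group of order `p (p^2-1)/2` given the per-prime facts. -/
theorem iso_of_simple {G₁ : Type u} [Group G₁] [Finite G₁] [IsSimpleGroup G₁]
    {G₂ : Type v} [Group G₂] [Finite G₂] [IsSimpleGroup G₂]
    {n : ℕ} {k g kinv c1s c2s : ZMod p} (hF : PFacts p n k g kinv c1s c2s)
    (hpn : p = 2 * n + 1)
    (hdiv : ∀ d : ℕ, d ∣ (p + 1) * n → d % p = 1 → d = 1 ∨ d = p + 1)
    (hcard₁ : Nat.card G₁ = (p + 1) * (p * n))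
    (hcard₂ : Nat.card G₂ = (p + 1) * (p * n)) :
    Nonempty (G₁ ≃* G₂) := by
  obtain ⟨hs₁, hf₁⟩ := simple_hyps (G := G₁) hF.hn hpn hcard₁ hdiv
  obtain ⟨hs₂, hf₂⟩ := simple_hyps (G := G₂) hF.hn hpn hcard₂ hdiv
  exact iso_of_hyps hF hpn hcard₁ hs₁ hf₁ hcard₂ hs₂ hf₂

end Cfsg.Agent.Helper3.ZP
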