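import Mathlib
import Cfsg.Agent.Helper3.ZMain
import Cfsg.Agent.S0243

set_option autoImplicit false
set_option linter.style.haveILetI false
set_option linter.unusedSectionVars false

namespace Cfsg.Agent.Helper3.ZP

open Equiv Subgroup

universe u v

variable {p : ℕ} [hp : Fact p.Prime]

/-- order of `PSL(2,F)` for `|F| = p = 2n+1`. -/
theorem card_psl {F : Type v} [Field F] [Fintype F] {n : ℕ} (hn : 0 < n) (hpn : p = 2 * n + 1)
    (hF : Fintype.card F = p) :
    Nat.card (Matrix.ProjectiveSpecialLinearGroup (Fin 2) F) = (p + 1) * (p * n) := by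
  have hcard := Cfsg.Agent.S0243.result hF 2 le_rfl
  rw [Fin.prod_univ_two] at hcard
  have h2 : Nat.gcd 2 (p - 1) = 2 := by
    rw [hpn]
    have : 2 * n + 1 - 1 = 2 * n := by omega
    rw [this]
    exact Nat.gcd_mul_right_right n 2 |>.symm ▸ (by simp)
  rw [h2] at hcard
  simp only [Fin.val_zero, Fin.val_one, pow_zero, pow_one] at hcard
  -- 2 * ((p-1) * N) = (p^2 - 1) * (p^2 - p)
  have e1 : p - 1 = 2 * n := by omega
  have e2 : p ^ 2 - 1 = (p + 1) * (2 * n) := by
    rw [hpn]
    have : (2 * n + 1) ^ 2 = (2 * n + 1 + 1) * (2 * n) + 1 := by ring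
    rw [this]; omega
  have e3 : p ^ 2 - p = p * (2 * n) := by
    rw [hpn]
    have : (2 * n + 1) ^ 2 = (2 * n + 1) * (2 * n) + (2 * n + 1) := by ring
    rw [this]; omega
  rw [e1, e2, e3] at hcard
  have h4 : (2 * (2 * n)) * Nat.card (Matrix.ProjectiveSpecialLinearGroup (Fin 2) F) =
      (2 * (2 * n)) * ((p + 1) * (p * n)) := by
    rw [show (2 * (2 * n)) * Nat.card (Matrix.ProjectiveSpecialLinearGroup (Fin 2) F) =
      2 * (2 * n * Nat.card (Matrix.ProjectiveSpecialLinearGroup (Fin 2) F)) by ring, hcard]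
    ring
  exact Nat.eq_of_mul_eq_mul_left (by omega) h4

/-- The final recognition theorem, modulo the per-prime facts. -/
theorem iso_psl {G : Type u} [Group G] [Finite G] [IsSimpleGroup G]
    {F : Type v} [Field F] [Fintype F]
    {n : ℕ} {k g kinv c1s c2s : ZMod p} (hF : PFacts p n k g kinv c1s c2s)
    (hpn : p = 2 * n + 1)
    (hdiv : ∀ d : ℕ, d ∣ (p + 1) * n → d % p = 1 → d = 1 ∨ d = p + 1)
    (hcard : Nat.card G = (p + 1) * (p * n)) (hcF : Fintype.card F = p) (hp4 : 4 ≤ p) :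
    Nonempty (G ≃* Matrix.ProjectiveSpecialLinearGroup (Fin 2) F) := by
  haveI : IsSimpleGroup (Matrix.ProjectiveSpecialLinearGroup (Fin 2) F) :=
    Matrix.ProjectiveSpecialLinearGroup.rank_two_simple
      (by rw [Nat.card_eq_fintype_card, hcF]; exact hp4)
  exact iso_of_simple hF hpn hdiv hcard (card_psl hF.hn hpn hcF)

end Cfsg.Agent.Helper3.ZP
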