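import Mathlib
import Cfsg.Agent.Helper5.S0999Main
import Cfsg.Agent.Helper24.SelfCentD
import Cfsg.Agent.S4503
import Cfsg.Agent.S4504
import Cfsg.Agent.S4705
import Cfsg.Agent.S0996
import Cfsg.Agent.Helper3.ZPSL
import Cfsg.Agent.Helper13.S0996FB
import Cfsg.Agent.Helper5.S0997FULL
import Cfsg.Agent.Helper25.S0997QDIV
import Cfsg.Agent.Helper23.S0997RARA
import Cfsg.Agent.Helper25.S0997ARB
import Cfsg.Agent.Helper18.S0997RINV
import Cfsg.Agent.Helper8.S0997REAL
import Cfsg.Agent.Helper1.S0997Tuan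

/-!
# S0997 (Brauer–Tuan): main assembly of the reduction
-/

set_option autoImplicit false

namespace Cfsg.Agent.S0997R

open Cfsg Cfsg.Agent.Helper24 Cfsg.Agent.S4503P Cfsg.Agent.S0999P

universe u

/-- The goal of S0997. -/
def Goal (G : Type u) [Group G] (p : ℕ) : Prop :=
  (∃ (m : ℕ) (F : Type) (_ : Field F) (_ : Fintype F), Fintype.card F = p ∧
      (p = 2 ^ m + 1 ∨ p = 2 ^ m - 1) ∧
      Nonempty (G ≃* Matrix.ProjectiveSpecialLinearGroup (Fin 2) F)) ∨
  (∃ (m : ℕ) (F : Type) (_ : Field F) (_ : Fintype F), Fintype.card F = 2 ^ m ∧ p = 2 ^ m + 1 ∧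
      3 < p ∧ Nonempty (G ≃* Matrix.ProjectiveSpecialLinearGroup (Fin 2) F))

variable {G : Type u} [Group G] [Finite G]

/-- the centre of a non-cyclic simple group is trivial -/
theorem center_eq_bot [IsSimpleGroup G] (hG : ¬ IsCyclic G) : Subgroup.center G = ⊥ := by
  have hcn : (Subgroup.center G).Normal := inferInstance
  rcases hcn.eq_bot_or_eq_top with h | h
  · exact h
  · exfalso
    have hcomm : ∀ a b : G, a * b = b * a := by
      intro a b
      have : b ∈ Subgroup.center G := by rw [h]; exact Subgroup.mem_top b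
      exact Subgroup.mem_center_iff.mp this a
    let _ : CommGroup G := { (inferInstance : Group G) with mul_comm := hcomm }
    exact hG inferInstance

/-- two natural numbers below `p` that are congruent mod `p` are equal -/
theorem eq_of_modEq_of_lt {p a b : ℕ} (h : (a : ℤ) ≡ (b : ℤ) [ZMOD p]) (ha : a < p) (hb : b < p) :
    a = b := by
  have h1 : a ≡ b [MOD p] := Int.natCast_modEq_iff.mp h
  exact Nat.ModEq.eq_of_lt_of_lt h1 ha hb

/-- `a ≡ -b (mod p)`, `0 < a + b < 2p`: `a + b = p` -/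
theorem add_eq_of_modEq_neg {p a b : ℕ} (h : (a : ℤ) ≡ -(b : ℤ) [ZMOD p]) (hpos : 0 < a + b)
    (hlt : a + b < 2 * p) : a + b = p := by
  have h1 : (p : ℤ) ∣ ((a + b : ℕ) : ℤ) := by
    have := h.symm.dvd
    push_cast
    have e : (a : ℤ) + b = a - -(b : ℤ) := by ring
    rw [e]
    exact this
  have h2 : p ∣ a + b := Int.natCast_dvd_natCast.mp h1
  exact Nat.eq_of_dvd_of_lt_two_mul hpos.ne' h2 hlt

/-- the arithmetic of the case B2 -/
theorem pow_arith {p f j d : ℕ} (hfi : f = 2 ^ (j + 1)) (h2fp : 2 * f = p - 1) (hp3 : 3 ≤ p)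
    (hd : d = p - f) :
    p = 2 ^ (j + 1 + 1) + 1 ∧ 5 ≤ p ∧ p % 4 = 1 ∧ Even f ∧ 2 * d = p + 1 := by
  have h1 : 2 ^ (j + 1 + 1) = 2 * 2 ^ (j + 1) := by ring
  have h2 : 2 ^ (j + 1) = 2 * 2 ^ j := by ring
  have h3 : 0 < 2 ^ j := by positivity
  generalize 2 ^ (j + 1 + 1) = a at *
  generalize 2 ^ (j + 1) = b at *
  generalize 2 ^ j = c at *
  refine ⟨by omega, by omega, by omega, ⟨c, by omega⟩, by omega⟩

/-- the case B2 + the endgame via S0996, given the number of Sylow subgroups -/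
theorem goal_of_sylow_count [IsSimpleGroup G] (hG : ¬ IsCyclic G) (p : ℕ) [Fact p.Prime]
    (P : Sylow p G) (hP : Nat.card P = p)
    (hCeq : Subgroup.centralizer ((P : Subgroup G) : Set G) = (P : Subgroup G))
    (hsyl : Nat.card (Sylow p G) = p + 1) (i : ℕ) (hpi : p = 2 ^ (i + 1) + 1) : Goal G p := by
  have hp : p.Prime := Fact.out
  have hcyc : IsCyclic (P : Subgroup G) := isCyclic_of_prime_card hP
  obtain ⟨z, hz⟩ := hcyc.exists_generator
  have hzp : Subgroup.zpowers (z : G) = (P : Subgroup G) := by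
    ext x
    constructor
    · intro hx
      obtain ⟨k, rfl⟩ := Subgroup.mem_zpowers_iff.mp hx
      exact Subgroup.zpow_mem _ z.2 k
    · intro hx
      obtain ⟨k, hk⟩ := Subgroup.mem_zpowers_iff.mp (hz ⟨x, hx⟩)
      rw [Subgroup.mem_zpowers_iff]
      refine ⟨k, ?_⟩
      have := congrArg Subtype.val hk
      simpa using this
  have hzo : orderOf (z : G) = p := by
    rw [← Nat.card_zpowers, hzp]
    exact hP
  have hCz : Subgroup.centralizer ({(z : G)} : Set G) = Subgroup.zpowers (z : G) := by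
    rw [← Subgroup.centralizer_closure, ← Subgroup.zpowers_eq_closure, hzp]
    exact hCeq
  have hcount : 2 * Nat.card (Sylow p G) < (p + 1) * (p + 2) := by
    rw [hsyl]
    nlinarith [hp.two_le]
  rcases Cfsg.Agent.S0996.result (perfect_of_simple hG) p (z : G) hzo hCz hcount with
    ⟨F, iF, iFt, hF, -, e⟩ | ⟨m, F, iF, iFt, hF, hpm, h3, e⟩
  · exact Or.inl ⟨i + 1, F, iF, iFt, hF, Or.inl hpi, e⟩
  · exact Or.inr ⟨m, F, iF, iFt, hF, hpm, h3, e⟩

set_option maxHeartbeats 1000000 in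
/-- S0997. -/
theorem main [IsSimpleGroup G] (hG : ¬ IsCyclic G) (p q b g₀ : ℕ) (hp : p.Prime)
    (hq : q.Prime) (hpq : p ≠ q) (hG' : Nat.card G = p * q ^ b * g₀) (hg : g₀ < p - 1) :
    Goal G p := by
  classical
  haveI : Fact p.Prime := ⟨hp⟩
  have hg0 : 0 < g₀ := by
    rcases Nat.eq_zero_or_pos g₀ with h | h
    · rw [h, mul_zero] at hG'
      exact absurd hG' Nat.card_pos.ne'
    · exact h
  have hp3 : 3 ≤ p := by omega
  have hdvd : p ∣ Nat.card G := ⟨q ^ b * g₀, by rw [hG']; ring⟩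
  have hsq : ¬ p ^ 2 ∣ Nat.card G := by
    rw [hG', pow_two, mul_assoc]
    intro h
    have h1 : p ∣ q ^ b * g₀ := Nat.dvd_of_mul_dvd_mul_left hp.pos h
    rcases (Nat.Prime.dvd_mul hp).mp h1 with h2 | h2
    · exact hpq ((Nat.prime_dvd_prime_iff_eq hp hq).mp (hp.dvd_of_dvd_pow h2))
    · have := Nat.le_of_dvd hg0 h2
      omega
  have hperf := perfect_of_simple hG
  have hZ := center_eq_bot hG
  -- a Sylow subgroup of order `p`
  obtain ⟨P⟩ : Nonempty (Sylow p G) := inferInstance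
  have hnnP := Cfsg.Agent.Helper5.S0999GT.sylow_not_normal hG p hdvd P
  have hP : Nat.card P = p := by
    obtain ⟨k, hk⟩ := (IsPGroup.iff_card.mp P.2)
    have hdvd' : Nat.card P ∣ Nat.card G := Subgroup.card_subgroup_dvd_card _
    have hk2 : k < 2 := by
      by_contra h
      push Not at h
      exact hsq (dvd_trans (pow_dvd_pow p h) (hk ▸ hdvd'))
    have hk0 : k ≠ 0 := by
      rintro rfl
      rw [pow_zero] at hk
      have h2 : p ∣ Nat.card P := P.dvd_card_of_dvd_card hdvd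
      rw [hk] at h2
      exact hp.one_lt.ne' (Nat.dvd_one.mp h2)
    have : k = 1 := by omega
    rw [hk, this, pow_one]
  obtain ⟨n, c, hn, hc, hsyl, hcC, hcard, hf2, hfd⟩ :=
    Cfsg.Agent.Helper5.S0999GT.group_facts hG p P hP
  have hdeg_dvd : ∀ χ : IrrCharacter G, irrDeg χ ∣ p * q ^ b * g₀ := fun χ => by
    rw [← hG']; exact irrDeg_dvd_card χ
  have hdeg_ne : ∀ χ : IrrCharacter G, χ ≠ trivIrr G → irrDeg χ ≠ 1 := fun χ h =>
    Cfsg.Agent.Helper24.SelfCent.irrDeg_ne_one_of_perfect hperf χ h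
  have htrivdeg : irrDeg (trivIrr G) = 1 := by
    have h := irrDeg_spec (trivIrr G)
    rw [trivIrr_apply] at h
    exact_mod_cast h.symm
  have hp1 : 0 < p - 1 := by omega
  have hfle : fN (P : Subgroup G) ≤ p - 1 := Nat.le_of_dvd hp1 hfd
  -- `f ≠ p - 1`
  have hfne : fN (P : Subgroup G) ≠ p - 1 := by
    intro hfull
    obtain ⟨S, s, hS1, hs, hSdeg, hrel⟩ := rel_of_full p hp3 P hP hfull
    have hq_all : ∀ χ ∈ S, (q : ℤ) ∣ s χ * (irrDeg χ : ℤ) := by
      intro χ hχ
      have hne : χ ≠ trivIrr G := fun h => hS1 (h ▸ hχ)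
      have : q ∣ irrDeg χ := by
        rcases hSdeg χ hχ with h | h
        · exact q_dvd_deg hp hq hg0 hg (Or.inl rfl) h (hdeg_dvd χ) (hdeg_ne χ hne)
        · exact q_dvd_deg hp hq hg0 hg (Or.inr rfl) h (hdeg_dvd χ) (hdeg_ne χ hne)
      exact Dvd.dvd.mul_left (Int.natCast_dvd_natCast.mpr this) _
    have hsum : (q : ℤ) ∣ ∑ χ ∈ S, s χ * (irrDeg χ : ℤ) := Finset.dvd_sum hq_all
    have h1 : (q : ℤ) ∣ 1 := by
      have e : (1 : ℤ) = - ∑ χ ∈ S, s χ * (irrDeg χ : ℤ) := by linarith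
      rw [e]
      exact (dvd_neg).mpr hsum
    have h2 : q ∣ 1 := by
      have : (q : ℤ) ∣ ((1 : ℕ) : ℤ) := by simpa using h1
      exact Int.natCast_dvd_natCast.mp this
    exact hq.one_lt.ne' (Nat.dvd_one.mp h2)
  have hflt : fN (P : Subgroup G) < p - 1 := lt_of_le_of_ne hfle hfne
  have h2f : 2 * fN (P : Subgroup G) ≤ p - 1 := by
    obtain ⟨k, hk⟩ := hfd
    have hk2 : 2 ≤ k := by
      by_contra h
      push Not at h
      interval_cases k
      · omega
      · omega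
    calc 2 * fN (P : Subgroup G) = fN (P : Subgroup G) * 2 := by ring
      _ ≤ fN (P : Subgroup G) * k := Nat.mul_le_mul_left _ hk2
      _ = p - 1 := hk.symm
  obtain ⟨D⟩ := Cfsg.Agent.Helper5.S0999B0X.exists_b0Full p P hP hfne
  have hYne : D.Y.Nonempty := by
    rw [Finset.nonempty_iff_ne_empty]
    intro h
    have := D.card_Y
    rw [h, Finset.card_empty, zero_mul] at this
    omega
  obtain ⟨ψ, hψ⟩ := hYne
  have hψne : ψ ≠ trivIrr G := fun h => (Finset.disjoint_left.mp D.disj) D.triv_mem (h ▸ hψ)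
  have hfaith : ∀ g : G, (ψ : G → ℂ) g = (ψ : G → ℂ) 1 → g = 1 := faithful_of_simple ψ hψne
  -- `q ∣ χ(1)` on `X ∖ {1}`
  have hqX : ∀ χ ∈ D.X, χ ≠ trivIrr G → q ∣ irrDeg χ := fun χ hχ hne =>
    q_dvd_deg hp hq hg0 hg (D.δ_pm χ hχ) (D.deg_X χ hχ) (hdeg_dvd χ) (hdeg_ne χ hne)
  have hrel := D.rel_one ψ hψ
  have hsplit : ∑ χ ∈ D.X, D.δ χ * (irrDeg χ : ℤ) =
      1 + ∑ χ ∈ D.X.erase (trivIrr G), D.δ χ * (irrDeg χ : ℤ) := by
    rw [← Finset.add_sum_erase D.X _ D.triv_mem, D.δ_triv, htrivdeg]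
    norm_num
  have hqsum : (q : ℤ) ∣ ∑ χ ∈ D.X.erase (trivIrr G), D.δ χ * (irrDeg χ : ℤ) := by
    apply Finset.dvd_sum
    intro χ hχ
    have h1 := hqX χ (Finset.mem_of_mem_erase hχ) (Finset.ne_of_mem_erase hχ)
    exact Dvd.dvd.mul_left (Int.natCast_dvd_natCast.mpr h1) _
  -- `q ∤ ψ(1)`
  have hqψ : ¬ q ∣ irrDeg ψ := by
    intro h
    have h1 : (q : ℤ) ∣ D.ε * (irrDeg ψ : ℤ) :=
      Dvd.dvd.mul_left (Int.natCast_dvd_natCast.mpr h) _
    rw [← hrel, hsplit] at h1
    have h2 : (q : ℤ) ∣ 1 := by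
      have e : (1 : ℤ) = (1 + ∑ χ ∈ D.X.erase (trivIrr G), D.δ χ * (irrDeg χ : ℤ)) -
          ∑ χ ∈ D.X.erase (trivIrr G), D.δ χ * (irrDeg χ : ℤ) := by ring
      rw [e]
      exact dvd_sub h1 hqsum
    have h3 : q ∣ 1 := by
      have : (q : ℤ) ∣ ((1 : ℕ) : ℤ) := by simpa using h2
      exact Int.natCast_dvd_natCast.mp this
    exact hq.one_lt.ne' (Nat.dvd_one.mp h3)
  -- `p ∤ ψ(1)`
  have hpψ : ¬ p ∣ irrDeg ψ := by
    intro h
    have h1 := D.deg_Y ψ hψ
    have h2 : (p : ℤ) ∣ (irrDeg ψ : ℤ) := Int.natCast_dvd_natCast.mpr h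
    have h3 : (p : ℤ) ∣ D.ε * (fN (P : Subgroup G) : ℤ) := by
      have := h1.dvd
      have e : D.ε * (fN (P : Subgroup G) : ℤ) =
          (D.ε * (fN (P : Subgroup G) : ℤ) - (irrDeg ψ : ℤ)) + (irrDeg ψ : ℤ) := by ring
      rw [e]
      exact dvd_add this h2
    have h4 : (p : ℤ) ∣ (fN (P : Subgroup G) : ℤ) := by
      rcases D.hε with he | he
      · rwa [he, one_mul] at h3
      · rw [he, neg_one_mul] at h3
        exact (dvd_neg).mp h3
    have h5 : p ∣ fN (P : Subgroup G) := Int.natCast_dvd_natCast.mp h4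
    have := Nat.le_of_dvd (by omega) h5
    omega
  have hψg : irrDeg ψ ∣ g₀ := by
    have h1 : irrDeg ψ ∣ p * (q ^ b * g₀) := by
      rw [← mul_assoc]; exact hdeg_dvd ψ
    have hψp : Nat.Coprime (irrDeg ψ) p := ((Nat.Prime.coprime_iff_not_dvd hp).mpr hpψ).symm
    have h2 : irrDeg ψ ∣ q ^ b * g₀ := Nat.Coprime.dvd_of_dvd_mul_left hψp h1
    have hψq : Nat.Coprime (irrDeg ψ) (q ^ b) :=
      Nat.Coprime.pow_right b ((Nat.Prime.coprime_iff_not_dvd hq).mpr hqψ).symm
    exact Nat.Coprime.dvd_of_dvd_mul_left hψq h2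
  have hψlt : irrDeg ψ < p - 1 := lt_of_le_of_lt (Nat.le_of_dvd hg0 hψg) hg
  have hψpos : 0 < irrDeg ψ := irrDeg_pos ψ
  -- `C(P) = P`
  have hc1 : c = 1 := by
    by_contra hne
    have hc2 : 2 ≤ c := by omega
    obtain ⟨x, hxC, hx1, hxp⟩ := exists_pregular p P hP c hcC hc2
    rcases D.big ψ (Or.inr hψ) with h | h
    · exact hx1 (hfaith x (h x hxC hxp))
    · omega
  subst hc1
  have hcyc : IsCyclic (P : Subgroup G) := isCyclic_of_prime_card hP
  have hPC : (P : Subgroup G) ≤ Subgroup.centralizer ((P : Subgroup G) : Set G) := by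
    have hcomm : ∀ a b : (P : Subgroup G), a * b = b * a := by
      obtain ⟨g, hg⟩ := hcyc.exists_generator
      intro a b
      obtain ⟨i, rfl⟩ := Subgroup.mem_zpowers_iff.mp (hg a)
      obtain ⟨j, rfl⟩ := Subgroup.mem_zpowers_iff.mp (hg b)
      rw [← zpow_add, ← zpow_add, add_comm]
    intro x hx
    rw [Subgroup.mem_centralizer_iff]
    intro y hy
    have := hcomm ⟨y, hy⟩ ⟨x, hx⟩
    exact congrArg Subtype.val this
  have hCeq : Subgroup.centralizer ((P : Subgroup G) : Set G) = (P : Subgroup G) := by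
    symm
    apply Subgroup.eq_of_le_of_card_ge hPC
    rw [hcC, mul_one]
    exact hP.ge
  have hnn : ∀ H : Subgroup G, H.Normal → Nat.card H ≠ p := by
    intro H hH hHp
    rcases hH.eq_bot_or_eq_top with h | h
    · rw [h, Subgroup.card_bot] at hHp
      exact hp.one_lt.ne hHp
    · rw [h, Subgroup.card_top] at hHp
      exact hG (isCyclic_of_prime_card hHp)
  have hchar : IsCharacter G (ψ : G → ℂ) := IsIrrCharacter.isCharacter ψ.2
  have hcd : Cfsg.charDegree (ψ : G → ℂ) = irrDeg ψ := by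
    unfold Cfsg.charDegree
    rw [irrDeg_spec]
    simp
  rcases D.hε with he | he
  · -- Case A: `ψ(1) = f`
    have hdeg : irrDeg ψ = fN (P : Subgroup G) := by
      have h := D.deg_Y ψ hψ
      rw [he, one_mul] at h
      exact eq_of_modEq_of_lt h (by omega) (by omega)
    have h4503 := Cfsg.Agent.S4503.result p hp hdvd hsq hnn (ψ : G → ℂ) hchar hfaith
    rw [hcd, hdeg] at h4503
    have hpf : 2 * fN (P : Subgroup G) + 1 = p := by omega
    obtain ⟨e⟩ := Cfsg.Agent.S4504.result p hp hdvd hsq hnn (ψ : G → ℂ) hchar hfaith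
      (by rw [hcd, hdeg]; exact hpf)
    have e0 : G ≃* G ⧸ Subgroup.center G :=
      (QuotientGroup.quotientBot (G := G)).symm.trans
        (QuotientGroup.quotientMulEquivOfEq hZ.symm)
    have hcardpsl := Cfsg.Agent.Helper3.ZP.card_psl (p := p) (F := ZMod p)
      (n := fN (P : Subgroup G)) (by omega) hpf.symm (ZMod.card p)
    have hGc : Nat.card G = (p + 1) * (p * fN (P : Subgroup G)) := by
      rw [Nat.card_congr (e0.trans e).toEquiv, hcardpsl]
    obtain ⟨m, hm⟩ := arith_caseA hp hq hpq hpf.symm (by omega) (by rw [← hGc, hG']) hg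
    exact Or.inl ⟨m, ZMod p, inferInstance, inferInstance, ZMod.card p, hm, ⟨e0.trans e⟩⟩
  · -- Case B: `ψ(1) = p - f`
    have hdeg : irrDeg ψ = p - fN (P : Subgroup G) := by
      have h := D.deg_Y ψ hψ
      rw [he, neg_one_mul] at h
      have := add_eq_of_modEq_neg h (by omega) (by omega)
      omega
    have hcard' : p * fN (P : Subgroup G) * (1 + n * p) = p * q ^ b * g₀ := by
      rw [← hG', hcard, mul_one]
    have hrel' : ∑ χ ∈ D.X, D.δ χ * (irrDeg χ : ℤ) = -((p - fN (P : Subgroup G) : ℕ) : ℤ) := by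
      rw [hrel, he, hdeg, neg_one_mul]
    have hB := arith_caseB (ι := IrrCharacter G) hp hq hpq hf2 hfd hfne hg0 hg hcard' D.X irrDeg D.δ
      (trivIrr G) D.triv_mem D.δ_triv htrivdeg D.δ_pm D.deg_X (fun χ _ => hdeg_dvd χ)
      (fun χ _ h => hdeg_ne χ h) (by rw [← hdeg]; exact hdeg_dvd ψ) hrel'
    -- split: S4705 or B2
    have hcases : (5 < p ∧ fN (P : Subgroup G) = 2) ∨
        ∃ i : ℕ, 1 ≤ i ∧ fN (P : Subgroup G) = 2 ^ i ∧ 2 * fN (P : Subgroup G) = p - 1 := by
      rcases hB with h2 | h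
      · by_cases h5 : 5 < p
        · exact Or.inl ⟨h5, h2⟩
        · right
          refine ⟨1, le_rfl, by rw [h2]; norm_num, ?_⟩
          have hp5 : p = 5 := by
            have h4 : p ≠ 4 := by
              rintro rfl
              norm_num at hp
            have h3 : p ≠ 3 := by
              rintro rfl
              omega
            omega
          rw [h2, hp5]
      · exact Or.inr h
    rcases hcases with ⟨h5, h2⟩ | ⟨i, hi1, hfi, h2fp⟩
    · -- S4705
      obtain ⟨a, F, iF, iFt, hpa, hF, ⟨e⟩⟩ := Cfsg.Agent.S4705.result p h5 P hP hnnP (ψ : G → ℂ) ψ.2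
        hfaith (by rw [hcd, hdeg, h2])
      have ha : a ≠ 0 := by
        intro h0
        rw [h0] at hpa
        omega
      have hchar2 : CharP F 2 := Cfsg.Agent.Lead.AI.charP_two_of_card ha hF
      have hsub : Subsingleton (Subgroup.center G) :=
        Cfsg.Agent.Helper13.S0996FB.subsingleton_of_perfect_prod
          (fun x y => Subtype.ext (y.2.comm x.1).symm) hperf e
      obtain ⟨e2⟩ := Cfsg.Agent.Lead.AI.nonempty_sl2_equiv_psl2 (F := F)
      have hun : Unique (Subgroup.center G) := ⟨⟨1⟩, fun x => Subsingleton.elim x 1⟩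
      exact Or.inr ⟨a, F, iF, iFt, hF, hpa, by omega, ⟨(e.trans (MulEquiv.prodUnique)).trans e2⟩⟩
    · -- B2
      obtain ⟨j, rfl⟩ : ∃ j, i = j + 1 := ⟨i - 1, by omega⟩
      obtain ⟨hpi, hp5, hp4, heven, hdeg2⟩ := pow_arith hfi h2fp hp3 hdeg
      have hreal := real_of_half p hp5 P hP hCeq h2fp (exists_conj_inv p P hP hCeq heven) ψ hdeg2
      obtain ⟨n', ρ, hirr, hρ⟩ := ψ.2
      have hn' : n' = irrDeg ψ := by
        have h1 : (irrDeg ψ : ℂ) = (Module.finrank ℂ (Fin n' → ℂ) : ℂ) := by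
          rw [← irrDeg_spec, ← hρ, Representation.char_one]
        have h2 : irrDeg ψ = Module.finrank ℂ (Fin n' → ℂ) := by exact_mod_cast h1
        rw [h2, Module.finrank_fin_fun]
      have hC' : Subgroup.centralizer ((P : Subgroup G) : Set G) =
          (P : Subgroup G) ⊔ Subgroup.center G := by
        rw [hZ, sup_bot_eq, hCeq]
      have hK : ∀ K : Subgroup G, K.Normal → ¬ (p ∣ Nat.card K) → K ≤ Subgroup.center G := by
        intro K hKn hKp
        rcases hKn.eq_bot_or_eq_top with h | h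
        · rw [h]; exact bot_le
        · exfalso
          apply hKp
          rw [h, Subgroup.card_top]
          exact hdvd
      have hNC : p - 1 ≤ 2 * (Subgroup.centralizer ((P : Subgroup G) : Set G)).relIndex
          (Subgroup.normalizer ((P : Subgroup G) : Set G)) := by
        have : fN (P : Subgroup G) = (Subgroup.centralizer ((P : Subgroup G) : Set G)).relIndex
          (Subgroup.normalizer ((P : Subgroup G) : Set G)) := rfl
        rw [← this]
        omega
      have htuan := Cfsg.Agent.S0997P.tuan_index p hp5 hp4 P hP hnnP hC' hK hNC n' ρ hirr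
        (by rw [hn']; exact hdeg2)
        (by rw [hρ]; exact hfaith)
        (by rw [hρ]; exact hreal)
      have hsyl' : Nat.card (Sylow p G) = p + 1 := by
        rw [P.card_eq_index_normalizer]
        exact htuan
      exact goal_of_sylow_count hG p P hP hCeq hsyl' (j + 1) hpi

end Cfsg.Agent.S0997R
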