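import Mathlib

set_option autoImplicit false
set_option linter.style.haveILetI false

/-!
# Sharply 3-transitive groups of even degree are not simple: the transfer step

`transfer_ne_one`: if no nonidentity element fixes three points, `H = G_{a,b}` is transitive off
`{a, b}`, `D` is the setwise stabiliser of `{a, b}`, and `ϕ : D →* ℤˣ` kills an element `s`
swapping `a, b` and fixing `c` while `ϕ h₀ = -1` for some `h₀ ∈ G_{a,b}`, then the transfer of `ϕ`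
is a homomorphism `G →* ℤˣ` taking the value `-1` at `h₀`.
-/

namespace Cfsg.Agent.Helper3.Sh3NS

open MulAction

variable {G Ω : Type*} [Group G] [MulAction G Ω]

theorem phi_conj_eq_one
    (h3fix : ∀ g : G, ∀ x y z : Ω, x ≠ y → y ≠ z → x ≠ z → g • x = x → g • y = y → g • z = z →
      g = 1)
    {a b c : Ω} (hab : a ≠ b)
    (htr : ∀ c' : Ω, c' ≠ a → c' ≠ b → ∃ k : G, k • a = a ∧ k • b = b ∧ k • c = c')
    (D : Subgroup G)
    (hD : ∀ g : G, g ∈ D ↔ (g • a = a ∧ g • b = b) ∨ (g • a = b ∧ g • b = a))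
    (ϕ : D →* ℤˣ) (s : D) (hsa : (s : G) • a = b) (hsb : (s : G) • b = a)
    (hsc : (s : G) • c = c) (hϕs : ϕ s = 1)
    (x k : G) (hka : k • a = a) (hkb : k • b = b) (ht : x⁻¹ * k * x ∈ D) (hx : x ∉ D) :
    ϕ ⟨x⁻¹ * k * x, ht⟩ = 1 := by
  have hx' : x⁻¹ ∉ D := fun h => hx (by simpa using D.inv_mem h)
  have hfa : (x⁻¹ * k * x) • (x⁻¹ • a) = x⁻¹ • a := by
    rw [mul_smul, mul_smul, smul_inv_smul, hka]
  have hfb : (x⁻¹ * k * x) • (x⁻¹ • b) = x⁻¹ • b := by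
    rw [mul_smul, mul_smul, smul_inv_smul, hkb]
  have hne : x⁻¹ • a ≠ x⁻¹ • b := fun h => hab (smul_left_cancel _ h)
  rw [hD] at hx'
  push Not at hx'
  rcases (hD _).1 ht with ⟨h1, h2⟩ | ⟨h1, h2⟩
  · -- `t` fixes `a, b` and a third point
    have h1' : x⁻¹ * k * x = 1 := by
      by_cases hc1 : x⁻¹ • a = a
      · have hc2 : x⁻¹ • b ≠ b := hx'.1 hc1
        have hc3 : x⁻¹ • b ≠ a := fun h => hne (hc1.trans h.symm)
        exact h3fix _ a b (x⁻¹ • b) hab (Ne.symm hc2) (Ne.symm hc3) h1 h2 hfb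
      · by_cases hc2 : x⁻¹ • a = b
        · have hc3 : x⁻¹ • b ≠ a := hx'.2 hc2
          have hc4 : x⁻¹ • b ≠ b := fun h => hne (hc2.trans h.symm)
          exact h3fix _ a b (x⁻¹ • b) hab (Ne.symm hc4) (Ne.symm hc3) h1 h2 hfb
        · exact h3fix _ a b (x⁻¹ • a) hab (Ne.symm hc2) (Ne.symm hc1) h1 h2 hfa
    have : (⟨x⁻¹ * k * x, ht⟩ : D) = 1 := Subtype.ext h1'
    rw [this, map_one]
  · -- `t` swaps `a, b` and fixes `c' = x⁻¹ • a`
    have hc1 : x⁻¹ • a ≠ a := by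
      intro h
      rw [h] at hfa
      exact hab (hfa.symm.trans h1)
    have hc2 : x⁻¹ • a ≠ b := by
      intro h
      rw [h] at hfa
      exact hab (h2.symm.trans hfa)
    obtain ⟨k', hk'a, hk'b, hk'c⟩ := htr _ hc1 hc2
    have hk'D : k' ∈ D := (hD _).2 (Or.inl ⟨hk'a, hk'b⟩)
    have hk'a' : k'⁻¹ • a = a := by rw [inv_smul_eq_iff, hk'a]
    have hk'b' : k'⁻¹ • b = b := by rw [inv_smul_eq_iff, hk'b]
    have hk'c' : k'⁻¹ • (x⁻¹ • a) = c := by rw [inv_smul_eq_iff, hk'c]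
    have hu : x⁻¹ * k * x = k' * (s : G) * k'⁻¹ := by
      have h4 : (x⁻¹ * k * x)⁻¹ * (k' * (s : G) * k'⁻¹) = 1 := by
        apply h3fix _ a b (x⁻¹ • a) hab (Ne.symm hc2) (Ne.symm hc1)
        · rw [mul_smul, mul_smul, mul_smul, hk'a', hsa, hk'b, inv_smul_eq_iff, h1]
        · rw [mul_smul, mul_smul, mul_smul, hk'b', hsb, hk'a, inv_smul_eq_iff, h2]
        · rw [mul_smul, mul_smul, mul_smul, hk'c', hsc, hk'c, inv_smul_eq_iff, hfa]
      exact inv_mul_eq_one.1 h4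
    have : (⟨x⁻¹ * k * x, ht⟩ : D) = ⟨k', hk'D⟩ * s * ⟨k', hk'D⟩⁻¹ := Subtype.ext hu
    rw [this, map_mul, map_mul, map_inv, hϕs, mul_one, mul_inv_cancel]

theorem transfer_ne_one [Finite G]
    (h3fix : ∀ g : G, ∀ x y z : Ω, x ≠ y → y ≠ z → x ≠ z → g • x = x → g • y = y → g • z = z →
      g = 1)
    {a b c : Ω} (hab : a ≠ b)
    (htr : ∀ c' : Ω, c' ≠ a → c' ≠ b → ∃ k : G, k • a = a ∧ k • b = b ∧ k • c = c')
    (D : Subgroup G)
    (hD : ∀ g : G, g ∈ D ↔ (g • a = a ∧ g • b = b) ∨ (g • a = b ∧ g • b = a))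
    (ϕ : D →* ℤˣ) (s : D) (hsa : (s : G) • a = b) (hsb : (s : G) • b = a)
    (hsc : (s : G) • c = c) (hϕs : ϕ s = 1)
    (h₀ : D) (hh₀a : (h₀ : G) • a = a) (hh₀b : (h₀ : G) • b = b) (hϕh : ϕ h₀ = -1) :
    ∃ ψ : G →* ℤˣ, ψ (h₀ : G) = -1 := by
  classical
  haveI : D.FiniteIndex := inferInstance
  refine ⟨MonoidHom.transfer ϕ, ?_⟩
  haveI : Fintype (Quotient (orbitRel (Subgroup.zpowers (h₀ : G)) (G ⧸ D))) := Fintype.ofFinite _
  rw [MonoidHom.transfer_eq_prod_quotient_orbitRel_zpowers_quot]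
  have hkey : ∀ q : Quotient (orbitRel (Subgroup.zpowers (h₀ : G)) (G ⧸ D)),
      q.out.out ∈ D → q = ⟦((1 : G) : G ⧸ D)⟧ := by
    intro q hq
    have h1 : q.out = ((1 : G) : G ⧸ D) := by
      rw [← QuotientGroup.out_eq' q.out]
      rw [QuotientGroup.eq]
      simpa using D.inv_mem hq
    rw [← h1]
    exact (Quotient.out_eq q).symm
  have hfixq : ∀ z ∈ Subgroup.zpowers (h₀ : G), z • ((1 : G) : G ⧸ D) = ((1 : G) : G ⧸ D) := by
    intro z hz
    have hzD : z ∈ D := by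
      obtain ⟨i, rfl⟩ := hz
      exact D.zpow_mem h₀.2 i
    rw [MulAction.Quotient.smul_coe, QuotientGroup.eq]
    simpa using D.inv_mem hzD
  rw [Finset.prod_eq_single (⟦((1 : G) : G ⧸ D)⟧ :
    Quotient (orbitRel (Subgroup.zpowers (h₀ : G)) (G ⧸ D)))]
  · -- the factor of the trivial coset
    set q₀ : Quotient (orbitRel (Subgroup.zpowers (h₀ : G)) (G ⧸ D)) := ⟦((1 : G) : G ⧸ D)⟧
    have h1 : q₀.out = ((1 : G) : G ⧸ D) := by
      have h2 : (⟦q₀.out⟧ : Quotient (orbitRel (Subgroup.zpowers (h₀ : G)) (G ⧸ D))) = q₀ :=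
        Quotient.out_eq q₀
      have h3 := Quotient.exact h2
      change q₀.out ∈ orbit (Subgroup.zpowers (h₀ : G)) ((1 : G) : G ⧸ D) at h3
      obtain ⟨⟨z, hz⟩, hz'⟩ := h3
      rw [← hz']
      exact hfixq z hz
    have hxD : q₀.out.out ∈ D := by
      have h2 : ((q₀.out.out : G) : G ⧸ D) = ((1 : G) : G ⧸ D) := by
        rw [QuotientGroup.out_eq', h1]
      rw [QuotientGroup.eq] at h2
      simpa using D.inv_mem h2
    have hper : Function.minimalPeriod (fun y : G ⧸ D => (h₀ : G) • y) q₀.out = 1 := by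
      rw [Function.minimalPeriod_eq_one_iff_isFixedPt, h1]
      exact hfixq _ (Subgroup.mem_zpowers _)
    have : (⟨q₀.out.out⁻¹ * (h₀ : G) ^ Function.minimalPeriod (fun y : G ⧸ D => (h₀ : G) • y)
          q₀.out * q₀.out.out,
        QuotientGroup.out_conj_pow_minimalPeriod_mem D (h₀ : G) q₀.out⟩ : D)
        = (⟨q₀.out.out, hxD⟩ : D)⁻¹ * h₀ * ⟨q₀.out.out, hxD⟩ := by
      apply Subtype.ext
      simp only [hper, pow_one]
      rfl
    rw [this, map_mul, map_mul, map_inv, hϕh]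
    rw [mul_comm, ← mul_assoc, mul_inv_cancel, one_mul]
  · intro q _ hq
    have hx : q.out.out ∉ D := fun h => hq (hkey q h)
    apply phi_conj_eq_one h3fix hab htr D hD ϕ s hsa hsb hsc hϕs _ _ _ _ _ hx
    · exact mem_stabilizer_iff.1 ((stabilizer G a).pow_mem (mem_stabilizer_iff.2 hh₀a) _)
    · exact mem_stabilizer_iff.1 ((stabilizer G b).pow_mem (mem_stabilizer_iff.2 hh₀b) _)
  · intro h
    exact absurd (Finset.mem_univ _) h

end Cfsg.Agent.Helper3.Sh3NS
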