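import Mathlib

set_option autoImplicit false
set_option linter.style.haveILetI false

/-!
# Sharply 3-transitive groups of even degree are not simple: the character of `D`

From an `s`-invariant normal subgroup `N` of index `2` in `H = G_{a,b}` (`s` an involution swapping
`a, b`) we build a homomorphism `ϕ : D →* ℤˣ` on the setwise stabiliser `D` of `{a, b}` with
`ϕ s = 1` and `ϕ h₀ = -1` for some `h₀ ∈ H`.
-/

namespace Cfsg.Agent.Helper3.Sh3NS

open MulAction

variable {G Ω : Type*} [Group G] [MulAction G Ω]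

theorem exists_phi {a b : Ω} (hab : a ≠ b) (s : G) (hsa : s • a = b) (hsb : s • b = a)
    (hs2 : s * s = 1)
    (N : Subgroup G)
    (hN3 : N.relIndex (stabilizer G a ⊓ stabilizer G b) = 2)
    (hN4 : ∀ n ∈ N, s * n * s⁻¹ ∈ N)
    (D : Subgroup G)
    (hD : ∀ g : G, g ∈ D ↔ (g • a = a ∧ g • b = b) ∨ (g • a = b ∧ g • b = a)) :
    ∃ ϕ : D →* ℤˣ, (∀ hs : s ∈ D, ϕ ⟨s, hs⟩ = 1) ∧
      ∃ h₀ : D, (h₀ : G) • a = a ∧ (h₀ : G) • b = b ∧ ϕ h₀ = -1 := by
  classical
  set H : Subgroup G := stabilizer G a ⊓ stabilizer G b with hH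
  have hHmem : ∀ g : G, g ∈ H ↔ g • a = a ∧ g • b = b := by
    intro g
    rw [hH, Subgroup.mem_inf, mem_stabilizer_iff, mem_stabilizer_iff]
  have hsinv : s⁻¹ = s := inv_eq_of_mul_eq_one_left hs2
  -- index two multiplication rule
  have hmul : ∀ x y : G, x ∈ H → y ∈ H → (x * y ∈ N ↔ (x ∈ N ↔ y ∈ N)) := by
    intro x y hx hy
    have h := Subgroup.mul_mem_iff_of_index_two (H := N.subgroupOf H) hN3
      (a := ⟨x, hx⟩) (b := ⟨y, hy⟩)
    simpa [Subgroup.mem_subgroupOf] using h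
  have hconj : ∀ x : G, (s * x * s⁻¹ ∈ N ↔ x ∈ N) := by
    intro x
    constructor
    · intro h
      have h2 := hN4 _ h
      have h3 : s * (s * x * s⁻¹) * s⁻¹ = x := by
        rw [hsinv]
        calc s * (s * x * s) * s = (s * s) * x * (s * s) := by group
          _ = x := by rw [hs2, one_mul, mul_one]
      rwa [h3] at h2
    · exact hN4 x
  have hswapH : ∀ g : G, g • a = b → g • b = a → g * s ∈ H := by
    intro g h1 h2
    rw [hHmem, mul_smul, mul_smul, hsa, hsb]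
    exact ⟨h2, h1⟩
  have hsH : ∀ x : G, x ∈ H → s * x * s⁻¹ ∈ H := by
    intro x hx
    rw [hHmem] at hx ⊢
    rw [hsinv, mul_smul, mul_smul, mul_smul, mul_smul, hsa, hsb, hx.1, hx.2, hsa, hsb]
    exact ⟨rfl, rfl⟩
  let e : G → G := fun g => if g • a = a then g else g * s
  have heH : ∀ g : G, g ∈ D → e g ∈ H := by
    intro g hg
    rcases (hD g).1 hg with ⟨h1, h2⟩ | ⟨h1, h2⟩
    · simp only [e, if_pos h1]
      exact (hHmem g).2 ⟨h1, h2⟩
    · have : ¬ g • a = a := fun h => hab (h.symm.trans h1)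
      simp only [e, if_neg this]
      exact hswapH g h1 h2
  have hP : ∀ g₁ g₂ : G, g₁ ∈ D → g₂ ∈ D → (e (g₁ * g₂) ∈ N ↔ (e g₁ ∈ N ↔ e g₂ ∈ N)) := by
    intro g₁ g₂ hg₁ hg₂
    rcases (hD g₁).1 hg₁ with ⟨h1, h2⟩ | ⟨h1, h2⟩ <;>
      rcases (hD g₂).1 hg₂ with ⟨k1, k2⟩ | ⟨k1, k2⟩
    · have h12 : (g₁ * g₂) • a = a := by rw [mul_smul, k1, h1]
      simp only [e, if_pos h1, if_pos k1, if_pos h12]
      exact hmul _ _ ((hHmem _).2 ⟨h1, h2⟩) ((hHmem _).2 ⟨k1, k2⟩)
    · have hk : ¬ g₂ • a = a := fun h => hab (h.symm.trans k1)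
      have h12 : ¬ (g₁ * g₂) • a = a := by
        rw [mul_smul, k1, h2]
        exact fun h => hab h.symm
      simp only [e, if_pos h1, if_neg hk, if_neg h12]
      rw [mul_assoc]
      exact hmul _ _ ((hHmem _).2 ⟨h1, h2⟩) (hswapH g₂ k1 k2)
    · have hk : ¬ g₁ • a = a := fun h => hab (h.symm.trans h1)
      have h12 : ¬ (g₁ * g₂) • a = a := by
        rw [mul_smul, k1, h1]
        exact fun h => hab h.symm
      simp only [e, if_neg hk, if_pos k1, if_neg h12]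
      have h3 : g₁ * g₂ * s = (g₁ * s) * (s * g₂ * s⁻¹) := by
        rw [hsinv]
        calc g₁ * g₂ * s = g₁ * 1 * g₂ * s := by group
          _ = g₁ * (s * s) * g₂ * s := by rw [hs2]
          _ = (g₁ * s) * (s * g₂ * s) := by group
      rw [h3, hmul _ _ (hswapH g₁ h1 h2) (hsH _ ((hHmem _).2 ⟨k1, k2⟩)), hconj]
    · have hk : ¬ g₁ • a = a := fun h => hab (h.symm.trans h1)
      have hk' : ¬ g₂ • a = a := fun h => hab (h.symm.trans k1)
      have h12 : (g₁ * g₂) • a = a := by rw [mul_smul, k1, h2]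
      simp only [e, if_neg hk, if_neg hk', if_pos h12]
      have h3 : g₁ * g₂ = (g₁ * s) * (s * (g₂ * s) * s⁻¹) := by
        calc g₁ * g₂ = g₁ * 1 * g₂ := by group
          _ = g₁ * (s * s) * g₂ := by rw [hs2]
          _ = (g₁ * s) * (s * (g₂ * s) * s⁻¹) := by group
      rw [h3, hmul _ _ (hswapH g₁ h1 h2) (hsH _ (hswapH g₂ k1 k2)), hconj]
  have he1 : e 1 ∈ N := by
    have : (1 : G) • a = a := one_smul _ _
    simp only [e, if_pos this]
    exact N.one_mem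
  let ϕ : D →* ℤˣ := MonoidHom.mk' (fun g => if e (g : G) ∈ N then 1 else -1) (by
    intro g₁ g₂
    have h := hP g₁ g₂ g₁.2 g₂.2
    show (if e ((g₁ : G) * (g₂ : G)) ∈ N then (1 : ℤˣ) else -1) = _
    by_cases c1 : e (g₁ : G) ∈ N <;> by_cases c2 : e (g₂ : G) ∈ N
    · rw [if_pos c1, if_pos c2, if_pos (h.2 ⟨fun _ => c2, fun _ => c1⟩)]
      rfl
    · have : ¬ e ((g₁ : G) * (g₂ : G)) ∈ N := fun hh => c2 ((h.1 hh).1 c1)
      rw [if_pos c1, if_neg c2, if_neg this]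
      rfl
    · have : ¬ e ((g₁ : G) * (g₂ : G)) ∈ N := fun hh => c1 ((h.1 hh).2 c2)
      rw [if_neg c1, if_pos c2, if_neg this]
      rfl
    · rw [if_neg c1, if_neg c2, if_pos (h.2 ⟨fun hh => absurd hh c1, fun hh => absurd hh c2⟩)]
      rfl)
  refine ⟨ϕ, ?_, ?_⟩
  · intro hs
    have h1 : ¬ s • a = a := fun h => hab (h.symm.trans hsa)
    have h2 : e s ∈ N := by
      simp only [e, if_neg h1, hs2]
      exact N.one_mem
    show (if e s ∈ N then (1 : ℤˣ) else -1) = 1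
    rw [if_pos h2]
  · have h1 : ¬ H ≤ N := by
      intro h
      have := (Subgroup.relIndex_eq_one (H := N) (K := H)).2 h
      omega
    obtain ⟨x, hxH, hxN⟩ := SetLike.not_le_iff_exists.1 h1
    have hx := (hHmem x).1 hxH
    refine ⟨⟨x, (hD x).2 (Or.inl hx)⟩, hx.1, hx.2, ?_⟩
    have h2 : ¬ e x ∈ N := by
      simp only [e, if_pos hx.1]
      exact hxN
    show (if e x ∈ N then (1 : ℤˣ) else -1) = -1
    rw [if_neg h2]

end Cfsg.Agent.Helper3.Sh3NS
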