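import Mathlib
import Cfsg.Agent.Helper3.Sh3NSa
import Cfsg.Agent.Helper3.Sh3NSb

set_option autoImplicit false
set_option linter.style.haveILetI false

/-!
# Sharply 3-transitive groups of even degree are not simple: assembly

`exists_hom_of_sharp3`: for a group acting sharply 3-transitively (pointwise formulation) on a
finite set with at least four points, if (for degree at least 6) the two-point stabiliser has an
`s`-invariant subgroup of index 2 (the conclusion of S0729), then `G` has a homomorphism onto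
`ℤˣ`.
-/

namespace Cfsg.Agent.Helper3.Sh3NS

open MulAction

variable {G Ω : Type*} [Group G] [MulAction G Ω]

/-- The setwise stabiliser of the pair `{a, b}`. -/
def pairStab (G : Type*) [Group G] {Ω : Type*} [MulAction G Ω] (a b : Ω) : Subgroup G where
  carrier := {g | (g • a = a ∧ g • b = b) ∨ (g • a = b ∧ g • b = a)}
  one_mem' := Or.inl ⟨one_smul _ _, one_smul _ _⟩
  mul_mem' := by
    rintro g h (⟨g1, g2⟩ | ⟨g1, g2⟩) (⟨h1, h2⟩ | ⟨h1, h2⟩)
    · exact Or.inl ⟨by rw [mul_smul, h1, g1], by rw [mul_smul, h2, g2]⟩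
    · exact Or.inr ⟨by rw [mul_smul, h1, g2], by rw [mul_smul, h2, g1]⟩
    · exact Or.inr ⟨by rw [mul_smul, h1, g1], by rw [mul_smul, h2, g2]⟩
    · exact Or.inl ⟨by rw [mul_smul, h1, g2], by rw [mul_smul, h2, g1]⟩
  inv_mem' := by
    rintro g (⟨g1, g2⟩ | ⟨g1, g2⟩)
    · exact Or.inl ⟨by rw [inv_smul_eq_iff, g1], by rw [inv_smul_eq_iff, g2]⟩
    · exact Or.inr ⟨by rw [inv_smul_eq_iff, g2], by rw [inv_smul_eq_iff, g1]⟩

theorem mem_pairStab {a b : Ω} (g : G) :
    g ∈ pairStab G a b ↔ (g • a = a ∧ g • b = b) ∨ (g • a = b ∧ g • b = a) := Iff.rfl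

/-- The two-point stabiliser of a sharply 3-transitive group has `n - 2` elements. -/
theorem card_twoPointStab [Fintype Ω]
    (h3fix : ∀ g : G, ∀ x y z : Ω, x ≠ y → y ≠ z → x ≠ z → g • x = x → g • y = y → g • z = z →
      g = 1)
    {a b c : Ω} (hab : a ≠ b) (hac : a ≠ c) (hbc : b ≠ c)
    (htr : ∀ c' : Ω, c' ≠ a → c' ≠ b → ∃ k : G, k • a = a ∧ k • b = b ∧ k • c = c') :
    Nat.card ↥(stabilizer G a ⊓ stabilizer G b) + 2 = Fintype.card Ω := by
  classical
  have hHmem : ∀ g : G, g ∈ stabilizer G a ⊓ stabilizer G b ↔ g • a = a ∧ g • b = b := by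
    intro g
    rw [Subgroup.mem_inf, mem_stabilizer_iff, mem_stabilizer_iff]
  let f : ↥(stabilizer G a ⊓ stabilizer G b) → {x : Ω // x ≠ a ∧ x ≠ b} := fun h =>
    ⟨(h : G) • c, by
      have hh := (hHmem _).1 h.2
      constructor
      · intro h1
        exact hac (smul_left_cancel (h : G) (hh.1.trans h1.symm))
      · intro h1
        exact hbc (smul_left_cancel (h : G) (hh.2.trans h1.symm))⟩
  have hf : Function.Bijective f := by
    constructor
    · intro h k hhk
      have h1 : (h : G) • c = (k : G) • c := congrArg Subtype.val hhk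
      have hh := (hHmem _).1 h.2
      have hk := (hHmem _).1 k.2
      have h2 : (k : G)⁻¹ * (h : G) = 1 := by
        apply h3fix _ a b c hab hbc hac
        · rw [mul_smul, hh.1, inv_smul_eq_iff, hk.1]
        · rw [mul_smul, hh.2, inv_smul_eq_iff, hk.2]
        · rw [mul_smul, h1, inv_smul_smul]
      exact Subtype.ext (inv_mul_eq_one.1 h2).symm
    · rintro ⟨x, hxa, hxb⟩
      obtain ⟨k, hka, hkb, hkc⟩ := htr x hxa hxb
      exact ⟨⟨k, (hHmem _).2 ⟨hka, hkb⟩⟩, Subtype.ext hkc⟩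
  rw [Nat.card_congr (Equiv.ofBijective f hf), Nat.card_eq_fintype_card]
  have h1 : Fintype.card {x : Ω // x ≠ a ∧ x ≠ b} = ((Finset.univ.erase a).erase b).card := by
    rw [Fintype.card_subtype]
    congr 1
    ext x
    simp only [Finset.mem_filter, Finset.mem_univ, true_and, Finset.mem_erase, and_true]
    tauto
  rw [h1, Finset.card_erase_of_mem (by simp [hab.symm]), Finset.card_erase_of_mem (by simp),
    Finset.card_univ]
  have h2 : 2 ≤ Fintype.card Ω := by
    rw [← Finset.card_univ]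
    calc 2 = ({a, b} : Finset Ω).card := (Finset.card_pair hab).symm
      _ ≤ _ := Finset.card_le_card (Finset.subset_univ _)
  omega

theorem exists_hom_of_sharp3 [Finite G] [Fintype Ω]
    (h3fix : ∀ g : G, ∀ x y z : Ω, x ≠ y → y ≠ z → x ≠ z → g • x = x → g • y = y → g • z = z →
      g = 1)
    (h3t : ∀ x y z x' y' z' : Ω, x ≠ y → x ≠ z → y ≠ z → x' ≠ y' → x' ≠ z' → y' ≠ z' →
      ∃ g : G, g • x = x' ∧ g • y = y' ∧ g • z = z')
    {a b c : Ω} (hab : a ≠ b) (hac : a ≠ c) (hbc : b ≠ c)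
    (heven : Even (Fintype.card Ω))
    (hS : 6 ≤ Fintype.card Ω → ∀ s : G, s • a = b → s • b = a → s • c = c →
      ∃ N : Subgroup G, N ≤ stabilizer G a ⊓ stabilizer G b ∧
        (N.subgroupOf (stabilizer G a ⊓ stabilizer G b)).Normal ∧
        N.relIndex (stabilizer G a ⊓ stabilizer G b) = 2 ∧ ∀ n ∈ N, s * n * s⁻¹ ∈ N) :
    ∃ ψ : G →* ℤˣ, ∃ g : G, ψ g = -1 := by
  classical
  obtain ⟨s, hsa, hsb, hsc⟩ := h3t a b c b a c hab hac hbc hab.symm hbc hac
  have hs2 : s * s = 1 := by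
    apply h3fix _ a b c hab hbc hac
    · rw [mul_smul, hsa, hsb]
    · rw [mul_smul, hsb, hsa]
    · rw [mul_smul, hsc, hsc]
  have htr : ∀ c' : Ω, c' ≠ a → c' ≠ b → ∃ k : G, k • a = a ∧ k • b = b ∧ k • c = c' := by
    intro c' h1 h2
    exact h3t a b c a b c' hab hac hbc hab (Ne.symm h1) (Ne.symm h2)
  have hcard := card_twoPointStab h3fix hab hac hbc htr
  have hN : ∃ N : Subgroup G, N.relIndex (stabilizer G a ⊓ stabilizer G b) = 2 ∧
      ∀ n ∈ N, s * n * s⁻¹ ∈ N := by
    by_cases h6 : 6 ≤ Fintype.card Ω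
    · obtain ⟨N, -, -, h1, h2⟩ := hS h6 s hsa hsb hsc
      exact ⟨N, h1, h2⟩
    · refine ⟨⊥, ?_, ?_⟩
      · rw [Subgroup.relIndex_bot_left]
        have h4 : 4 ≤ Fintype.card Ω := by
          -- four distinct points? we only know three; use parity
          have h3 : 3 ≤ Fintype.card Ω := by
            rw [← Finset.card_univ]
            calc 3 = ({a, b, c} : Finset Ω).card := by
                  rw [Finset.card_insert_of_notMem (by simp [hab, hac]), Finset.card_pair hbc]
              _ ≤ _ := Finset.card_le_card (Finset.subset_univ _)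
          obtain ⟨m, hm⟩ := heven
          omega
        obtain ⟨m, hm⟩ := heven
        omega
      · intro n hn
        rw [Subgroup.mem_bot] at hn ⊢
        rw [hn, mul_one, mul_inv_cancel]
  obtain ⟨N, hN3, hN4⟩ := hN
  obtain ⟨ϕ, hϕs, h₀, hh₀a, hh₀b, hϕh⟩ := exists_phi hab s hsa hsb hs2 N hN3 hN4
    (pairStab G a b) (fun g => mem_pairStab g)
  have hsD : s ∈ pairStab G a b := Or.inr ⟨hsa, hsb⟩
  obtain ⟨ψ, hψ⟩ := transfer_ne_one h3fix hab htr (pairStab G a b) (fun g => mem_pairStab g) ϕ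
    ⟨s, hsD⟩ hsa hsb hsc (hϕs hsD) h₀ hh₀a hh₀b hϕh
  exact ⟨ψ, h₀, hψ⟩

end Cfsg.Agent.Helper3.Sh3NS
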