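import Mathlib
import Cfsg.Agent.Helper3.Sh3NSc
import Cfsg.Agent.Helper5.Zassenhaus2

set_option autoImplicit false
set_option linter.style.haveILetI false

/-!
# A Zassenhaus group whose two-point stabiliser has order `n - 2` (even) maps onto `ℤˣ`

Such a group is sharply 3-transitive of even degree; given the conclusion of S0729 as a
hypothesis, `Cfsg.Agent.Helper3.Sh3NS.exists_hom_of_sharp3` produces a homomorphism onto `ℤˣ`.
-/

namespace Cfsg.Agent.Helper3.Sh3NS

open MulAction Cfsg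

variable {G Ω : Type*} [Group G] [MulAction G Ω]

theorem zass_three_trans [Finite G] [Fintype Ω] (hZ : IsZassenhausGroup G Ω) {a b : Ω}
    (hab : a ≠ b)
    (hd : Nat.card ↥(stabilizer G a ⊓ stabilizer G b) + 2 = Fintype.card Ω) :
    ∀ x y z x' y' z' : Ω, x ≠ y → x ≠ z → y ≠ z → x' ≠ y' → x' ≠ z' → y' ≠ z' →
      ∃ g : G, g • x = x' ∧ g • y = y' ∧ g • z = z' := by
  classical
  have hcardpos : 0 < Fintype.card Ω * (Fintype.card Ω - 1) := by
    have := Cfsg.Agent.Helper5.Zassenhaus.three_le_card hZ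
    apply Nat.mul_pos <;> omega
  have hcardH : ∀ x y : Ω, x ≠ y →
      Nat.card ↥(stabilizer G x ⊓ stabilizer G y) + 2 = Fintype.card Ω := by
    intro x y hxy
    have h1 := Cfsg.Agent.Helper5.Zassenhaus.card_group hZ hab
    have h2 := Cfsg.Agent.Helper5.Zassenhaus.card_group hZ hxy
    rw [h1] at h2
    have h3 := Nat.eq_of_mul_eq_mul_left hcardpos h2
    rw [← h3]
    exact hd
  have hHmem : ∀ (x y : Ω) (g : G), g ∈ stabilizer G x ⊓ stabilizer G y ↔ g • x = x ∧ g • y = y := by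
    intro x y g
    rw [Subgroup.mem_inf, mem_stabilizer_iff, mem_stabilizer_iff]
  have htr : ∀ x y w z : Ω, x ≠ y → w ≠ x → w ≠ y → z ≠ x → z ≠ y →
      ∃ k : G, k • x = x ∧ k • y = y ∧ k • w = z := by
    intro x y w z hxy hwx hwy hzx hzy
    let f : ↥(stabilizer G x ⊓ stabilizer G y) → {p : Ω // p ≠ x ∧ p ≠ y} := fun h =>
      ⟨(h : G) • w, by
        have hh := (hHmem _ _ _).1 h.2
        constructor
        · intro h1
          exact hwx (smul_left_cancel (h : G) (h1.trans hh.1.symm))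
        · intro h1
          exact hwy (smul_left_cancel (h : G) (h1.trans hh.2.symm))⟩
    have hfinj : Function.Injective f := by
      intro h k hhk
      have h1 : (h : G) • w = (k : G) • w := congrArg Subtype.val hhk
      have hh := (hHmem _ _ _).1 h.2
      have hk := (hHmem _ _ _).1 k.2
      have h2 : (k : G)⁻¹ * (h : G) = 1 := by
        apply Cfsg.Agent.Helper5.Zassenhaus.eq_one_of_fix3 hZ hxy (Ne.symm hwy) (Ne.symm hwx)
        · rw [mul_smul, hh.1, inv_smul_eq_iff, hk.1]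
        · rw [mul_smul, hh.2, inv_smul_eq_iff, hk.2]
        · rw [mul_smul, h1, inv_smul_smul]
      exact Subtype.ext (inv_mul_eq_one.1 h2).symm
    have hcard : Nat.card {p : Ω // p ≠ x ∧ p ≠ y} ≤
        Nat.card ↥(stabilizer G x ⊓ stabilizer G y) := by
      have h1 : Fintype.card {p : Ω // p ≠ x ∧ p ≠ y} = ((Finset.univ.erase x).erase y).card := by
        rw [Fintype.card_subtype]
        congr 1
        ext p
        simp only [Finset.mem_filter, Finset.mem_univ, true_and, Finset.mem_erase, and_true]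
        tauto
      rw [Nat.card_eq_fintype_card, h1, Finset.card_erase_of_mem (by simp [hxy.symm]),
        Finset.card_erase_of_mem (by simp), Finset.card_univ]
      have := hcardH x y hxy
      omega
    have hfsurj : Function.Surjective f :=
      (Function.Injective.bijective_of_nat_card_le hfinj hcard).2
    obtain ⟨k, hk⟩ := hfsurj ⟨z, hzx, hzy⟩
    have hk' := (hHmem _ _ _).1 k.2
    exact ⟨k, hk'.1, hk'.2, congrArg Subtype.val hk⟩
  intro x y z x' y' z' hxy hxz hyz hxy' hxz' hyz'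
  obtain ⟨g₁, h1, h2⟩ := Cfsg.Agent.Helper5.Zassenhaus.two_trans hZ hxy hxy'
  have hw1 : g₁ • z ≠ x' := by
    rw [← h1]
    exact fun h => hxz (smul_left_cancel _ h).symm
  have hw2 : g₁ • z ≠ y' := by
    rw [← h2]
    exact fun h => hyz (smul_left_cancel _ h).symm
  obtain ⟨k, hk1, hk2, hk3⟩ := htr x' y' (g₁ • z) z' hxy' hw1 hw2 (Ne.symm hxz') (Ne.symm hyz')
  refine ⟨k * g₁, ?_, ?_, ?_⟩
  · rw [mul_smul, h1, hk1]
  · rw [mul_smul, h2, hk2]
  · rw [mul_smul, hk3]

theorem zass_exists_hom [Finite G] [Fintype Ω] (hZ : IsZassenhausGroup G Ω) {a b : Ω}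
    (hab : a ≠ b)
    (heven : Even (Nat.card ↥(stabilizer G a ⊓ stabilizer G b)))
    (hd : Nat.card ↥(stabilizer G a ⊓ stabilizer G b) + 2 = Fintype.card Ω)
    (hS : Even (Fintype.card Ω) → 6 ≤ Fintype.card Ω → ∀ G' : Subgroup (Equiv.Perm Ω),
      IsMultiplyPretransitive G' Ω 3 → (∀ x : Fin 3 ↪ Ω, stabilizer G' x = ⊥) →
      ∀ {a b c : Ω}, a ≠ b → a ≠ c → b ≠ c → ∀ s : G', s • a = b → s • b = a → s • c = c →
      ∃ N : Subgroup G', N ≤ stabilizer G' a ⊓ stabilizer G' b ∧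
        (N.subgroupOf (stabilizer G' a ⊓ stabilizer G' b)).Normal ∧
        N.relIndex (stabilizer G' a ⊓ stabilizer G' b) = 2 ∧ ∀ n ∈ N, s * n * s⁻¹ ∈ N) :
    ∃ ψ : G →* ℤˣ, ∃ g : G, ψ g = -1 := by
  classical
  obtain ⟨c, hca, hcb⟩ := Cfsg.Agent.Helper5.Zassenhaus.exists_third hZ hab
  have h3t := zass_three_trans hZ hab hd
  let G' : Subgroup (Equiv.Perm Ω) := (MulAction.toPermHom G Ω).range
  let π : G →* G' := (MulAction.toPermHom G Ω).rangeRestrict
  have hπ : ∀ (g : G) (x : Ω), π g • x = g • x := fun g x => rfl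
  have hπsurj : Function.Surjective π := MonoidHom.rangeRestrict_surjective _
  have h3fix' : ∀ g : G', ∀ x y z : Ω, x ≠ y → y ≠ z → x ≠ z → g • x = x → g • y = y →
      g • z = z → g = 1 := by
    intro g' x y z hxy hyz hxz h1 h2 h3
    obtain ⟨g, rfl⟩ := hπsurj g'
    rw [hπ] at h1 h2 h3
    rw [Cfsg.Agent.Helper5.Zassenhaus.eq_one_of_fix3 hZ hxy hyz hxz h1 h2 h3, map_one]
  have h3t' : ∀ x y z x' y' z' : Ω, x ≠ y → x ≠ z → y ≠ z → x' ≠ y' → x' ≠ z' → y' ≠ z' →
      ∃ g : G', g • x = x' ∧ g • y = y' ∧ g • z = z' := by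
    intro x y z x' y' z' h1 h2 h3 h4 h5 h6
    obtain ⟨g, hg1, hg2, hg3⟩ := h3t x y z x' y' z' h1 h2 h3 h4 h5 h6
    exact ⟨π g, by rw [hπ, hg1], by rw [hπ, hg2], by rw [hπ, hg3]⟩
  have hne : ∀ (x : Fin 3 ↪ Ω) (i j : Fin 3), i ≠ j → x i ≠ x j := fun x i j hij h =>
    hij (x.injective h)
  have h3' : IsMultiplyPretransitive G' Ω 3 := by
    refine ⟨fun x y => ?_⟩
    obtain ⟨g, hg0, hg1, hg2⟩ := h3t' (x 0) (x 1) (x 2) (y 0) (y 1) (y 2)
      (hne x _ _ (by decide)) (hne x _ _ (by decide)) (hne x _ _ (by decide))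
      (hne y _ _ (by decide)) (hne y _ _ (by decide)) (hne y _ _ (by decide))
    refine ⟨g, ?_⟩
    ext i
    fin_cases i
    · exact hg0
    · exact hg1
    · exact hg2
  have hsharp' : ∀ x : Fin 3 ↪ Ω, stabilizer G' x = ⊥ := by
    intro x
    rw [eq_bot_iff]
    intro g hg
    rw [mem_stabilizer_iff] at hg
    rw [Subgroup.mem_bot]
    apply h3fix' g (x 0) (x 1) (x 2) (hne x _ _ (by decide)) (hne x _ _ (by decide))
      (hne x _ _ (by decide))
    · exact DFunLike.congr_fun hg 0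
    · exact DFunLike.congr_fun hg 1
    · exact DFunLike.congr_fun hg 2
  have hevenΩ : Even (Fintype.card Ω) := by
    rw [← hd]
    exact heven.add (by decide)
  haveI : Finite G' := inferInstance
  obtain ⟨ψ', g', hψ'⟩ := exists_hom_of_sharp3 (G := G') h3fix' h3t' hab (Ne.symm hca)
    (Ne.symm hcb) hevenΩ
    (fun h6 s hsa hsb hsc => hS hevenΩ h6 G' h3' hsharp' hab (Ne.symm hca) (Ne.symm hcb) s hsa hsb hsc)
  obtain ⟨g, rfl⟩ := hπsurj g'
  exact ⟨ψ'.comp π, g, hψ'⟩

end Cfsg.Agent.Helper3.Sh3NS
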