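import Mathlib
import Cfsg.Agent.Helper3.Sh3NSd
import Cfsg.Agent.Helper3.ZassPSLb
import Cfsg.Agent.Helper3.ZassPSLd
import Cfsg.Agent.Helper4.Zassenhaus2
import Cfsg.Agent.Helper16.ZassOdd2
import Cfsg.Agent.Helper20.ZassC
import Cfsg.Agent.Helper1.FrobeniusCompl
import Cfsg.Agent.S0035
import Cfsg.Agent.S0742

set_option autoImplicit false
set_option linter.style.haveILetI false

/-!
# Simple Zassenhaus groups with two-point stabiliser of even order

Given the conclusion of S0729 as a hypothesis `hS`, a simple Zassenhaus group with two-point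
stabilisers of even order `d` has degree `2 d + 2` (the sharply 3-transitive case `d + 2` is
excluded since such a group maps onto `ℤˣ`), hence is `PSL₂(K)` by S0742.
-/

namespace Cfsg.Agent.Helper3.Sh3NS

open MulAction Cfsg

variable {G Ω : Type*} [Group G] [MulAction G Ω]

/-- The hypothesis: the conclusion of S0729 for all sharply 3-transitive subgroups of `Perm Ω`. -/
def HypS0729 (Ω : Type*) [Fintype Ω] : Prop :=
  Even (Fintype.card Ω) → 6 ≤ Fintype.card Ω → ∀ G' : Subgroup (Equiv.Perm Ω),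
    IsMultiplyPretransitive G' Ω 3 → (∀ x : Fin 3 ↪ Ω, stabilizer G' x = ⊥) →
    ∀ {a b c : Ω}, a ≠ b → a ≠ c → b ≠ c → ∀ s : G', s • a = b → s • b = a → s • c = c →
    ∃ N : Subgroup G', N ≤ stabilizer G' a ⊓ stabilizer G' b ∧
      (N.subgroupOf (stabilizer G' a ⊓ stabilizer G' b)).Normal ∧
      N.relIndex (stabilizer G' a ⊓ stabilizer G' b) = 2 ∧ ∀ n ∈ N, s * n * s⁻¹ ∈ N

/-- a finite group acting freely on a finite invariant set: the order divides the size -/
theorem card_dvd_ncard_of_free' {G X : Type*} [Group G] [MulAction G X] [Finite G] (S : Set X)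
    (hinv : ∀ g : G, ∀ x ∈ S, g • x ∈ S) (hfree : ∀ g : G, ∀ x ∈ S, g • x = x → g = 1) :
    Nat.card G ∣ S.ncard := by
  let p : SubMulAction G X := ⟨S, fun g {x} hx => hinv g x hx⟩
  have e := MulAction.selfEquivOrbitsQuotientProd (G := G) (X := p) (fun b => by
    rw [Subgroup.eq_bot_iff_forall]
    intro g hg
    rw [MulAction.mem_stabilizer_iff] at hg
    have := congrArg Subtype.val hg
    exact hfree g b.1 b.2 this)
  have h1 : Nat.card p = Nat.card (Quotient (MulAction.orbitRel G p)) * Nat.card G := by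
    rw [Nat.card_congr e, Nat.card_prod]
  have h2 : S.ncard = Nat.card p := (Nat.card_coe_set_eq S).symm
  rw [h2, h1]
  exact Dvd.intro_left _ rfl

/-- the order of the two-point stabiliser divides `n - 2` -/
theorem card_stab_dvd [Finite G] [Fintype Ω] (hZ : IsZassenhausGroup G Ω) {a b : Ω}
    (hab : a ≠ b) :
    Nat.card ↥(stabilizer G a ⊓ stabilizer G b) ∣ Fintype.card Ω - 2 := by
  classical
  have hHmem : ∀ g : G, g ∈ stabilizer G a ⊓ stabilizer G b ↔ g • a = a ∧ g • b = b := by
    intro g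
    rw [Subgroup.mem_inf, mem_stabilizer_iff, mem_stabilizer_iff]
  have h := card_dvd_ncard_of_free' (G := ↥(stabilizer G a ⊓ stabilizer G b))
    ({x : Ω | x ≠ a ∧ x ≠ b}) (by
      intro g x hx
      have hg := (hHmem _).1 g.2
      constructor
      · intro h1
        exact hx.1 (smul_left_cancel (g : G) (h1.trans hg.1.symm))
      · intro h1
        exact hx.2 (smul_left_cancel (g : G) (h1.trans hg.2.symm))) (by
      intro g x hx hgx
      have hg := (hHmem _).1 g.2
      exact Subtype.ext (Cfsg.Agent.Helper5.Zassenhaus.eq_one_of_fix3 hZ hab (Ne.symm hx.2)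
        (Ne.symm hx.1) hg.1 hg.2 hgx))
  have h2 : ({x : Ω | x ≠ a ∧ x ≠ b} : Set Ω).ncard = Fintype.card Ω - 2 := by
    rw [Set.ncard_eq_toFinset_card']
    have h1 : ({x : Ω | x ≠ a ∧ x ≠ b} : Set Ω).toFinset = (Finset.univ.erase a).erase b := by
      ext x
      simp only [Set.mem_toFinset, Set.mem_ofPred_eq, Finset.mem_erase, Finset.mem_univ, and_true]
      tauto
    rw [h1, Finset.card_erase_of_mem (by simp [hab.symm]), Finset.card_erase_of_mem (by simp),
      Finset.card_univ]
    omega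
  rwa [h2] at h

/-- In a simple Zassenhaus group with even two-point stabiliser of order `d`, `n - 2 = 2 d`. -/
theorem card_eq_of_simple [Finite G] [Fintype Ω] [IsSimpleGroup G] (hZ : IsZassenhausGroup G Ω)
    {a b : Ω} (hab : a ≠ b)
    (heven : Even (Nat.card ↥(stabilizer G a ⊓ stabilizer G b)))
    (hS : HypS0729 Ω) :
    2 * Nat.card ↥(stabilizer G a ⊓ stabilizer G b) = Fintype.card Ω - 2 := by
  classical
  have h1 := Cfsg.Agent.Helper4.zassenhaus_degree_le hZ hab heven
  have h2 := card_stab_dvd hZ hab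
  have h3 := Cfsg.Agent.Helper5.Zassenhaus.three_le_card hZ
  set d := Nat.card ↥(stabilizer G a ⊓ stabilizer G b) with hd
  have hdpos : 0 < d := Nat.card_pos
  obtain ⟨k, hk⟩ := h2
  have hk1 : 1 ≤ k := by
    rcases Nat.eq_zero_or_pos k with h | h
    · rw [h, mul_zero] at hk
      omega
    · exact h
  have hk2 : k ≤ 2 := by
    by_contra hcon
    push Not at hcon
    have : d * 3 ≤ d * k := Nat.mul_le_mul_left d hcon
    omega
  have hk' : k = 1 ∨ k = 2 := by omega
  rcases hk' with rfl | rfl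
  · -- sharply 3-transitive case: impossible for a simple group
    exfalso
    have hdn : d + 2 = Fintype.card Ω := by omega
    obtain ⟨ψ, g, hψ⟩ := zass_exists_hom hZ hab heven hdn hS
    have hker : ψ.ker = ⊥ ∨ ψ.ker = ⊤ := (MonoidHom.normal_ker ψ).eq_bot_or_eq_top
    rcases hker with h | h
    · have hinj : Function.Injective ψ := (MonoidHom.ker_eq_bot_iff ψ).1 h
      have hle : Nat.card G ≤ Nat.card ℤˣ := Nat.card_le_card_of_injective ψ hinj
      have hc2 : Nat.card ℤˣ = 2 := by
        rw [Nat.card_eq_fintype_card]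
        rfl
      have hG := Cfsg.Agent.Helper5.Zassenhaus.card_group hZ hab
      rw [← hd] at hG
      have h4 : 3 * 2 * 1 ≤ Fintype.card Ω * (Fintype.card Ω - 1) * d :=
        Nat.mul_le_mul (Nat.mul_le_mul h3 (by omega)) hdpos
      omega
    · have : g ∈ ψ.ker := by rw [h]; exact Subgroup.mem_top g
      rw [MonoidHom.mem_ker, hψ] at this
      exact absurd this (by decide)
  · omega

/-- S0344, given S0729. -/
theorem psl_of_simple [Finite G] [Fintype Ω] [IsSimpleGroup G] (hZ : IsZassenhausGroup G Ω)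
    {a b : Ω} (hab : a ≠ b)
    (heven : Even (Nat.card ↥(stabilizer G a ⊓ stabilizer G b)))
    (hS : HypS0729 Ω) :
    ∃ (F : Type) (_ : Field F) (_ : Fintype F), 3 < Fintype.card F ∧
      Nonempty (G ≃* Matrix.ProjectiveSpecialLinearGroup (Fin 2) F) := by
  have h1 := card_eq_of_simple hZ hab heven hS
  obtain ⟨p, f, K, fK, ftK, hp, hp2, hK, hΩ, hiso⟩ := Cfsg.Agent.S0742.result hZ hab heven h1.le
  refine ⟨K, fK, ftK, ?_, hiso⟩
  have hdpos : 0 < Nat.card ↥(stabilizer G a ⊓ stabilizer G b) := Nat.card_pos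
  obtain ⟨m, hm⟩ := heven
  rw [hK]
  omega

/-- S0345 for even `d`, given S0729. -/
theorem cyclic_of_simple_even [Finite G] [Fintype Ω] [IsSimpleGroup G]
    (hZ : IsZassenhausGroup G Ω)
    {a b : Ω} (hab : a ≠ b)
    (heven : Even (Nat.card ↥(stabilizer G a ⊓ stabilizer G b)))
    (hS : HypS0729 Ω) :
    IsCyclic ↥(stabilizer G a ⊓ stabilizer G b) ∧
      ∃ v : G, orderOf v = 2 ∧ v • a = b ∧ v • b = a ∧
        ∀ h ∈ stabilizer G a ⊓ stabilizer G b, v * h * v⁻¹ = h⁻¹ := by
  classical
  have h1 := card_eq_of_simple hZ hab heven hS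
  obtain ⟨-, hinv⟩ := Cfsg.Agent.Helper3.ZassPSL.swap_facts hZ hab heven h1.le
  obtain ⟨⟨v, hv2, hva, hvb⟩, -, -⟩ := Cfsg.Agent.Helper4.zassenhaus_involutions hZ hab
  obtain ⟨hinvert, hcomm⟩ := Cfsg.Agent.Helper3.ZassPSL.inverts_of_swap hinv hva hvb
  refine ⟨?_, v, hv2, hva, hvb, hinvert⟩
  -- `H` is an abelian Frobenius complement, hence cyclic
  set S := stabilizer G a with hSdef
  set HS := (stabilizer G a ⊓ stabilizer G b : Subgroup G).subgroupOf S with hHS
  have hF : IsFrobeniusComplement HS :=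
    Cfsg.Agent.Helper16.ZassOdd.isFrobeniusComplement_two_point hZ hab
  obtain ⟨N, hN, hNn, -⟩ := Cfsg.Agent.S0035.result HS hF
  haveI := hNn
  have hHScomm : IsMulCommutative HS := by
    refine ⟨⟨fun x y => ?_⟩⟩
    apply Subtype.ext
    apply Subtype.ext
    exact hcomm _ x.2 _ y.2
  have h2 : IsCyclic HS :=
    Cfsg.Agent.Helper1.frob_compl_subgroup_cyclic hF hN HS le_rfl (Or.inl hHScomm)
  have e : HS ≃* ↥(stabilizer G a ⊓ stabilizer G b) :=
    Subgroup.subgroupOfEquivOfLe inf_le_left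
  exact isCyclic_of_surjective e e.surjective

end Cfsg.Agent.Helper3.Sh3NS
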