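import Mathlib
import Cfsg.Agent.Helper13.S3816Defs
import Cfsg.Agent.Helper13.S3816Basic

/-! s3816pieces C2F (core): `c2_Y0_core` — the proper `A`-invariant subgroups of `cA A k` generate a proper subgroup;
hypotheses = the statements of `c2_theta_inv` (C2E), `c2_Kth_ne` (C2A), `c2_cent` (C2CD), `MinN.elemAb` (MINN), `MC.top`. -/

set_option autoImplicit false

namespace Cfsg.Agent.S3816P

open scoped commutatorElement

universe u

variable {G : Type u} [Group G] [Finite G] {p : ℕ} [Fact p.Prime] {A K N : Subgroup G}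

omit [Finite G] in
/-- conjugation-invariance under a subgroup gives containment in the normaliser. -/
theorem C2F_aux_le_normalizer {A Y : Subgroup G} (h : ∀ a ∈ A, ∀ y ∈ Y, a * y * a⁻¹ ∈ Y) :
    A ≤ Subgroup.normalizer (Y : Set G) := by
  intro a ha
  rw [Subgroup.mem_normalizer_iff]
  intro y
  constructor
  · exact h a ha y
  · intro hy
    have := h a⁻¹ (Subgroup.inv_mem _ ha) _ hy
    have e : a⁻¹ * (a * y * a⁻¹) * a⁻¹⁻¹ = y := by group
    rwa [e] at this

omit [Finite G] in
/-- an element normalising both factors normalises the commutator. -/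
theorem C2F_aux_comm_normalizer {H1 H2 : Subgroup G} {g : G}
    (h1 : g ∈ Subgroup.normalizer (H1 : Set G)) (h2 : g ∈ Subgroup.normalizer (H2 : Set G)) :
    g ∈ Subgroup.normalizer ((⁅H1, H2⁆ : Subgroup G) : Set G) := by
  have key : ∀ g : G, g ∈ Subgroup.normalizer (H1 : Set G) → g ∈ Subgroup.normalizer (H2 : Set G) →
      ∀ y ∈ ⁅H1, H2⁆, g * y * g⁻¹ ∈ ⁅H1, H2⁆ := by
    intro g h1 h2 y hy
    have hm : (⁅H1, H2⁆).map (MulAut.conj g).toMonoidHom
        = ⁅H1.map (MulAut.conj g).toMonoidHom, H2.map (MulAut.conj g).toMonoidHom⁆ :=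
      Subgroup.map_commutator H1 H2 _
    have e1 : H1.map (MulAut.conj g).toMonoidHom = H1 := by
      ext z
      rw [Subgroup.mem_map]
      constructor
      · rintro ⟨w, hw, rfl⟩
        exact (Subgroup.mem_normalizer_iff.mp h1 w).mp hw
      · intro hz
        refine ⟨g⁻¹ * z * g, ?_, by simp [MulAut.conj_apply]; group⟩
        have := (Subgroup.mem_normalizer_iff.mp (Subgroup.inv_mem _ h1) z).mp hz
        rwa [inv_inv] at this
    have e2 : H2.map (MulAut.conj g).toMonoidHom = H2 := by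
      ext z
      rw [Subgroup.mem_map]
      constructor
      · rintro ⟨w, hw, rfl⟩
        exact (Subgroup.mem_normalizer_iff.mp h2 w).mp hw
      · intro hz
        refine ⟨g⁻¹ * z * g, ?_, by simp [MulAut.conj_apply]; group⟩
        have := (Subgroup.mem_normalizer_iff.mp (Subgroup.inv_mem _ h2) z).mp hz
        rwa [inv_inv] at this
    rw [e1, e2] at hm
    have : (MulAut.conj g).toMonoidHom y ∈ (⁅H1, H2⁆).map (MulAut.conj g).toMonoidHom :=
      Subgroup.mem_map_of_mem _ hy
    rw [hm] at this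
    simpa [MulAut.conj_apply] using this
  rw [Subgroup.mem_normalizer_iff]
  intro y
  constructor
  · exact key g h1 h2 y
  · intro hy
    have := key g⁻¹ (Subgroup.inv_mem _ h1) (Subgroup.inv_mem _ h2) _ hy
    have e : g⁻¹ * (g * y * g⁻¹) * g⁻¹⁻¹ = y := by group
    rwa [e] at this

theorem c2_Y0_core (htop' : K ⊔ A = ⊤) (hN : MinN K N) {k : G} (hkN : cA A k ⊔ N = K)
    (hth : ∀ K1 : Subgroup G, K1 ≤ cA A k → K1 ≠ cA A k → A ≤ Subgroup.normalizer (K1 : Set G) →
      ∀ y ∈ K1, ∀ n ∈ N, n⁻¹ * (y⁻¹ * n * y) ∈ Kth A K N)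
    (hKth : Kth A K N ≠ N) (hcent : N ⊓ Subgroup.centralizer (cA A k : Set G) = ⊥)
    (hNab : ∀ m ∈ N, ∀ n ∈ N, m * n = n * m) :
    ∃ Y0 : Subgroup G, Y0 ≤ cA A k ∧ Y0 ≠ cA A k ∧ A ≤ Subgroup.normalizer (Y0 : Set G) ∧
      ∀ K1 : Subgroup G, K1 ≤ cA A k → K1 ≠ cA A k → A ≤ Subgroup.normalizer (K1 : Set G) →
        K1 ≤ Y0 := by
  set W := cA A k with hW
  set S : Set (Subgroup G) :=
    {K1 | K1 ≤ W ∧ K1 ≠ W ∧ A ≤ Subgroup.normalizer (K1 : Set G)} with hS
  refine ⟨sSup S, sSup_le (fun K1 h => h.1), ?_, ?_, fun K1 h1 h2' h3 => le_sSup ⟨h1, h2', h3⟩⟩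
  · -- properness
    intro hYW
    haveI hNn : N.Normal := hN.normal
    set M := Kth A K N with hM
    -- every `y ∈ sSup S` acts trivially on `N / M`
    let T : Subgroup G :=
      { carrier := {y | ∀ n ∈ N, n⁻¹ * (y⁻¹ * n * y) ∈ M}
        one_mem' := by
          intro n hn
          simp only [inv_one, one_mul, mul_one, inv_mul_cancel]
          exact M.one_mem
        mul_mem' := by
          intro y1 y2 ih1 ih2 n hn
          have hn1 : y1⁻¹ * n * y1 ∈ N := by
            have := hNn.conj_mem n hn y1⁻¹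
            rwa [inv_inv] at this
          have h3 := Subgroup.mul_mem _ (ih1 n hn) (ih2 _ hn1)
          have e : n⁻¹ * (y1⁻¹ * n * y1) * ((y1⁻¹ * n * y1)⁻¹ * (y2⁻¹ * (y1⁻¹ * n * y1) * y2))
              = n⁻¹ * ((y1 * y2)⁻¹ * n * (y1 * y2)) := by group
          rwa [e] at h3
        inv_mem' := by
          intro y ih n hn
          have hn1 : y * n * y⁻¹ ∈ N := hNn.conj_mem n hn y
          have h3 := Subgroup.inv_mem _ (ih _ hn1)
          have e : ((y * n * y⁻¹)⁻¹ * (y⁻¹ * (y * n * y⁻¹) * y))⁻¹ = n⁻¹ * (y⁻¹⁻¹ * n * y⁻¹) := by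
            group
          rwa [e] at h3 }
    have hST : sSup S ≤ T := by
      apply sSup_le
      intro K1 hK1 y hyK1 n hn
      exact hth K1 hK1.1 hK1.2.1 hK1.2.2 y hyK1 n hn
    have hP : ∀ y ∈ sSup S, ∀ n ∈ N, n⁻¹ * (y⁻¹ * n * y) ∈ M := fun y hy => hST hy
    have hML : M ≤ N := by
      rw [hM]; unfold Kth
      exact sup_le inf_le_right (Subgroup.commutator_le_left N A)
    have hLM : ⁅N, W⁆ ≤ M := by
      rw [Subgroup.commutator_le]
      intro n hn y hy
      have h3 := hP y⁻¹ (by rw [hYW]; exact Subgroup.inv_mem _ hy) n⁻¹ (Subgroup.inv_mem _ hn)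
      have e : n⁻¹⁻¹ * (y⁻¹⁻¹ * n⁻¹ * y⁻¹) = ⁅n, y⁆ := by
        rw [commutatorElement_def]; group
      rwa [e] at h3
    have hLN : ⁅N, W⁆ ≤ N := Subgroup.commutator_le_left N W
    -- `⁅N, W⁆` is normal in `G`
    have hAW : A ≤ Subgroup.normalizer (W : Set G) := cA_normalized A k
    have hnormN : ∀ g : G, g ∈ Subgroup.normalizer (N : Set G) := by
      intro g
      rw [Subgroup.normalizer_eq_top_iff.mpr hNn]; exact Subgroup.mem_top g
    have h_A : A ≤ Subgroup.normalizer ((⁅N, W⁆ : Subgroup G) : Set G) := fun a ha =>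
      C2F_aux_comm_normalizer (hnormN a) (hAW ha)
    have h_W : W ≤ Subgroup.normalizer ((⁅N, W⁆ : Subgroup G) : Set G) := fun y hy =>
      C2F_aux_comm_normalizer (hnormN y) (Subgroup.le_normalizer hy)
    have h_N : N ≤ Subgroup.normalizer ((⁅N, W⁆ : Subgroup G) : Set G) := by
      apply C2F_aux_le_normalizer
      intro n hn y hy
      have hyN := hLN hy
      have : n * y * n⁻¹ = y := by rw [hNab n hn y hyN]; group
      rw [this]; exact hy
    have htop : Subgroup.normalizer ((⁅N, W⁆ : Subgroup G) : Set G) = ⊤ := by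
      rw [eq_top_iff, ← htop', ← hkN]
      exact sup_le (sup_le h_W h_N) h_A
    have hLnormal : (⁅N, W⁆ : Subgroup G).Normal := Subgroup.normalizer_eq_top_iff.mp htop
    have hLbot : ⁅N, W⁆ = ⊥ := by
      by_contra hne
      have := hN.min _ hLN hLnormal hne
      apply hKth
      apply le_antisymm hML
      rw [← this]; exact hLM
    have hNc : N ≤ Subgroup.centralizer (W : Set G) :=
      Subgroup.commutator_eq_bot_iff_le_centralizer.mp hLbot
    have := hcent
    rw [inf_eq_left.mpr hNc] at this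
    exact hN.ne this
  · -- `A`-invariance
    apply C2F_aux_le_normalizer
    intro a ha y hy
    have hle : sSup S ≤ (sSup S).comap (MulAut.conj a).toMonoidHom := by
      apply sSup_le
      intro K1 hK1 z hz
      rw [Subgroup.mem_comap]
      have : a * z * a⁻¹ ∈ K1 := (Subgroup.mem_normalizer_iff.mp (hK1.2.2 ha) z).mp hz
      exact (le_sSup hK1 : K1 ≤ sSup S) (by simpa [MulAut.conj_apply] using this)
    have := hle hy
    rw [Subgroup.mem_comap] at this
    simpa [MulAut.conj_apply] using this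

end Cfsg.Agent.S3816P
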