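import Mathlib
import Cfsg.Agent.Helper13.S3816Defs
import Cfsg.Agent.Helper13.S3816Basic
import Cfsg.Agent.Helper3.S3816C2Fcore
import Cfsg.Agent.Helper13.S3816C2E
import Cfsg.Agent.Helper6.S3816C2A
import Cfsg.Agent.Helper22.S3816C2CD
import Cfsg.Agent.Helper22.S3816MINN

/-! s3816pieces C2F: `c2_Y0` (wrapper of `c2_Y0_core`). -/

set_option autoImplicit false

namespace Cfsg.Agent.S3816P

open scoped commutatorElement

universe u

variable {G : Type u} [Group G] [Finite G] {p : ℕ} [Fact p.Prime] {A K N : Subgroup G}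

theorem c2_Y0 (mc : MC p A K) (hN : MinN K N) (h2 : ¬ N ≤ Subgroup.centralizer (A : Set G))
    {k : G} (hk : k ∈ K) (hkN : cA A k ⊔ N = K) :
    ∃ Y0 : Subgroup G, Y0 ≤ cA A k ∧ Y0 ≠ cA A k ∧ A ≤ Subgroup.normalizer (Y0 : Set G) ∧
      ∀ K1 : Subgroup G, K1 ≤ cA A k → K1 ≠ cA A k → A ≤ Subgroup.normalizer (K1 : Set G) →
        K1 ≤ Y0 := by
  obtain ⟨r, -, -, -, hNab⟩ := hN.elemAb mc
  exact c2_Y0_core mc.top hN hkN
    (fun K1 h1 hne hA1 y hy n hn => c2_theta_inv mc hN h2 hk hkN h1 hne hA1 hy hn)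
    (c2_Kth_ne mc hN) (c2_cent mc hN h2 hk hkN) hNab

end Cfsg.Agent.S3816P
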