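import Mathlib

/-! s3816pieces POL (core): the polarisation lemma in abstract form.  `T` a finite group, `σ` an automorphism of odd
order dividing `p`, `Zt ≤ Z(T)` fixed pointwise by `σ`, `T/Zt` abelian, `σ` fixed-point-free on `T/Zt`, and every `t`
commutes with `σ t`.  Then `T` is abelian. -/

set_option autoImplicit false

namespace Cfsg.Agent.S3816P

open scoped commutatorElement

theorem POL_aux_core {T : Type*} [Group T] [Finite T] (σ : MulAut T) (Zt : Subgroup T) (p : ℕ)
    (hp : Odd p) (hσ : σ ^ p = 1) (hZc : Zt ≤ Subgroup.center T) (hσZ : ∀ z ∈ Zt, σ z = z)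
    (hab : ∀ u v : T, ⁅u, v⁆ ∈ Zt) (hfix : ∀ t : T, t⁻¹ * σ t ∈ Zt → t ∈ Zt)
    (hcomm : ∀ t : T, ⁅t, σ t⁆ = 1) : ∀ u v : T, u * v = v * u := by
  -- commutators are central
  have comm_c : ∀ u v w : T, ⁅u, v⁆ * w = w * ⁅u, v⁆ := fun u v w =>
    (Subgroup.mem_center_iff.mp (hZc (hab u v)) w).symm
  have mul_left : ∀ u u' v : T, ⁅u * u', v⁆ = ⁅u, v⁆ * ⁅u', v⁆ := by
    intro u u' v
    have key : ⁅u * u', v⁆ = u * ⁅u', v⁆ * u⁻¹ * ⁅u, v⁆ := by
      simp only [commutatorElement_def]; group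
    rw [key, ← comm_c u' v u, mul_assoc (⁅u', v⁆), mul_inv_cancel, mul_one, comm_c]
  have mul_right : ∀ u v v' : T, ⁅u, v * v'⁆ = ⁅u, v⁆ * ⁅u, v'⁆ := by
    intro u v v'
    have key : ⁅u, v * v'⁆ = ⁅u, v⁆ * (v * ⁅u, v'⁆ * v⁻¹) := by
      simp only [commutatorElement_def]; group
    rw [key, ← comm_c u v' v, mul_assoc (⁅u, v'⁆), mul_inv_cancel, mul_one]
  have inv_right : ∀ u v : T, ⁅u, v⁻¹⁆ = ⁅u, v⁆⁻¹ := by
    intro u v
    have h1 := mul_right u v v⁻¹
    rw [mul_inv_cancel, commutatorElement_one_right] at h1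
    exact eq_inv_of_mul_eq_one_right h1.symm
  have sig_inv : ∀ u v : T, ⁅σ u, σ v⁆ = ⁅u, v⁆ := by
    intro u v
    rw [← map_commutatorElement]
    exact hσZ _ (hab u v)
  have polar : ∀ u v : T, ⁅u, σ v⁆ * ⁅v, σ u⁆ = 1 := by
    intro u v
    have h1 := hcomm (u * v)
    rw [map_mul, mul_left, mul_right, mul_right, hcomm u, hcomm v, one_mul, mul_one] at h1
    exact h1
  have adj : ∀ u v : T, ⁅u, σ v⁆ = ⁅σ u, v⁆ := by
    intro u v
    have h1 := polar u v
    rw [← commutatorElement_inv (σ u) v] at h1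
    exact (mul_inv_eq_one.mp h1)
  have adj' : ∀ u v : T, ⁅σ u, v⁆ = ⁅u, σ⁻¹ v⁆ := by
    intro u v
    have h1 := sig_inv u (σ⁻¹ v)
    rw [MulAut.apply_inv_self] at h1
    exact h1
  have hw : ∀ u v : T, ⁅u, σ v * (σ⁻¹ v)⁻¹⁆ = 1 := by
    intro u v
    rw [mul_right, inv_right, adj, adj', mul_inv_cancel]
  have hwc : ∀ v : T, σ v * (σ⁻¹ v)⁻¹ ∈ Subgroup.center T := by
    intro v
    rw [Subgroup.mem_center_iff]
    intro g
    exact (commutatorElement_eq_one_iff_commute.mp (hw g v)).eq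
  -- the centre is `σ`-invariant
  have hcs : ∀ (τ : MulAut T) (c : T), c ∈ Subgroup.center T → τ c ∈ Subgroup.center T := by
    intro τ c hc
    rw [Subgroup.mem_center_iff] at hc ⊢
    intro g
    have h1 := hc (τ⁻¹ g)
    have h2 := congrArg τ h1
    rw [map_mul, map_mul, MulAut.apply_inv_self] at h2
    exact h2
  have hsq : ∀ v : T, (σ * σ) v * v⁻¹ ∈ Subgroup.center T := by
    intro v
    have h1 := hwc (σ v)
    rw [MulAut.inv_apply_self] at h1
    exact h1
  have hpow : ∀ (k : ℕ) (v : T), ((σ * σ) ^ k) v * v⁻¹ ∈ Subgroup.center T := by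
    intro k
    induction k with
    | zero => intro v; simp
    | succ k ih =>
      intro v
      rw [pow_succ', MulAut.mul_apply]
      have h1 := hcs (σ * σ) _ (ih v)
      rw [map_mul, map_inv] at h1
      have h2 := hsq v
      have h3 := Subgroup.mul_mem _ h1 h2
      have e : (σ * σ) (((σ * σ) ^ k) v) * ((σ * σ) v)⁻¹ * ((σ * σ) v * v⁻¹)
          = (σ * σ) (((σ * σ) ^ k) v) * v⁻¹ := by group
      rw [e] at h3
      exact h3
  have hσeq : σ = (σ * σ) ^ ((p + 1) / 2) := by
    obtain ⟨m, rfl⟩ := hp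
    have : (2 * m + 1 + 1) / 2 = m + 1 := by omega
    rw [this, ← pow_two, ← pow_mul]
    have : 2 * (m + 1) = (2 * m + 1) + 1 := by ring
    rw [this, pow_succ, hσ, one_mul]
  have hone : ∀ v : T, σ v * v⁻¹ ∈ Subgroup.center T := by
    intro v
    have := hpow ((p + 1) / 2) v
    rw [← hσeq] at this
    exact this
  have hμc : ∀ v : T, v⁻¹ * σ v ∈ Subgroup.center T := by
    intro v
    have h1 := hone v
    have h2 := (Subgroup.mem_center_iff.mp h1) v⁻¹
    have e : v⁻¹ * σ v = v⁻¹ * (σ v * v⁻¹) * v := by group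
    rw [e, h2]
    have e2 : σ v * v⁻¹ * v⁻¹ * v = σ v * v⁻¹ := by group
    rw [e2]; exact h1
  -- `μ s = s⁻¹ σ s` is a homomorphism into the centre
  let μ : T →* T :=
    { toFun := fun s => s⁻¹ * σ s
      map_one' := by simp
      map_mul' := by
        intro s t
        have h1 := (Subgroup.mem_center_iff.mp (hμc s)) t⁻¹
        calc (s * t)⁻¹ * σ (s * t) = t⁻¹ * (s⁻¹ * σ s) * σ t := by rw [map_mul]; group
          _ = s⁻¹ * σ s * t⁻¹ * σ t := by rw [h1]
          _ = s⁻¹ * σ s * (t⁻¹ * σ t) := by group }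
  have hμ : ∀ s, μ s = s⁻¹ * σ s := fun s => rfl
  have hcomap : Zt.comap μ = Zt := by
    ext t
    rw [Subgroup.mem_comap, hμ]
    constructor
    · exact hfix t
    · intro ht
      rw [hσZ t ht, inv_mul_cancel]; exact Zt.one_mem
  have hrange : μ.range ≤ Subgroup.center T := by
    rintro _ ⟨s, rfl⟩
    exact hμc s
  have hidx : Zt.index = Zt.relIndex μ.range := by
    conv_lhs => rw [← hcomap]
    exact Subgroup.index_comap Zt μ
  have hne : Zt.relIndex (Subgroup.center T) ≠ 0 := by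
    intro h0
    have := Subgroup.relIndex_mul_index hZc
    rw [h0, zero_mul] at this
    exact Subgroup.index_ne_zero_of_finite this.symm
  have hle : Zt.relIndex μ.range ≤ Zt.relIndex (Subgroup.center T) :=
    Subgroup.relIndex_le_of_le_right hrange hne
  have hmul := Subgroup.relIndex_mul_index hZc
  have hcidx : (Subgroup.center T).index = 1 := by
    have hpos : 0 < Zt.relIndex (Subgroup.center T) := Nat.pos_of_ne_zero hne
    have hipos : 0 < (Subgroup.center T).index := Nat.pos_of_ne_zero Subgroup.index_ne_zero_of_finite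
    nlinarith
  have htop : Subgroup.center T = ⊤ := Subgroup.index_eq_one.mp hcidx
  intro u v
  have : v ∈ Subgroup.center T := by rw [htop]; exact Subgroup.mem_top v
  exact (Subgroup.mem_center_iff.mp this u)

end Cfsg.Agent.S3816P
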