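import Mathlib
import Cfsg.Agent.Helper13.S3816Defs
import Cfsg.Agent.Helper3.S3816POLcore

/-! s3816pieces POL: the polarisation lemma `pol_rel` (bridge from the abstract core `POL_aux_core`,
applied to `T = K / Z0`, `σ` = conjugation by a generator of `A`). -/

set_option autoImplicit false

namespace Cfsg.Agent.S3816P

open scoped commutatorElement

universe u

variable {G : Type u} [Group G] [Finite G] {p : ℕ} [Fact p.Prime] {A K N : Subgroup G}

/-- conjugation by an element of the normaliser, as an automorphism of the subgroup. -/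
def POL_aux_conj (K : Subgroup G) (x : G) (hx : x ∈ Subgroup.normalizer (K : Set G)) : MulAut ↥K where
  toFun k := ⟨x * k * x⁻¹, (Subgroup.mem_normalizer_iff.mp hx k).mp k.2⟩
  invFun k := ⟨x⁻¹ * k * x, by
    have h := (Subgroup.mem_normalizer_iff.mp (Subgroup.inv_mem _ hx) k).mp k.2
    rwa [inv_inv] at h⟩
  left_inv k := by apply Subtype.ext; simp only; group
  right_inv k := by apply Subtype.ext; simp only; group
  map_mul' k l := by apply Subtype.ext; simp only [Subgroup.coe_mul]; group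

theorem POL_aux_conj_apply (K : Subgroup G) (x : G) (hx : x ∈ Subgroup.normalizer (K : Set G)) (k : ↥K) :
    ((POL_aux_conj K x hx k : ↥K) : G) = x * k * x⁻¹ := rfl

theorem POL_aux_conj_pow (K : Subgroup G) (x : G) (hx : x ∈ Subgroup.normalizer (K : Set G)) (n : ℕ) (k : ↥K) :
    (((POL_aux_conj K x hx ^ n) k : ↥K) : G) = x ^ n * k * (x ^ n)⁻¹ := by
  induction n generalizing k with
  | zero => simp
  | succ n ih =>
    rw [pow_succ', MulAut.mul_apply, POL_aux_conj_apply, ih, pow_succ']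
    group

/-- powers of `x`: `k⁻¹ x^n k x^{-n} ∈ Z` once `k⁻¹ x k x⁻¹ ∈ Z`, `x` normalising `Z`. -/
theorem POL_aux_pow_mem (Z : Subgroup G) (x k : G) (hx : x ∈ Subgroup.normalizer (Z : Set G))
    (h1 : k⁻¹ * (x * k * x⁻¹) ∈ Z) (n : ℕ) : k⁻¹ * (x ^ n * k * (x ^ n)⁻¹) ∈ Z := by
  induction n with
  | zero => simp
  | succ n ih =>
    have hxn : x ^ n ∈ Subgroup.normalizer (Z : Set G) := Subgroup.pow_mem _ hx n
    have h2 := (Subgroup.mem_normalizer_iff.mp hxn _).mp h1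
    have h3 := Subgroup.mul_mem _ ih h2
    have e : k⁻¹ * (x ^ n * k * (x ^ n)⁻¹) * (x ^ n * (k⁻¹ * (x * k * x⁻¹)) * (x ^ n)⁻¹)
        = k⁻¹ * (x ^ (n + 1) * k * (x ^ (n + 1))⁻¹) := by
      rw [pow_succ]; group
    rw [e] at h3
    exact h3

theorem pol_rel (hp : p ≠ 2) (hA : Nat.card A = p) (hAK : A ≤ Subgroup.normalizer (K : Set G))
    (Z Z0 : Subgroup G) (hZ0n : Z0.Normal) (hZ0Z : Z0 ≤ Z) (hZK : Z ≤ K)
    (hZA : A ≤ Subgroup.normalizer (Z : Set G)) (hcen : ⁅Z, K⁆ ≤ Z0) (hZfix : ⁅Z, A⁆ ≤ Z0)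
    (hab : ⁅K, K⁆ ≤ Z)
    (hfix : ∀ t ∈ K, (∀ a ∈ A, t⁻¹ * (a * t * a⁻¹) ∈ Z) → t ∈ Z)
    (hcomm : ∀ h ∈ K, ∀ a ∈ A, h * (a * h * a⁻¹) * h⁻¹ * (a * h * a⁻¹)⁻¹ ∈ Z0) : ⁅K, K⁆ ≤ Z0 := by
  have hpp : p.Prime := Fact.out
  have hodd : Odd p := hpp.odd_of_ne_two hp
  -- a generator of `A`
  haveI : IsCyclic ↥A := isCyclic_of_prime_card hA
  obtain ⟨g, hg⟩ := IsCyclic.exists_generator (α := ↥A)
  set x : G := (g : G) with hxdef
  have hxA : x ∈ A := g.2
  have hxp : x ^ p = 1 := by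
    have h1 : g ^ p = 1 := by rw [← hA]; exact pow_card_eq_one'
    have := congrArg (Subtype.val) h1
    simpa using this
  have hgen : ∀ a ∈ A, ∃ n : ℕ, a = x ^ n := by
    intro a ha
    have h1 : (⟨a, ha⟩ : ↥A) ∈ Subgroup.zpowers g := hg _
    rw [← mem_powers_iff_mem_zpowers] at h1
    obtain ⟨n, hn⟩ := h1
    refine ⟨n, ?_⟩
    have := congrArg (Subtype.val) hn
    simpa using this.symm
  have hxK : x ∈ Subgroup.normalizer (K : Set G) := hAK hxA
  have hxZ : x ∈ Subgroup.normalizer (Z : Set G) := hZA hxA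
  -- the quotient `T = K / Z0`
  haveI hNn : (Z0.subgroupOf K).Normal := hZ0n.subgroupOf K
  set σ0 : MulAut ↥K := POL_aux_conj K x hxK with hσ0
  have hmap : (Z0.subgroupOf K).map (σ0 : ↥K ≃* ↥K).toMonoidHom = Z0.subgroupOf K := by
    ext k
    rw [Subgroup.mem_map]
    constructor
    · rintro ⟨l, hl, rfl⟩
      rw [Subgroup.mem_subgroupOf] at hl ⊢
      exact hZ0n.conj_mem _ hl x
    · intro hk
      refine ⟨σ0⁻¹ k, ?_, by simp⟩
      rw [Subgroup.mem_subgroupOf] at hk ⊢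
      have : ((σ0⁻¹ k : ↥K) : G) = x⁻¹ * k * x := rfl
      rw [this]
      have := hZ0n.conj_mem _ hk x⁻¹
      rwa [inv_inv] at this
  set σ : MulAut (↥K ⧸ Z0.subgroupOf K) :=
    QuotientGroup.congr (Z0.subgroupOf K) (Z0.subgroupOf K) σ0 hmap with hσ
  have hσmk : ∀ k : ↥K, σ (QuotientGroup.mk k) = QuotientGroup.mk (σ0 k) := fun k => rfl
  have hσ0p : σ0 ^ p = 1 := by
    ext k
    rw [POL_aux_conj_pow, hxp]; simp
  have hσpow : ∀ (n : ℕ) (k : ↥K), (σ ^ n) (QuotientGroup.mk k) = QuotientGroup.mk ((σ0 ^ n) k) := by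
    intro n
    induction n with
    | zero => intro k; simp
    | succ n ih =>
      intro k
      rw [pow_succ', MulAut.mul_apply, ih, hσmk, pow_succ', MulAut.mul_apply]
  have hσp : σ ^ p = 1 := by
    ext t
    obtain ⟨k, rfl⟩ := QuotientGroup.mk_surjective t
    rw [hσpow, hσ0p]; rfl
  set Zt : Subgroup (↥K ⧸ Z0.subgroupOf K) :=
    (Z.subgroupOf K).map (QuotientGroup.mk' (Z0.subgroupOf K)) with hZt
  have hmkeq : ∀ k l : ↥K, (QuotientGroup.mk k : ↥K ⧸ Z0.subgroupOf K) = QuotientGroup.mk l ↔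
      (k : G)⁻¹ * l ∈ Z0 := by
    intro k l
    rw [QuotientGroup.eq, Subgroup.mem_subgroupOf]; rfl
  have hmemZt : ∀ k : ↥K, (QuotientGroup.mk k : ↥K ⧸ Z0.subgroupOf K) ∈ Zt ↔ (k : G) ∈ Z := by
    intro k
    rw [hZt, Subgroup.mem_map]
    constructor
    · rintro ⟨z, hz, hzk⟩
      rw [Subgroup.mem_subgroupOf] at hz
      have h1 := (hmkeq z k).mp hzk
      have h2 := Subgroup.mul_mem _ hz (hZ0Z h1)
      rwa [mul_inv_cancel_left] at h2
    · intro hk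
      exact ⟨k, Subgroup.mem_subgroupOf.mpr hk, rfl⟩
  -- apply the core
  have key := POL_aux_core σ Zt p hodd hσp ?_ ?_ ?_ ?_ ?_
  · rw [Subgroup.commutator_le]
    intro k1 hk1 k2 hk2
    have h1 := key (QuotientGroup.mk (⟨k2, hk2⟩ : ↥K)⁻¹) (QuotientGroup.mk (⟨k1, hk1⟩ : ↥K)⁻¹)
    rw [← QuotientGroup.mk_mul, ← QuotientGroup.mk_mul, hmkeq] at h1
    have e : ⁅k1, k2⁆ = (((⟨k2, hk2⟩ : ↥K)⁻¹ * (⟨k1, hk1⟩ : ↥K)⁻¹ : ↥K) : G)⁻¹ *
        (((⟨k1, hk1⟩ : ↥K)⁻¹ * (⟨k2, hk2⟩ : ↥K)⁻¹ : ↥K) : G) := by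
      simp only [Subgroup.coe_mul, Subgroup.coe_inv, commutatorElement_def]; group
    rw [e]; exact h1
  · -- Zt central
    intro t ht
    obtain ⟨z, rfl⟩ := QuotientGroup.mk_surjective t
    have hz := (hmemZt z).mp ht
    rw [Subgroup.mem_center_iff]
    intro s
    obtain ⟨k, rfl⟩ := QuotientGroup.mk_surjective s
    rw [← QuotientGroup.mk_mul, ← QuotientGroup.mk_mul, hmkeq]
    have h1 : ⁅(z : G)⁻¹, (k : G)⁻¹⁆ ∈ ⁅Z, K⁆ :=
      Subgroup.commutator_mem_commutator (Subgroup.inv_mem _ hz) (Subgroup.inv_mem _ k.2)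
    have e : ((k * z : ↥K) : G)⁻¹ * ((z * k : ↥K) : G) = ⁅(z : G)⁻¹, (k : G)⁻¹⁆ := by
      simp only [Subgroup.coe_mul, commutatorElement_def]; group
    rw [e]; exact hcen h1
  · -- σ fixes Zt
    intro t ht
    obtain ⟨z, rfl⟩ := QuotientGroup.mk_surjective t
    have hz := (hmemZt z).mp ht
    rw [hσmk, hmkeq]
    have h1 : ⁅(z : G)⁻¹, x⁆ ∈ ⁅Z, A⁆ :=
      Subgroup.commutator_mem_commutator (Subgroup.inv_mem _ hz) hxA
    have e : ((σ0 z : ↥K) : G)⁻¹ * (z : G) = ⁅(z : G)⁻¹, x⁆⁻¹ := by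
      rw [hσ0, POL_aux_conj_apply]
      simp only [commutatorElement_def]; group
    rw [e]
    exact Subgroup.inv_mem _ (hZfix h1)
  · -- commutators in Zt
    intro s t
    obtain ⟨k, rfl⟩ := QuotientGroup.mk_surjective s
    obtain ⟨l, rfl⟩ := QuotientGroup.mk_surjective t
    have : (⁅(QuotientGroup.mk k : ↥K ⧸ Z0.subgroupOf K), (QuotientGroup.mk l : ↥K ⧸ Z0.subgroupOf K)⁆)
        = QuotientGroup.mk ⁅k, l⁆ := by
      simp only [commutatorElement_def, QuotientGroup.mk_mul, QuotientGroup.mk_inv]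
    rw [this, hmemZt]
    have : ((⁅k, l⁆ : ↥K) : G) = ⁅(k : G), (l : G)⁆ := by
      simp only [commutatorElement_def, Subgroup.coe_mul, Subgroup.coe_inv]
    rw [this]
    exact hab (Subgroup.commutator_mem_commutator k.2 l.2)
  · -- fixed points
    intro t ht
    obtain ⟨k, rfl⟩ := QuotientGroup.mk_surjective t
    rw [hσmk, ← QuotientGroup.mk_inv, ← QuotientGroup.mk_mul, hmemZt] at ht
    rw [hmemZt]
    apply hfix k k.2
    intro a ha
    obtain ⟨n, rfl⟩ := hgen a ha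
    apply POL_aux_pow_mem Z x k hxZ _ n
    exact ht
  · -- t commutes with σ t
    intro t
    obtain ⟨k, rfl⟩ := QuotientGroup.mk_surjective t
    rw [hσmk]
    have : (⁅(QuotientGroup.mk k : ↥K ⧸ Z0.subgroupOf K),
        (QuotientGroup.mk (σ0 k) : ↥K ⧸ Z0.subgroupOf K)⁆) = QuotientGroup.mk ⁅k, σ0 k⁆ := by
      simp only [commutatorElement_def, QuotientGroup.mk_mul, QuotientGroup.mk_inv]
    rw [this, QuotientGroup.eq_one_iff, Subgroup.mem_subgroupOf]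
    have h1 := hcomm k k.2 x hxA
    have : ((⁅k, σ0 k⁆ : ↥K) : G) = (k : G) * (x * k * x⁻¹) * (k : G)⁻¹ * (x * k * x⁻¹)⁻¹ := by
      simp only [commutatorElement_def, Subgroup.coe_mul, Subgroup.coe_inv, hσ0, POL_aux_conj_apply]
    rw [this]; exact h1

end Cfsg.Agent.S3816P
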