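import Mathlib
import Cfsg.Agent.Lead.ActionBridge
import Cfsg.Agent.Lead.CoprimeSylow

set_option autoImplicit false
set_option linter.style.haveILetI false

/-! Invariant Sylow subgroups for an external coprime action `MulDistribMulAction A G`
(bridged from the internal version `Lead.coprime_exists_invariant_sylow` through `G ⋊ A`). -/

namespace Cfsg.Agent.Helper3

open Cfsg.Agent.Lead SemidirectProduct

/-- Coprime action (with `A` or `G` solvable): for each prime `p` there is an `A`-invariant
Sylow `p`-subgroup of `G`. -/
theorem exists_invariant_sylow_ext {A G : Type*} [Group A] [Finite A] [Group G] [Finite G]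
    [MulDistribMulAction A G] (hcop : (Nat.card A).Coprime (Nat.card G))
    (hsol : Group.IsSolvable A ∨ Group.IsSolvable G) (p : ℕ) [Fact p.Prime] :
    ∃ P : Sylow p G, ∀ a : A, ∀ x ∈ P, a • x ∈ P := by
  have hcop' : (Nat.card (As G A)).Coprime (Nat.card (Gs G A)) := by
    rw [card_As, card_Gs]; exact hcop
  have hsol' : Group.IsSolvable (As G A) ∨ Group.IsSolvable (Gs G A) := by
    rcases hsol with h | h
    · left
      haveI := h
      exact Group.isSolvable_of_surjective (f := (inr : A →* SD G A).rangeRestrict)
        (MonoidHom.rangeRestrict_surjective _)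
    · right
      haveI := h
      exact Group.isSolvable_of_surjective (f := (inl : G →* SD G A).rangeRestrict)
        (MonoidHom.rangeRestrict_surjective _)
  obtain ⟨P, hP⟩ := coprime_exists_invariant_sylow (As G A) (Gs G A) (As_le_normalizer_Gs G A)
    hcop' hsol' p
  set Q : Subgroup (SD G A) := (P : Subgroup (Gs G A)).map (Gs G A).subtype with hQ
  have hQle : Q ≤ (inl : G →* SD G A).range := by
    rw [hQ]
    intro x hx
    obtain ⟨y, -, rfl⟩ := hx
    exact y.2
  have hcardQ : Nat.card Q = p ^ (Nat.card G).factorization p := by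
    rw [hQ, Subgroup.card_map_of_injective (Subgroup.subtype_injective _), P.card_eq_multiplicity,
      card_Gs]
  have hmap : (Q.comap (inl : G →* SD G A)).map (inl : G →* SD G A) = Q :=
    Subgroup.map_comap_eq_self hQle
  have hcard : Nat.card (Q.comap (inl : G →* SD G A)) = p ^ (Nat.card G).factorization p := by
    rw [← Subgroup.card_map_of_injective (f := (inl : G →* SD G A)) inl_injective, hmap, hcardQ]
  refine ⟨Sylow.ofCard (Q.comap (inl : G →* SD G A)) hcard, ?_⟩
  intro a x hx
  change x ∈ Q.comap (inl : G →* SD G A) at hx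
  change a • x ∈ Q.comap (inl : G →* SD G A)
  rw [Subgroup.mem_comap] at hx ⊢
  have ha : (inr a : SD G A) ∈ Subgroup.normalizer (Q : Set (SD G A)) := hP ⟨a, rfl⟩
  rw [← inr_mul_inl_mul_inr_inv]
  exact (Subgroup.mem_normalizer_iff.mp ha _).mp hx

end Cfsg.Agent.Helper3
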