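import Mathlib
import Cfsg.Prelude.Def_SolvableStructure
import Cfsg.Agent.Helper3.Conj
import Cfsg.Agent.Helper3.ProdCard
import Cfsg.Agent.Helper3.SysNorm
import Cfsg.Agent.Helper1.MinNormal
import Cfsg.Agent.Helper19.Subnormal
import Cfsg.Agent.Lead.Compl
import Cfsg.Agent.Lead.Hall

set_option autoImplicit false
set_option linter.style.haveILetI false

namespace Cfsg.Agent.Helper3

open scoped Pointwise

universe u

section
variable {G : Type*} [Group G]

/-- for `N` normal, `[N : N ∩ L] * [G : N L] = [G : L]` -/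
theorem relIndex_mul_index_sup [Finite G] (N L : Subgroup G) [N.Normal] :
    L.relIndex N * (N ⊔ L).index = L.index := by
  have c1 := card_mul_set_mul_card_inf N L
  rw [← Subgroup.normal_mul N L] at c1
  have c1' : Nat.card (N ⊔ L : Subgroup G) * Nat.card (N ⊓ L : Subgroup G)
      = Nat.card N * Nat.card L := c1
  have c2 : Nat.card (N ⊓ L : Subgroup G) * L.relIndex N = Nat.card N := by
    have := Subgroup.relIndex_mul_relIndex (⊥ : Subgroup G) (N ⊓ L) N bot_le inf_le_left
    rwa [Subgroup.relIndex_bot_left, Subgroup.relIndex_bot_left, Subgroup.inf_relIndex_left]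
      at this
  have c3 := Subgroup.card_mul_index (N ⊔ L)
  have c4 := Subgroup.card_mul_index L
  have hn0 : 0 < Nat.card (N ⊓ L : Subgroup G) := Nat.card_pos
  have hl : 0 < Nat.card L := Nat.card_pos
  -- S = r * l
  have hS : Nat.card (N ⊔ L : Subgroup G) = L.relIndex N * Nat.card L := by
    apply Nat.eq_of_mul_eq_mul_right hn0
    rw [c1', ← c2]; ring
  apply Nat.eq_of_mul_eq_mul_left hl
  calc Nat.card L * (L.relIndex N * (N ⊔ L).index)
      = (L.relIndex N * Nat.card L) * (N ⊔ L).index := by ring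
    _ = Nat.card G := by rw [← hS, c3]
    _ = Nat.card L * L.index := c4.symm

/-- a normal `r`-subgroup lies in every subgroup of index prime to `r` -/
theorem normal_pgroup_le_of_not_dvd_index [Finite G] {r : ℕ} [hr : Fact r.Prime] (N H : Subgroup G)
    [N.Normal] (hN : IsPGroup r N) (hH : ¬ r ∣ H.index) : N ≤ H := by
  rw [← Subgroup.relIndex_eq_one]
  have h1 : H.relIndex N ∣ Nat.card N := Subgroup.relIndex_dvd_card H N
  have h2 : H.relIndex N ∣ H.index := Dvd.intro _ (relIndex_mul_index_sup N H)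
  obtain ⟨k, hk⟩ := IsPGroup.iff_card.mp hN
  rw [hk] at h1
  obtain ⟨j, -, hj⟩ := (Nat.dvd_prime_pow hr.out).mp h1
  by_contra hne
  have hj0 : j ≠ 0 := by
    intro h0; rw [h0, pow_zero] at hj; exact hne hj
  apply hH
  refine dvd_trans ?_ h2
  rw [hj]; exact dvd_pow_self r hj0

theorem index_conj_smul (g : G) (H : Subgroup G) : (MulAut.conj g • H).index = H.index :=
  Subgroup.index_map_equiv H (MulAut.conj g)

theorem IsComplementSystem.conj {K : Nat.Primes → Subgroup G} (hK : Cfsg.IsComplementSystem K)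
    (g : G) : Cfsg.IsComplementSystem (fun p => MulAut.conj g • K p) := by
  intro p
  rw [index_conj_smul]
  exact hK p

/-- the image of a complement system in a quotient is a complement system -/
theorem IsComplementSystem.map_mk' [Finite G] {K : Nat.Primes → Subgroup G}
    (hK : Cfsg.IsComplementSystem K) (N : Subgroup G) [N.Normal] :
    Cfsg.IsComplementSystem (fun p => (K p).map (QuotientGroup.mk' N)) := by
  intro p
  have hp : (p : ℕ).Prime := p.2
  change ((K p).map (QuotientGroup.mk' N)).index = _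
  rw [Subgroup.index_map, (QuotientGroup.mk' N).range_eq_top_of_surjective
    (QuotientGroup.mk'_surjective N), Subgroup.index_top, mul_one, QuotientGroup.ker_mk', sup_comm]
  set a := (Nat.card G).factorization p with ha
  have h1 : (K p).index = (p : ℕ) ^ a := hK p
  have h2 := IsComplementSystem.coprime_card hK p
  have h3 := relIndex_mul_index_sup N (K p)
  rw [h1] at h3
  have h4 : Nat.card (N ⊓ K p : Subgroup G) * (K p).relIndex N = Nat.card N := by
    have := Subgroup.relIndex_mul_relIndex (⊥ : Subgroup G) (N ⊓ K p) N bot_le inf_le_left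
    rwa [Subgroup.relIndex_bot_left, Subgroup.relIndex_bot_left, Subgroup.inf_relIndex_left]
      at this
  obtain ⟨b, -, hb⟩ := (Nat.dvd_prime_pow hp).mp (Dvd.intro_left _ h3)
  obtain ⟨j, -, hj⟩ := (Nat.dvd_prime_pow hp).mp (Dvd.intro _ h3)
  rw [hb]
  congr 1
  rw [hb, hj, ← pow_add] at h3
  have hjb : j + b = a := Nat.pow_right_injective hp.two_le h3
  have hpinf : ¬ (p : ℕ) ∣ Nat.card (N ⊓ K p : Subgroup G) := by
    intro hdvd
    have hd2 : Nat.card (N ⊓ K p : Subgroup G) ∣ Nat.card (K p) :=
      Subgroup.card_dvd_of_le inf_le_right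
    have := Nat.dvd_gcd (hdvd.trans hd2) (dvd_refl (p : ℕ))
    rw [h2] at this
    exact hp.one_lt.ne' (Nat.dvd_one.mp this)
  have hvN : (Nat.card N).factorization p = j := by
    rw [← h4, hj, Nat.factorization_mul Nat.card_pos.ne' (pow_pos hp.pos j).ne',
      Finsupp.add_apply, Nat.factorization_eq_zero_of_not_dvd hpinf, Nat.factorization_pow,
      Finsupp.smul_apply, hp.factorization_self]
    simp
  have hq : Nat.card (G ⧸ N) * Nat.card N = Nat.card G := by
    rw [← Subgroup.index_eq_card, mul_comm]; exact Subgroup.card_mul_index N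
  have hv : (Nat.card (G ⧸ N)).factorization p + (Nat.card N).factorization p = a := by
    rw [ha, ← hq, Nat.factorization_mul Nat.card_pos.ne' Nat.card_pos.ne']
    rfl
  omega

theorem IsComplementSystem.card_eq [Finite G] {K L : Nat.Primes → Subgroup G}
    (hK : Cfsg.IsComplementSystem K) (hL : Cfsg.IsComplementSystem L) (p : Nat.Primes) :
    Nat.card (K p) = Nat.card (L p) := by
  have h1 := Subgroup.card_mul_index (K p)
  have h2 := Subgroup.card_mul_index (L p)
  rw [hK p] at h1
  rw [hL p] at h2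
  exact Nat.eq_of_mul_eq_mul_right (pow_pos p.2.pos _) (h1.trans h2.symm)

end

/-- relative conjugacy of complement systems: if `K p N = L p N` for all `p`, `N` normal, then
some element of `N` conjugates `K` to `L`. -/
theorem compl_conj_rel_aux : ∀ (n : ℕ) (G : Type u) [Group G] [Finite G] [Group.IsSolvable G],
    Nat.card G = n → ∀ (N : Subgroup G) [N.Normal] (K L : Nat.Primes → Subgroup G),
    Cfsg.IsComplementSystem K → Cfsg.IsComplementSystem L →
    (∀ p, K p ⊔ N = L p ⊔ N) → ∃ x ∈ N, ∀ p, MulAut.conj x • K p = L p := by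
  intro n
  induction n using Nat.strong_induction_on with
  | _ n ih =>
    intro G _ _ _ hn N hNn K L hK hL hKL
    by_cases hN0 : N = ⊥
    · subst hN0
      refine ⟨1, Subgroup.one_mem _, fun p => ?_⟩
      have := hKL p
      rw [sup_bot_eq, sup_bot_eq] at this
      rw [map_one, one_smul, this]
    · obtain ⟨N₁, hN₁min, hN₁N⟩ := Cfsg.Agent.Helper19.exists_isMinNormal_le hNn hN0
      obtain ⟨hN₁n, hN₁0, hmin⟩ := hN₁min
      haveI := hN₁n
      obtain ⟨-, r, hr, hexp⟩ :=
        Cfsg.Agent.Helper1.minNormal_elementary N₁ hN₁0 inferInstance hmin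
      haveI : Fact r.Prime := ⟨hr⟩
      have hN₁r : IsPGroup r N₁ :=
        fun x => ⟨1, by rw [pow_one]; exact Subtype.ext (hexp x x.2)⟩
      have hcard : Nat.card (G ⧸ N₁) < n := by
        rw [← hn, ← Subgroup.index_eq_card, ← Subgroup.card_mul_index N₁]
        have h1 : 1 < Nat.card N₁ := by
          rw [Subgroup.one_lt_card_iff_ne_bot]; exact hN₁0
        have h2 : 0 < N₁.index := Nat.pos_of_ne_zero Subgroup.index_ne_zero_of_finite
        nlinarith
      haveI : (N.map (QuotientGroup.mk' N₁)).Normal :=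
        Subgroup.Normal.map hNn _ (QuotientGroup.mk'_surjective N₁)
      have hKL' : ∀ p, (K p).map (QuotientGroup.mk' N₁) ⊔ N.map (QuotientGroup.mk' N₁)
          = (L p).map (QuotientGroup.mk' N₁) ⊔ N.map (QuotientGroup.mk' N₁) := by
        intro p
        rw [← Subgroup.map_sup, ← Subgroup.map_sup, hKL p]
      obtain ⟨x', hx'N, hx'⟩ := ih _ hcard (G ⧸ N₁) rfl (N.map (QuotientGroup.mk' N₁)) _ _
        (IsComplementSystem.map_mk' hK N₁) (IsComplementSystem.map_mk' hL N₁) hKL'
      obtain ⟨x, hxN, rfl⟩ := hx'N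
      have hK' : Cfsg.IsComplementSystem (fun p => MulAut.conj x • K p) := IsComplementSystem.conj hK x
      have hK'L : ∀ p, MulAut.conj x • K p ⊔ N₁ = L p ⊔ N₁ := by
        intro p
        have h1 := hx' p
        rw [← Cfsg.Agent.Lead.map_conj_smul] at h1
        have h2 := congrArg (Subgroup.comap (QuotientGroup.mk' N₁)) h1
        rwa [Subgroup.comap_map_eq, Subgroup.comap_map_eq, QuotientGroup.ker_mk'] at h2
      have hnd : ∀ p : Nat.Primes, (p : ℕ) ≠ r → ¬ r ∣ (p : ℕ) ^ (Nat.card G).factorization p := by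
        intro p hpr hd
        exact hpr ((Nat.prime_dvd_prime_iff_eq hr p.2).mp (hr.dvd_of_dvd_pow hd)).symm
      have hN₁L : ∀ p : Nat.Primes, (p : ℕ) ≠ r → N₁ ≤ L p := by
        intro p hpr
        apply normal_pgroup_le_of_not_dvd_index N₁ (L p) hN₁r
        rw [hL p]; exact hnd p hpr
      have hne : ∀ p : Nat.Primes, (p : ℕ) ≠ r → MulAut.conj x • K p = L p := by
        intro p hpr
        have h1 : N₁ ≤ MulAut.conj x • K p := by
          apply normal_pgroup_le_of_not_dvd_index N₁ _ hN₁r
          rw [hK' p]; exact hnd p hpr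
        have h3 := hK'L p
        rwa [sup_eq_left.mpr h1, sup_eq_left.mpr (hN₁L p hpr)] at h3
      let rr : Nat.Primes := ⟨r, hr⟩
      obtain ⟨y, hyN₁, hy⟩ : ∃ y ∈ N₁, MulAut.conj y • (MulAut.conj x • K rr) = L rr := by
        have hKM : MulAut.conj x • K rr ≤ L rr ⊔ N₁ := by
          rw [← hK'L rr]; exact le_sup_left
        have hLM : L rr ≤ L rr ⊔ N₁ := le_sup_left
        have hcK : Nat.card (MulAut.conj x • K rr : Subgroup G) = Nat.card (L rr) :=
          IsComplementSystem.card_eq hK' hL rr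
        obtain ⟨c, hc⟩ : ∃ c, Nat.card (L rr ⊔ N₁ : Subgroup G) = Nat.card (L rr) * r ^ c := by
          have h1 := Subgroup.relIndex_mul_index hLM
          rw [hL rr] at h1
          obtain ⟨c, -, hc⟩ := (Nat.dvd_prime_pow hr).mp (Dvd.intro _ h1)
          refine ⟨c, ?_⟩
          have h2 := Subgroup.relIndex_mul_relIndex (⊥ : Subgroup G) (L rr) (L rr ⊔ N₁) bot_le hLM
          rw [Subgroup.relIndex_bot_left, Subgroup.relIndex_bot_left, hc] at h2
          exact h2.symm
        have hcop : (Nat.card (L rr)).Coprime (r ^ c) :=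
          Nat.Coprime.pow_right c (IsComplementSystem.coprime_card hL rr)
        have hc' : Nat.card (L rr ⊔ N₁ : Subgroup G) = Nat.card (L rr) * r ^ c := hc
        have e1 : Nat.card ((L rr).subgroupOf (L rr ⊔ N₁)) = Nat.card (L rr) :=
          Nat.card_congr (Subgroup.subgroupOfEquivOfLe hLM).toEquiv
        have e2 : Nat.card ((MulAut.conj x • K rr).subgroupOf (L rr ⊔ N₁)) = Nat.card (L rr) := by
          rw [← hcK]
          exact Nat.card_congr (Subgroup.subgroupOfEquivOfLe hKM).toEquiv
        obtain ⟨u, hu⟩ := Cfsg.Agent.Lead.hall_conj_aux _ (G := ↥(L rr ⊔ N₁)) rfl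
          (Nat.card (L rr)) (r ^ c) hc' hcop _ _ e1 e2
        have h3 := Cfsg.Agent.Lead.conj_of_subgroupOf u hu
        rw [inf_eq_left.mpr hLM, inf_eq_left.mpr hKM] at h3
        obtain ⟨n₁, hn₁, l, hl, hul⟩ : (u : G) ∈ (N₁ : Set G) * (L rr : Set G) := by
          rw [← Subgroup.normal_mul, sup_comm]; exact u.2
        refine ⟨n₁⁻¹, N₁.inv_mem hn₁, ?_⟩
        rw [← h3, ← hul, map_mul, mul_smul, Subgroup.conj_smul_eq_self_of_mem hl, ← mul_smul,
          ← map_mul, inv_mul_cancel, map_one, one_smul]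
      refine ⟨y * x, N.mul_mem (hN₁N hyN₁) hxN, ?_⟩
      intro p
      rw [map_mul, mul_smul]
      by_cases hpr : (p : ℕ) = r
      · have : p = rr := Subtype.ext hpr
        rw [this]; exact hy
      · rw [hne p hpr]
        exact Subgroup.conj_smul_eq_self_of_mem (hN₁L p hpr hyN₁)

/-- complement systems of a finite solvable group are conjugate -/
theorem compl_conj {G : Type*} [Group G] [Finite G] [Group.IsSolvable G]
    {K L : Nat.Primes → Subgroup G} (hK : Cfsg.IsComplementSystem K)
    (hL : Cfsg.IsComplementSystem L) : ∃ g : G, ∀ p, MulAut.conj g • K p = L p := by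
  obtain ⟨x, -, hx⟩ := compl_conj_rel_aux _ G rfl ⊤ K L hK hL (fun p => by simp)
  exact ⟨x, hx⟩

/-- relative conjugacy of complement systems -/
theorem compl_conj_rel {G : Type*} [Group G] [Finite G] [Group.IsSolvable G] (N : Subgroup G)
    [N.Normal] {K L : Nat.Primes → Subgroup G} (hK : Cfsg.IsComplementSystem K)
    (hL : Cfsg.IsComplementSystem L) (hKL : ∀ p, K p ⊔ N = L p ⊔ N) :
    ∃ x ∈ N, ∀ p, MulAut.conj x • K p = L p :=
  compl_conj_rel_aux _ G rfl N K L hK hL hKL

end Cfsg.Agent.Helper3
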