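import Mathlib
import Cfsg.Agent.Helper13.S3816Defs
import Cfsg.Agent.Helper13.S3816Basic
import Cfsg.Agent.Helper3.S3816POL
import Cfsg.Agent.S4381

/-! s3816pieces C2G (core): `c2_pgroup_core` — from the unique maximal `A`-invariant subgroup of `W = cA A k`
(statement of `c2_Y0`, a hypothesis here) and `Cfsg.Agent.S4381.result`: `W` is an `s`-group and every proper
`A`-invariant subgroup of `W` lies in `Phi W`. -/

set_option autoImplicit false

namespace Cfsg.Agent.S3816P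

open scoped commutatorElement
open Pointwise

universe u

variable {G : Type u} [Group G] [Finite G] {p : ℕ} [Fact p.Prime] {A K N : Subgroup G}

omit [Finite G] in
/-- the conjugation action of `A` on a subgroup `W` it normalises. -/
def C2G_aux_hom (A W : Subgroup G) (hAW : A ≤ Subgroup.normalizer (W : Set G)) : ↥A →* MulAut ↥W where
  toFun a := POL_aux_conj W (a : G) (hAW a.2)
  map_one' := by
    ext w
    rw [POL_aux_conj_apply]; simp
  map_mul' a b := by
    ext w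
    rw [MulAut.mul_apply, POL_aux_conj_apply, POL_aux_conj_apply, POL_aux_conj_apply]
    simp only [Subgroup.coe_mul]; group

theorem c2_pgroup_core (h : Hyp p A K) {k : G} (hk : k ∈ K)
    (hY : ∃ Y0 : Subgroup G, Y0 ≤ cA A k ∧ Y0 ≠ cA A k ∧ A ≤ Subgroup.normalizer (Y0 : Set G) ∧
      ∀ K1 : Subgroup G, K1 ≤ cA A k → K1 ≠ cA A k → A ≤ Subgroup.normalizer (K1 : Set G) →
        K1 ≤ Y0) :
    (∃ s : ℕ, s.Prime ∧ IsPGroup s (cA A k)) ∧
      ∀ K1 : Subgroup G, K1 ≤ cA A k → K1 ≠ cA A k → A ≤ Subgroup.normalizer (K1 : Set G) →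
        K1 ≤ Phi (cA A k) := by
  have hpp : p.Prime := Fact.out
  set W := cA A k with hW
  have hAW : A ≤ Subgroup.normalizer (W : Set G) := cA_normalized A k
  have hWK : W ≤ K := cA_le h.norm hk
  letI act : MulDistribMulAction ↥A ↥W := MulDistribMulAction.compHom ↥W (C2G_aux_hom A W hAW)
  have hsmul : ∀ (a : ↥A) (w : ↥W), ((a • w : ↥W) : G) = (a : G) * w * (a : G)⁻¹ := fun a w => rfl
  haveI : Finite ↥A := inferInstance
  have hcop : (Nat.card ↥A).Coprime (Nat.card ↥W) := by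
    rw [h.card]
    exact (Nat.Coprime.coprime_dvd_left (Subgroup.card_dvd_of_le hWK) h.cop).symm
  have hsol : Group.IsSolvable ↥A ∨ Group.IsSolvable ↥W := by
    left
    haveI : IsCyclic ↥A := isCyclic_of_prime_card h.card
    exact isSolvable_of_comm (fun a b => IsCyclic.commGroup.mul_comm a b)
  obtain ⟨hiff, -⟩ := Cfsg.Agent.S4381.result (A := ↥A) (G := ↥W) hcop hsol
  -- translation: invariant subgroups of `↥W` and of `G`
  have hinv_map : ∀ L : Subgroup ↥W, (∀ a : ↥A, ∀ x ∈ L, a • x ∈ L) →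
      A ≤ Subgroup.normalizer ((L.map W.subtype : Subgroup G) : Set G) := by
    intro L hL
    have key : ∀ a ∈ A, ∀ y ∈ L.map W.subtype, a * y * a⁻¹ ∈ L.map W.subtype := by
      rintro a ha _ ⟨x, hx, rfl⟩
      exact ⟨(⟨a, ha⟩ : ↥A) • x, hL ⟨a, ha⟩ x hx, rfl⟩
    intro a ha
    rw [Subgroup.mem_normalizer_iff]
    intro y
    constructor
    · exact key a ha y
    · intro hy
      have := key a⁻¹ (Subgroup.inv_mem _ ha) _ hy
      have e : a⁻¹ * (a * y * a⁻¹) * a⁻¹⁻¹ = y := by group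
      rwa [e] at this
  have hinv_sub : ∀ K1 : Subgroup G, A ≤ Subgroup.normalizer (K1 : Set G) →
      ∀ a : ↥A, ∀ x ∈ K1.subgroupOf W, a • x ∈ K1.subgroupOf W := by
    intro K1 hK1 a x hx
    rw [Subgroup.mem_subgroupOf] at hx ⊢
    rw [hsmul]
    exact (Subgroup.mem_normalizer_iff.mp (hK1 a.2) _).mp hx
  obtain ⟨Y0, hY0W, hY0ne, hY0A, hY0max⟩ := hY
  -- every maximal invariant subgroup is `Y0`
  have hmaxeq : ∀ M : Subgroup ↥W, (M ≠ ⊤ ∧ (∀ a : ↥A, ∀ x ∈ M, a • x ∈ M) ∧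
      ∀ L : Subgroup ↥W, M < L → (∀ a : ↥A, ∀ x ∈ L, a • x ∈ L) → L = ⊤) → M = Y0.subgroupOf W := by
    rintro M ⟨hMtop, hMinv, hMmax⟩
    have h1 : M.map W.subtype ≤ W := Subgroup.map_subtype_le M
    have h2 : M.map W.subtype ≠ W := by
      intro heq
      apply hMtop
      rw [eq_top_iff]
      intro x _
      have : (x : G) ∈ M.map W.subtype := by rw [heq]; exact x.2
      obtain ⟨y, hy, hyx⟩ := this
      have : y = x := Subtype.ext hyx
      rwa [← this]
    have h3 := hY0max _ h1 h2 (hinv_map M hMinv)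
    have hle : M ≤ Y0.subgroupOf W := by
      intro x hx
      rw [Subgroup.mem_subgroupOf]
      exact h3 ⟨x, hx, rfl⟩
    have hY0top : Y0.subgroupOf W ≠ ⊤ := by
      intro heq
      apply hY0ne
      apply le_antisymm hY0W
      intro w hw
      have : (⟨w, hw⟩ : ↥W) ∈ Y0.subgroupOf W := by rw [heq]; exact Subgroup.mem_top _
      exact Subgroup.mem_subgroupOf.mp this
    by_contra hne
    exact hY0top (hMmax _ (lt_of_le_of_ne hle hne) (hinv_sub Y0 hY0A))
  have hLHS : ∀ M N : Subgroup ↥W, (M ≠ ⊤ ∧ (∀ a : ↥A, ∀ x ∈ M, a • x ∈ M) ∧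
      ∀ L : Subgroup ↥W, M < L → (∀ a : ↥A, ∀ x ∈ L, a • x ∈ L) → L = ⊤) →
      (N ≠ ⊤ ∧ (∀ a : ↥A, ∀ x ∈ N, a • x ∈ N) ∧
      ∀ L : Subgroup ↥W, N < L → (∀ a : ↥A, ∀ x ∈ L, a • x ∈ L) → L = ⊤) →
      ∃ c : ↥W, (∀ a : ↥A, a • c = c) ∧ N = MulAut.conj c • M := by
    intro M N hM hN'
    refine ⟨1, fun a => smul_one a, ?_⟩
    rw [hmaxeq M hM, hmaxeq N hN', map_one, one_smul]
  obtain ⟨hs, hfr⟩ := hiff.mp hLHS
  refine ⟨hs, ?_⟩
  intro K1 hK1W hK1ne hK1A
  have hK1inv := hinv_sub K1 hK1A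
  have hle : K1.subgroupOf W ≤ frattini ↥W := by
    by_contra hnle
    have hlt : frattini ↥W < frattini ↥W ⊔ K1.subgroupOf W := by
      refine lt_of_le_of_ne le_sup_left ?_
      intro heq
      apply hnle
      rw [heq]; exact le_sup_right
    have htop := hfr _ hlt
      (Cfsg.Agent.S4381.inv_sup (A := ↥A) Cfsg.Agent.S4381.inv_frattini hK1inv)
    rw [sup_comm] at htop
    have := frattini_nongenerating htop
    apply hK1ne
    apply le_antisymm hK1W
    intro w hw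
    have h5 : (⟨w, hw⟩ : ↥W) ∈ K1.subgroupOf W := by rw [this]; exact Subgroup.mem_top _
    exact Subgroup.mem_subgroupOf.mp h5
  intro x hx
  unfold Phi
  exact ⟨⟨x, hK1W hx⟩, hle (Subgroup.mem_subgroupOf.mpr hx), rfl⟩

end Cfsg.Agent.S3816P
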