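import Mathlib
import Cfsg.Agent.Helper13.S3816Defs
import Cfsg.Agent.Helper13.S3816Basic
import Cfsg.Agent.Helper3.S3816C2Gcore
import Cfsg.Agent.Helper3.S3816C2F

/-! s3816pieces C2G: `c2_pgroup` (wrapper of `c2_pgroup_core` + `c2_Y0`). -/

set_option autoImplicit false

namespace Cfsg.Agent.S3816P

open scoped commutatorElement

universe u

variable {G : Type u} [Group G] [Finite G] {p : ℕ} [Fact p.Prime] {A K N : Subgroup G}

theorem c2_pgroup (mc : MC p A K) (hN : MinN K N) (h2 : ¬ N ≤ Subgroup.centralizer (A : Set G))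
    {k : G} (hk : k ∈ K) (hkN : cA A k ⊔ N = K) :
    (∃ s : ℕ, s.Prime ∧ IsPGroup s (cA A k)) ∧
      ∀ K1 : Subgroup G, K1 ≤ cA A k → K1 ≠ cA A k → A ≤ Subgroup.normalizer (K1 : Set G) →
        K1 ≤ Phi (cA A k) :=
  c2_pgroup_core mc.hyp hk (c2_Y0 mc hN h2 hk hkN)

end Cfsg.Agent.S3816P
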