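import Mathlib
import Cfsg.Prelude.Def_Local
import Cfsg.Prelude.Def_PLocal
import Cfsg.Prelude.Def_Transfer

/-!
# S4411 (Thompson, N-groups 5.x: a prime divisor of a `p`-subgroup automizer moves to a subgroup normalised by a Sylow
`p`-subgroup): definitions.  Blueprint: `departures/helper3_S4411_blueprint.md`.
-/

set_option autoImplicit false

namespace Cfsg.Agent.S4411P

/-- `x` is a `q`-element. -/
def IsQElt (q : ℕ) {Y : Type*} [Group Y] (x : Y) : Prop := ∃ k : ℕ, x ^ q ^ k = 1

/-- some `q`-element normalises `K` and does not centralise it (`q ∣ |N(K) : C(K)|`, see `AQ_iff`). -/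
def Acts (q : ℕ) {Y : Type*} [Group Y] (K : Subgroup Y) : Prop :=
  ∃ y : Y, y ∈ Subgroup.normalizer (K : Set Y) ∧ y ∉ Subgroup.centralizer (K : Set Y) ∧ IsQElt q y

/-- some `q`-element acts non-trivially on some `p`-subgroup of `Y`. -/
def TNT (p q : ℕ) (Y : Type*) [Group Y] : Prop := ∃ H₀ : Subgroup Y, IsPGroup p H₀ ∧ Acts q H₀

/-- the conclusion of Lemma T: a characteristic subgroup `K` of `R` on which a `q`-element of `N(K)` acts non-trivially. -/
def TConcl (q : ℕ) {Y : Type*} [Group Y] (R : Subgroup Y) : Prop :=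
  ∃ K : Subgroup Y, K ≤ R ∧ (K.subgroupOf R).Characteristic ∧ Acts q K

/-- `Y` is a `{p,q}`-group. -/
def IsPQ (p q : ℕ) (Y : Type*) [Group Y] : Prop :=
  ∀ r : ℕ, r.Prime → r ∣ Nat.card Y → r = p ∨ r = q

end Cfsg.Agent.S4411P
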