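import Mathlib
import Cfsg.Agent.Helper3.S4411Defs
import Cfsg.Agent.Helper4.S4411TF
import Cfsg.Agent.Helper21.S4411CHARA
import Cfsg.Agent.Helper19.S4411CHARB
import Cfsg.Agent.Helper13.S4411TSUB
import Cfsg.Agent.Helper20.S4411TQP
import Cfsg.Agent.Helper20.S4411TQPNT
import Cfsg.Agent.Helper20.S4411TQQ
import Cfsg.Agent.Helper19.S4411TQQNT
import Cfsg.Agent.Helper18.S4411NTSSUB
import Cfsg.Agent.Helper6.S4411NTSCENT
import Cfsg.Agent.Helper1.S4411SYLN
import Cfsg.Agent.Lead.PSolvHall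
import Cfsg.Agent.Helper21.PSolv
import Cfsg.Agent.Helper23.HallHigman
import Cfsg.Agent.Helper23.PSeries
import Cfsg.Agent.Helper14.PCore

/-!
# S4411 piece TIND: Lemma T

`Y` a `p`-solvable `{p,q}`-group, `(p,q) ∉ {(2,3),(3,2)}`, `R` a Sylow `p`-subgroup, some `q`-element acting
non-trivially on some `p`-subgroup: then some characteristic subgroup `K` of `R` has a `q`-element of `N_Y(K)` acting
non-trivially on it.  Strong induction on `|Y|` (blueprint: `departures/helper3_S4411_blueprint.md`).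
-/

set_option autoImplicit false

namespace Cfsg.Agent.S4411P

open Cfsg
open scoped Pointwise

universe u

theorem TIND_aux_isPQ_quot {Y : Type*} [Group Y] [Finite Y] {p q : ℕ} (M : Subgroup Y) [M.Normal]
    (hY : IsPQ p q Y) : IsPQ p q (Y ⧸ M) := by
  intro r hr hdvd
  apply hY r hr
  have h1 : Nat.card (Y ⧸ M) ∣ Nat.card Y := by
    rw [← Subgroup.index_eq_card]; exact Subgroup.index_dvd_card M
  exact dvd_trans hdvd h1

theorem TIND_aux_isPQ_sub {Y : Type*} [Group Y] [Finite Y] {p q : ℕ} (X : Subgroup Y)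
    (hY : IsPQ p q Y) : IsPQ p q ↥X := by
  intro r hr hdvd
  exact hY r hr (dvd_trans hdvd (Subgroup.card_subgroup_dvd_card X))

theorem TIND_aux_card_quot_lt {Y : Type*} [Group Y] [Finite Y] (M : Subgroup Y) [M.Normal] (hM : M ≠ ⊥) :
    Nat.card (Y ⧸ M) < Nat.card Y := by
  have h1 : Nat.card M * M.index = Nat.card Y := Subgroup.card_mul_index M
  rw [← Subgroup.index_eq_card]
  have h2 : 1 < Nat.card M := by
    rw [Subgroup.one_lt_card_iff_ne_bot]; exact hM
  have h3 : 0 < M.index := Nat.pos_of_ne_zero Subgroup.index_ne_zero_of_finite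
  nlinarith

theorem TIND_aux_card_sub_lt {Y : Type*} [Group Y] [Finite Y] (X : Subgroup Y) (hX : X ≠ ⊤) :
    Nat.card ↥X < Nat.card Y := by
  have h1 : Nat.card X * X.index = Nat.card Y := Subgroup.card_mul_index X
  have h2 : X.index ≠ 1 := fun h => hX (Subgroup.index_eq_one.1 h)
  have h3 : 0 < X.index := Nat.pos_of_ne_zero Subgroup.index_ne_zero_of_finite
  have h4 : 0 < Nat.card X := Nat.card_pos
  have h5 : 2 ≤ X.index := by omega
  nlinarith

theorem TIND_aux_card_dvd_of_factor {Y : Type*} [Group Y] [Finite Y] (A B : Subgroup Y)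
    (h : ∀ g : Y, ∃ a ∈ A, ∃ b ∈ B, g = a * b) : Nat.card Y ∣ Nat.card A * Nat.card B := by
  have htop : ((B : Set Y) * (A : Set Y)) = Set.univ := by
    ext g
    simp only [Set.mem_univ, iff_true]
    obtain ⟨a, ha, b, hb, hg⟩ := h g⁻¹
    refine ⟨b⁻¹, B.inv_mem hb, a⁻¹, A.inv_mem ha, ?_⟩
    show b⁻¹ * a⁻¹ = g
    rw [← mul_inv_rev, ← hg, inv_inv]
  have h1 := Subgroup.card_mul_eq_card_subgroup_mul_card_quotient A (B : Set Y)
  rw [htop] at h1
  have h2 : Nat.card (Set.univ : Set Y) = Nat.card Y := Nat.card_congr (Equiv.Set.univ Y)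
  rw [h2] at h1
  have h3 : Nat.card ((B : Set Y).image (QuotientGroup.mk : Y → Y ⧸ A)) ∣ Nat.card B := by
    have : ((B : Set Y).image (QuotientGroup.mk : Y → Y ⧸ A)) =
        MulAction.orbit B (QuotientGroup.mk 1 : Y ⧸ A) := by
      ext z
      constructor
      · rintro ⟨b, hb, rfl⟩
        refine ⟨⟨b, hb⟩, ?_⟩
        show ((⟨b, hb⟩ : B) : Y) • (QuotientGroup.mk 1 : Y ⧸ A) = _
        rw [MulAction.Quotient.smul_mk]
        simp
      · rintro ⟨⟨b, hb⟩, rfl⟩
        refine ⟨b, hb, ?_⟩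
        show _ = ((⟨b, hb⟩ : B) : Y) • (QuotientGroup.mk 1 : Y ⧸ A)
        rw [MulAction.Quotient.smul_mk]
        simp
    rw [this, Nat.card_congr (MulAction.orbitEquivQuotientStabilizer B _)]
    exact Subgroup.card_quotient_dvd_card _
  rw [h1]
  exact Nat.mul_dvd_mul_left _ h3

theorem TIND_aux (n : ℕ) : ∀ {Y : Type u} [Group Y] [Finite Y] (p q : ℕ) [Fact p.Prime] [Fact q.Prime],
    p ≠ q → ¬ ((p = 2 ∧ q = 3) ∨ (p = 3 ∧ q = 2)) → Cfsg.IsPSolvable p Y → IsPQ p q Y →
    ∀ R : Sylow p Y, TNT p q Y → Nat.card Y = n → TConcl q (R : Subgroup Y) := by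
  induction n using Nat.strong_induction_on with
  | _ n ih =>
  intro Y _ _ p q _ _ hpq h23 hsol hY R hNT hn
  have hp : p.Prime := Fact.out
  have hRp : IsPGroup p (R : Subgroup Y) := R.isPGroup'
  by_cases hL : Cfsg.pPrimeCore p Y = ⊥
  swap
  · -- quotient by `O_{p'}(Y)`
    set L := Cfsg.pPrimeCore p Y with hLdef
    have hLc : (Nat.card L).Coprime p := Cfsg.Agent.Helper23.pPrimeCore_card_coprime p Y
    have hlt : Nat.card (Y ⧸ L) < n := hn ▸ TIND_aux_card_quot_lt L hL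
    have hsurj := QuotientGroup.mk'_surjective L
    have h1 := ih _ hlt (Y := Y ⧸ L) p q hpq h23 (Cfsg.Agent.Lead.isPSolvable_quotient hsol L)
      (TIND_aux_isPQ_quot L hY) (R.mapSurjective hsurj) (TQQ_nt p q L hLc hNT) rfl
    rw [Sylow.coe_mapSurjective] at h1
    exact TQQ p q L hLc (R : Subgroup Y) hRp h1
  -- now `O_{p'}(Y) = 1`
  obtain ⟨H₀, hH₀, x, hxN, hxC, hxq⟩ := hNT
  have hx1 : x ≠ 1 := by
    rintro rfl
    exact hxC (Subgroup.one_mem _)
  -- `R ≠ ⊥`
  have hR1 : (R : Subgroup Y) ≠ ⊥ := by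
    intro hbot
    obtain ⟨g, hg⟩ := hH₀.exists_le_sylow
    have : H₀ = ⊥ := by
      obtain ⟨g', hg'⟩ := MulAction.exists_smul_eq Y g R
      have h2 : (g : Subgroup Y) = ⊥ := by
        have h3 : (g : Subgroup Y) = (MulAut.conj g')⁻¹ • (MulAut.conj g' • (g : Subgroup Y)) :=
          (inv_smul_smul _ _).symm
        rw [h3, ← Sylow.coe_subgroup_smul, hg', hbot, Subgroup.smul_bot]
      rw [eq_bot_iff, ← h2]; exact hg
    apply hxC
    rw [this, Subgroup.mem_centralizer_iff]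
    intro h hh
    have : h = 1 := by simpa using hh
    rw [this]; simp
  set Z₁ := Cfsg.omegaOne p ((R : Subgroup Y) ⊓ Subgroup.centralizer ((R : Subgroup Y) : Set Y)) with hZ₁
  set J := Cfsg.thompsonSubgroupOf p (R : Subgroup Y) with hJ
  have hZ₁le : Z₁ ≤ (R : Subgroup Y) ⊓ Subgroup.centralizer ((R : Subgroup Y) : Set Y) := CHAR_omega_le p _
  have hZ₁R : Z₁ ≤ (R : Subgroup Y) := le_trans hZ₁le inf_le_left
  have hJR : J ≤ (R : Subgroup Y) := CHAR_J_le p _
  have hZ₁char : (Z₁.subgroupOf (R : Subgroup Y)).Characteristic := CHAR_omega p _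
  have hJchar : (J.subgroupOf (R : Subgroup Y)).Characteristic := CHAR_J p _
  have hZ₁1 : Z₁ ≠ ⊥ := CHAR_omega_ne_bot p _ hRp hR1
  have hJ1 : J ≠ ⊥ := CHAR_J_ne_bot p _ hRp hR1
  have hfac := TF p q hpq h23 hsol hY hL R
  have hRC₁ : (R : Subgroup Y) ≤ Subgroup.centralizer (Z₁ : Set Y) := by
    intro r hr
    rw [Subgroup.mem_centralizer_iff]
    intro z hz
    have := (Subgroup.mem_inf.1 (hZ₁le hz)).2
    rw [Subgroup.mem_centralizer_iff] at this
    exact (this r hr).symm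
  have hRN₁ : (R : Subgroup Y) ≤ Subgroup.normalizer (J : Set Y) :=
    le_trans Subgroup.le_normalizer (CHAR_normalizer hJR hJchar)
  have hP := Cfsg.Agent.Helper23.centralizer_pCore_le_of_isPSolvable hsol hL
  have hPR : Cfsg.pCore p Y ≤ (R : Subgroup Y) := Cfsg.Agent.Helper14.pCore_le_sylow p R
  -- helper: the induction step for a central characteristic `p`-subgroup `M ≤ R`
  have hcentral : ∀ M : Subgroup Y, M ≤ Subgroup.center Y → M ≤ (R : Subgroup Y) → M ≠ ⊥ →
      (M.subgroupOf (R : Subgroup Y)).Characteristic → TConcl q (R : Subgroup Y) := by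
    intro M hMc hMR hM1 hMchar
    have : M.Normal := ⟨fun m hm g => by
      have := Subgroup.mem_center_iff.1 (hMc hm) g
      have e : g * m * g⁻¹ = m := by rw [this, mul_inv_cancel_right]
      rw [e]; exact hm⟩
    have hMp : IsPGroup p M := hRp.to_le hMR
    have hlt : Nat.card (Y ⧸ M) < n := hn ▸ TIND_aux_card_quot_lt M hM1
    have hsurj := QuotientGroup.mk'_surjective M
    have h1 := ih _ hlt (Y := Y ⧸ M) p q hpq h23 (Cfsg.Agent.Lead.isPSolvable_quotient hsol M)
      (TIND_aux_isPQ_quot M hY) (R.mapSurjective hsurj)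
      (TQP_nt p q hpq M hMc hMp ⟨H₀, hH₀, x, hxN, hxC, hxq⟩) rfl
    rw [Sylow.coe_mapSurjective] at h1
    exact TQP q M (R : Subgroup Y) hMR hMchar h1
  -- helper: the induction step for a proper subgroup `X ≥ R` of order divisible by `q`
  have hsub : ∀ X : Subgroup Y, (R : Subgroup Y) ≤ X → X ≠ ⊤ → q ∣ Nat.card X → TConcl q (R : Subgroup Y) := by
    intro X hRX hX hqX
    have hlt : Nat.card ↥X < n := hn ▸ TIND_aux_card_sub_lt X hX
    have h1 := ih _ hlt (Y := ↥X) p q hpq h23 (Cfsg.Agent.Helper21.PSolv.isPSolvable_subgroup hp hsol X)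
      (TIND_aux_isPQ_sub X hY) (R.subtype hRX)
      (NTS_sub p q hpq hsol hL X (le_trans hPR hRX) hqX) rfl
    have e : ((R.subtype hRX : Sylow p ↥X) : Subgroup ↥X).map X.subtype = (R : Subgroup Y) := by
      rw [Sylow.coe_subtype, Subgroup.subgroupOf_map_subtype]
      exact inf_eq_left.2 hRX
    refine TSUB q X (R : Subgroup Y) _ (le_of_eq e) ?_ h1
    rw [e]; exact CHAR_self _
  by_cases hC₁ : Subgroup.centralizer (Z₁ : Set Y) = ⊤
  · -- `Z₁` central
    refine hcentral Z₁ ?_ hZ₁R hZ₁1 hZ₁char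
    intro z hz
    rw [Subgroup.mem_center_iff]
    intro g
    have : g ∈ Subgroup.centralizer (Z₁ : Set Y) := by rw [hC₁]; trivial
    rw [Subgroup.mem_centralizer_iff] at this
    exact (this z hz).symm
  by_cases hN₁ : Subgroup.normalizer (J : Set Y) = ⊤
  · -- `J` normal
    have hJn : J.Normal := Subgroup.normalizer_eq_top_iff.1 hN₁
    by_cases hact : ∃ y : Y, IsQElt q y ∧ y ∉ Subgroup.centralizer (J : Set Y)
    · obtain ⟨y, hyq, hyC⟩ := hact
      exact ⟨J, hJR, hJchar, y, by rw [hN₁]; trivial, hyC, hyq⟩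
    · push Not at hact
      have hxJ : x ∈ Subgroup.centralizer (J : Set Y) := hact x hxq
      by_cases hC₂ : Subgroup.centralizer (J : Set Y) = ⊤
      · refine hcentral J ?_ hJR hJ1 hJchar
        intro z hz
        rw [Subgroup.mem_center_iff]
        intro g
        have : g ∈ Subgroup.centralizer (J : Set Y) := by rw [hC₂]; trivial
        rw [Subgroup.mem_centralizer_iff] at this
        exact (this z hz).symm
      · set C₂ := Subgroup.centralizer (J : Set Y) with hC₂def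
        have hJp : IsPGroup p J := hRp.to_le hJR
        have hNT₂ : TNT p q ↥C₂ := NTS_cent p q hpq hsol hL J hJp x hx1 hxq hxJ
        obtain ⟨R₂, hR₂⟩ := SYLN p R C₂
        have hlt : Nat.card ↥C₂ < n := hn ▸ TIND_aux_card_sub_lt C₂ hC₂
        have h1 := ih _ hlt (Y := ↥C₂) p q hpq h23 (Cfsg.Agent.Helper21.PSolv.isPSolvable_subgroup hp hsol C₂)
          (TIND_aux_isPQ_sub C₂ hY) R₂ hNT₂ rfl
        refine TSUB q C₂ (R : Subgroup Y) _ (by rw [hR₂]; exact inf_le_left) ?_ h1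
        rw [hR₂]
        exact CHAR_cent hJR hJchar
  · -- both proper: one of them has order divisible by `q`
    have hq : q ∣ Nat.card Y := by
      obtain ⟨k, hk⟩ := hxq
      have h1 : orderOf x ∣ q ^ k := orderOf_dvd_of_pow_eq_one hk
      obtain ⟨j, hj, hjk⟩ := (Nat.dvd_prime_pow (Fact.out : q.Prime)).1 h1
      have hj0 : j ≠ 0 := by
        rintro rfl
        rw [pow_zero, orderOf_eq_one_iff] at hjk
        exact hx1 hjk
      have h2 : q ∣ orderOf x := by rw [hjk]; exact dvd_pow_self q hj0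
      exact dvd_trans h2 (orderOf_dvd_natCard x)
    have hdvd : Nat.card Y ∣ Nat.card ↥(Subgroup.centralizer (Z₁ : Set Y)) *
        Nat.card ↥(Subgroup.normalizer (J : Set Y)) := TIND_aux_card_dvd_of_factor _ _ hfac
    have hq' := ((Nat.Prime.dvd_mul (Fact.out : q.Prime)).1 (dvd_trans hq hdvd))
    rcases hq' with h | h
    · exact hsub _ hRC₁ hC₁ h
    · exact hsub _ hRN₁ hN₁ h

/-- Lemma T. -/
theorem TIND {Y : Type u} [Group Y] [Finite Y] (p q : ℕ) [Fact p.Prime] [Fact q.Prime] (hpq : p ≠ q)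
    (h23 : ¬ ((p = 2 ∧ q = 3) ∨ (p = 3 ∧ q = 2))) (hsol : Cfsg.IsPSolvable p Y) (hY : IsPQ p q Y)
    (R : Sylow p Y) (hNT : TNT p q Y) : TConcl q (R : Subgroup Y) :=
  TIND_aux _ p q hpq h23 hsol hY R hNT rfl

end Cfsg.Agent.S4411P
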