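import Mathlib
import Cfsg.Agent.Helper4.S5033Defs
import Cfsg.Agent.Helper5.S5033L0
import Cfsg.Agent.Helper25.RootComm
import Cfsg.Agent.Helper25.S5033R1

/-! S5033 board, piece L2 (perfectness criteria): `L2.top_of_not_degenerate`, `L2.top_of_perfect`,
`L2.inf_ne_bot`, `L2.nondegenerate` (blueprint `departures/helper4_TIMM_S5033_blueprint.md`, Lemma L2). -/

set_option autoImplicit false

open Cfsg Cfsg.Agent.S5033P

namespace Cfsg.Agent.S5033P

variable {G : Type*} [Group G] {S : Set (Subgroup G)}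

/-- L2.2: if `S` is not degenerate then `G' = G`. -/
theorem L2.top_of_not_degenerate (H : Hyp S) (hnd : ¬ IsDegenerateRootSet S) :
    commutator G = ⊤ := by
  unfold IsDegenerateRootSet at hnd
  push Not at hnd
  obtain ⟨A, hA, B, hB, hc⟩ := hnd
  have hE : ⁅A, B⁆ ∈ S := hc.1
  have hle : ⁅A, B⁆ ≤ commutator G := by
    rw [commutator_def]
    exact Subgroup.commutator_mono le_top le_top
  exact L0.eq_top_of_le H (inferInstance : (commutator G).Normal) hE hle

/-- L2.3: a perfect rank one group `A ⊔ B` of `S` forces `G' = G`. -/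
theorem L2.top_of_perfect (H : Hyp S)
    (h : ∃ A ∈ S, ∃ B ∈ rankOnePartners S A, Group.IsPerfect ↥(A ⊔ B)) : commutator G = ⊤ := by
  obtain ⟨A, hA, B, -, hp⟩ := h
  have hXX : ⁅A ⊔ B, A ⊔ B⁆ = A ⊔ B := (Subgroup.isPerfect_iff).mp hp
  have hle : A ≤ commutator G := by
    have h1 : A ≤ ⁅A ⊔ B, A ⊔ B⁆ := by
      rw [hXX]; exact le_sup_left
    refine h1.trans ?_
    rw [commutator_def]
    exact Subgroup.commutator_mono le_top le_top
  exact L0.eq_top_of_le H (inferInstance : (commutator G).Normal) hA hle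

/-- L2.4: every member meets `G'` nontrivially. -/
theorem L2.inf_ne_bot (H : Hyp S) {A : Subgroup G} (hA : A ∈ S) : A ⊓ commutator G ≠ ⊥ := by
  by_cases hdeg : IsDegenerateRootSet S
  · obtain ⟨B, hB, hAB⟩ := L0.exists_partner H hA
    have hsp : IsSpecialRankOnePair A B := H.h4 A hA B ⟨hB, hAB⟩
    obtain ⟨e, heA, he1, heX⟩ := R1.exists_mem hsp (H.hS.commutative A hA)
      (H.hS.commutative B hB) (H.h3 hdeg A hA)
    intro hbot
    have hmem : e ∈ A ⊓ commutator G := by
      refine ⟨heA, ?_⟩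
      have hle : ⁅A ⊔ B, A ⊔ B⁆ ≤ commutator G := by
        rw [commutator_def]
        exact Subgroup.commutator_mono le_top le_top
      exact hle heX
    rw [hbot, Subgroup.mem_bot] at hmem
    exact he1 hmem
  · rw [L2.top_of_not_degenerate H hdeg, inf_top_eq]
    exact H.hS.ne_bot A hA

/-- L2.5: not degenerate implies a non-degenerate class. -/
theorem L2.nondegenerate (H : Hyp S) (hnd : ¬ IsDegenerateRootSet S) :
    IsRootSubgroupClass S ∧ IsNondegenerateRootSet S := by
  have hnd' := hnd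
  unfold IsDegenerateRootSet at hnd'
  push Not at hnd'
  obtain ⟨C, hC, D, hD, hc⟩ := hnd'
  refine ⟨⟨H.hS, ⟨C, hC⟩, fun A hA B hB => L0.conj H hA hB⟩, ?_, ?_, ?_⟩
  · -- a commuting pair of different members: `C` and `E = ⁅C, D⁆`
    refine ⟨C, hC, ⁅C, D⁆, hc.1, Cfsg.Agent.Helper25.cc_ne H.hS hc, ?_⟩
    rw [Subgroup.commutator_eq_bot_iff_le_centralizer]
    intro c hcC e he
    -- `e ∈ ⁅C, D⁆` is central in `C ⊔ D`
    exact hc.2.1 e he c (Subgroup.mem_sup_left hcC)
  · obtain ⟨B, hB, hAB⟩ := L0.exists_partner H hC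
    exact ⟨C, hC, B, hB, hAB⟩
  · exact ⟨C, hC, D, hD, hc⟩

end Cfsg.Agent.S5033P
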