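import Mathlib
import Cfsg.Agent.Helper13.S5072Defs
import Cfsg.Agent.Helper13.S5072BASEA

set_option autoImplicit false

/-! S5072 piece BASE1: a dual basis of the second singular line when the Gram determinant is
nonzero. -/

namespace Cfsg.Agent.S5072P

open Matrix Cfsg Cfsg.Agent.Helper28.Sg Cfsg.Agent.Helper28.Spin Cfsg.Agent.Helper28.QPlus
  Cfsg.Agent.Helper28.IsoTransport

variable {F : Type*} [Field F] {m : ℕ}

/-- BASE1 -/
theorem exists_dual_basis {p r p' r' : Vm (m + 3) F} (h : SP p r) (h' : SP p' r')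
    (hd : Dt p r p' r' ≠ 0) :
    ∃ f₁ f₂ : Vm (m + 3) F, SP f₁ f₂ ∧ TT f₁ f₂ = TT p' r' ∧
      B (QfPlus (m + 3) F) p f₁ = 1 ∧ B (QfPlus (m + 3) F) p f₂ = 0 ∧
      B (QfPlus (m + 3) F) r f₁ = 0 ∧ B (QfPlus (m + 3) F) r f₂ = 1 := by
  set D := Dt p r p' r' with hD
  set a : F := D⁻¹ * B (QfPlus (m + 3) F) r r' with ha
  set b : F := -(D⁻¹ * B (QfPlus (m + 3) F) r p') with hb
  set c : F := -(D⁻¹ * B (QfPlus (m + 3) F) p r') with hc
  set d : F := D⁻¹ * B (QfPlus (m + 3) F) p p' with hd'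
  have hDdef : D = B (QfPlus (m + 3) F) p p' * B (QfPlus (m + 3) F) r r'
      - B (QfPlus (m + 3) F) p r' * B (QfPlus (m + 3) F) r p' := rfl
  have hdet : a * d - b * c ≠ 0 := by
    have : a * d - b * c = D⁻¹ := by
      rw [ha, hb, hc, hd']
      have : D⁻¹ * B (QfPlus (m + 3) F) r r' * (D⁻¹ * B (QfPlus (m + 3) F) p p') -
          -(D⁻¹ * B (QfPlus (m + 3) F) r p') * -(D⁻¹ * B (QfPlus (m + 3) F) p r') =
          D⁻¹ * D⁻¹ * D := by rw [hDdef]; ring
      rw [this, mul_assoc, inv_mul_cancel₀ hd, mul_one]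
    rw [this]
    exact inv_ne_zero hd
  refine ⟨a • p' + b • r', c • p' + d • r', h'.lin a b c d hdet, TT_lin p' r' a b c d hdet,
    ?_, ?_, ?_, ?_⟩
  · simp only [B, QuadraticMap.polar_add_right, QuadraticMap.polar_smul_right, smul_eq_mul]
    show a * B (QfPlus (m + 3) F) p p' + b * B (QfPlus (m + 3) F) p r' = 1
    rw [ha, hb]
    have : D⁻¹ * B (QfPlus (m + 3) F) r r' * B (QfPlus (m + 3) F) p p' +
        -(D⁻¹ * B (QfPlus (m + 3) F) r p') * B (QfPlus (m + 3) F) p r' = D⁻¹ * D := by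
      rw [hDdef]; ring
    rw [this, inv_mul_cancel₀ hd]
  · simp only [B, QuadraticMap.polar_add_right, QuadraticMap.polar_smul_right, smul_eq_mul]
    show c * B (QfPlus (m + 3) F) p p' + d * B (QfPlus (m + 3) F) p r' = 0
    rw [hc, hd']
    ring
  · simp only [B, QuadraticMap.polar_add_right, QuadraticMap.polar_smul_right, smul_eq_mul]
    show a * B (QfPlus (m + 3) F) r p' + b * B (QfPlus (m + 3) F) r r' = 0
    rw [ha, hb]
    ring
  · simp only [B, QuadraticMap.polar_add_right, QuadraticMap.polar_smul_right, smul_eq_mul]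
    show c * B (QfPlus (m + 3) F) r p' + d * B (QfPlus (m + 3) F) r r' = 1
    rw [hc, hd']
    have : -(D⁻¹ * B (QfPlus (m + 3) F) p r') * B (QfPlus (m + 3) F) r p' +
        D⁻¹ * B (QfPlus (m + 3) F) p p' * B (QfPlus (m + 3) F) r r' = D⁻¹ * D := by
      rw [hDdef]; ring
    rw [this, inv_mul_cancel₀ hd]

end Cfsg.Agent.S5072P
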