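import Mathlib
import Cfsg.Agent.Helper29.S5976Defs
import Cfsg.Agent.Helper2.SpPairs
import Cfsg.Agent.Helper28.SpMax

set_option autoImplicit false
open scoped MatrixGroups

/-! S5976 piece CONJK: two `K`-orthonormal frames are conjugate under `Sp`. -/

namespace Cfsg.Agent.S5976P

open Matrix Cfsg.Agent.Helper2.SpPairs

namespace CONJK

variable {F : Type*} [Field F] {d : ℕ}

/-- the columns attached to a frame -/
def cols (ι : Matrix (Fin d ⊕ Fin d) (Fin d ⊕ Fin d) F) (e : Fin d → (Fin d ⊕ Fin d → F)) :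
    Fin d ⊕ Fin d → (Fin d ⊕ Fin d → F) :=
  Sum.elim (fun a => ι.mulVec (e a)) e

theorem symp_swap (u v : Fin d ⊕ Fin d → F) :
    Cfsg.sympForm d F v u = - Cfsg.sympForm d F u v :=
  Cfsg.Agent.Helper2.Sp.om_swap u v

theorem gram (ι : Matrix (Fin d ⊕ Fin d) (Fin d ⊕ Fin d) F) (e : Fin d → (Fin d ⊕ Fin d → F))
    (he : IsFrame d F ι e) (s t : Fin d ⊕ Fin d) :
    Cfsg.sympForm d F (cols ι e s) (cols ι e t) = Matrix.J (Fin d) F s t := by
  rcases s with a | a <;> rcases t with b | b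
  · simp only [cols, Sum.elim_inl, Matrix.J, Matrix.fromBlocks_apply₁₁, Matrix.zero_apply]
    exact he.orth11 a b
  · simp only [cols, Sum.elim_inl, Sum.elim_inr, Matrix.J, Matrix.fromBlocks_apply₁₂,
      Matrix.neg_apply, Matrix.one_apply]
    rw [symp_swap, he.orth01 b a]
    by_cases h : a = b
    · subst h; simp
    · have : ¬ b = a := fun h' => h h'.symm
      simp [h, this]
  · simp only [cols, Sum.elim_inl, Sum.elim_inr, Matrix.J, Matrix.fromBlocks_apply₂₁,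
      Matrix.one_apply]
    exact he.orth01 a b
  · simp only [cols, Sum.elim_inr, Matrix.J, Matrix.fromBlocks_apply₂₂, Matrix.zero_apply]
    exact he.orth00 a b

theorem iota0_mulVec_inl (t n : F) (a : Fin d) :
    (iota0 d F t n).mulVec (Pi.single (Sum.inl a) 1) =
      t • Pi.single (Sum.inl a) 1 - n • Pi.single (Sum.inr a) 1 := by
  rw [Matrix.mulVec_single_one]
  funext s
  rcases s with s | s
  · simp [iota0, Matrix.one_apply, Pi.single_apply, eq_comm]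
  · simp [iota0, Matrix.one_apply, Pi.single_apply, eq_comm]

theorem ext_cols (M N : Matrix (Fin d ⊕ Fin d) (Fin d ⊕ Fin d) F)
    (h : ∀ s, M.mulVec (Pi.single s 1) = N.mulVec (Pi.single s 1)) : M = N := by
  ext i s
  have := congrFun (h s) i
  rwa [Matrix.mulVec_single_one, Matrix.mulVec_single_one] at this

theorem intertwine (t n : F) (ι : Matrix (Fin d ⊕ Fin d) (Fin d ⊕ Fin d) F)
    (hsq : ι * ι = t • ι - n • (1 : Matrix (Fin d ⊕ Fin d) (Fin d ⊕ Fin d) F))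
    (e : Fin d → (Fin d ⊕ Fin d → F)) :
    ι * ofCols (cols ι e) = ofCols (cols ι e) * iota0 d F t n := by
  apply ext_cols
  intro s
  rw [← Matrix.mulVec_mulVec, ← Matrix.mulVec_mulVec, ofCols_mulVec_single]
  rcases s with a | a
  · rw [iota0_mulVec_inl, Matrix.mulVec_sub, Matrix.mulVec_smul, Matrix.mulVec_smul,
      ofCols_mulVec_single, ofCols_mulVec_single]
    simp only [cols, Sum.elim_inl, Sum.elim_inr]
    rw [Matrix.mulVec_mulVec, hsq, Matrix.sub_mulVec, Matrix.smul_mulVec, Matrix.smul_mulVec,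
      Matrix.one_mulVec]
  · rw [iota0_mulVec_inr, ofCols_mulVec_single]
    simp only [cols, Sum.elim_inl, Sum.elim_inr]

end CONJK

open CONJK in
/-- CONJK -/
theorem exists_conj_of_frames {F : Type*} [Field F] (d : ℕ) (t n : F)
    (ι ι₂ : Matrix (Fin d ⊕ Fin d) (Fin d ⊕ Fin d) F)
    (hsq : ι * ι = t • ι - n • (1 : Matrix (Fin d ⊕ Fin d) (Fin d ⊕ Fin d) F))
    (hsq₂ : ι₂ * ι₂ = t • ι₂ - n • (1 : Matrix (Fin d ⊕ Fin d) (Fin d ⊕ Fin d) F))
    (e e₂ : Fin d → (Fin d ⊕ Fin d → F)) (he : IsFrame d F ι e) (he₂ : IsFrame d F ι₂ e₂) :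
    ∃ g : GL (Fin d ⊕ Fin d) F, g ∈ Cfsg.spGL d F ∧
      (g : Matrix (Fin d ⊕ Fin d) (Fin d ⊕ Fin d) F) * ι =
        ι₂ * (g : Matrix (Fin d ⊕ Fin d) (Fin d ⊕ Fin d) F) := by
  classical
  let A : Matrix.symplecticGroup (Fin d) F := ⟨ofCols (cols ι e), ofCols_mem _ (gram ι e he)⟩
  let A₂ : Matrix.symplecticGroup (Fin d) F := ⟨ofCols (cols ι₂ e₂), ofCols_mem _ (gram ι₂ e₂ he₂)⟩
  have h1 : ι * A.1 = A.1 * iota0 d F t n := intertwine t n ι hsq e
  have h2 : ι₂ * A₂.1 = A₂.1 * iota0 d F t n := intertwine t n ι₂ hsq₂ e₂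
  have hinv1 : (A⁻¹).1 * A.1 = 1 := congrArg Subtype.val (inv_mul_cancel A)
  have hinv2 : A.1 * (A⁻¹).1 = 1 := congrArg Subtype.val (mul_inv_cancel A)
  have h3 : (A⁻¹).1 * ι = iota0 d F t n * (A⁻¹).1 := by
    calc (A⁻¹).1 * ι = (A⁻¹).1 * ι * (A.1 * (A⁻¹).1) := by rw [hinv2, mul_one]
      _ = (A⁻¹).1 * (ι * A.1) * (A⁻¹).1 := by simp only [mul_assoc]
      _ = (A⁻¹).1 * (A.1 * iota0 d F t n) * (A⁻¹).1 := by rw [h1]
      _ = ((A⁻¹).1 * A.1) * iota0 d F t n * (A⁻¹).1 := by simp only [mul_assoc]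
      _ = iota0 d F t n * (A⁻¹).1 := by rw [hinv1, one_mul]
  refine ⟨Cfsg.Agent.Helper28.SpMax.toGL (A₂ * A⁻¹), Cfsg.Agent.Helper28.SpMax.toGL_mem _, ?_⟩
  rw [Cfsg.Agent.Helper28.SpMax.toGL_val]
  show A₂.1 * (A⁻¹).1 * ι = ι₂ * (A₂.1 * (A⁻¹).1)
  rw [mul_assoc, h3, ← mul_assoc, ← h2, mul_assoc]

end Cfsg.Agent.S5976P
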