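import Mathlib
import Cfsg.Agent.Helper5.ZasDefs

/-!
# Zassenhaus cluster, pieces Z0a / Z0b: basic facts about a split fixed-point-free `Setup`
-/

set_option autoImplicit false
set_option linter.unusedSectionVars false

namespace Cfsg.Agent.Helper5.Zas

variable {p : ℕ} [Fact p.Prime] {G : Type*} [Group G] [Finite G] {V : Type*} [AddCommGroup V]
  [Module (ZMod p) V] [Finite V] [Nontrivial V]

namespace Setup
variable (S : Setup p G V)

include S in
theorem p_gt : 120 * Nat.card G < p := by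
  have hp : 2 ≤ p := (Fact.out : p.Prime).two_le
  have h := Nat.le_of_dvd (by omega) S.split
  omega

include S in
theorem natCast_ne_zero {n : ℕ} (h0 : n ≠ 0) (hn : n ≤ 120) : (n : ZMod p) ≠ 0 := by
  have hG : 0 < Nat.card G := Nat.card_pos
  have h := S.p_gt
  intro h'
  rw [ZMod.natCast_eq_zero_iff] at h'
  have := Nat.le_of_dvd (Nat.pos_of_ne_zero h0) h'
  nlinarith

theorem rho_mul_inv (g : G) : S.ρ g * S.ρ g⁻¹ = 1 := by
  rw [← map_mul, mul_inv_cancel, map_one]

theorem rho_inv_mul (g : G) : S.ρ g⁻¹ * S.ρ g = 1 := by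
  rw [← map_mul, inv_mul_cancel, map_one]

theorem eq_of_apply_eq {g h : G} {v : V} (hv : v ≠ 0) (e : S.ρ g v = S.ρ h v) : g = h := by
  by_contra hne
  have h1 : h⁻¹ * g ≠ 1 := by
    intro h1
    apply hne
    have := congrArg (h * ·) h1
    simpa using this
  apply hv
  apply S.fpf _ h1
  rw [map_mul, Module.End.mul_apply, e, ← Module.End.mul_apply, S.rho_inv_mul,
    Module.End.one_apply]

theorem rho_injective : Function.Injective S.ρ := by
  intro g h e
  obtain ⟨v, hv⟩ := exists_ne (0 : V)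
  exact S.eq_of_apply_eq hv (by rw [e])

end Setup

namespace Z0

variable (S : Setup p G V)

theorem geom_sum_eq_zero {g : G} (hg : g ≠ 1) {n : ℕ} (hn : g ^ n = 1) :
    ∑ i ∈ Finset.range n, S.ρ g ^ i = 0 := by
  apply LinearMap.ext
  intro v
  apply S.fpf g hg
  have h := mul_geom_sum (S.ρ g) n
  rw [← map_pow, hn, map_one, sub_self] at h
  have h2 := LinearMap.congr_fun h v
  rw [Module.End.mul_apply, LinearMap.sub_apply, Module.End.one_apply, LinearMap.zero_apply,
    sub_eq_zero] at h2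
  simpa using h2

theorem ne_one_of_orderOf {g : G} {n : ℕ} (hg : orderOf g = n) (hn : 2 ≤ n) : g ≠ 1 := by
  rintro rfl
  rw [orderOf_one] at hg
  omega

theorem pow_eq_one_of_orderOf {g : G} {n : ℕ} (hg : orderOf g = n) : g ^ n = 1 := by
  rw [← hg]; exact pow_orderOf_eq_one g

end Z0

namespace Setup
variable (S : Setup p G V)

/-- an involution acts as `-1` -/
theorem rho_of_orderOf_two {g : G} (hg : orderOf g = 2) : S.ρ g = -1 := by
  have h := Z0.geom_sum_eq_zero S (Z0.ne_one_of_orderOf hg le_rfl) (Z0.pow_eq_one_of_orderOf hg)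
  rw [Finset.sum_range_succ, Finset.sum_range_succ, Finset.sum_range_zero, pow_zero, pow_one,
    zero_add] at h
  rw [eq_neg_iff_add_eq_zero, ← h]; abel

include S in
theorem invol_unique {g h : G} (hg : orderOf g = 2) (hh : orderOf h = 2) : g = h :=
  S.rho_injective (by rw [S.rho_of_orderOf_two hg, S.rho_of_orderOf_two hh])

include S in
theorem invol_central {g : G} (hg : orderOf g = 2) (h : G) : g * h = h * g :=
  S.rho_injective (by rw [map_mul, map_mul, S.rho_of_orderOf_two hg, neg_one_mul, mul_neg_one])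

theorem rho_of_orderOf_three {g : G} (hg : orderOf g = 3) : S.ρ g * S.ρ g + S.ρ g + 1 = 0 := by
  have h := Z0.geom_sum_eq_zero S (Z0.ne_one_of_orderOf hg (by norm_num))
    (Z0.pow_eq_one_of_orderOf hg)
  rw [Finset.sum_range_succ, Finset.sum_range_succ, Finset.sum_range_succ, Finset.sum_range_zero,
    pow_zero, pow_one, pow_two, zero_add] at h
  rw [← h]; abel

theorem rho_of_orderOf_four {g : G} (hg : orderOf g = 4) : S.ρ g * S.ρ g = -1 := by
  have h2 : orderOf (g ^ 2) = 2 := by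
    rw [orderOf_pow' g (by norm_num), hg]; rfl
  have := S.rho_of_orderOf_two h2
  rwa [map_pow, pow_two] at this

theorem tr_of_orderOf_three {g : G} (hg : orderOf g = 3) : S.tr g = -1 := by
  have h3 := S.rho_of_orderOf_three hg
  have := congrArg (S.ρ g⁻¹ * ·) h3
  simp only [mul_add, ← mul_assoc, S.rho_inv_mul, one_mul, mul_one, mul_zero] at this
  unfold Setup.tr
  rw [eq_neg_iff_add_eq_zero, ← this]; abel

theorem tr_of_orderOf_four {g : G} (hg : orderOf g = 4) : S.tr g = 0 := by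
  have h3 := S.rho_of_orderOf_four hg
  have := congrArg (S.ρ g⁻¹ * ·) h3
  simp only [← mul_assoc, S.rho_inv_mul, one_mul, mul_neg, mul_one] at this
  unfold Setup.tr
  rw [this]; abel

theorem tr_of_orderOf_six {g : G} (hg : orderOf g = 6) : S.tr g = 1 := by
  have h3 : orderOf (g ^ 3) = 2 := by
    rw [orderOf_pow' g (by norm_num), hg]; rfl
  have h2 : orderOf (g ^ 2) = 3 := by
    rw [orderOf_pow' g (by norm_num), hg]; rfl
  have e3 := S.rho_of_orderOf_two h3
  have e2 := S.rho_of_orderOf_three h2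
  rw [map_pow] at e3
  rw [map_pow] at e2
  have e4 : S.ρ g ^ 2 * S.ρ g ^ 2 = - S.ρ g := by
    have : S.ρ g ^ 2 * S.ρ g ^ 2 = S.ρ g ^ 3 * S.ρ g := by
      rw [← pow_add, ← pow_succ]
    rw [this, e3, neg_one_mul]
  rw [e4, pow_two] at e2
  have := congrArg (S.ρ g⁻¹ * ·) e2
  simp only [mul_add, mul_neg, ← mul_assoc, S.rho_inv_mul, one_mul, mul_one, mul_zero] at this
  unfold Setup.tr
  rw [← sub_eq_zero, ← this]; abel

theorem tr_of_orderOf_five {g : G} (hg : orderOf g = 5) :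
    S.tr g * S.tr g + S.tr g - 1 = 0 := by
  have h := Z0.geom_sum_eq_zero S (Z0.ne_one_of_orderOf hg (by norm_num))
    (Z0.pow_eq_one_of_orderOf hg)
  have h5 : S.ρ g ^ 5 = 1 := by rw [← map_pow, Z0.pow_eq_one_of_orderOf hg, map_one]
  have hinv : S.ρ g⁻¹ = S.ρ g ^ 4 := by
    rw [← map_pow]
    congr 1
    apply inv_eq_of_mul_eq_one_right
    rw [← pow_succ', Z0.pow_eq_one_of_orderOf hg]
  simp only [Finset.sum_range_succ, Finset.sum_range_zero, zero_add, pow_zero, pow_one] at h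
  unfold Setup.tr
  rw [hinv]
  have key : (S.ρ g + S.ρ g ^ 4) * (S.ρ g + S.ρ g ^ 4) + (S.ρ g + S.ρ g ^ 4) - 1
      = (1 + S.ρ g + S.ρ g ^ 2 + S.ρ g ^ 3 + S.ρ g ^ 4) + (S.ρ g ^ 5 - 1) * (2 + S.ρ g ^ 3) := by
    noncomm_ring
  rw [key, h, h5]; simp

theorem tr_of_orderOf_ten {g : G} (hg : orderOf g = 10) :
    S.tr g * S.tr g - S.tr g - 1 = 0 := by
  have h5 : orderOf (g ^ 5) = 2 := by
    rw [orderOf_pow' g (by norm_num), hg]; rfl
  have h2 : orderOf (g ^ 2) = 5 := by
    rw [orderOf_pow' g (by norm_num), hg]; rfl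
  have e5 := S.rho_of_orderOf_two h5
  rw [map_pow] at e5
  have h := Z0.geom_sum_eq_zero S (Z0.ne_one_of_orderOf h2 (by norm_num))
    (Z0.pow_eq_one_of_orderOf h2)
  rw [map_pow] at h
  have hinv : S.ρ g⁻¹ = S.ρ g ^ 9 := by
    rw [← map_pow]
    congr 1
    apply inv_eq_of_mul_eq_one_right
    rw [← pow_succ', Z0.pow_eq_one_of_orderOf hg]
  simp only [Finset.sum_range_succ, Finset.sum_range_zero, zero_add, pow_zero, pow_one,
    ← pow_mul] at h
  norm_num at h
  unfold Setup.tr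
  rw [hinv]
  have key : (S.ρ g + S.ρ g ^ 9) * (S.ρ g + S.ρ g ^ 9) - (S.ρ g + S.ρ g ^ 9) - 1
      = (1 + S.ρ g ^ 2 + S.ρ g ^ 4 + S.ρ g ^ 6 + S.ρ g ^ 8) +
        (S.ρ g ^ 5 + 1) * (2 * (S.ρ g ^ 5 - 1) + S.ρ g ^ 8 * (S.ρ g ^ 5 - 1) - S.ρ g -
          S.ρ g ^ 4) := by
    noncomm_ring
  rw [key, h, e5]; simp

end Setup

end Cfsg.Agent.Helper5.Zas
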