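import Mathlib
import Cfsg.Agent.Helper5.ZasDefs
import Cfsg.Agent.Helper3.ZasBasic

/-!
# Zassenhaus cluster, piece Z0b: eigenvectors, commuting elements, the ring trick, restriction
-/

set_option autoImplicit false
set_option linter.unusedSectionVars false

namespace Cfsg.Agent.Helper5.Zas

variable {p : ℕ} [Fact p.Prime] {G : Type*} [Group G] [Finite G] {V : Type*} [AddCommGroup V]
  [Module (ZMod p) V] [Finite V] [Nontrivial V]

namespace Z0

open Polynomial in
theorem X_pow_sub_X_eq_prod :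
    (X ^ p - X : (ZMod p)[X]) =
      ((Finset.univ : Finset (ZMod p)).toList.map (fun a => X - C a)).prod := by
  have h1 : (X ^ p - X : (ZMod p)[X]).roots = Finset.univ.val := by
    have := FiniteField.roots_X_pow_card_sub_X (ZMod p)
    rwa [ZMod.card] at this
  have hp1 : 1 < p := (Fact.out : p.Prime).one_lt
  have hdeg : (X ^ p - X : (ZMod p)[X]).natDegree = p :=
    FiniteField.X_pow_card_sub_X_natDegree_eq _ hp1
  have hmonic : (X ^ p - X : (ZMod p)[X]).Monic := by
    apply monic_X_pow_sub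
    rw [degree_X]
    exact_mod_cast hp1
  have hcard : Multiset.card (X ^ p - X : (ZMod p)[X]).roots
      = (X ^ p - X : (ZMod p)[X]).natDegree := by
    rw [h1, hdeg]
    simp [ZMod.card]
  have := prod_multiset_X_sub_C_of_monic_of_roots_card_eq hmonic hcard
  rw [h1] at this
  rw [← this, Finset.prod_map_toList]
  rfl

theorem list_prod_mem (f : Module.End (ZMod p) V) (W : Submodule (ZMod p) V)
    (hinv : ∀ v ∈ W, f v ∈ W) (l : List (ZMod p)) :
    ∀ w ∈ W, (l.map (fun a => f - algebraMap (ZMod p) (Module.End (ZMod p) V) a)).prod w ∈ W := by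
  induction l with
  | nil => intro w hw; simpa using hw
  | cons a l ih =>
    intro w hw
    rw [List.map_cons, List.prod_cons, Module.End.mul_apply]
    have := ih w hw
    rw [LinearMap.sub_apply, Module.algebraMap_end_apply]
    exact W.sub_mem (hinv _ this) (W.smul_mem _ this)

theorem eig_of_list (f : Module.End (ZMod p) V) (W : Submodule (ZMod p) V)
    (hinv : ∀ v ∈ W, f v ∈ W) (l : List (ZMod p)) :
    ∀ w ∈ W, w ≠ 0 →
      (l.map (fun a => f - algebraMap (ZMod p) (Module.End (ZMod p) V) a)).prod w = 0 →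
      ∃ v ∈ W, v ≠ 0 ∧ ∃ μ : ZMod p, f v = μ • v := by
  induction l with
  | nil => intro w hw hw0 h; simp at h; exact absurd h hw0
  | cons a l ih =>
    intro w hw hw0 h
    rw [List.map_cons, List.prod_cons, Module.End.mul_apply] at h
    by_cases h' : (l.map (fun a => f - algebraMap (ZMod p) (Module.End (ZMod p) V) a)).prod w = 0
    · exact ih w hw hw0 h'
    · refine ⟨_, list_prod_mem f W hinv l w hw, h', a, ?_⟩
      rw [LinearMap.sub_apply, Module.algebraMap_end_apply, sub_eq_zero] at h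
      exact h

open Polynomial in
theorem list_prod_eq_zero (f : Module.End (ZMod p) V) (hf : f ^ p = f) :
    ((Finset.univ : Finset (ZMod p)).toList.map
      (fun a => f - algebraMap (ZMod p) (Module.End (ZMod p) V) a)).prod = 0 := by
  have h := congrArg (aeval f) (X_pow_sub_X_eq_prod (p := p))
  rw [map_sub, map_pow, aeval_X, hf, sub_self, map_list_prod, List.map_map] at h
  rw [h]
  congr 1
  apply List.map_congr_left
  intro a _
  simp

theorem exists_eigenvector_of_pow (f : Module.End (ZMod p) V) (hf : f ^ p = f)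
    (W : Submodule (ZMod p) V) (hW : W ≠ ⊥) (hinv : ∀ v ∈ W, f v ∈ W) :
    ∃ v ∈ W, v ≠ 0 ∧ ∃ μ : ZMod p, f v = μ • v := by
  obtain ⟨w, hw, hw0⟩ := (Submodule.ne_bot_iff W).1 hW
  apply eig_of_list f W hinv _ w hw hw0
  rw [list_prod_eq_zero f hf]
  rfl

theorem rho_pow_p (S : Setup p G V) (g : G) : S.ρ g ^ p = S.ρ g := by
  have hp1 : 1 ≤ p := (Fact.out : p.Prime).one_lt.le
  have h1 : g ^ (p - 1) = 1 := by
    obtain ⟨k, hk⟩ := S.split
    rw [hk, mul_comm 120, mul_assoc, pow_mul, pow_card_eq_one', one_pow]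
  have : S.ρ g ^ p = S.ρ g ^ (p - 1) * S.ρ g := by rw [← pow_succ, Nat.sub_add_cancel hp1]
  rw [this, ← map_pow, h1, map_one, one_mul]

theorem apply_pow (S : Setup p G V) {g : G} {v : V} {μ : ZMod p} (h : S.ρ g v = μ • v) (k : ℕ) :
    S.ρ (g ^ k) v = μ ^ k • v := by
  induction k with
  | zero => simp
  | succ k ih =>
    rw [pow_succ, map_mul, Module.End.mul_apply, h, map_smul, ih, smul_smul, pow_succ, mul_comm]

theorem isPrimitiveRoot_of_eig (S : Setup p G V) {g : G} {v : V} {μ : ZMod p} (hv : v ≠ 0)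
    (h : S.ρ g v = μ • v) : IsPrimitiveRoot μ (orderOf g) := by
  rw [IsPrimitiveRoot.iff_def]
  constructor
  · have := apply_pow S h (orderOf g)
    rw [pow_orderOf_eq_one, map_one, Module.End.one_apply] at this
    by_contra hne
    apply hv
    have h2 : (μ ^ orderOf g - 1) • v = 0 := by
      rw [sub_smul, one_smul, ← this, sub_self]
    rcases smul_eq_zero.1 h2 with h3 | h3
    · exact absurd (sub_eq_zero.1 h3) hne
    · exact h3
  · intro l hl
    apply orderOf_dvd_of_pow_eq_one
    have := apply_pow S h l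
    rw [hl, one_smul] at this
    by_contra hne
    exact hv (S.fpf _ hne v this)

end Z0

namespace Setup
variable (S : Setup p G V)

/-- every group element has an eigenvector in every nonzero invariant subspace -/
theorem exists_eigenvector (g : G) (W : Submodule (ZMod p) V) (hW : W ≠ ⊥)
    (hinv : ∀ v ∈ W, S.ρ g v ∈ W) : ∃ v ∈ W, v ≠ 0 ∧ ∃ μ : ZMod p, S.ρ g v = μ • v :=
  Z0.exists_eigenvector_of_pow (S.ρ g) (Z0.rho_pow_p S g) W hW hinv

include S in
/-- commuting elements of the same order generate the same cyclic subgroup -/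
theorem mem_zpowers_of_commute {g h : G} (hc : g * h = h * g) (ho : orderOf g = orderOf h) :
    h ∈ Subgroup.zpowers g := by
  obtain ⟨v, -, hv0, μ, hμ⟩ := S.exists_eigenvector g ⊤ (by simp) (fun _ _ => Submodule.mem_top)
  -- the eigenspace of `g` for `μ`
  let E : Submodule (ZMod p) V := LinearMap.ker (S.ρ g - algebraMap (ZMod p) _ μ)
  have hE : ∀ w, w ∈ E ↔ S.ρ g w = μ • w := by
    intro w
    simp only [E, LinearMap.mem_ker, LinearMap.sub_apply, Module.algebraMap_end_apply, sub_eq_zero]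
  have hvE : v ∈ E := (hE v).2 hμ
  have hEne : E ≠ ⊥ := by
    intro h0
    rw [h0, Submodule.mem_bot] at hvE
    exact hv0 hvE
  have hinv : ∀ w ∈ E, S.ρ h w ∈ E := by
    intro w hw
    rw [hE] at hw ⊢
    rw [← Module.End.mul_apply, ← map_mul, hc, map_mul, Module.End.mul_apply, hw, map_smul]
  obtain ⟨w, hwE, hw0, ν, hν⟩ := S.exists_eigenvector h E hEne hinv
  have hμw := (hE w).1 hwE
  have h1 := Z0.isPrimitiveRoot_of_eig S hw0 hμw
  have h2 := Z0.isPrimitiveRoot_of_eig S hw0 hν
  have hpos : 0 < orderOf g := orderOf_pos g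
  have : NeZero (orderOf g) := ⟨hpos.ne'⟩
  obtain ⟨i, -, hi⟩ := h1.eq_pow_of_pow_eq_one (ξ := ν) (by rw [ho]; exact h2.pow_eq_one)
  have : g ^ i = h := by
    apply S.eq_of_apply_eq hw0
    rw [Z0.apply_pow S hμw i, hi, hν]
  rw [← this]
  exact Subgroup.pow_mem _ (Subgroup.mem_zpowers g) i

theorem rho_inv_of_orderOf_three {x : G} (hx : orderOf x = 3) : S.ρ x⁻¹ = -1 - S.ρ x := by
  have := S.tr_of_orderOf_three hx
  unfold Setup.tr at this
  rw [eq_sub_iff_add_eq, ← this]; abel

/-- the ring trick: the trace of a product of two elements of order three commutes with both -/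
theorem tr_mul_comm_left {x w : G} (hx : orderOf x = 3) (hw : orderOf w = 3) :
    S.tr (x * w) * S.ρ x = S.ρ x * S.tr (x * w) := by
  have h3 := S.rho_of_orderOf_three hx
  unfold Setup.tr
  rw [mul_inv_rev, map_mul, map_mul, S.rho_inv_of_orderOf_three hx, S.rho_inv_of_orderOf_three hw]
  rw [← sub_eq_zero]
  have key : (S.ρ x * S.ρ w + (-1 - S.ρ w) * (-1 - S.ρ x)) * S.ρ x
      - S.ρ x * (S.ρ x * S.ρ w + (-1 - S.ρ w) * (-1 - S.ρ x))
      = S.ρ w * (S.ρ x * S.ρ x + S.ρ x + 1) - (S.ρ x * S.ρ x + S.ρ x + 1) * S.ρ w := by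
    noncomm_ring
  rw [key, h3]; simp

theorem tr_mul_comm_right {x w : G} (hx : orderOf x = 3) (hw : orderOf w = 3) :
    S.tr (x * w) * S.ρ w = S.ρ w * S.tr (x * w) := by
  have h3 := S.rho_of_orderOf_three hw
  unfold Setup.tr
  rw [mul_inv_rev, map_mul, map_mul, S.rho_inv_of_orderOf_three hx, S.rho_inv_of_orderOf_three hw]
  rw [← sub_eq_zero]
  have key : (S.ρ x * S.ρ w + (-1 - S.ρ w) * (-1 - S.ρ x)) * S.ρ w
      - S.ρ w * (S.ρ x * S.ρ w + (-1 - S.ρ w) * (-1 - S.ρ x))
      = S.ρ x * (S.ρ w * S.ρ w + S.ρ w + 1) - (S.ρ w * S.ρ w + S.ρ w + 1) * S.ρ x := by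
    noncomm_ring
  rw [key, h3]; simp

theorem tr_add_tr_inv {x w : G} (hx : orderOf x = 3) (hw : orderOf w = 3) :
    S.tr (x * w) + S.tr (x⁻¹ * w) = 1 := by
  unfold Setup.tr
  rw [mul_inv_rev, mul_inv_rev, inv_inv, map_mul, map_mul, map_mul, map_mul,
    S.rho_inv_of_orderOf_three hx, S.rho_inv_of_orderOf_three hw]
  noncomm_ring

theorem pure_sq {x : G} (hx : orderOf x = 3) : S.pure x * S.pure x = -3 := by
  have h3 := S.rho_of_orderOf_three hx
  unfold Setup.pure
  have key : (2 * S.ρ x + 1) * (2 * S.ρ x + 1) = 4 * (S.ρ x * S.ρ x + S.ρ x + 1) - 3 := by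
    noncomm_ring
    norm_num
  rw [key, h3]; simp

theorem pure_anticomm {x w : G} (hx : orderOf x = 3) (hw : orderOf w = 3) :
    S.pure x * S.pure w + S.pure w * S.pure x = 4 * S.tr (x * w) - 2 := by
  unfold Setup.pure Setup.tr
  rw [mul_inv_rev, map_mul, map_mul, S.rho_inv_of_orderOf_three hx, S.rho_inv_of_orderOf_three hw]
  noncomm_ring
  norm_num
  rw [show (4 : Module.End (ZMod p) V) = 2 + 2 by norm_num]
  abel

/-- restriction to a subgroup and an invariant subspace -/
def restrict (H : Subgroup G) (W : Submodule (ZMod p) V)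
    (hinv : ∀ h ∈ H, ∀ v ∈ W, S.ρ h v ∈ W) : Setup p H W where
  ρ :=
    { toFun := fun h => (S.ρ (h : G)).restrict (hinv h h.2)
      map_one' := by
        ext v
        simp
      map_mul' := by
        intro a b
        ext v
        simp }
  fpf := by
    intro h hh v hv
    have h1 : (h : G) ≠ 1 := fun e => hh (Subtype.ext e)
    have := S.fpf (h : G) h1 (v : V) (by
      have := congrArg Subtype.val hv
      simpa using this)
    exact Subtype.ext this
  split := by
    refine dvd_trans ?_ S.split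
    exact Nat.mul_dvd_mul_left 120 (Subgroup.card_subgroup_dvd_card H)

theorem restrict_apply (H : Subgroup G) (W : Submodule (ZMod p) V)
    (hinv : ∀ h ∈ H, ∀ v ∈ W, S.ρ h v ∈ W) (h : H) (v : W) :
    (((S.restrict H W hinv).ρ h v : W) : V) = S.ρ (h : G) (v : V) := rfl

end Setup

end Cfsg.Agent.Helper5.Zas
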