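import Mathlib
import Cfsg.Agent.Helper5.ZasDefs
import Cfsg.Agent.Helper3.ZasBasic
import Cfsg.Agent.Helper3.ZasBasic2
import Cfsg.Agent.Helper23.ZasSL2

/-!
# Zassenhaus cluster, piece Z3 (first part): a non-cyclic pair of elements of order three
generates a subgroup of `SL₂(𝔽_p)`
-/

set_option autoImplicit false
set_option linter.unusedSectionVars false

namespace Cfsg.Agent.Helper5.Zas

variable {p : ℕ} [Fact p.Prime] {G : Type*} [Group G] [Finite G] {V : Type*} [AddCommGroup V]
  [Module (ZMod p) V] [Finite V] [Nontrivial V]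

local notation "SL2p" => Matrix.SpecialLinearGroup (Fin 2) (ZMod p)

namespace Z3

theorem scalar_eq {v : V} (hv : v ≠ 0) {a b : ZMod p} (h : a • v = b • v) : a = b := by
  have h2 : (a - b) • v = 0 := by rw [sub_smul, h, sub_self]
  rcases smul_eq_zero.1 h2 with h3 | h3
  · exact sub_eq_zero.1 h3
  · exact absurd h3 hv

theorem eig_ne_zero (S : Setup p G V) {g : G} {v : V} {μ : ZMod p} (hv : v ≠ 0)
    (h : S.ρ g v = μ • v) : μ ≠ 0 := by
  rintro rfl
  rw [zero_smul] at h
  have := congrArg (S.ρ g⁻¹) h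
  rw [← Module.End.mul_apply, S.rho_inv_mul, Module.End.one_apply, map_zero] at this
  exact hv this

theorem eig_inv (S : Setup p G V) {g : G} {v : V} {μ : ZMod p} (hv : v ≠ 0)
    (h : S.ρ g v = μ • v) : S.ρ g⁻¹ v = μ⁻¹ • v := by
  have hμ := eig_ne_zero S hv h
  have := congrArg (S.ρ g⁻¹) h
  rw [← Module.End.mul_apply, S.rho_inv_mul, Module.End.one_apply, map_smul] at this
  rw [eq_inv_smul_iff₀ hμ]
  exact this.symm

theorem tr_eig (S : Setup p G V) {g : G} {v : V} {μ : ZMod p} (hv : v ≠ 0)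
    (h : S.ρ g v = μ • v) : S.tr g v = (μ + μ⁻¹) • v := by
  unfold Setup.tr
  rw [LinearMap.add_apply, h, eig_inv S hv h, add_smul]

/-- `ρ w ρ x` in terms of the trace of `x w`. -/
theorem wx_eq (S : Setup p G V) {x w : G} (hx : orderOf x = 3) (hw : orderOf w = 3) :
    S.ρ w * S.ρ x = S.tr (x * w) - S.ρ x * S.ρ w - 1 - S.ρ x - S.ρ w := by
  unfold Setup.tr
  rw [mul_inv_rev, map_mul, map_mul, S.rho_inv_of_orderOf_three hx, S.rho_inv_of_orderOf_three hw]
  noncomm_ring

/-- The core construction: an eigenvector `v` of `x w` such that `v, ρ x v` span a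
two-dimensional subspace invariant under `x` and `w`. -/
theorem pair_core (S : Setup p G V) {x w : G} (hx : orderOf x = 3) (hw : orderOf w = 3)
    (hxw : w ∉ Subgroup.zpowers x) :
    ∃ (v : V) (lam : ZMod p), v ≠ 0 ∧ lam ≠ 0 ∧ S.ρ (x * w) v = lam • v ∧
      (∀ a : ZMod p, a • v ≠ S.ρ x v) ∧
      S.ρ x (S.ρ x v) = -v - S.ρ x v ∧
      S.ρ w v = -(lam • v) - lam • S.ρ x v ∧
      S.ρ w (S.ρ x v) = (lam + lam⁻¹) • v - lam • v - v - S.ρ x v - S.ρ w v := by
  obtain ⟨v, -, hv0, lam, hlam⟩ :=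
    S.exists_eigenvector (x * w) ⊤ (by simp) (fun _ _ => Submodule.mem_top)
  have hlam0 := eig_ne_zero S hv0 hlam
  have hXW : S.ρ x (S.ρ w v) = lam • v := by
    rw [← Module.End.mul_apply, ← map_mul]; exact hlam
  have hWv : S.ρ w v = -(lam • v) - lam • S.ρ x v := by
    have := congrArg (S.ρ x⁻¹) hXW
    rw [← Module.End.mul_apply, S.rho_inv_mul, Module.End.one_apply, map_smul,
      S.rho_inv_of_orderOf_three hx] at this
    rw [this]
    simp only [LinearMap.sub_apply, LinearMap.neg_apply, Module.End.one_apply, smul_sub, smul_neg]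
  have hXX : S.ρ x (S.ρ x v) = -v - S.ρ x v := by
    have := LinearMap.congr_fun (S.rho_of_orderOf_three hx) v
    simp only [LinearMap.add_apply, Module.End.mul_apply, Module.End.one_apply,
      LinearMap.zero_apply] at this
    rw [eq_sub_iff_add_eq, eq_neg_iff_add_eq_zero, ← this]
  have hWX : S.ρ w (S.ρ x v) = (lam + lam⁻¹) • v - lam • v - v - S.ρ x v - S.ρ w v := by
    have := LinearMap.congr_fun (wx_eq S hx hw) v
    simp only [LinearMap.sub_apply, Module.End.mul_apply, Module.End.one_apply] at this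
    rw [this, tr_eig S hv0 hlam, hXW]
  refine ⟨v, lam, hv0, hlam0, hlam, ?_, hXX, hWv, hWX⟩
  -- linear independence
  intro c hc
  apply hxw
  apply S.mem_zpowers_of_commute _ (hx.trans hw.symm)
  apply S.eq_of_apply_eq hv0
  rw [map_mul, map_mul, Module.End.mul_apply, Module.End.mul_apply]
  have hWv' : S.ρ w v = (-lam - lam * c) • v := by
    rw [hWv, ← hc, sub_smul, neg_smul, smul_smul]
  rw [hWv', map_smul, ← hc, map_smul, hWv', smul_smul, smul_smul, mul_comm]

end Z3

open Z3 in
theorem pair_sl2 (S : Setup p G V) {x w : G} (hx : orderOf x = 3) (hw : orderOf w = 3)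
    (hxw : w ∉ Subgroup.zpowers x) :
    ∃ φ : Subgroup.closure ({x, w} : Set G) →* SL2p, Function.Injective φ := by
  obtain ⟨v, lam, hv0, hlam0, hlam, hli, hXX, hWv, hWX⟩ := pair_core S hx hw hxw
  have hXW : S.ρ x (S.ρ w v) = lam • v := by
    rw [← Module.End.mul_apply, ← map_mul]; exact hlam
  have hind : LinearIndependent (ZMod p) ![v, S.ρ x v] :=
    (LinearIndependent.pair_iff' hv0).2 hli
  have hrange : Set.range ![v, S.ρ x v] = {v, S.ρ x v} := by
    simp [Matrix.range_cons, Matrix.range_empty, Set.pair_comm]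
  set W : Submodule (ZMod p) V := Submodule.span (ZMod p) {v, S.ρ x v} with hWdef
  have hrank : Module.finrank (ZMod p) W = 2 := by
    have := finrank_span_eq_card hind
    rw [hrange] at this
    simpa using this
  have hvW : v ∈ W := Submodule.subset_span (by simp)
  have hXvW : S.ρ x v ∈ W := Submodule.subset_span (by simp)
  have hWvW : S.ρ w v ∈ W := by
    rw [hWv]
    exact W.sub_mem (W.neg_mem (W.smul_mem _ hvW)) (W.smul_mem _ hXvW)
  have hinv_gen : ∀ f : Module.End (ZMod p) V, f v ∈ W → f (S.ρ x v) ∈ W → ∀ u ∈ W, f u ∈ W := by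
    intro f h1 h2 u hu
    obtain ⟨a, b, rfl⟩ := Submodule.mem_span_pair.1 hu
    rw [map_add, map_smul, map_smul]
    exact W.add_mem (W.smul_mem _ h1) (W.smul_mem _ h2)
  have hinvx : ∀ u ∈ W, S.ρ x u ∈ W := by
    apply hinv_gen _ hXvW
    rw [hXX]
    exact W.sub_mem (W.neg_mem hvW) hXvW
  have hinvw : ∀ u ∈ W, S.ρ w u ∈ W := by
    apply hinv_gen _ hWvW
    rw [hWX]
    exact W.sub_mem (W.sub_mem (W.sub_mem (W.sub_mem (W.smul_mem _ hvW) (W.smul_mem _ hvW)) hvW)
      hXvW) hWvW
  apply exists_sl2_of_invariant S {x, w} W hrank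
  · intro g hg
    rcases hg with rfl | rfl
    · exact hinvx
    · exact hinvw
  · intro g hg
    rcases hg with rfl | rfl
    · exact hx
    · exact hw
  · intro g hg
    rcases hg with rfl | rfl
    · rintro ⟨c, hc⟩
      exact hli c (hc v hvW).symm
    · rintro ⟨c, hc⟩
      have h1 := hc v hvW
      rw [h1, map_smul] at hXW
      have hc0 : c ≠ 0 := by
        rintro rfl
        rw [zero_smul] at hXW
        rcases smul_eq_zero.1 hXW.symm with h | h
        · exact hlam0 h
        · exact hv0 h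
      apply hli (c⁻¹ * lam)
      rw [← smul_smul, ← hXW, smul_smul, inv_mul_cancel₀ hc0, one_smul]

end Cfsg.Agent.Helper5.Zas
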