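import Mathlib
import Cfsg.Agent.Helper5.ZasDefs
import Cfsg.Agent.Helper3.ZasBasic
import Cfsg.Agent.Helper3.ZasBasic2
import Cfsg.Agent.Helper3.ZasPair
import Cfsg.Agent.Helper18.ZasBinary

/-!
# Zassenhaus cluster, piece Z3 (second part): `pair_cases` and `no_central_four`
-/

set_option autoImplicit false
set_option linter.unusedSectionVars false
set_option linter.unusedVariables false

namespace Cfsg.Agent.Helper5.Zas

variable {p : ℕ} [Fact p.Prime] {G : Type*} [Group G] [Finite G] {V : Type*} [AddCommGroup V]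
  [Module (ZMod p) V] [Finite V] [Nontrivial V]

local notation "SL2p" => Matrix.SpecialLinearGroup (Fin 2) (ZMod p)

namespace Z3

/-! ### decidable facts about `A₄` and `A₅` -/

set_option maxRecDepth 100000 in
theorem dec_orders5 : ∀ σ : Equiv.Perm (Fin 5), Equiv.Perm.sign σ = 1 →
    σ ^ 2 = 1 ∨ σ ^ 3 = 1 ∨ σ ^ 5 = 1 := by
  decide

set_option maxRecDepth 100000 in
theorem dec_orders4 : ∀ σ : Equiv.Perm (Fin 4), Equiv.Perm.sign σ = 1 →
    σ ^ 2 = 1 ∨ σ ^ 3 = 1 := by
  decide

set_option maxRecDepth 100000 in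
theorem dec_common_fix : ∀ σ τ : Equiv.Perm (Fin 5), σ ≠ 1 → σ ^ 3 = 1 → τ ≠ 1 → τ ^ 3 = 1 →
    (σ * τ) ^ 2 = 1 → ∃ k, σ k = k ∧ τ k = k := by
  decide

set_option maxRecDepth 100000 in
theorem dec_center5 : ∀ σ : Equiv.Perm (Fin 5),
    σ * (c[0, 1, 2] : Equiv.Perm (Fin 5)) = c[0, 1, 2] * σ →
    σ * (c[0, 1, 2, 3, 4] : Equiv.Perm (Fin 5)) = c[0, 1, 2, 3, 4] * σ → σ = 1 := by
  decide

set_option maxRecDepth 100000 in
theorem dec_center4 : ∀ σ : Equiv.Perm (Fin 4),
    σ * (c[0, 1, 2] : Equiv.Perm (Fin 4)) = c[0, 1, 2] * σ →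
    σ * (c[0, 1] * c[2, 3] : Equiv.Perm (Fin 4)) = (c[0, 1] * c[2, 3]) * σ → σ = 1 := by
  decide

theorem dec_signs5 : Equiv.Perm.sign (c[0, 1, 2] : Equiv.Perm (Fin 5)) = 1 ∧
    Equiv.Perm.sign (c[0, 1, 2, 3, 4] : Equiv.Perm (Fin 5)) = 1 ∧
    Equiv.Perm.sign (c[0, 1] * c[2, 3] : Equiv.Perm (Fin 5)) = 1 ∧
    (c[0, 1] * c[2, 3] : Equiv.Perm (Fin 5)) ≠ 1 ∧
    (c[0, 1] * c[2, 3] : Equiv.Perm (Fin 5)) ^ 2 = 1 := by
  decide

theorem dec_signs4 : Equiv.Perm.sign (c[0, 1, 2] : Equiv.Perm (Fin 4)) = 1 ∧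
    Equiv.Perm.sign (c[0, 1] * c[2, 3] : Equiv.Perm (Fin 4)) = 1 ∧
    (c[0, 1] * c[2, 3] : Equiv.Perm (Fin 4)) ≠ 1 ∧
    (c[0, 1] * c[2, 3] : Equiv.Perm (Fin 4)) ^ 2 = 1 := by
  decide

theorem dec_rot5 : ∀ k : Fin 5, (c[0, 1, 2, 3, 4] : Equiv.Perm (Fin 5)) k ≠ k := by
  decide


/-! ### generalities on a homomorphism with kernel of order two -/

theorem ker_sq {M A : Type*} [Group M] [Group A] (π : M →* A) (hker : Nat.card π.ker = 2)
    {k : M} (hk : π k = 1) : k ^ 2 = 1 := by
  have := pow_card_eq_one' (G := π.ker) (x := ⟨k, hk⟩)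
  rw [hker] at this
  exact congrArg Subtype.val this

theorem order_dvd_of_pow {M A : Type*} [Group M] [Group A] (π : M →* A)
    (hker : Nat.card π.ker = 2) {g : M} {m : ℕ} (h : (π g) ^ m = 1) : orderOf g ∣ m * 2 := by
  apply orderOf_dvd_of_pow_eq_one
  rw [pow_mul]
  apply ker_sq π hker
  rw [map_pow, h]

theorem exists_ker_invol {M : Subgroup G} {A : Type*} [Group A] (π : M →* A)
    (hker : Nat.card π.ker = 2) : ∃ k : M, π k = 1 ∧ orderOf (k : G) = 2 := by
  obtain ⟨y, hy, -⟩ := (Nat.card_eq_two_iff' (1 : π.ker)).1 hker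
  refine ⟨y.1, y.2, ?_⟩
  have h2 := ker_sq π hker y.2
  apply orderOf_eq_prime
  · have := congrArg Subtype.val h2
    simpa using this
  · intro h
    apply hy
    apply Subtype.ext
    apply Subtype.ext
    exact h

/-- element orders in a binary group -/
theorem orderOf_mem_of_isBinary {M : Subgroup G} (hM : IsBinary M) {g : G} (hg : g ∈ M) :
    orderOf g ∈ ({1, 2, 3, 4, 5, 6, 10} : Finset ℕ) := by
  have key : orderOf g ∣ 4 ∨ orderOf g ∣ 6 ∨ orderOf g ∣ 10 := by
    rw [← Subgroup.orderOf_mk g hg]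
    rcases hM with ⟨-, π, -, hker⟩ | ⟨-, π, -, hker⟩
    · have hs : Equiv.Perm.sign
          ((π ⟨g, hg⟩ : alternatingGroup (Fin 4)) : Equiv.Perm (Fin 4)) = 1 :=
        Equiv.Perm.mem_alternatingGroup.1 (π ⟨g, hg⟩).2
      rcases dec_orders4 _ hs with h | h
      · left
        exact order_dvd_of_pow π hker (m := 2) (Subtype.ext (by simpa using h))
      · right; left
        exact order_dvd_of_pow π hker (m := 3) (Subtype.ext (by simpa using h))
    · have hs : Equiv.Perm.sign
          ((π ⟨g, hg⟩ : alternatingGroup (Fin 5)) : Equiv.Perm (Fin 5)) = 1 :=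
        Equiv.Perm.mem_alternatingGroup.1 (π ⟨g, hg⟩).2
      rcases dec_orders5 _ hs with h | h | h
      · left
        exact order_dvd_of_pow π hker (m := 2) (Subtype.ext (by simpa using h))
      · right; left
        exact order_dvd_of_pow π hker (m := 3) (Subtype.ext (by simpa using h))
      · right; right
        exact order_dvd_of_pow π hker (m := 5) (Subtype.ext (by simpa using h))
  have h4 : Nat.divisors 4 ⊆ ({1, 2, 3, 4, 5, 6, 10} : Finset ℕ) := by decide
  have h6 : Nat.divisors 6 ⊆ ({1, 2, 3, 4, 5, 6, 10} : Finset ℕ) := by decide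
  have h10 : Nat.divisors 10 ⊆ ({1, 2, 3, 4, 5, 6, 10} : Finset ℕ) := by decide
  rcases key with h | h | h
  · exact h4 (Nat.mem_divisors.2 ⟨h, by norm_num⟩)
  · exact h6 (Nat.mem_divisors.2 ⟨h, by norm_num⟩)
  · exact h10 (Nat.mem_divisors.2 ⟨h, by norm_num⟩)

/-! ### the scalar by which the trace acts on an eigenvector -/

theorem tau_of_order (S : Setup p G V) {g : G} {v : V} (hv : v ≠ 0) {T : ZMod p}
    (h : S.tr g v = T • v) :
    (orderOf g = 2 → T = -2) ∧ (orderOf g = 3 → T = -1) ∧ (orderOf g = 4 → T = 0) ∧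
    (orderOf g = 6 → T = 1) ∧ (orderOf g = 5 → T * T + T - 1 = 0) ∧
    (orderOf g = 10 → T * T - T - 1 = 0) := by
  refine ⟨fun ho => ?_, fun ho => ?_, fun ho => ?_, fun ho => ?_, fun ho => ?_, fun ho => ?_⟩
  · have h1 := S.rho_of_orderOf_two ho
    have h2 := S.rho_of_orderOf_two (g := g⁻¹) (by rw [orderOf_inv]; exact ho)
    unfold Setup.tr at h
    rw [h1, h2] at h
    apply scalar_eq hv
    rw [← h, LinearMap.add_apply, LinearMap.neg_apply, Module.End.one_apply, neg_smul, two_smul]
    abel
  · have h1 := S.tr_of_orderOf_three ho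
    rw [h1] at h
    apply scalar_eq hv
    rw [← h]
    simp
  · have h1 := S.tr_of_orderOf_four ho
    rw [h1] at h
    apply scalar_eq hv
    rw [← h]
    simp
  · have h1 := S.tr_of_orderOf_six ho
    rw [h1] at h
    apply scalar_eq hv
    rw [← h]
    simp
  · have h1 := S.tr_of_orderOf_five ho
    have := LinearMap.congr_fun h1 v
    simp only [LinearMap.sub_apply, LinearMap.add_apply, Module.End.mul_apply,
      Module.End.one_apply, LinearMap.zero_apply, h, map_smul] at this
    apply scalar_eq hv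
    rw [zero_smul, ← this, sub_smul, add_smul, mul_smul, one_smul]
  · have h1 := S.tr_of_orderOf_ten ho
    have := LinearMap.congr_fun h1 v
    simp only [LinearMap.sub_apply, Module.End.mul_apply,
      Module.End.one_apply, LinearMap.zero_apply, h, map_smul] at this
    apply scalar_eq hv
    rw [zero_smul, ← this, sub_smul, sub_smul, mul_smul, one_smul]

/-- the possible orders of `x w` and `x⁻¹ w` -/
theorem orders_pair (S : Setup p G V) {x w : G} (hx : orderOf x = 3) (hw : orderOf w = 3)
    (hxw : w ∉ Subgroup.zpowers x)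
    (ha : orderOf (x * w) ∈ ({1, 2, 3, 4, 5, 6, 10} : Finset ℕ))
    (hb : orderOf (x⁻¹ * w) ∈ ({1, 2, 3, 4, 5, 6, 10} : Finset ℕ)) :
    (orderOf (x * w) = 4 ∧ orderOf (x⁻¹ * w) = 6) ∨
    (orderOf (x * w) = 6 ∧ orderOf (x⁻¹ * w) = 4) ∨
    (orderOf (x * w) = 10 ∧ orderOf (x⁻¹ * w) = 10) := by
  have hane1 : orderOf (x * w) ≠ 1 := by
    intro h
    rw [orderOf_eq_one_iff] at h
    apply hxw
    have : w = x⁻¹ := eq_inv_of_mul_eq_one_right h
    rw [this]
    exact Subgroup.inv_mem _ (Subgroup.mem_zpowers x)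
  have hbne1 : orderOf (x⁻¹ * w) ≠ 1 := by
    intro h
    rw [orderOf_eq_one_iff] at h
    apply hxw
    have : w = x := by
      have := congrArg (x * ·) h
      simpa using this
    rw [this]
    exact Subgroup.mem_zpowers x
  obtain ⟨v, -, hv0, lam, hlam⟩ :=
    S.exists_eigenvector (x * w) ⊤ (by simp) (fun _ _ => Submodule.mem_top)
  set T : ZMod p := lam + lam⁻¹ with hT
  have ht : S.tr (x * w) v = T • v := tr_eig S hv0 hlam
  have ht' : S.tr (x⁻¹ * w) v = (1 - T) • v := by
    have := LinearMap.congr_fun (S.tr_add_tr_inv hx hw) v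
    rw [LinearMap.add_apply, ht, Module.End.one_apply] at this
    rw [sub_smul, one_smul, eq_sub_iff_add_eq']
    exact this
  obtain ⟨a2, a3, a4, a6, a5, a10⟩ := tau_of_order S hv0 ht
  obtain ⟨b2, b3, b4, b6, b5, b10⟩ := tau_of_order S hv0 ht'
  have h1 : (1 : ZMod p) ≠ 0 := one_ne_zero
  have h2 : (2 : ZMod p) ≠ 0 := by
    have := S.natCast_ne_zero (n := 2) (by norm_num) (by norm_num); exact_mod_cast this
  have h3 : (3 : ZMod p) ≠ 0 := by
    have := S.natCast_ne_zero (n := 3) (by norm_num) (by norm_num); exact_mod_cast this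
  have h4 : (4 : ZMod p) ≠ 0 := by
    have := S.natCast_ne_zero (n := 4) (by norm_num) (by norm_num); exact_mod_cast this
  have h5 : (5 : ZMod p) ≠ 0 := by
    have := S.natCast_ne_zero (n := 5) (by norm_num) (by norm_num); exact_mod_cast this
  have h11 : (11 : ZMod p) ≠ 0 := by
    have := S.natCast_ne_zero (n := 11) (by norm_num) (by norm_num); exact_mod_cast this
  simp only [Finset.mem_insert, Finset.mem_singleton] at ha hb
  rcases ha with ha | ha | ha | ha | ha | ha | ha
  · exact absurd ha hane1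
  · have e1 := a2 ha
    rcases hb with hb | hb | hb | hb | hb | hb | hb
    · exact absurd hb hbne1
    · have e2 := b2 hb
      exact absurd (by linear_combination e1 + e2) h5
    · have e2 := b3 hb
      exact absurd (by linear_combination e1 + e2) h4
    · have e2 := b4 hb
      exact absurd (by linear_combination e1 + e2) h3
    · have e2 := b5 hb
      exact absurd (by linear_combination e2 - (T + (-5)) * e1) h11
    · have e2 := b6 hb
      exact absurd (by linear_combination e1 + e2) h2
    · have e2 := b10 hb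
      exact absurd (by linear_combination e2 - (T + (-3)) * e1) h5
  · have e1 := a3 ha
    rcases hb with hb | hb | hb | hb | hb | hb | hb
    · exact absurd hb hbne1
    · have e2 := b2 hb
      exact absurd (by linear_combination e1 + e2) h4
    · have e2 := b3 hb
      exact absurd (by linear_combination e1 + e2) h3
    · have e2 := b4 hb
      exact absurd (by linear_combination e1 + e2) h2
    · have e2 := b5 hb
      exact absurd (by linear_combination e2 - (T + (-4)) * e1) h5
    · have e2 := b6 hb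
      exact absurd (by linear_combination e1 + e2) h1
    · have e2 := b10 hb
      exact absurd (by linear_combination e2 - (T + (-2)) * e1) h1
  · have e1 := a4 ha
    rcases hb with hb | hb | hb | hb | hb | hb | hb
    · exact absurd hb hbne1
    · have e2 := b2 hb
      exact absurd (by linear_combination e1 + e2) h3
    · have e2 := b3 hb
      exact absurd (by linear_combination e1 + e2) h2
    · have e2 := b4 hb
      exact absurd (by linear_combination e1 + e2) h1
    · have e2 := b5 hb
      exact absurd (by linear_combination e2 - (T + (-3)) * e1) h1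
    · have e2 := b6 hb
      exact Or.inl ⟨ha, hb⟩
    · have e2 := b10 hb
      exact absurd (by linear_combination -(e2 - (T + (-1)) * e1)) h1
  · have e1 := a5 ha
    rcases hb with hb | hb | hb | hb | hb | hb | hb
    · exact absurd hb hbne1
    · have e2 := b2 hb
      exact absurd (by linear_combination e1 + (T + (4)) * e2) h11
    · have e2 := b3 hb
      exact absurd (by linear_combination e1 + (T + (3)) * e2) h5
    · have e2 := b4 hb
      exact absurd (by linear_combination e1 + (T + (2)) * e2) h1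
    · have e2 := b5 hb
      exact absurd (by linear_combination (2*T - 5) * e1 - (2*T + 3) * e2) h2
    · have e2 := b6 hb
      exact absurd (by linear_combination -(e1 + (T + (1)) * e2)) h1
    · have e2 := b10 hb
      exact absurd (by linear_combination (T - 1) * e1 - (T + 1) * e2) h2
  · have e1 := a6 ha
    rcases hb with hb | hb | hb | hb | hb | hb | hb
    · exact absurd hb hbne1
    · have e2 := b2 hb
      exact absurd (by linear_combination e1 + e2) h2
    · have e2 := b3 hb
      exact absurd (by linear_combination e1 + e2) h1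
    · have e2 := b4 hb
      exact Or.inr (Or.inl ⟨ha, hb⟩)
    · have e2 := b5 hb
      exact absurd (by linear_combination -(e2 - (T + (-2)) * e1)) h1
    · have e2 := b6 hb
      exact absurd (by linear_combination -(e1 + e2)) h1
    · have e2 := b10 hb
      exact absurd (by linear_combination -(e2 - (T + (0)) * e1)) h1
  · have e1 := a10 ha
    rcases hb with hb | hb | hb | hb | hb | hb | hb
    · exact absurd hb hbne1
    · have e2 := b2 hb
      exact absurd (by linear_combination e1 + (T + (2)) * e2) h5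
    · have e2 := b3 hb
      exact absurd (by linear_combination e1 + (T + (1)) * e2) h1
    · have e2 := b4 hb
      exact absurd (by linear_combination -(e1 + (T + (0)) * e2)) h1
    · have e2 := b5 hb
      exact absurd (by linear_combination (T - 2) * e1 - T * e2) h2
    · have e2 := b6 hb
      exact absurd (by linear_combination -(e1 + (T + (-1)) * e2)) h1
    · have e2 := b10 hb
      exact Or.inr (Or.inr ⟨ha, hb⟩)


/-! ### the `A₅` case: order four is impossible -/

theorem not_four_of_A5 (S : Setup p G V) {x w : G} (hx : orderOf x = 3) (hw : orderOf w = 3)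
    (M : Subgroup G) (hxM : x ∈ M) (hwM : w ∈ M)
    (hgen : M ≤ Subgroup.closure ({x, w} : Set G))
    (π : M →* alternatingGroup (Fin 5)) (hπ : Function.Surjective π)
    (hker : Nat.card π.ker = 2) (h4 : orderOf (x * w) = 4) : False := by
  have hcoe : ∀ g : M, π g = 1 ↔
      ((π g : alternatingGroup (Fin 5)) : Equiv.Perm (Fin 5)) = 1 := by
    intro g
    constructor
    · intro h; rw [h]; rfl
    · intro h; exact Subtype.ext h
  have ord3 : ∀ (y : G) (hy : y ∈ M), orderOf y = 3 →
      ((π ⟨y, hy⟩ : alternatingGroup (Fin 5)) : Equiv.Perm (Fin 5)) ≠ 1 ∧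
      ((π ⟨y, hy⟩ : alternatingGroup (Fin 5)) : Equiv.Perm (Fin 5)) ^ 3 = 1 := by
    intro y hy ho
    constructor
    · intro h
      have h2 := ker_sq π hker ((hcoe _).2 h)
      have h3 : y ^ 2 = 1 := by
        have := congrArg Subtype.val h2
        simpa using this
      have h4 : orderOf y ∣ 2 := orderOf_dvd_of_pow_eq_one h3
      rw [ho] at h4
      norm_num at h4
    · have h3 : (⟨y, hy⟩ : M) ^ 3 = 1 := by
        apply Subtype.ext
        simp only [Subgroup.coe_pow, Subgroup.coe_one]
        rw [← ho]; exact pow_orderOf_eq_one y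
      have h5 := congrArg π h3
      rw [map_pow, map_one] at h5
      have h6 := congrArg Subtype.val h5
      simpa only [Subgroup.coe_pow, Subgroup.coe_one] using h6
  obtain ⟨hσ1, hσ3⟩ := ord3 x hxM hx
  obtain ⟨hτ1, hτ3⟩ := ord3 w hwM hw
  have hστ : (((π ⟨x, hxM⟩ : alternatingGroup (Fin 5)) : Equiv.Perm (Fin 5)) *
      ((π ⟨w, hwM⟩ : alternatingGroup (Fin 5)) : Equiv.Perm (Fin 5))) ^ 2 = 1 := by
    obtain ⟨k0, hk0, hk02⟩ := exists_ker_invol π hker
    have h2 : orderOf ((x * w) ^ 2) = 2 := by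
      rw [orderOf_pow' (x * w) (by norm_num), h4]; rfl
    have h3 := S.invol_unique h2 hk02
    have h5 : ((⟨x, hxM⟩ : M) * ⟨w, hwM⟩) ^ 2 = k0 := Subtype.ext (by simpa using h3)
    have := congrArg (fun g => ((π g : alternatingGroup (Fin 5)) : Equiv.Perm (Fin 5))) h5
    simp only [map_pow, map_mul, hk0] at this
    simpa using this
  obtain ⟨k, hk1, hk2⟩ := dec_common_fix _ _ hσ1 hσ3 hτ1 hτ3 hστ
  have hfix : ∀ g ∈ Subgroup.closure ({x, w} : Set G), ∃ h : g ∈ M,
      ((π ⟨g, h⟩ : alternatingGroup (Fin 5)) : Equiv.Perm (Fin 5)) k = k := by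
    intro g hg
    induction hg using Subgroup.closure_induction with
    | mem y hy =>
      rcases hy with rfl | rfl
      · exact ⟨hxM, hk1⟩
      · exact ⟨hwM, hk2⟩
    | one =>
      refine ⟨M.one_mem, ?_⟩
      have : (⟨1, M.one_mem⟩ : M) = 1 := rfl
      rw [this, map_one]; rfl
    | mul a b _ _ iha ihb =>
      obtain ⟨ha, ea⟩ := iha
      obtain ⟨hb, eb⟩ := ihb
      refine ⟨M.mul_mem ha hb, ?_⟩
      have : (⟨a * b, M.mul_mem ha hb⟩ : M) = ⟨a, ha⟩ * ⟨b, hb⟩ := rfl
      rw [this, map_mul, Subgroup.coe_mul, Equiv.Perm.mul_apply, eb, ea]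
    | inv a _ iha =>
      obtain ⟨ha, ea⟩ := iha
      refine ⟨M.inv_mem ha, ?_⟩
      have : (⟨a⁻¹, M.inv_mem ha⟩ : M) = ⟨a, ha⟩⁻¹ := rfl
      rw [this, map_inv, Subgroup.coe_inv, Equiv.Perm.inv_eq_iff_eq, ea]
  obtain ⟨g, hg⟩ := hπ ⟨c[0, 1, 2, 3, 4], Equiv.Perm.mem_alternatingGroup.2 dec_signs5.2.1⟩
  obtain ⟨h, e⟩ := hfix g (hgen g.2)
  have : (⟨(g : G), h⟩ : M) = g := rfl
  rw [this, hg] at e
  exact dec_rot5 k e

/-! ### no central element of order four -/

theorem central_four_aux (S : Setup p G V) {M : Subgroup G} {A : Type*} [Group A] (π : M →* A)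
    (hπ : Function.Surjective π) (hker : Nat.card π.ker = 2)
    (t₀ : A) (ht1 : t₀ ≠ 1) (ht2 : t₀ ^ 2 = 1) (hcen : ∀ σ : A, (∀ τ, σ * τ = τ * σ) → σ = 1)
    {q : G} (hq : orderOf q = 4) (hcomm : ∀ g ∈ M, q * g = g * q) : False := by
  obtain ⟨a, ha⟩ := hπ t₀
  have ha4 : orderOf (a : G) = 4 := by
    have h1 : (a ^ 2) ^ 2 = 1 := ker_sq π hker (by rw [map_pow, ha, ht2])
    have h2 : a ^ 2 ≠ 1 := by
      intro h2
      obtain ⟨k0, hk0, hk02⟩ := exists_ker_invol π hker
      have ha1 : a ≠ 1 := by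
        rintro rfl
        exact ht1 (by rw [← ha, map_one])
      have h3 : orderOf (a : G) = 2 := by
        apply orderOf_eq_prime
        · have := congrArg Subtype.val h2
          simpa using this
        · intro h
          exact ha1 (Subtype.ext h)
      have h4 := S.invol_unique h3 hk02
      have h5 : a = k0 := Subtype.ext h4
      rw [h5, hk0] at ha
      exact ht1 ha.symm
    rw [Subgroup.orderOf_coe]
    have := orderOf_eq_prime_pow (x := a) (p := 2) (n := 1) (by simpa using h2)
      (by rw [← pow_mul] at h1; simpa using h1)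
    simpa using this
  have hqa : q ∈ Subgroup.zpowers (a : G) :=
    S.mem_zpowers_of_commute (g := (a : G)) (h := q) ((hcomm a a.2).symm) (ha4.trans hq.symm)
  have hqM : q ∈ M := (Subgroup.zpowers_le.2 a.2) hqa
  have hcq : π ⟨q, hqM⟩ = 1 := by
    apply hcen
    intro τ
    obtain ⟨g, rfl⟩ := hπ τ
    rw [← map_mul, ← map_mul]
    congr 1
    exact Subtype.ext (hcomm g g.2)
  have h2 := ker_sq π hker hcq
  have h3 : q ^ 2 = 1 := by
    have := congrArg Subtype.val h2
    simpa using this
  have h4 : orderOf q ∣ 2 := orderOf_dvd_of_pow_eq_one h3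
  rw [hq] at h4
  norm_num at h4

theorem pair_binary (S : Setup p G V) {x w : G} (hx : orderOf x = 3) (hw : orderOf w = 3)
    (hxw : w ∉ Subgroup.zpowers x) : IsBinary (Subgroup.closure ({x, w} : Set G)) := by
  obtain ⟨φ, hφ⟩ := pair_sl2 S hx hw hxw
  refine isBinary_of_sl2 S {x, w} ?_ (x := x) (y := w) (by simp) (by simp) hxw φ hφ
  intro g hg
  rcases hg with rfl | rfl
  · exact hx
  · exact hw

end Z3

open Z3 in
theorem pair_cases (S : Setup p G V) {x w : G} (hx : orderOf x = 3) (hw : orderOf w = 3)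
    (hxw : w ∉ Subgroup.zpowers x) :
    (Good x w ∧ Nat.card (Subgroup.closure ({x, w} : Set G)) = 24) ∨
    (orderOf (x * w) = 10 ∧ Nat.card (Subgroup.closure ({x, w} : Set G)) = 120) := by
  have hM := pair_binary S hx hw hxw
  have hxM : x ∈ Subgroup.closure ({x, w} : Set G) := Subgroup.subset_closure (by simp)
  have hwM : w ∈ Subgroup.closure ({x, w} : Set G) := Subgroup.subset_closure (by simp)
  have ha := orderOf_mem_of_isBinary hM (Subgroup.mul_mem _ hxM hwM)
  have hb := orderOf_mem_of_isBinary hM (Subgroup.mul_mem _ (Subgroup.inv_mem _ hxM) hwM)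
  have hord := orders_pair S hx hw hxw ha hb
  rcases hM with ⟨hc, π, hπ, hker⟩ | ⟨hc, π, hπ, hker⟩
  · left
    refine ⟨?_, hc⟩
    rcases hord with ⟨h, -⟩ | ⟨h, -⟩ | ⟨h, -⟩
    · exact Or.inl h
    · exact Or.inr h
    · exfalso
      have h1 : orderOf (x * w) ∣ 24 := by
        rw [← hc, ← Subgroup.orderOf_mk (x * w) (Subgroup.mul_mem _ hxM hwM)]
        exact orderOf_dvd_natCard _
      rw [h] at h1
      norm_num at h1
  · right
    refine ⟨?_, hc⟩
    rcases hord with ⟨h, -⟩ | ⟨-, h⟩ | ⟨h, -⟩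
    · exact (not_four_of_A5 S hx hw _ hxM hwM le_rfl π hπ hker h).elim
    · refine (not_four_of_A5 S (x := x⁻¹) (by rw [orderOf_inv]; exact hx) hw _
        (Subgroup.inv_mem _ hxM) hwM ?_ π hπ hker h).elim
      rw [Subgroup.closure_le]
      rintro y (rfl | rfl)
      · have : y⁻¹ ∈ Subgroup.closure ({y⁻¹, w} : Set G) := Subgroup.subset_closure (by simp)
        simpa using Subgroup.inv_mem _ this
      · exact Subgroup.subset_closure (by simp)
    · exact h

open Z3 in
theorem no_central_four (S : Setup p G V) {x w q : G} (hx : orderOf x = 3) (hw : orderOf w = 3)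
    (hxw : w ∉ Subgroup.zpowers x) (hq : orderOf q = 4) (hqx : q * x = x * q)
    (hqw : q * w = w * q) : False := by
  have hM := pair_binary S hx hw hxw
  have hcomm : ∀ g ∈ Subgroup.closure ({x, w} : Set G), q * g = g * q := by
    intro g hg
    have hle : Subgroup.closure ({x, w} : Set G) ≤ Subgroup.centralizer {q} := by
      rw [Subgroup.closure_le]
      rintro y (rfl | rfl)
      · rw [SetLike.mem_coe, Subgroup.mem_centralizer_iff]
        intro h hh
        rw [Set.mem_singleton_iff] at hh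
        rw [hh]; exact hqx
      · rw [SetLike.mem_coe, Subgroup.mem_centralizer_iff]
        intro h hh
        rw [Set.mem_singleton_iff] at hh
        rw [hh]; exact hqw
    have := Subgroup.mem_centralizer_iff.1 (hle hg) q (Set.mem_singleton q)
    exact this
  rcases hM with ⟨hc, π, hπ, hker⟩ | ⟨hc, π, hπ, hker⟩
  · refine central_four_aux S π hπ hker
      ⟨c[0, 1] * c[2, 3], Equiv.Perm.mem_alternatingGroup.2 dec_signs4.2.1⟩ ?_ ?_ ?_ hq hcomm
    · intro h
      exact dec_signs4.2.2.1 (congrArg Subtype.val h)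
    · apply Subtype.ext
      exact dec_signs4.2.2.2
    · intro σ hσ
      apply Subtype.ext
      apply dec_center4
      · have := hσ ⟨c[0, 1, 2], Equiv.Perm.mem_alternatingGroup.2 dec_signs4.1⟩
        exact congrArg Subtype.val this
      · have := hσ ⟨c[0, 1] * c[2, 3], Equiv.Perm.mem_alternatingGroup.2 dec_signs4.2.1⟩
        exact congrArg Subtype.val this
  · refine central_four_aux S π hπ hker
      ⟨c[0, 1] * c[2, 3], Equiv.Perm.mem_alternatingGroup.2 dec_signs5.2.2.1⟩ ?_ ?_ ?_ hq hcomm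
    · intro h
      exact dec_signs5.2.2.2.1 (congrArg Subtype.val h)
    · apply Subtype.ext
      exact dec_signs5.2.2.2.2
    · intro σ hσ
      apply Subtype.ext
      apply dec_center5
      · have := hσ ⟨c[0, 1, 2], Equiv.Perm.mem_alternatingGroup.2 dec_signs5.1⟩
        exact congrArg Subtype.val this
      · have := hσ ⟨c[0, 1, 2, 3, 4], Equiv.Perm.mem_alternatingGroup.2 dec_signs5.2.1⟩
        exact congrArg Subtype.val this

end Cfsg.Agent.Helper5.Zas
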