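import Mathlib
import Cfsg.Agent.Helper5.ZasDefs
import Cfsg.Agent.Helper3.ZasBasic
import Cfsg.Agent.Helper3.ZasBasic2
import Cfsg.Agent.Helper3.ZasPair2
import Cfsg.Agent.Helper24.SolvTransB

/-!
# Zassenhaus cluster, piece Y3: the centraliser of the binary icosahedral subgroup
-/

set_option autoImplicit false
set_option linter.unusedSectionVars false
set_option linter.unusedVariables false
set_option linter.style.haveILetI false

namespace Cfsg.Agent.Helper5.Zas

variable {p : ℕ} [Fact p.Prime] {G : Type*} [Group G] [Finite G] {V : Type*} [AddCommGroup V]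
  [Module (ZMod p) V] [Finite V] [Nontrivial V]

namespace Y3

/-- the action as a homomorphism into the automorphism group of the multiplicative copy of `V` -/
def mulAutHom (S : Setup p G V) : G →* MulAut (Multiplicative V) where
  toFun g :=
    { toFun := fun v => Multiplicative.ofAdd (S.ρ g (Multiplicative.toAdd v))
      invFun := fun v => Multiplicative.ofAdd (S.ρ g⁻¹ (Multiplicative.toAdd v))
      left_inv := by
        intro v
        apply Multiplicative.toAdd.injective
        simp only [toAdd_ofAdd]
        rw [← Module.End.mul_apply, S.rho_inv_mul, Module.End.one_apply]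
      right_inv := by
        intro v
        apply Multiplicative.toAdd.injective
        simp only [toAdd_ofAdd]
        rw [← Module.End.mul_apply, S.rho_mul_inv, Module.End.one_apply]
      map_mul' := by
        intro v w
        apply Multiplicative.toAdd.injective
        simp }
  map_one' := by
    ext v
    apply Multiplicative.toAdd.injective
    simp
  map_mul' := by
    intro a b
    ext v
    apply Multiplicative.toAdd.injective
    simp

theorem mulAutHom_apply (S : Setup p G V) (g : G) (v : Multiplicative V) :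
    mulAutHom S g v = Multiplicative.ofAdd (S.ρ g (Multiplicative.toAdd v)) := rfl

/-- every subgroup of prime power order of a group with a split fpf setup is cyclic or
generalized quaternion -/
theorem sylow_cyclic_or_quaternion (S : Setup p G V) (r : ℕ) [Fact r.Prime] (R : Subgroup G)
    (hR : IsPGroup r R) :
    IsCyclic R ∨ (r = 2 ∧ ∃ n : ℕ, Nonempty (R ≃* QuaternionGroup (2 ^ n))) := by
  apply Cfsg.Agent.Helper24.SolvTrans.fpf_cyclic_or_quaternion (mulAutHom S) r R hR
  intro a _ ha v hv
  rw [mulAutHom_apply] at hv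
  have h1 : S.ρ a (Multiplicative.toAdd v) = Multiplicative.toAdd v := by
    have := congrArg Multiplicative.toAdd hv
    simpa using this
  have h2 := S.fpf a ha _ h1
  apply Multiplicative.toAdd.injective
  simpa using h2

end Y3

open Z3 in
theorem centralizer_structure (S : Setup p G V) (N : Subgroup G)
    (hN : N = Subgroup.closure {g : G | orderOf g = 3}) (hcard : Nat.card N = 120)
    (π : N →* alternatingGroup (Fin 5)) (hπ : Function.Surjective π) (hker : Nat.card π.ker = 2) :
    ∃ M : Subgroup G, M ≤ Subgroup.centralizer (N : Set G) ∧ N ⊓ M = ⊥ ∧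
      N ⊔ M = N ⊔ Subgroup.centralizer (N : Set G) ∧ (Nat.card M).Coprime 30 ∧
      ∀ (q : ℕ) [Fact q.Prime] (P : Sylow q M), IsCyclic P := by
  classical
  set C : Subgroup G := Subgroup.centralizer (N : Set G) with hC
  have hCcomm : ∀ c ∈ C, ∀ g ∈ N, c * g = g * c := by
    intro c hc g hg
    exact (Subgroup.mem_centralizer_iff.1 hc g hg).symm
  -- the involution
  obtain ⟨k0, hk0, hk02⟩ := exists_ker_invol π hker
  set z : G := (k0 : G) with hz
  have hzN : z ∈ N := k0.2
  have hzC : z ∈ C := by
    rw [hC, Subgroup.mem_centralizer_iff]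
    intro g _
    exact (S.invol_central hk02 g).symm
  -- elements of `N ⊓ C` square to one
  have hNC : ∀ g ∈ N, g ∈ C → g ^ 2 = 1 := by
    intro g hgN hgC
    have h1 : π ⟨g, hgN⟩ = 1 := by
      apply Subtype.ext
      apply dec_center5
      · obtain ⟨y, hy⟩ := hπ ⟨c[0, 1, 2], Equiv.Perm.mem_alternatingGroup.2 dec_signs5.1⟩
        have h2 : (⟨g, hgN⟩ : N) * y = y * ⟨g, hgN⟩ := Subtype.ext (hCcomm g hgC y y.2)
        have h3 := congrArg π h2
        rw [map_mul, map_mul, hy] at h3
        exact congrArg Subtype.val h3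
      · obtain ⟨y, hy⟩ := hπ ⟨c[0, 1, 2, 3, 4], Equiv.Perm.mem_alternatingGroup.2 dec_signs5.2.1⟩
        have h2 : (⟨g, hgN⟩ : N) * y = y * ⟨g, hgN⟩ := Subtype.ext (hCcomm g hgC y y.2)
        have h3 := congrArg π h2
        rw [map_mul, map_mul, hy] at h3
        exact congrArg Subtype.val h3
    have h2 := ker_sq π hker h1
    have := congrArg Subtype.val h2
    simpa using this
  -- no element of order four in `C`
  have hno4 : ∀ c ∈ C, orderOf c ≠ 4 := by
    intro c hc h4
    refine central_four_aux S π hπ hker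
      ⟨c[0, 1] * c[2, 3], Equiv.Perm.mem_alternatingGroup.2 dec_signs5.2.2.1⟩ ?_ ?_ ?_ h4
      (hCcomm c hc)
    · intro h
      exact dec_signs5.2.2.2.1 (congrArg Subtype.val h)
    · apply Subtype.ext
      exact dec_signs5.2.2.2.2
    · intro σ hσ
      apply Subtype.ext
      apply dec_center5
      · have := hσ ⟨c[0, 1, 2], Equiv.Perm.mem_alternatingGroup.2 dec_signs5.1⟩
        exact congrArg Subtype.val this
      · have := hσ ⟨c[0, 1, 2, 3, 4], Equiv.Perm.mem_alternatingGroup.2 dec_signs5.2.1⟩
        exact congrArg Subtype.val this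
  -- the involution as an element of `C`
  set z' : C := ⟨z, hzC⟩ with hz'
  have hz'2 : orderOf z' = 2 := by
    rw [← Subgroup.orderOf_coe]; exact hk02
  -- `4 ∤ |C|`
  have h4C : ¬ 4 ∣ Nat.card C := by
    intro h4
    obtain ⟨Q, hQ⟩ := Sylow.exists_subgroup_card_pow_prime (G := C) 2 (n := 2) (by simpa using h4)
    have hQle : Q ≤ Subgroup.zpowers z' := by
      intro x hx
      have hx4 : x ^ 4 = 1 := by
        have := pow_card_eq_one' (G := Q) (x := ⟨x, hx⟩)
        rw [hQ] at this
        have := congrArg Subtype.val this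
        simpa using this
      have hne4 : orderOf x ≠ 4 := by
        rw [← Subgroup.orderOf_coe]
        exact hno4 x x.2
      have hx2 : x ^ 2 = 1 := by
        by_contra hx2
        exact hne4 (orderOf_eq_prime_pow (p := 2) (n := 1) (by simpa using hx2)
          (by simpa using hx4))
      by_cases hx1 : x = 1
      · rw [hx1]; exact Subgroup.one_mem _
      · have ho : orderOf (x : G) = 2 := by
          rw [Subgroup.orderOf_coe]
          exact orderOf_eq_prime hx2 hx1
        have := S.invol_unique ho hk02
        have hxz : x = z' := Subtype.ext this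
        rw [hxz]; exact Subgroup.mem_zpowers z'
    have h1 := Subgroup.card_le_of_le hQle
    rw [hQ, Nat.card_zpowers, hz'2] at h1
    norm_num at h1
  -- the central subgroup of order two of `C`
  set Z₂ : Subgroup C := Subgroup.zpowers z' with hZ₂
  have hZ₂card : Nat.card Z₂ = 2 := by rw [hZ₂, Nat.card_zpowers, hz'2]
  have hz'cen : ∀ g : C, g * z' = z' * g := by
    intro g
    apply Subtype.ext
    exact (S.invol_central hk02 (g : G)).symm
  haveI hZ₂n : Z₂.Normal := by
    refine ⟨fun n hn g => ?_⟩
    obtain ⟨k, rfl⟩ := Subgroup.mem_zpowers_iff.1 hn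
    have hcomm : Commute g (z' ^ k) := Commute.zpow_right (hz'cen g) k
    have : g * z' ^ k * g⁻¹ = z' ^ k := by
      rw [hcomm.eq, mul_inv_cancel_right]
    rw [this]
    exact Subgroup.zpow_mem _ (Subgroup.mem_zpowers z') k
  have hidx : Nat.card Z₂ * Z₂.index = Nat.card C := Subgroup.card_mul_index Z₂
  have hodd : ¬ 2 ∣ Z₂.index := by
    intro h
    apply h4C
    rw [← hidx, hZ₂card]
    exact Nat.mul_dvd_mul_left 2 h
  have hcop : Nat.Coprime (Nat.card Z₂) Z₂.index := by
    rw [hZ₂card]
    exact (Nat.Prime.coprime_iff_not_dvd Nat.prime_two).2 hodd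
  obtain ⟨M₀, hM₀⟩ := Subgroup.exists_right_complement'_of_coprime hcop
  have hM₀card : Nat.card Z₂ * Nat.card M₀ = Nat.card C := hM₀.card_mul_card
  have hM₀idx : Nat.card M₀ = Z₂.index := by
    rw [← hidx, hZ₂card] at hM₀card
    omega
  set M : Subgroup G := M₀.map C.subtype with hM
  have hMcard : Nat.card M = Nat.card M₀ :=
    Subgroup.card_map_of_injective C.subtype_injective
  have hModd : ¬ 2 ∣ Nat.card M := by rw [hMcard, hM₀idx]; exact hodd
  have hMC : M ≤ C := Subgroup.map_subtype_le _
  have hpowM : ∀ g ∈ M, g ^ Nat.card M = 1 := by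
    intro g hg
    have h1 := pow_card_eq_one' (G := M) (x := ⟨g, hg⟩)
    have h2 := congrArg Subtype.val h1
    simpa only [Subgroup.coe_pow, Subgroup.coe_one, Subgroup.coe_mk] using h2
  have hNM : N ⊓ M = ⊥ := by
    rw [eq_bot_iff]
    intro g hg
    obtain ⟨hgN, hgM⟩ := Subgroup.mem_inf.1 hg
    have h2 := hNC g hgN (hMC hgM)
    have h3 := hpowM g hgM
    have h4 : orderOf g ∣ 2 := orderOf_dvd_of_pow_eq_one h2
    have h5 : orderOf g ∣ Nat.card M := orderOf_dvd_of_pow_eq_one h3
    have h6 : orderOf g = 1 := by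
      rcases (Nat.dvd_prime Nat.prime_two).1 h4 with h | h
      · exact h
      · rw [h] at h5; exact absurd h5 hModd
    rw [Subgroup.mem_bot]
    exact orderOf_eq_one_iff.1 h6
  refine ⟨M, hMC, hNM, ?_, ?_, ?_⟩
  · -- N ⊔ M = N ⊔ C
    apply le_antisymm (sup_le_sup_left hMC N)
    apply sup_le le_sup_left
    have h1 : C = (Z₂ ⊔ M₀).map C.subtype := by
      rw [hM₀.sup_eq_top, ← MonoidHom.range_eq_map, Subgroup.range_subtype]
    rw [h1, Subgroup.map_sup]
    apply sup_le _ le_sup_right
    refine le_trans ?_ (le_sup_left : N ≤ N ⊔ M)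
    rw [Subgroup.map_le_iff_le_comap, hZ₂, Subgroup.zpowers_le]
    exact hzN
  · -- coprime to 30
    have h3 : ¬ 3 ∣ Nat.card M := by
      intro h
      haveI : Fact (Nat.Prime 3) := ⟨by norm_num⟩
      obtain ⟨x, hx⟩ := exists_prime_orderOf_dvd_card' (G := M) 3 h
      have hx' : orderOf (x : G) = 3 := by rw [Subgroup.orderOf_coe]; exact hx
      have hxN : (x : G) ∈ N := by
        rw [hN]; exact Subgroup.subset_closure hx'
      have : (x : G) ∈ N ⊓ M := Subgroup.mem_inf.2 ⟨hxN, x.2⟩
      rw [hNM, Subgroup.mem_bot] at this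
      rw [this, orderOf_one] at hx'
      norm_num at hx'
    have h5 : ¬ 5 ∣ Nat.card M := by
      intro h
      haveI : Fact (Nat.Prime 5) := ⟨by norm_num⟩
      obtain ⟨x, hx⟩ := exists_prime_orderOf_dvd_card' (G := M) 5 h
      have hx' : orderOf (x : G) = 5 := by rw [Subgroup.orderOf_coe]; exact hx
      obtain ⟨y, hy⟩ := exists_prime_orderOf_dvd_card' (G := N) 5 (by rw [hcard]; norm_num)
      have hy' : orderOf (y : G) = 5 := by rw [Subgroup.orderOf_coe]; exact hy
      have hxy : (y : G) * x = x * y := (hCcomm x (hMC x.2) y y.2).symm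
      have hmem := S.mem_zpowers_of_commute hxy (hy'.trans hx'.symm)
      have hxN : (x : G) ∈ N := (Subgroup.zpowers_le.2 y.2) hmem
      have : (x : G) ∈ N ⊓ M := Subgroup.mem_inf.2 ⟨hxN, x.2⟩
      rw [hNM, Subgroup.mem_bot] at this
      rw [this, orderOf_one] at hx'
      norm_num at hx'
    have e30 : (30 : ℕ) = 2 * (3 * 5) := by norm_num
    rw [e30]
    apply Nat.Coprime.mul_right
    · exact ((Nat.Prime.coprime_iff_not_dvd Nat.prime_two).2 hModd).symm
    · apply Nat.Coprime.mul_right
      · exact ((Nat.Prime.coprime_iff_not_dvd (by norm_num : Nat.Prime 3)).2 h3).symm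
      · exact ((Nat.Prime.coprime_iff_not_dvd (by norm_num : Nat.Prime 5)).2 h5).symm
  · -- Sylow subgroups are cyclic
    intro q hq P
    set R : Subgroup G := (P : Subgroup M).map M.subtype with hR
    let e : (P : Subgroup M) ≃* R := Subgroup.equivMapOfInjective _ _ M.subtype_injective
    have hRp : IsPGroup q R := IsPGroup.of_equiv P.isPGroup' e
    have hcyc : IsCyclic R := by
      rcases Y3.sylow_cyclic_or_quaternion S q R hRp with h | ⟨-, n, ⟨φ⟩⟩
      · exact h
      · exfalso
        have h1 : Nat.card R = 4 * 2 ^ n := by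
          rw [Nat.card_congr φ.toEquiv, Nat.card_eq_fintype_card, QuaternionGroup.card]
        have h2 : Nat.card R ∣ Nat.card M := by
          rw [← Nat.card_congr e.toEquiv]
          exact Subgroup.card_subgroup_dvd_card _
        apply hModd
        refine dvd_trans ?_ h2
        rw [h1]
        exact Dvd.intro _ (by ring : 2 * (2 * 2 ^ n) = 4 * 2 ^ n)
    exact isCyclic_of_surjective e.symm e.symm.surjective

end Cfsg.Agent.Helper5.Zas
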