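import Mathlib
import Cfsg.Prelude.Def_Transfer

set_option autoImplicit false
set_option linter.style.haveILetI false
open Cfsg

/-! Transport of `IsSpecial` / `IsExtraspecial` along a group isomorphism, and normality of the
closure of a conjugation-stable set. -/

namespace Cfsg.Agent.Helper3.ExtraspecialEquiv

variable {P : Type*} {P' : Type*} [Group P] [Group P']

theorem map_center_equiv (e : P ≃* P') :
    (Subgroup.center P).map e.toMonoidHom = Subgroup.center P' := by
  ext x
  constructor
  · rintro ⟨c, hc, rfl⟩
    have hc := Subgroup.mem_center_iff.mp hc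
    rw [Subgroup.mem_center_iff]
    intro y
    obtain ⟨y', rfl⟩ := e.surjective y
    show e y' * e c = e c * e y'
    rw [← map_mul, ← map_mul, hc y']
  · intro hx
    have hx := Subgroup.mem_center_iff.mp hx
    refine ⟨e.symm x, Subgroup.mem_center_iff.mpr ?_, by simp⟩
    intro y
    apply e.injective
    rw [map_mul, map_mul, e.apply_symm_apply]
    exact hx (e y)

theorem map_frattini_equiv (e : P ≃* P') :
    (frattini P).map e.toMonoidHom = frattini P' :=
  OrderIso.map_radical (MulEquiv.mapSubgroup e)

theorem map_commutator_equiv (e : P ≃* P') :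
    (commutator P).map e.toMonoidHom = commutator P' := by
  rw [commutator_def, commutator_def, Subgroup.map_commutator]
  have h : (⊤ : Subgroup P).map e.toMonoidHom = ⊤ := by
    rw [← MonoidHom.range_eq_map, MonoidHom.range_eq_top]
    exact e.surjective
  rw [h]

theorem isSpecial_of_mulEquiv {p : ℕ} (e : P ≃* P') (h : IsSpecial p P) : IsSpecial p P' := by
  obtain ⟨h1, h2, h3⟩ := h
  refine ⟨h1.of_equiv e, ?_, ?_⟩
  · rw [← map_frattini_equiv e, ← map_center_equiv e, h2]
  · rw [← map_commutator_equiv e, ← map_center_equiv e, h3]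

theorem isExtraspecial_of_mulEquiv {p : ℕ} (e : P ≃* P') (h : IsExtraspecial p P) :
    IsExtraspecial p P' := by
  refine ⟨isSpecial_of_mulEquiv e h.1, ?_⟩
  rw [← h.2]
  exact (Nat.card_congr (Subgroup.centerCongr e).toEquiv).symm

/-- the closure of a conjugation-stable set is normal -/
theorem closure_normal_of_conj {G : Type*} [Group G] (S : Set G)
    (h : ∀ g : G, ∀ s ∈ S, g * s * g⁻¹ ∈ S) : (Subgroup.closure S).Normal := by
  constructor
  intro n hn g
  induction hn using Subgroup.closure_induction with
  | mem x hx => exact Subgroup.subset_closure (h g x hx)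
  | one => simp
  | mul x y _ _ ihx ihy =>
    have : g * (x * y) * g⁻¹ = (g * x * g⁻¹) * (g * y * g⁻¹) := by group
    rw [this]; exact Subgroup.mul_mem _ ihx ihy
  | inv x _ ih =>
    have : g * x⁻¹ * g⁻¹ = (g * x * g⁻¹)⁻¹ := by group
    rw [this]; exact Subgroup.inv_mem _ ih

end Cfsg.Agent.Helper3.ExtraspecialEquiv
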