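import Mathlib
import Cfsg.Prelude.Def_GeometricClasses
import Cfsg.Agent.Helper3.OC2.Defs

set_option autoImplicit false

/-! # S5692 / S5694, chapter TRANSPORT, piece STABREIDX: decompositionStabilizer under `glReindex`. -/

namespace Cfsg.Agent.OC2P

open Matrix Cfsg.Geo

variable {F : Type*} [Field F] {t k n : ℕ}

theorem STABREIDX.map_toLin {κ ι : Type} [Fintype κ] [DecidableEq κ] [Fintype ι] [DecidableEq ι]
    (e : κ ≃ ι) (g : GL κ F) (W : Submodule F (κ → F)) :
    ((W.map (LinearEquiv.funCongrLeft F F e.symm).toLinearMap).map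
        (Matrix.toLin' ((glReindex e g : GL ι F) : Matrix ι ι F))) =
      (W.map (Matrix.toLin' (g : Matrix κ κ F))).map
        (LinearEquiv.funCongrLeft F F e.symm).toLinearMap := by
  ext y
  simp only [Submodule.mem_map, LinearEquiv.coe_coe, Matrix.toLin'_apply, exists_exists_and_eq_and]
  constructor
  · rintro ⟨x, hx, rfl⟩
    refine ⟨x, hx, ?_⟩
    rw [Cfsg.Agent.S5702P.REDUCE.glReindex_mulVec]
    funext i
    simp [LinearEquiv.funCongrLeft_apply, Function.comp_def]
  · rintro ⟨x, hx, rfl⟩
    refine ⟨x, hx, ?_⟩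
    rw [Cfsg.Agent.S5702P.REDUCE.glReindex_mulVec]
    funext i
    simp [LinearEquiv.funCongrLeft_apply, Function.comp_def]

theorem STABREIDX.map_reindex {κ ι : Type} [Fintype κ] [DecidableEq κ] [Fintype ι] [DecidableEq ι]
    (e : κ ≃ ι) (D₀ : Fin t → Submodule F (κ → F)) :
    (decompositionStabilizer D₀).map (glReindex e).toMonoidHom =
      decompositionStabilizer
        (fun i => (D₀ i).map (LinearEquiv.funCongrLeft F F e.symm).toLinearMap) := by
  have hinj : Function.Injective
      (Submodule.map (LinearEquiv.funCongrLeft F F e.symm).toLinearMap :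
        Submodule F (κ → F) → Submodule F (ι → F)) :=
    Submodule.map_injective_of_injective (LinearEquiv.funCongrLeft F F e.symm).injective
  ext g
  obtain ⟨h, rfl⟩ := (glReindex (F := F) e).surjective g
  have h1 : (glReindex (F := F) e).toMonoidHom h ∈
      (decompositionStabilizer D₀).map (glReindex e).toMonoidHom ↔
      h ∈ decompositionStabilizer D₀ :=
    Subgroup.mem_map_iff_mem (glReindex (F := F) e).injective
  refine h1.trans ?_
  constructor
  · rintro ⟨σ, hσ⟩
    refine ⟨σ, fun i => ?_⟩
    show ((D₀ i).map _).map (Matrix.toLin' ((glReindex e h : GL ι F) : Matrix ι ι F)) = _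
    rw [STABREIDX.map_toLin, hσ i]
  · rintro ⟨σ, hσ⟩
    refine ⟨σ, fun i => ?_⟩
    apply hinj
    have := hσ i
    rw [← STABREIDX.map_toLin]
    exact this

end Cfsg.Agent.OC2P
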