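import Mathlib
import Cfsg.Prelude.Def_GeometricClasses
import Cfsg.Agent.Helper3.OC2.Defs
import Cfsg.Agent.Helper5.OC2TSTABCONJ
import Cfsg.Agent.Helper3.OC2TSTABREIDX

set_option autoImplicit false

/-! # S5692 / S5694, chapter TRANSPORT, piece TMAX: maximality transports from the block model. -/

namespace Cfsg.Agent.OC2P

open Matrix Cfsg.Geo

variable {F : Type*} [Field F] {t k n : ℕ}

theorem TMAX.main (Q : (Fin n → F) → F) (q : (Fin k → F) → F) (e : Fin t × Fin k ≃ Fin n)
    (P : GL (Fin n) F)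
    (hP : ∀ x : Fin n → F, Q ((P : Matrix (Fin n) (Fin n) F) *ᵥ x) = Qblk t q (x ∘ e))
    (D : Fin t → Submodule F (Fin n → F))
    (hPD : ∀ i, D i = ((Dblk F t k i).map (LinearEquiv.funCongrLeft F F e.symm).toLinearMap).map
      (Matrix.toLin' (P : Matrix (Fin n) (Fin n) F)))
    (hmax : IsMaximalIn (omegaGL (Qblk t q))
      (decompositionStabilizer (Dblk F t k) ⊓ omegaGL (Qblk t q))) :
    IsMaximalIn (omegaGL Q) (decompositionStabilizer D ⊓ omegaGL Q) := by
  -- step 1: reindex
  have h1 := Cfsg.Agent.S5702P.REDUCE.isMaximalIn_map_equiv (glReindex (F := F) e) _ _ hmax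
  rw [Subgroup.map_inf (decompositionStabilizer (Dblk F t k)) (omegaGL (Qblk t q))
      (glReindex (F := F) e).toMonoidHom (glReindex (F := F) e).injective,
    Cfsg.Agent.S5702P.REDUCE.map_glReindex_omegaGL e (Qblk t q), STABREIDX.map_reindex e] at h1
  -- step 2: conjugate
  have h2 := Cfsg.Agent.S5702P.REDUCE.isMaximalIn_map_equiv (MulAut.conj P) _ _ h1
  have hP' : ∀ x : Fin n → F, Q ((P : Matrix (Fin n) (Fin n) F) *ᵥ x) =
      1 * (fun x : Fin n → F => Qblk t q (x ∘ e)) x := by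
    intro x; rw [one_mul]; exact hP x
  rw [Subgroup.map_inf _ _ (MulAut.conj P).toMonoidHom (MulAut.conj P).injective,
    Cfsg.Agent.S5702P.REDUCE.map_conj_omegaGL₂ Q (fun x : Fin n → F => Qblk t q (x ∘ e)) P 1
      one_ne_zero hP', STABCONJ.map_conj P] at h2
  have hD : D = fun i => ((Dblk F t k i).map
      (LinearEquiv.funCongrLeft F F e.symm).toLinearMap).map
      (Matrix.toLin' (P : Matrix (Fin n) (Fin n) F)) := funext hPD
  rw [hD]
  exact h2

end Cfsg.Agent.OC2P
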