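import Mathlib
import Cfsg.Prelude.Def_GeometricClasses
import Cfsg.Agent.Helper3.OC2.Defs
import Cfsg.Agent.Helper23.OC2TISOPLUS
import Cfsg.Agent.Helper5.OC2TISODISC
import Cfsg.Agent.Helper13.OC2TBLKPLUS
import Cfsg.Agent.Helper3.OC2TTMAX
import Cfsg.Agent.Helper12.OC2TMODEL

set_option autoImplicit false

/-! # S5692 / S5694, chapter TRANSPORT, pieces OFBLK94 / OFBLK92: the frozen statements from the block model. -/

namespace Cfsg.Agent.OC2P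

open Matrix Cfsg.Geo

variable {F : Type*} [Field F] {t k n : ℕ}

/-- the common part: the block model of `(Q, D)` with all transported invariants -/
theorem OFBLK.model {Q : (Fin n → F) → F} (hQ : IsNondegenerateQuadraticForm Q)
    {D : Fin t → Submodule F (Fin n → F)} (hD : IsOrthogonalMDecomposition Q k D) :
    ∃ q : (Fin k → F) → F, IsNondegenerateQuadraticForm q ∧ n = t * k ∧ 2 ≤ t ∧
      (IsPlusTypeOn Q ⊤ ↔ IsPlusTypeOn (Qblk t q) ⊤) ∧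
      (HasSquareDiscriminant Q ↔ HasSquareDiscriminant (Qblk t q)) ∧
      (∀ i, IsPlusTypeOn Q (D i) ↔ IsPlusTypeOn q ⊤) ∧
      (IsMaximalIn (omegaGL (Qblk t q))
          (decompositionStabilizer (Dblk F t k) ⊓ omegaGL (Qblk t q)) →
        IsMaximalIn (omegaGL Q) (decompositionStabilizer D ⊓ omegaGL Q)) := by
  obtain ⟨q, e, P, hq, hP, hPD⟩ := MODEL.exists hQ hD
  refine ⟨q, hq, ?_, hD.decomp.decomp.two_le, ISOPLUS.top e P hP, ISODISC.main e P hP hQ, ?_,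
    TMAX.main Q q e P hP D hPD⟩
  · have := Fintype.card_congr e
    simpa using this.symm
  · intro i
    rw [hPD i, ISOPLUS.main e P hP (Dblk F t k i), BLKPLUS.main q hq i]

theorem OFBLK94.main [Fintype F]
    (hblk : ∀ (t k : ℕ) (q : (Fin k → F) → F), IsNondegenerateQuadraticForm q → 13 ≤ t * k →
      Even (t * k) → 2 ≤ k → 2 ≤ t → ¬ IsPlusTypeOn (Qblk t q) ⊤ →
      (Odd k → (Odd (Fintype.card F) ∧ HasSquareDiscriminant (Qblk t q))) →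
      (Even k → (Odd t ∧ ¬ IsPlusTypeOn q ⊤)) →
      ¬ (Fintype.card F = 3 ∧ (k = 2 ∨ k = 3)) →
      IsMaximalIn (omegaGL (Qblk t q)) (decompositionStabilizer (Dblk F t k) ⊓ omegaGL (Qblk t q)))
    {n : ℕ} (hn : 13 ≤ n) (heven : Even n) (Q : (Fin n → F) → F)
    (hQ : Cfsg.Geo.IsNondegenerateQuadraticForm Q) (hminus : ¬ Cfsg.Geo.IsPlusTypeOn Q ⊤) {t : ℕ}
    (k : ℕ) (hk : 2 ≤ k) (D : Fin t → Submodule F (Fin n → F))
    (hD : Cfsg.Geo.IsOrthogonalMDecomposition Q k D)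
    (hko : Odd k → (Odd (Fintype.card F) ∧ Cfsg.Geo.HasSquareDiscriminant Q))
    (hke : Even k → (Odd t ∧ ∀ i, ¬ Cfsg.Geo.IsPlusTypeOn Q (D i)))
    (hex : ¬ (Fintype.card F = 3 ∧ (k = 2 ∨ k = 3))) :
    Cfsg.Geo.IsMaximalIn (Cfsg.Geo.omegaGL Q)
      (Cfsg.Geo.decompositionStabilizer D ⊓ Cfsg.Geo.omegaGL Q) := by
  obtain ⟨q, hq, hntk, ht2, hplus, hdisc, hblkp, hmax⟩ := OFBLK.model hQ hD
  subst hntk
  apply hmax
  have i0 : Fin t := ⟨0, by omega⟩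
  refine hblk t k q hq hn heven hk ht2 (fun h => hminus (hplus.2 h))
    (fun hodd => ⟨(hko hodd).1, hdisc.1 (hko hodd).2⟩)
    (fun hev => ⟨(hke hev).1, fun h => (hke hev).2 i0 ((hblkp i0).2 h)⟩) hex

theorem OFBLK92.main [Fintype F]
    (hblk : ∀ (t k : ℕ) (q : (Fin k → F) → F), IsNondegenerateQuadraticForm q → 13 ≤ t * k →
      Even (t * k) → 2 ≤ k → 2 ≤ t → IsPlusTypeOn (Qblk t q) ⊤ →
      (Even k → (IsPlusTypeOn q ⊤ ∨ Even t)) →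
      (Odd k → (Odd (Fintype.card F) ∧ HasSquareDiscriminant (Qblk t q))) →
      ¬ ((k = 2 ∧ (Fintype.card F = 3 ∨ (IsPlusTypeOn q ⊤ ∧
          (Fintype.card F = 2 ∨ Fintype.card F = 4 ∨ Fintype.card F = 5)))) ∨
        (k = 3 ∧ Fintype.card F = 3) ∨ (k = 4 ∧ Fintype.card F = 2 ∧ IsPlusTypeOn q ⊤)) →
      IsMaximalIn (omegaGL (Qblk t q)) (decompositionStabilizer (Dblk F t k) ⊓ omegaGL (Qblk t q)))
    {n : ℕ} (hn : 13 ≤ n) (heven : Even n) (Q : (Fin n → F) → F)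
    (hQ : Cfsg.Geo.IsNondegenerateQuadraticForm Q) (hplus : Cfsg.Geo.IsPlusTypeOn Q ⊤) {t : ℕ} (k : ℕ)
    (hk : 2 ≤ k) (D : Fin t → Submodule F (Fin n → F))
    (hD : Cfsg.Geo.IsOrthogonalMDecomposition Q k D)
    (hke : Even k → ((∀ i, Cfsg.Geo.IsPlusTypeOn Q (D i)) ∨ Even t))
    (hko : Odd k → (Odd (Fintype.card F) ∧ Cfsg.Geo.HasSquareDiscriminant Q))
    (hex : ¬ ((k = 2 ∧ (Fintype.card F = 3 ∨ ((∀ i, Cfsg.Geo.IsPlusTypeOn Q (D i)) ∧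
        (Fintype.card F = 2 ∨ Fintype.card F = 4 ∨ Fintype.card F = 5)))) ∨
      (k = 3 ∧ Fintype.card F = 3) ∨
      (k = 4 ∧ Fintype.card F = 2 ∧ ∀ i, Cfsg.Geo.IsPlusTypeOn Q (D i)))) :
    Cfsg.Geo.IsMaximalIn (Cfsg.Geo.omegaGL Q)
      (Cfsg.Geo.decompositionStabilizer D ⊓ Cfsg.Geo.omegaGL Q) := by
  obtain ⟨q, hq, hntk, ht2, hpl, hdisc, hblkp, hmax⟩ := OFBLK.model hQ hD
  subst hntk
  apply hmax
  have i0 : Fin t := ⟨0, by omega⟩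
  have hall : (∀ i, IsPlusTypeOn Q (D i)) ↔ IsPlusTypeOn q ⊤ :=
    ⟨fun h => (hblkp i0).1 (h i0), fun h i => (hblkp i).2 h⟩
  refine hblk t k q hq hn heven hk ht2 (hpl.1 hplus)
    (fun hev => (hke hev).imp hall.1 id)
    (fun hodd => ⟨(hko hodd).1, hdisc.1 (hko hodd).2⟩) ?_
  intro hcon
  apply hex
  rcases hcon with ⟨hk2, h3 | ⟨hqp, hc⟩⟩ | h33 | ⟨hk4, hc2, hqp⟩
  · exact Or.inl ⟨hk2, Or.inl h3⟩
  · exact Or.inl ⟨hk2, Or.inr ⟨hall.2 hqp, hc⟩⟩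
  · exact Or.inr (Or.inl h33)
  · exact Or.inr (Or.inr ⟨hk4, hc2, hall.2 hqp⟩)

end Cfsg.Agent.OC2P
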