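import Mathlib
import Cfsg.Agent.Helper7.K2M.Defs2
import Cfsg.Agent.Helper4.K2MQB
import Cfsg.Agent.Helper19.K2MUNIV
import Cfsg.Agent.Helper19.K2MOMEGA

set_option autoImplicit false
set_option linter.unusedSectionVars false
set_option linter.unusedVariables false

/-! # S5694, `k = 2` minus blocks (designer helper7), chapter SIEGEL, piece S-CHANGEB (helper3):
the block vector related to `a` can be taken in any block; `InA` is invariant under `H ∩ StabD`. -/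

namespace Cfsg.Agent.K2M

open Matrix Cfsg.Agent.OC2P Cfsg.Agent.Helper28.Sg Cfsg.Agent.Helper28.Spin
  Cfsg.Agent.Helper12.OrthGen

variable {F : Type*} [Field F] [Fintype F] {t : ℕ} {Q : QuadraticForm F (Fin t × Fin 2 → F)}
  {q : QuadraticForm F (Fin 2 → F)}

theorem SCHANGEB.main (bm : BM Q q) (ht : 3 ≤ t) {H : Subgroup (OG Q)} (hH : HasMO H)
    {a : Fin t × Fin 2 → F} (ha : InA H a) (l : Fin t) :
    ∃ (y : Fin 2 → F) (ha' : Q a ≠ 0) (hb : Q (binj l y) ≠ 0), q y = Q a ∧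
      reflO Q a ha' * reflO Q (binj l y) hb ∈ H := by
  obtain ⟨b, ha', hb, ⟨l₀, hbl₀⟩, hQab, hmem⟩ := ha
  have hb_eq : b = binj l₀ (bproj l₀ b) := QB.mem_Dblk_iff'.mp hbl₀
  obtain ⟨y, hy⟩ := UNIV.main bm ha'
  have hQy : Q (binj l y) = q y := QB.Q_binj bm l y
  have hby : Q (binj l y) ≠ 0 := by rw [hQy, hy]; exact ha'
  refine ⟨y, ha', hby, hy, ?_⟩
  have hQb0 : Q (binj l₀ (bproj l₀ b)) ≠ 0 := by rw [← hb_eq]; exact hb
  have hqb : q (bproj l₀ b) = Q b := by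
    rw [← QB.Q_binj bm l₀ (bproj l₀ b), ← hb_eq]
  have hpair : reflO Q (binj l₀ (bproj l₀ b)) hQb0 * reflO Q (binj l y) hby ∈ H := by
    apply OMEGA.pair_mem bm ht hH
    rw [hqb, ← hQab, hy]
    exact ⟨Q a, rfl⟩
  have hrefl : reflO Q (binj l₀ (bproj l₀ b)) hQb0 = reflO Q b hb := by
    congr 1
    exact hb_eq.symm
  rw [hrefl] at hpair
  have hprod := H.mul_mem hmem hpair
  have heq : reflO Q a ha' * reflO Q b hb * (reflO Q b hb * reflO Q (binj l y) hby)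
      = reflO Q a ha' * reflO Q (binj l y) hby := by
    rw [mul_assoc, ← mul_assoc (reflO Q b hb), reflO_mul_self, one_mul]
  rw [heq] at hprod
  exact hprod

/-- `InA` is invariant under the elements of `H` permuting the blocks -/
theorem SCHANGEB.conj (bm : BM Q q) {H : Subgroup (OG Q)} {a : Fin t × Fin 2 → F} (ha : InA H a)
    {h : OG Q} (hh : h ∈ H) (hs : StabD Q h) : InA H (mt Q h *ᵥ a) := by
  obtain ⟨b, ha', hb, ⟨l₀, hbl₀⟩, hQab, hmem⟩ := ha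
  have hQa : Q (mt Q h *ᵥ a) = Q a := Q_isom h a
  have hQb : Q (mt Q h *ᵥ b) = Q b := Q_isom h b
  have ha2 : Q (mt Q h *ᵥ a) ≠ 0 := by rw [hQa]; exact ha'
  have hb2 : Q (mt Q h *ᵥ b) ≠ 0 := by rw [hQb]; exact hb
  refine ⟨mt Q h *ᵥ b, ha2, hb2, ?_, ?_, ?_⟩
  · obtain ⟨σ, hσ⟩ := hs
    refine ⟨σ l₀, ?_⟩
    rw [← hσ l₀]
    refine ⟨b, hbl₀, ?_⟩
    rw [Matrix.toLin'_apply]
  · rw [hQa, hQb, hQab]
  · have e1 : reflO Q (mt Q h *ᵥ a) ha2 = h * reflO Q a ha' * h⁻¹ := reflO_conj Q h a ha' ha2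
    have e2 : reflO Q (mt Q h *ᵥ b) hb2 = h * reflO Q b hb * h⁻¹ := reflO_conj Q h b hb hb2
    rw [e1, e2]
    have e3 : h * reflO Q a ha' * h⁻¹ * (h * reflO Q b hb * h⁻¹)
        = h * (reflO Q a ha' * reflO Q b hb) * h⁻¹ := by group
    rw [e3]
    exact H.mul_mem (H.mul_mem hh hmem) (H.inv_mem hh)

end Cfsg.Agent.K2M
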