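import Cfsg.Agent.Helper3.S0745CARDLcore
import Cfsg.Agent.Helper9.S0745CARDSS

/-! # S0745 board, row CARDL -/

set_option autoImplicit false

namespace Cfsg.Agent.S0745P

open Equiv

variable {α : Type*} [Fintype α] [DecidableEq α]

/-- CARDL -/
theorem card_L {G : Subgroup (Perm α)} {t c r : ℕ} (h : Hyp G t c r) (Δ : Finset α)
    (hΔ : Δ.card = t + 1) : Nat.card (SS G Δ) * r = (t + 1).factorial :=
  card_L_aux_core h Δ (card_SS_mul G (t + 1) h.hom1 Δ hΔ)

end Cfsg.Agent.S0745P
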