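import Mathlib
import Cfsg.Agent.Helper14.S2481.Defs
import Cfsg.Agent.Helper18.S2481TILDE
import Cfsg.Agent.Helper8.S2481DESCENT
import Cfsg.Agent.Helper11.S2481CARDU1

/-!
# S2481, piece COUNTSD: the number of self dual monic polynomials
-/

set_option autoImplicit false
set_option linter.unusedVariables false

namespace Cfsg.Agent.S2481P

open Polynomial DirectSum Matrix Cfsg.Agent.S2478P Cfsg.Agent.S2479P

universe u

namespace COUNTSD

section aux

variable {F : Type u} [Field F] {σ : F →+* F}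

/-- the semilinear involution on the middle coefficients -/
def tau (σ : F →+* F) (c : F) (b : ℕ) (v : Fin b → F) : Fin b → F :=
  fun j => c * σ (v (Fin.rev j))

theorem tau_add (c : F) (b : ℕ) (v w : Fin b → F) :
    tau σ c b (v + w) = tau σ c b v + tau σ c b w := by
  funext j
  simp only [tau, Pi.add_apply, map_add]
  ring

theorem tau_smul (c : F) (b : ℕ) (d : F) (v : Fin b → F) :
    tau σ c b (d • v) = σ d • tau σ c b v := by
  funext j
  simp only [tau, Pi.smul_apply, smul_eq_mul, map_mul]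
  ring

theorem tau_tau (hσ : IsInvol σ) {c : F} (hc : c * σ c = 1) (b : ℕ) (v : Fin b → F) :
    tau σ c b (tau σ c b v) = v := by
  funext j
  simp only [tau, map_mul, hσ.sq, Fin.rev_rev]
  rw [← mul_assoc, hc, one_mul]

/-- monic polynomials of degree `b + 1` ≃ coefficient vectors -/
noncomputable def e0 (F : Type u) [Field F] (b : ℕ) :
    {f : F[X] // f.Monic ∧ f.natDegree = b + 1} ≃ (Fin (b + 1) → F) :=
  (Polynomial.monicEquivDegreeLT (b + 1)).trans (Polynomial.degreeLTEquiv F (b + 1)).toEquiv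

theorem e0_apply (b : ℕ) (f : {f : F[X] // f.Monic ∧ f.natDegree = b + 1}) (i : Fin (b + 1)) :
    e0 F b f i = f.1.coeff i := by
  show (f.1.eraseLead).coeff (i : ℕ) = f.1.coeff i
  rw [Polynomial.eraseLead_coeff_of_ne]
  rw [f.2.2]
  exact i.2.ne

theorem sigma_c {c : F} (hc : c * σ c = 1) : (σ c)⁻¹ = c := by
  have h0 : σ c ≠ 0 := right_ne_zero_of_mul_eq_one hc
  field_simp
  rw [mul_comm]
  exact hc.symm

theorem c_ne {c : F} (hc : c * σ c = 1) : c ≠ 0 := left_ne_zero_of_mul_eq_one hc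

/-- the forward map -/
theorem fixed_of_sd {c : F} (hc : c * σ c = 1) (b : ℕ) {f : F[X]} (hfm : f.Monic)
    (hfd : f.natDegree = b + 1) (hft : tilde σ f = f) (hf0 : f.coeff 0 = c) :
    tau σ c b (fun j : Fin b => f.coeff ((j : ℕ) + 1)) = fun j : Fin b => f.coeff ((j : ℕ) + 1) := by
  funext j
  have hf0' : f.coeff 0 ≠ 0 := by rw [hf0]; exact c_ne hc
  have h1 := tilde_coeff σ hf0' (i := (j : ℕ) + 1) (by rw [hfd]; omega)
  rw [hft, hf0, sigma_c hc, hfd] at h1
  show c * σ (f.coeff (((Fin.rev j : Fin b) : ℕ) + 1)) = f.coeff ((j : ℕ) + 1)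
  rw [h1, Fin.val_rev]
  congr 3
  omega

/-- the backward map -/
theorem sd_of_fixed (hσ : IsInvol σ) {c : F} (hc : c * σ c = 1) (b : ℕ) {f : F[X]} (hfm : f.Monic)
    (hfd : f.natDegree = b + 1) (hf0 : f.coeff 0 = c)
    (hfix : ∀ j : Fin b, c * σ (f.coeff (((Fin.rev j : Fin b) : ℕ) + 1)) = f.coeff ((j : ℕ) + 1)) :
    tilde σ f = f := by
  have hf0' : f.coeff 0 ≠ 0 := by rw [hf0]; exact c_ne hc
  have hd := tilde_natDegree σ hf0'
  ext i
  by_cases hi : i ≤ f.natDegree
  · rw [tilde_coeff σ hf0' hi, hf0, sigma_c hc, hfd]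
    rw [hfd] at hi
    rcases Nat.eq_zero_or_pos i with rfl | hipos
    · rw [Nat.sub_zero, hf0]
      have : f.coeff (b + 1) = 1 := by
        have := hfm.coeff_natDegree
        rwa [hfd] at this
      rw [this, map_one, mul_one]
    · rcases Nat.lt_or_ge i (b + 1) with hlt | hge
      · obtain ⟨j, rfl⟩ : ∃ j, i = j + 1 := ⟨i - 1, by omega⟩
        have hj : j < b := by omega
        have := hfix ⟨j, hj⟩
        rw [Fin.val_rev] at this
        simp only at this
        rw [← this]
        congr 3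
        omega
      · have hib : i = b + 1 := by omega
        subst hib
        rw [Nat.sub_self, hf0, hc]
        have := hfm.coeff_natDegree
        rw [hfd] at this
        exact this.symm
  · have hi' : f.natDegree < i := not_le.mp hi
    rw [coeff_eq_zero_of_natDegree_lt (by rw [hd]; exact hi'),
      coeff_eq_zero_of_natDegree_lt hi']

/-- the bijection -/
noncomputable def sdEquiv (hσ : IsInvol σ) {c : F} (hc : c * σ c = 1) (b : ℕ) :
    {f : F[X] // f.Monic ∧ f.natDegree = b + 1 ∧ tilde σ f = f ∧ f.coeff 0 = c} ≃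
      {v : Fin b → F // tau σ c b v = v} := by
  refine Equiv.ofBijective
    (fun f => ⟨fun j : Fin b => f.1.coeff ((j : ℕ) + 1),
      fixed_of_sd hc b f.2.1 f.2.2.1 f.2.2.2.1 f.2.2.2.2⟩) ⟨?_, ?_⟩
  · rintro ⟨f, hfm, hfd, hft, hf0⟩ ⟨g, hgm, hgd, hgt, hg0⟩ hfg
    apply Subtype.ext
    show f = g
    have hfg' : ∀ j : Fin b, f.coeff ((j : ℕ) + 1) = g.coeff ((j : ℕ) + 1) := by
      intro j
      exact congrFun (congrArg Subtype.val hfg) j
    ext i
    rcases Nat.eq_zero_or_pos i with rfl | hipos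
    · rw [hf0, hg0]
    · rcases Nat.lt_or_ge i (b + 1) with hlt | hge
      · obtain ⟨j, rfl⟩ : ∃ j, i = j + 1 := ⟨i - 1, by omega⟩
        exact hfg' ⟨j, by omega⟩
      · rcases Nat.eq_or_lt_of_le hge with heq | hgt'
        · subst heq
          have h1 := hfm.coeff_natDegree
          have h2 := hgm.coeff_natDegree
          rw [hfd] at h1
          rw [hgd] at h2
          rw [h1, h2]
        · rw [coeff_eq_zero_of_natDegree_lt (by rw [hfd]; exact hgt'),
            coeff_eq_zero_of_natDegree_lt (by rw [hgd]; exact hgt')]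
  · rintro ⟨v, hv⟩
    set w : Fin (b + 1) → F := Fin.cons c v with hw
    set f := (e0 F b).symm w with hf
    have hco : ∀ i : Fin (b + 1), f.1.coeff i = w i := by
      intro i
      rw [← e0_apply b f i, hf, Equiv.apply_symm_apply]
    have hf0 : f.1.coeff 0 = c := by
      have := hco 0
      rw [Fin.val_zero] at this
      rw [this, hw, Fin.cons_zero]
    have hfj : ∀ j : Fin b, f.1.coeff ((j : ℕ) + 1) = v j := by
      intro j
      have := hco j.succ
      rw [Fin.val_succ] at this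
      rw [this, hw, Fin.cons_succ]
    have hfix : ∀ j : Fin b,
        c * σ (f.1.coeff (((Fin.rev j : Fin b) : ℕ) + 1)) = f.1.coeff ((j : ℕ) + 1) := by
      intro j
      rw [hfj, hfj]
      exact congrFun hv j
    refine ⟨⟨f.1, f.2.1, f.2.2, sd_of_fixed hσ hc b f.2.1 f.2.2 hf0 hfix, hf0⟩, ?_⟩
    apply Subtype.ext
    funext j
    exact hfj j

end aux

end COUNTSD

section counting

variable {F : Type u} [Field F] [Fintype F] {σ : F →+* F}

open COUNTSD

-- piece COUNTSD (uses DESCENT, TILDE; three statements)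
theorem card_sd_fixed (hσ : IsInvol σ) (q : ℕ) (hF : Fintype.card F = q ^ 2) (a : ℕ) (ha : 1 ≤ a)
    (c : F) (hc : c * σ c = 1) :
    Nat.card {f : F[X] // f.Monic ∧ f.natDegree = a ∧ tilde σ f = f ∧ f.coeff 0 = c} =
      q ^ (a - 1) := by
  obtain ⟨b, rfl⟩ : ∃ b, a = b + 1 := ⟨a - 1, by omega⟩
  rw [Nat.add_sub_cancel, Nat.card_congr (sdEquiv hσ hc b)]
  have h := card_fixed_sq hσ (V := Fin b → F) (tau σ c b) (tau_add c b) (tau_smul c b)
    (tau_tau hσ hc b)
  rw [Nat.card_fun, Nat.card_eq_fintype_card (α := F), Nat.card_eq_fintype_card (α := Fin b),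
    Fintype.card_fin, hF, ← pow_mul, mul_comm, pow_mul] at h
  exact Nat.pow_left_injective (by norm_num : 2 ≠ 0) h

namespace COUNTSD

/-- the type of self dual monic polynomials of degree `a` -/
abbrev SD (σ : F →+* F) (a : ℕ) : Type u :=
  {f : F[X] // f.Monic ∧ f.natDegree = a ∧ f.coeff 0 ≠ 0 ∧ tilde σ f = f}

/-- the constant term, as a norm one unit -/
noncomputable def c0 (σ : F →+* F) (a : ℕ) (f : SD σ a) : U1 σ :=
  ⟨Units.mk0 (f.1.coeff 0) f.2.2.2.1, by
    rw [mem_U1]
    exact coeff_zero_of_tilde_eq σ f.2.1 f.2.2.2.1 f.2.2.2.2⟩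

/-- the fibre of `c0` -/
noncomputable def fibreEquiv (σ : F →+* F) (a : ℕ) (c : U1 σ) :
    {f : SD σ a // c0 σ a f = c} ≃
      {f : F[X] // f.Monic ∧ f.natDegree = a ∧ tilde σ f = f ∧ f.coeff 0 = ((c : Fˣ) : F)} where
  toFun f := ⟨f.1.1, f.1.2.1, f.1.2.2.1, f.1.2.2.2.2,
    congrArg (fun z : U1 σ => ((z : Fˣ) : F)) f.2⟩
  invFun f := ⟨⟨f.1, f.2.1, f.2.2.1, by rw [f.2.2.2.2]; exact Units.ne_zero _, f.2.2.2.1⟩, by
    apply Subtype.ext
    apply Units.ext
    exact f.2.2.2.2⟩
  left_inv f := rfl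
  right_inv f := rfl

end COUNTSD

theorem card_sd_monic (hσ : IsInvol σ) (q : ℕ) (hF : Fintype.card F = q ^ 2)
    (hσq : ∀ x, σ x = x ^ q) (a : ℕ) :
    Nat.card {f : F[X] // f.Monic ∧ f.natDegree = a ∧ f.coeff 0 ≠ 0 ∧ tilde σ f = f} = NU q a := by
  rcases Nat.eq_zero_or_pos a with rfl | ha
  · have hN : NU q 0 = 1 := by simp [NU]
    rw [hN]
    have : Unique {f : F[X] // f.Monic ∧ f.natDegree = 0 ∧ f.coeff 0 ≠ 0 ∧ tilde σ f = f} :=
      { default := ⟨1, Polynomial.monic_one, Polynomial.natDegree_one, by simp, tilde_one σ⟩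
        uniq := fun f => by
          apply Subtype.ext
          exact Polynomial.eq_one_of_monic_natDegree_zero f.2.1 f.2.2.1 }
    exact Nat.card_unique
  · have hN : NU q a = (q + 1) * q ^ (a - 1) := by
      obtain ⟨b, rfl⟩ : ∃ b, a = b + 1 := ⟨a - 1, by omega⟩
      simp only [NU, Nat.add_sub_cancel, Nat.succ_ne_zero, if_false]
      ring
    rw [hN]
    classical
    have : Fintype (U1 σ) := Fintype.ofFinite _
    have hfin : ∀ c : U1 σ, Finite {f : SD σ a // c0 σ a f = c} := by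
      intro c
      apply Nat.finite_of_card_ne_zero
      rw [Nat.card_congr (fibreEquiv σ a c), card_sd_fixed hσ q hF a ha _ ((mem_U1 σ _).1 c.2)]
      have hq : 0 < q := by
        rcases Nat.eq_zero_or_pos q with rfl | h
        · have : 0 < Fintype.card F := Fintype.card_pos
          rw [hF] at this
          norm_num at this
        · exact h
      exact (pow_pos hq _).ne'
    show Nat.card (SD σ a) = _
    rw [Nat.card_congr (Equiv.sigmaFiberEquiv (c0 σ a)).symm, Nat.card_sigma]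
    have : ∀ c : U1 σ, Nat.card {f : SD σ a // c0 σ a f = c} = q ^ (a - 1) := by
      intro c
      rw [Nat.card_congr (fibreEquiv σ a c), card_sd_fixed hσ q hF a ha _ ((mem_U1 σ _).1 c.2)]
    rw [Finset.sum_congr rfl (fun c _ => this c), Finset.sum_const, Finset.card_univ,
      ← Nat.card_eq_fintype_card, card_U1 q hF hσq, smul_eq_mul]

theorem card_sd1 (hσ : IsInvol σ) (q : ℕ) (hF : Fintype.card F = q ^ 2) (n : ℕ) (hn : 1 ≤ n) :
    Nat.card {f : F[X] // f.Monic ∧ f.natDegree = n ∧ tilde σ f = f ∧ f.coeff 0 = (-1) ^ n} =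
      q ^ (n - 1) := by
  apply card_sd_fixed hσ q hF n hn
  rw [map_pow, map_neg, map_one, ← mul_pow]
  norm_num

end counting

end Cfsg.Agent.S2481P
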