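import Mathlib
import Cfsg.Prelude.Def_ClassicalGeometry
import Cfsg.Agent.Helper17.S2482GDefs

/-! # S2482 chapter (G), piece SPOFSP: the space of a symplectic matrix, and its kernel dimensions -/

set_option autoImplicit false

namespace Cfsg.Agent.S2482P

open Polynomial Cfsg.Agent.Helper2.SympInvol Cfsg.Agent.S5955P Cfsg.Agent.S5961P Cfsg.Agent.S2676P
  Cfsg.Agent.S2478P Cfsg.Agent.S2481P

universe u

variable {F : Type u} [Field F]

namespace SPOFSP

theorem isSp_ofSp {n : ℕ} (g : Matrix.symplecticGroup (Fin n) F) : (ofSp g).IsSp := by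
  refine ⟨?_, ?_, ?_, ?_⟩
  · exact sB_alt n F
  · exact sB_nondeg n F
  · exact sB_isometry n F g
  · exact pow_zero _

/-- `aeval` at a power of a linear polynomial -/
theorem aeval_pow {V : Type*} [AddCommGroup V] [Module F V] (φ : Module.End F V) (c : F) (k : ℕ) :
    Polynomial.aeval φ ((X - C c) ^ k) = (φ - algebraMap F (Module.End F V) c) ^ k := by
  rw [map_pow, map_sub, aeval_X, aeval_C]

/-- intertwined endomorphisms have kernels of the same dimension -/
theorem finrank_ker_pow_eq {V W : Type*} [AddCommGroup V] [Module F V] [AddCommGroup W]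
    [Module F W] (L : V ≃ₗ[F] W) (f : Module.End F V) (f' : Module.End F W)
    (h : ∀ v, L (f v) = f' (L v)) (c : F) (k : ℕ) :
    Module.finrank F (LinearMap.ker ((f - algebraMap F (Module.End F V) c) ^ k)) =
      Module.finrank F (LinearMap.ker ((f' - algebraMap F (Module.End F W) c) ^ k)) := by
  have h1 : ∀ v, L ((f - algebraMap F (Module.End F V) c) v) =
      (f' - algebraMap F (Module.End F W) c) (L v) := by
    intro v
    rw [LinearMap.sub_apply, LinearMap.sub_apply, map_sub, h, Module.algebraMap_end_apply,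
      Module.algebraMap_end_apply, map_smul]
  have hk : ∀ j : ℕ, ∀ v, L (((f - algebraMap F (Module.End F V) c) ^ j) v) =
      ((f' - algebraMap F (Module.End F W) c) ^ j) (L v) := by
    intro j
    induction j with
    | zero => intro v; simp
    | succ j ih =>
      intro v
      rw [pow_succ, pow_succ, Module.End.mul_apply, Module.End.mul_apply, ih, h1]
  have hmap : (LinearMap.ker ((f - algebraMap F (Module.End F V) c) ^ k)).map
      (L : V →ₗ[F] W) = LinearMap.ker ((f' - algebraMap F (Module.End F W) c) ^ k) := by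
    ext w
    rw [Submodule.mem_map, LinearMap.mem_ker]
    constructor
    · rintro ⟨v, hv, rfl⟩
      rw [LinearMap.mem_ker] at hv
      show ((f' - algebraMap F (Module.End F W) c) ^ k) (L v) = 0
      rw [← hk, hv, map_zero]
    · intro hw
      refine ⟨L.symm w, ?_, L.apply_symm_apply w⟩
      rw [LinearMap.mem_ker]
      apply L.injective
      rw [hk, L.apply_symm_apply, hw, map_zero]
  rw [← hmap]
  exact (LinearEquiv.finrank_map_eq L _).symm

/-- kernel dimensions of the reindexed matrix -/
theorem kd_toFin {n : ℕ} (g : Matrix.symplecticGroup (Fin n) F) (c : F) (k : ℕ) :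
    kd (toFin g) (X - C c) k = (ofSp g).kdim c k := by
  unfold kd SpSpace.kdim
  rw [aeval_pow]
  -- the reindexing equivalence
  let L : (Fin (n + n) → F) ≃ₗ[F] (Fin n ⊕ Fin n → F) :=
    LinearEquiv.funCongrLeft F F (finSumFinEquiv : Fin n ⊕ Fin n ≃ Fin (n + n))
  refine finrank_ker_pow_eq L (Matrix.toLin' (toFin g)) (ofSp g).g ?_ c k
  intro v
  show L (Matrix.toLin' (toFin g) v) =
    Matrix.toLin' (g : Matrix (Fin n ⊕ Fin n) (Fin n ⊕ Fin n) F) (L v)
  funext i
  rw [Matrix.toLin'_apply, Matrix.toLin'_apply]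
  show (toFin g).mulVec v (finSumFinEquiv i) = _
  unfold toFin
  rw [Matrix.mulVec, Matrix.mulVec]
  unfold dotProduct
  rw [← Equiv.sum_comp (finSumFinEquiv : Fin n ⊕ Fin n ≃ Fin (n + n))]
  refine Finset.sum_congr rfl (fun j _ => ?_)
  show (Matrix.reindex finSumFinEquiv finSumFinEquiv
      (g : Matrix (Fin n ⊕ Fin n) (Fin n ⊕ Fin n) F)) (finSumFinEquiv i) (finSumFinEquiv j) *
      v (finSumFinEquiv j) = (g : Matrix (Fin n ⊕ Fin n) (Fin n ⊕ Fin n) F) i j * L v j
  rw [Matrix.reindex_apply, Matrix.submatrix_apply, Equiv.symm_apply_apply, Equiv.symm_apply_apply]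
  rfl

end SPOFSP

end Cfsg.Agent.S2482P
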