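import Mathlib
import Cfsg.Agent.Helper14.S5559Defs
import Cfsg.Agent.Helper17.S5559PHI
import Cfsg.Agent.Helper25.S5559F1

/-!
# S5559, piece C54A: `G = ⟨y, y', t⟩`

For `q ∈ Q` write `φ q = q y q⁻¹ y⁻¹ = z ^ k` (`z = φ y'`); then `g = y' ^ (-k) q` centralises `y`,
`u = g t g⁻¹ t` is inverted by `t` and centralises `y`, so `u ∈ ⟨y⟩` (F1) and
`q t q⁻¹ = y' ^ k (u t) y' ^ (-k)`.
-/

set_option autoImplicit false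

namespace Cfsg.Agent.S5559P

theorem C54A {G : Type*} [Group G] [Finite G] {W : Type*} [CommGroup W] [Finite W]
    (C : Ctx G W)
    (hZt : ∀ g ∈ C.Q, (∀ q ∈ C.Q, g * q = q * g) → C.t * g * C.t = g)
    (y : G) (hy : y ∈ C.Q) (hyt : C.t * y * C.t = y⁻¹)
    (hy2 : ∀ q ∈ C.Q, ∀ q' ∈ C.Q, (q * y * q⁻¹ * y⁻¹) * q' = q' * (q * y * q⁻¹ * y⁻¹))
    (y' : G) (hy' : y' ∈ C.Q) (hyt' : C.t * y' * C.t = y'⁻¹) (hz : y' * y * y'⁻¹ * y⁻¹ ≠ 1)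
    (hcyc : ∀ q ∈ C.Q, q * y * q⁻¹ * y⁻¹ ∈ Subgroup.zpowers (y' * y * y'⁻¹ * y⁻¹)) :
    Subgroup.closure ({y, y', C.t} : Set G) = ⊤ := by
  obtain ⟨hmul, -, -, hinv⟩ := PHI C hZt y hy hyt hy2
  have hyK : y ∈ Subgroup.closure ({y, y', C.t} : Set G) := Subgroup.subset_closure (by simp)
  have hy'K : y' ∈ Subgroup.closure ({y, y', C.t} : Set G) := Subgroup.subset_closure (by simp)
  have htK : C.t ∈ Subgroup.closure ({y, y', C.t} : Set G) := Subgroup.subset_closure (by simp)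
  have hyne : y ≠ 1 := by
    rintro rfl
    apply hz
    group
  have htinv : C.t⁻¹ = C.t := inv_eq_of_mul_eq_one_left C.ht2
  -- `φ (y' ^ k) = z ^ k`
  have hpow : ∀ k : ℕ, (y' ^ k) * y * (y' ^ k)⁻¹ * y⁻¹ = (y' * y * y'⁻¹ * y⁻¹) ^ k := by
    intro k
    induction k with
    | zero => simp
    | succ k ih =>
      rw [pow_succ, hmul (y' ^ k) (C.Q.pow_mem hy' k) y' hy', ih, pow_succ]
  -- `φ (q⁻¹) = (φ q)⁻¹`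
  have hinvφ : ∀ q ∈ C.Q, q⁻¹ * y * q⁻¹⁻¹ * y⁻¹ = (q * y * q⁻¹ * y⁻¹)⁻¹ := by
    intro q hq
    have h := hmul q⁻¹ (C.Q.inv_mem hq) q hq
    rw [inv_mul_cancel] at h
    have h1 : (1 : G) * y * (1 : G)⁻¹ * y⁻¹ = 1 := by group
    rw [h1] at h
    exact eq_inv_of_mul_eq_one_left h.symm
  rw [eq_top_iff, ← C.hgen, Subgroup.closure_le]
  intro d hd
  obtain ⟨q, hq, rfl⟩ := (C.hD d).mp hd
  obtain ⟨k, hk⟩ := mem_powers_iff_mem_zpowers.mpr (hcyc q hq)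
  have hk' : (y' * y * y'⁻¹ * y⁻¹) ^ k = q * y * q⁻¹ * y⁻¹ := hk
  -- `g = y' ^ (-k) q`
  have hgQ : (y' ^ k)⁻¹ * q ∈ C.Q := C.Q.mul_mem (C.Q.inv_mem (C.Q.pow_mem hy' k)) hq
  have hφg : ((y' ^ k)⁻¹ * q) * y * ((y' ^ k)⁻¹ * q)⁻¹ * y⁻¹ = 1 := by
    rw [hmul _ (C.Q.inv_mem (C.Q.pow_mem hy' k)) q hq, hinvφ _ (C.Q.pow_mem hy' k), hpow, ← hk',
      inv_mul_cancel]
  -- `u = g t g⁻¹ t = (g⁻¹)⁻¹ t g⁻¹ t`
  obtain ⟨huQ, hut, hφu⟩ := hinv ((y' ^ k)⁻¹ * q)⁻¹ (C.Q.inv_mem hgQ)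
  rw [hinvφ _ hgQ, hφg, inv_one] at hφu
  have hcomm : y * (((y' ^ k)⁻¹ * q)⁻¹⁻¹ * C.t * ((y' ^ k)⁻¹ * q)⁻¹ * C.t) =
      (((y' ^ k)⁻¹ * q)⁻¹⁻¹ * C.t * ((y' ^ k)⁻¹ * q)⁻¹ * C.t) * y := by
    have := hφu
    rw [mul_inv_eq_one, mul_inv_eq_iff_eq_mul] at this
    exact this.symm
  have huK := F1 C y _ hy huQ hyt hut hcomm hyne
  have huK' : ((y' ^ k)⁻¹ * q)⁻¹⁻¹ * C.t * ((y' ^ k)⁻¹ * q)⁻¹ * C.t ∈
      Subgroup.closure ({y, y', C.t} : Set G) :=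
    (Subgroup.zpowers_le.mpr hyK) huK
  have hy'k : y' ^ k ∈ Subgroup.closure ({y, y', C.t} : Set G) := Subgroup.pow_mem _ hy'K k
  have key : q * C.t * q⁻¹ = y' ^ k *
      ((((y' ^ k)⁻¹ * q)⁻¹⁻¹ * C.t * ((y' ^ k)⁻¹ * q)⁻¹ * C.t) * C.t) * (y' ^ k)⁻¹ := by
    have ht2 := C.ht2
    simp only [inv_inv, mul_inv_rev, mul_assoc, ht2, mul_one, mul_inv_cancel_left, mul_inv_cancel]
  show q * C.t * q⁻¹ ∈ Subgroup.closure ({y, y', C.t} : Set G)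
  rw [key]
  exact Subgroup.mul_mem _ (Subgroup.mul_mem _ hy'k (Subgroup.mul_mem _ huK' htK))
    (Subgroup.inv_mem _ hy'k)

end Cfsg.Agent.S5559P
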