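import Mathlib
import Cfsg.Agent.Helper14.S5559Defs
import Cfsg.Agent.Helper29.PSU32
import Cfsg.Agent.Helper5.S5559SU54A

/-!
# S5559, piece SU54B: `commutator (SU₃(2))` is of type `Is54`

With the explicit matrices of `Helper29.PSU32`: `Y = d`, `Y' = c`, `T = s ^ 2`.
-/

set_option autoImplicit false

namespace Cfsg.Agent.S5559P

open Cfsg.Agent.Helper29.PSU32

/-- The abstract group-theoretic core. -/
theorem SU54B.aux_abs {S : Type*} [Group S] (d c s t : S)
    (r1 : d ^ 3 = 1) (r2 : c ^ 3 = 1) (r4 : s * c = d * s) (r5 : s * d = c * c * s)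
    (r8 : s ^ 4 = 1) (r10 : s * t * s = t) (hs2 : s ^ 2 ≠ 1)
    (hz : ∀ g : S, (c * d * c⁻¹ * d⁻¹) * g = g * (c * d * c⁻¹ * d⁻¹))
    (hz1 : c * d * c⁻¹ * d⁻¹ ≠ 1)
    (L M : Subgroup S) (_hML : M ≤ L) (hL : Nat.card L = 54) (hM : Nat.card M = 27)
    (hKL : commutator S ≤ L) (h3 : ∀ x : S, x ^ 3 = 1 → x ∈ M) :
    Is54 ↥(commutator S) := by
  have hcomm : ∀ a b : S, a * b * a⁻¹ * b⁻¹ ∈ commutator S := by
    intro a b
    rw [commutator_def, ← commutatorElement_def]
    exact Subgroup.commutator_mem_commutator (Subgroup.mem_top a) (Subgroup.mem_top b)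
  have hKn : (commutator S).Normal := inferInstance
  have h1 : d * c⁻¹ ∈ commutator S := by
    have := hcomm s c
    have e : s * c * s⁻¹ * c⁻¹ = d * c⁻¹ := by rw [r4]; group
    rwa [e] at this
  have h2 : c * c * d⁻¹ ∈ commutator S := by
    have := hcomm s d
    have e : s * d * s⁻¹ * d⁻¹ = c * c * d⁻¹ := by rw [r5]; group
    rwa [e] at this
  have hcK : c ∈ commutator S := by
    have h3' : d * c * d⁻¹ ∈ commutator S := by
      have := (commutator S).mul_mem h1 h2
      have e : d * c⁻¹ * (c * c * d⁻¹) = d * c * d⁻¹ := by group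
      rwa [e] at this
    have := hKn.conj_mem _ h3' d⁻¹
    have e : d⁻¹ * (d * c * d⁻¹) * d⁻¹⁻¹ = c := by group
    rwa [e] at this
  have hdK : d ∈ commutator S := by
    have := (commutator S).mul_mem h1 hcK
    rwa [inv_mul_cancel_right] at this
  have hT2 : s ^ 2 * s ^ 2 = 1 := by rw [← pow_add]; exact r8
  have hTinv : s⁻¹ * s⁻¹ = s ^ 2 := by
    calc s⁻¹ * s⁻¹ = s ^ 2 * s ^ 2 * (s⁻¹ * s⁻¹) := by rw [hT2, one_mul]
      _ = s ^ 2 := by
        simp only [pow_two, mul_assoc, mul_inv_cancel_left, mul_inv_cancel, mul_one]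
  have hTK : s ^ 2 ∈ commutator S := by
    have := hcomm t⁻¹ s
    have e : t⁻¹ * s * t⁻¹⁻¹ * s⁻¹ = s ^ 2 := by
      have e1 : t⁻¹ * s * t = s⁻¹ := by
        calc t⁻¹ * s * t = t⁻¹ * (s * t * s) * s⁻¹ := by group
          _ = s⁻¹ := by rw [r10]; group
      rw [inv_inv, e1, hTinv]
    rwa [e] at this
  have hdinv : d⁻¹ = d * d := by
    rw [inv_eq_iff_mul_eq_one, ← r1, pow_succ, pow_succ, pow_one, mul_assoc]
  have hcinv : c⁻¹ = c * c := by
    rw [inv_eq_iff_mul_eq_one, ← r2, pow_succ, pow_succ, pow_one, mul_assoc]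
  have eTd : s ^ 2 * d * s ^ 2 = d⁻¹ := by
    have e1 : s ^ 2 * d = d * d * s ^ 2 := by
      calc s ^ 2 * d = s * (s * d) := by rw [pow_two, mul_assoc]
        _ = s * (c * c * s) := by rw [r5]
        _ = (s * c) * c * s := by simp only [mul_assoc]
        _ = d * s * c * s := by rw [r4]
        _ = d * (s * c) * s := by simp only [mul_assoc]
        _ = d * (d * s) * s := by rw [r4]
        _ = d * d * s ^ 2 := by rw [pow_two]; simp only [mul_assoc]
    rw [e1, mul_assoc, hT2, mul_one, hdinv]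
  have eTc : s ^ 2 * c * s ^ 2 = c⁻¹ := by
    have e1 : s ^ 2 * c = c * c * s ^ 2 := by
      calc s ^ 2 * c = s * (s * c) := by rw [pow_two, mul_assoc]
        _ = s * (d * s) := by rw [r4]
        _ = (s * d) * s := by simp only [mul_assoc]
        _ = c * c * s ^ 2 := by rw [r5, pow_two]; simp only [mul_assoc]
    rw [e1, mul_assoc, hT2, mul_one, hcinv]
  -- the cardinality argument
  have : Finite L := Nat.finite_of_card_ne_zero (by rw [hL]; norm_num)
  have : Finite M := Nat.finite_of_card_ne_zero (by rw [hM]; norm_num)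
  have hdR₀ : d ∈ Subgroup.closure ({d, c} : Set S) := Subgroup.subset_closure (by simp)
  have hcR₀ : c ∈ Subgroup.closure ({d, c} : Set S) := Subgroup.subset_closure (by simp)
  have hR₀M : Subgroup.closure ({d, c} : Set S) ≤ M := by
    rw [Subgroup.closure_le]
    rintro x (rfl | rfl)
    · exact h3 _ r1
    · exact h3 _ r2
  have hncomm : c * d ≠ d * c := by
    intro h
    apply hz1
    rw [h]; group
  have hR₀card : Nat.card (Subgroup.closure ({d, c} : Set S)) = 27 := by
    have hdvd : Nat.card (Subgroup.closure ({d, c} : Set S)) ∣ 3 ^ 3 := by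
      have := Subgroup.card_dvd_of_le hR₀M
      rw [hM] at this
      exact this
    obtain ⟨m, hm, hcard⟩ := (Nat.dvd_prime_pow Nat.prime_three).mp hdvd
    have hcommR : (∀ a b : Subgroup.closure ({d, c} : Set S), a * b = b * a) → False := by
      intro h
      have := h ⟨c, hcR₀⟩ ⟨d, hdR₀⟩
      exact hncomm (congrArg Subtype.val this)
    have : Fact (Nat.Prime 3) := ⟨Nat.prime_three⟩
    interval_cases m
    · exfalso
      apply hcommR
      have : Subsingleton (Subgroup.closure ({d, c} : Set S)) :=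
        (Nat.card_eq_one_iff_unique.mp (by simpa using hcard)).1
      intro a b
      exact Subsingleton.elim _ _
    · exfalso
      apply hcommR
      have : IsCyclic (Subgroup.closure ({d, c} : Set S)) :=
        isCyclic_of_prime_card (p := 3) (by simpa using hcard)
      intro a b
      let _ := IsCyclic.commGroup (α := Subgroup.closure ({d, c} : Set S))
      exact mul_comm a b
    · exfalso
      apply hcommR
      exact IsPGroup.commutative_of_card_eq_prime_sq (p := 3) hcard
    · simpa using hcard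
  have hRK : Subgroup.closure ({d, c, s ^ 2} : Set S) ≤ commutator S := by
    rw [Subgroup.closure_le]
    rintro x (rfl | rfl | rfl)
    · exact hdK
    · exact hcK
    · exact hTK
  have hR₀R : Subgroup.closure ({d, c} : Set S) ≤ Subgroup.closure ({d, c, s ^ 2} : Set S) := by
    apply Subgroup.closure_mono
    intro x hx
    rcases hx with rfl | rfl
    · simp
    · simp
  have hTR : s ^ 2 ∈ Subgroup.closure ({d, c, s ^ 2} : Set S) :=
    Subgroup.subset_closure (by simp)
  have hRcard : Nat.card (Subgroup.closure ({d, c, s ^ 2} : Set S)) = 54 := by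
    apply Nat.dvd_antisymm
    · have := Subgroup.card_dvd_of_le (hRK.trans hKL)
      rwa [hL] at this
    · have h27 : 27 ∣ Nat.card (Subgroup.closure ({d, c, s ^ 2} : Set S)) := by
        have := Subgroup.card_dvd_of_le hR₀R
        rwa [hR₀card] at this
      have h2' : 2 ∣ Nat.card (Subgroup.closure ({d, c, s ^ 2} : Set S)) := by
        have : Fact (Nat.Prime 2) := ⟨Nat.prime_two⟩
        have ho : orderOf (s ^ 2) = 2 := orderOf_eq_prime (by rw [pow_two]; exact hT2) hs2
        have := Subgroup.orderOf_dvd_natCard _ hTR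
        rwa [ho] at this
      exact Nat.Coprime.mul_dvd_of_dvd_of_dvd (by norm_num : Nat.Coprime 2 27) h2' h27
  have hRL : Subgroup.closure ({d, c, s ^ 2} : Set S) = L :=
    Subgroup.eq_of_le_of_card_ge (hRK.trans hKL) (by rw [hRcard, hL])
  have hKeq : Subgroup.closure ({d, c, s ^ 2} : Set S) = commutator S :=
    le_antisymm hRK (hRL ▸ hKL)
  refine ⟨by rw [← hKeq, hRcard], ⟨d, hdK⟩, ⟨c, hcK⟩, ⟨s ^ 2, hTK⟩, ?_, ?_, ?_, ?_, ?_, ?_, ?_, ?_, ?_⟩
  · exact Subtype.ext (by simpa using r1)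
  · exact Subtype.ext (by simpa using r2)
  · exact Subtype.ext (by rw [pow_two]; simpa using hT2)
  · exact Subtype.ext (by simpa using eTd)
  · exact Subtype.ext (by simpa using eTc)
  · exact Subtype.ext (by simpa using hz d)
  · exact Subtype.ext (by simpa using hz c)
  · exact Subtype.ext (by simpa using hz (s ^ 2))
  · apply Subgroup.map_injective (commutator S).subtype_injective
    rw [MonoidHom.map_closure, ← MonoidHom.range_eq_map, Subgroup.range_subtype]
    have : ((commutator S).subtype ''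
        ({⟨d, hdK⟩, ⟨c, hcK⟩, ⟨s ^ 2, hTK⟩} : Set ↥(commutator S))) = {d, c, s ^ 2} := by
      simp [Set.image_insert_eq]
    rw [this]
    exact hKeq

/-- `SU54B` over any field with four elements. -/
theorem SU54B.aux_field {F : Type*} [Field F] [Fintype F] (hF : Fintype.card F = 4) :
    Is54 ↥(commutator ↥(Cfsg.SU 3 F 2)) := by
  obtain ⟨ω, hω⟩ := exists_omega hF
  have h2 := two_eq_zero hF
  have hom : Om ω := ⟨h2, hω⟩
  obtain ⟨L, M, hML, hL, hM, hKL, h3⟩ := SU54A hF
  obtain ⟨d, hd⟩ : ∃ d, d = dS hF hom := ⟨_, rfl⟩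
  obtain ⟨c, hc⟩ : ∃ c, c = cS hF hom := ⟨_, rfl⟩
  obtain ⟨s, hs⟩ : ∃ s, s = sS hF hom := ⟨_, rfl⟩
  obtain ⟨t, ht⟩ : ∃ t, t = tS hF hom := ⟨_, rfl⟩
  have r1 : d ^ 3 = 1 := by rw [hd]; exact dS_pow hF hom
  have r2 : c ^ 3 = 1 := by rw [hc]; exact cS_pow hF hom
  have r3 : mat (c * d) = ω ^ 2 • mat (d * c) := by rw [hc, hd]; exact cd hF hom
  have r4 : s * c = d * s := by rw [hs, hc, hd]; exact sc hF hom
  have r5 : s * d = c * c * s := by rw [hs, hc, hd]; exact sd hF hom
  have r8 : s ^ 4 = 1 := by rw [hs]; exact sS_pow hF hom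
  have r10 : s * t * s = t := by rw [ht, hs]; exact sts hF hom
  have r11 : mat (s ^ 2) = !![1, 0, 0; 0, 0, 1; 0, 1, 0] := by rw [hs]; exact sS_sq_mat hF hom
  clear hd hc hs ht
  have hs2 : s ^ 2 ≠ 1 := by
    intro h
    have h1 : mat (s ^ 2) 1 1 = (1 : Matrix (Fin 3) (Fin 3) F) 1 1 := by rw [h, mat_one]
    rw [r11] at h1
    simp at h1
  have hzmat : mat (c * d * c⁻¹ * d⁻¹) = ω ^ 2 • (1 : Matrix (Fin 3) (Fin 3) F) := by
    have e : c * d * c⁻¹ * d⁻¹ = (c * d) * (d * c)⁻¹ := by group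
    rw [e, mat_mul, r3, Matrix.smul_mul, ← mat_mul, mul_inv_cancel, mat_one]
  have hz : ∀ g : ↥(Cfsg.SU 3 F 2), (c * d * c⁻¹ * d⁻¹) * g = g * (c * d * c⁻¹ * d⁻¹) := by
    intro g
    have := mem_center_of_scalar _ _ hzmat
    rw [Subgroup.mem_center_iff] at this
    exact (this g).symm
  have hz1 : c * d * c⁻¹ * d⁻¹ ≠ 1 := by
    intro h
    have h1 : mat (c * d * c⁻¹ * d⁻¹) 0 0 = (1 : Matrix (Fin 3) (Fin 3) F) 0 0 := by
      rw [h, mat_one]
    rw [hzmat] at h1
    simp only [Matrix.smul_apply, Matrix.one_apply_eq, smul_eq_mul, mul_one] at h1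
    -- `ω ^ 2 = 1` contradicts `ω ^ 2 + ω + 1 = 0` in characteristic two
    have h4 : ω = 0 := by linear_combination hω - h1 - h2
    rw [h4] at h1
    simp at h1
  exact SU54B.aux_abs d c s t r1 r2 r4 r5 r8 r10 hs2 hz hz1 L M hML hL hM hKL h3

/-- `commutator (SU₃(2))` is of type `Is54`. -/
theorem SU54B : ∃ (F : Type) (_ : Field F) (_ : Fintype F), Fintype.card F = 4 ∧
    Is54 ↥(commutator ↥(Cfsg.SU 3 F 2)) := by
  have : Fact (Nat.Prime 2) := ⟨Nat.prime_two⟩
  let _ : Fintype (GaloisField 2 2) := Fintype.ofFinite _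
  have hK : Fintype.card (GaloisField 2 2) = 4 := by
    rw [← Nat.card_eq_fintype_card, GaloisField.card 2 2 (by norm_num)]; norm_num
  exact ⟨GaloisField 2 2, inferInstance, inferInstance, hK, SU54B.aux_field hK⟩

end Cfsg.Agent.S5559P
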