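import Cfsg.Agent.Helper3.Iso44XT

set_option autoImplicit false

namespace Cfsg.Agent.Helper15.Iso44

open Cfsg Subgroup

variable {G : Type*} [Group G] [Finite G] {p : ℕ} [Fact p.Prime] {S : Sylow p G} {P : Subgroup G}

theorem perfect_rgroup (hB : ⁅Ysub p P, Ysub p P⁆ = Ysub p P) (r : ℕ) (hr : r.Prime)
    (hall : ∀ y ∈ Ysub p P, ∃ k : ℕ, y ^ (r ^ k) ∈ Osub p P) : Ysub p P ≤ Osub p P := by
  have : Fact r.Prime := ⟨hr⟩
  have hn : (Cfsg.pCore p ↥(Ysub p P)).Normal := inferInstance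
  have hQ : IsPGroup r (↥(Ysub p P) ⧸ Cfsg.pCore p ↥(Ysub p P)) :=
    quot_isPGroup (p := p) (P := P) r hall
  have hnil : Group.IsNilpotent (↥(Ysub p P) ⧸ Cfsg.pCore p ↥(Ysub p P)) := hQ.isNilpotent
  have hsolv : Group.IsSolvable (↥(Ysub p P) ⧸ Cfsg.pCore p ↥(Ysub p P)) := inferInstance
  -- `Y` is perfect as a group
  have hperf : commutator ↥(Ysub p P) = ⊤ := by
    apply Subgroup.map_injective (Ysub p P).subtype_injective
    rw [_root_.commutator_def, Subgroup.map_commutator]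
    simp only [← MonoidHom.range_eq_map, Subgroup.range_subtype]
    exact hB
  -- so is the quotient
  have hperfQ : commutator (↥(Ysub p P) ⧸ Cfsg.pCore p ↥(Ysub p P)) = ⊤ := by
    have h1 : (commutator ↥(Ysub p P)).map (QuotientGroup.mk' (Cfsg.pCore p ↥(Ysub p P)))
        = commutator (↥(Ysub p P) ⧸ Cfsg.pCore p ↥(Ysub p P)) := by
      rw [_root_.commutator_def, Subgroup.map_commutator, _root_.commutator_def]
      simp only [← MonoidHom.range_eq_map,
        MonoidHom.range_eq_top.2 (QuotientGroup.mk'_surjective _)]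
    rw [← h1, hperf, ← MonoidHom.range_eq_map,
      MonoidHom.range_eq_top.2 (QuotientGroup.mk'_surjective _)]
  have hsub : Subsingleton (↥(Ysub p P) ⧸ Cfsg.pCore p ↥(Ysub p P)) := by
    by_contra hns
    rw [not_subsingleton_iff_nontrivial] at hns
    haveI := hns
    exact (IsSolvable.commutator_lt_top_of_nontrivial
      (↥(Ysub p P) ⧸ Cfsg.pCore p ↥(Ysub p P))).ne hperfQ
  have htop : Cfsg.pCore p ↥(Ysub p P) = ⊤ :=
    QuotientGroup.subgroup_eq_top_of_subsingleton _ hsub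
  intro y hy
  unfold Osub Cfsg.pCoreOf
  refine ⟨⟨y, hy⟩, ?_, rfl⟩
  rw [htop]; exact Subgroup.mem_top _

end Cfsg.Agent.Helper15.Iso44
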