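import Cfsg.Agent.Helper15.Iso44Defs

set_option autoImplicit false

namespace Cfsg.Agent.Helper15.Iso44

open Cfsg Subgroup

variable {G : Type*} [Group G] [Finite G] {p : ℕ} [Fact p.Prime] {S : Sylow p G} {P : Subgroup G}

theorem quot_isPGroup [hn : (Cfsg.pCore p ↥(Ysub p P)).Normal] (t : ℕ)
    (hall : ∀ y ∈ Ysub p P, ∃ k : ℕ, y ^ (t ^ k) ∈ Osub p P) :
    IsPGroup t (↥(Ysub p P) ⧸ Cfsg.pCore p ↥(Ysub p P)) := by
  intro g
  obtain ⟨y, rfl⟩ := QuotientGroup.mk_surjective g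
  obtain ⟨k, hk⟩ := hall (y : G) y.2
  refine ⟨k, ?_⟩
  rw [← QuotientGroup.mk_pow, QuotientGroup.eq_one_iff]
  have hk' : ((y ^ (t ^ k) : ↥(Ysub p P)) : G) ∈ Osub p P := by
    simpa using hk
  unfold Osub Cfsg.pCoreOf at hk'
  obtain ⟨w, hw, hwe⟩ := hk'
  have : w = y ^ (t ^ k) := Subtype.ext hwe
  rw [← this]; exact hw

end Cfsg.Agent.Helper15.Iso44
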