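import Mathlib
import Cfsg.Agent.Helper11.NoSimple
import Cfsg.Agent.Helper11.OrderP
import Cfsg.Agent.Helper3.ZGroup2

set_option autoImplicit false
set_option linter.style.haveILetI false
set_option linter.unusedSectionVars false

/-! Basic Sylow arithmetic in a simple group of order `360`. -/

namespace Cfsg.Agent.Helper3.A6

open Subgroup

variable {G : Type*} [Group G] [Finite G] [IsSimpleGroup G]

instance fact3 : Fact (Nat.Prime 3) := ⟨by norm_num⟩
instance fact5 : Fact (Nat.Prime 5) := ⟨by norm_num⟩

section

variable (hcard : Nat.card G = 360)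

include hcard

theorem noncomm : ¬ IsMulCommutative G := by
  apply Cfsg.Agent.Helper11.simple_noncomm_of_card
  rw [hcard]; norm_num

theorem six_le_index (H : Subgroup G) (hH : H ≠ ⊤) : 6 ≤ H.index := by
  have h := Cfsg.Agent.Helper11.simple_two_mul_card_dvd_factorial (noncomm hcard) H hH
  rw [hcard] at h
  by_contra hlt
  push Not at hlt
  have h0 : H.index ≠ 0 := Subgroup.index_ne_zero_of_finite
  interval_cases H.index <;> simp_all [Nat.factorial]

theorem card_sylow3 (P : Sylow 3 G) : Nat.card ↥(P : Subgroup G) = 9 := by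
  have := (Cfsg.Agent.Helper11.sylow_card_of_card_eq_pow (G := G) (p := 3) 40 2
    (by rw [hcard]; norm_num) (by norm_num) P).1
  simpa using this

theorem card_sylow5 (P : Sylow 5 G) : Nat.card ↥(P : Subgroup G) = 5 := by
  have := (Cfsg.Agent.Helper11.sylow_card_of_card_eq_pow (G := G) (p := 5) 72 1
    (by rw [hcard]; norm_num) (by norm_num) P).1
  simpa using this

theorem sylow3_comm (P : Sylow 3 G) {a b : G} (ha : a ∈ (P : Subgroup G))
    (hb : b ∈ (P : Subgroup G)) : a * b = b * a := by
  have h := (IsPGroup.isMulCommutative_of_card_eq_prime_sq (p := 3) (G := ↥(P : Subgroup G))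
    (by rw [card_sylow3 hcard P]; norm_num)).is_comm.comm ⟨a, ha⟩ ⟨b, hb⟩
  exact congrArg Subtype.val h

theorem card_syl3 : Nat.card (Sylow 3 G) = 10 := by
  have hnc := noncomm hcard
  have hmem := Cfsg.Agent.Helper11.card_sylow_mem_filter (G := G) (p := 3) 40 2
    (by rw [hcard]; norm_num) (by norm_num)
  have key : ∀ d ∈ (Nat.divisors 40).filter (fun d => d % 3 = 1),
      d = 1 ∨ d = 4 ∨ d = 10 ∨ d = 40 := by decide
  have h3 : 3 ∣ Nat.card G := by rw [hcard]; norm_num
  rcases key _ hmem with h | h | h | h
  · exact absurd h (Cfsg.Agent.Helper11.simple_card_sylow_ne_one hnc 3 h3)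
  · exfalso
    have := Cfsg.Agent.Helper11.simple_two_mul_card_dvd_factorial_card_sylow hnc 3 h3
    rw [h, hcard] at this
    revert this; decide
  · exact h
  · exfalso
    obtain ⟨P⟩ : Nonempty (Sylow 3 G) := inferInstance
    apply Cfsg.Agent.Helper11.simple_not_normalizer_le_centralizer hnc 3 P h3
    -- the normaliser has order 9, so equals `P`
    have h1 : Nat.card (Sylow 3 G) = (normalizer ((P : Subgroup G) : Set G)).index :=
      Sylow.card_eq_index_normalizer P
    have h2 := (normalizer ((P : Subgroup G) : Set G)).card_mul_index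
    rw [← h1, h, hcard] at h2
    have h4 : Nat.card ↥(normalizer ((P : Subgroup G) : Set G)) = 9 := by omega
    have h5 : (P : Subgroup G) = normalizer ((P : Subgroup G) : Set G) :=
      Subgroup.eq_of_le_of_card_ge le_normalizer (by rw [h4, card_sylow3 hcard P])
    intro x hx
    rw [← h5] at hx
    rw [mem_centralizer_iff]
    intro y hy
    exact sylow3_comm hcard P hy hx

theorem card_normalizer3 (P : Sylow 3 G) :
    Nat.card ↥(normalizer ((P : Subgroup G) : Set G)) = 36 := by
  have h1 : Nat.card (Sylow 3 G) = (normalizer ((P : Subgroup G) : Set G)).index :=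
    Sylow.card_eq_index_normalizer P
  have h2 := (normalizer ((P : Subgroup G) : Set G)).card_mul_index
  rw [← h1, card_syl3 hcard, hcard] at h2
  omega

theorem card_syl5_cases : Nat.card (Sylow 5 G) = 6 ∨ Nat.card (Sylow 5 G) = 36 := by
  have hnc := noncomm hcard
  have hmem := Cfsg.Agent.Helper11.card_sylow_mem_filter (G := G) (p := 5) 72 1
    (by rw [hcard]; norm_num) (by norm_num)
  have key : ∀ d ∈ (Nat.divisors 72).filter (fun d => d % 5 = 1),
      d = 1 ∨ d = 6 ∨ d = 36 := by decide
  have h5 : 5 ∣ Nat.card G := by rw [hcard]; norm_num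
  rcases key _ hmem with h | h | h
  · exact absurd h (Cfsg.Agent.Helper11.simple_card_sylow_ne_one hnc 5 h5)
  · exact Or.inl h
  · exact Or.inr h

end

end Cfsg.Agent.Helper3.A6
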