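import Mathlib
import Cfsg.Agent.Helper3.A6Grp1

set_option autoImplicit false
set_option linter.style.haveILetI false
set_option linter.unusedSectionVars false

/-! Sylow `3`-subgroups of a simple group of order `360` intersect trivially. -/

namespace Cfsg.Agent.Helper3.A6

open Subgroup

variable {G : Type*} [Group G] [Finite G] [IsSimpleGroup G]

instance fact2 : Fact (Nat.Prime 2) := ⟨by norm_num⟩

section

variable (hcard : Nat.card G = 360)

include hcard

omit hcard in
theorem arith360 (m n : ℕ) (hm6 : m ≤ 6) (hm0 : 0 < m) (hmd : m ∣ 40) (hndvd : n ∣ m)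
    (hnmod : n % 3 = 1) (hn1 : n ≠ 1) : m = 4 ∧ n = 4 := by
  have hn : n ≤ 6 := (Nat.le_of_dvd hm0 hndvd).trans hm6
  have key : ∀ m : Fin 7, ∀ n : Fin 7, 0 < m.val → m.val ∣ 40 → n.val ∣ m.val → n.val % 3 = 1 →
      n.val ≠ 1 → m.val = 4 ∧ n.val = 4 := by
    decide
  exact key ⟨m, by omega⟩ ⟨n, by omega⟩ hm0 hmd hndvd hnmod hn1

omit hcard [IsSimpleGroup G] in
theorem le_normalizer_map_subtype (C : Subgroup G) (K' : Subgroup ↥C) [K'.Normal] :
    C ≤ normalizer ((K'.map C.subtype : Subgroup G) : Set G) := by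
  have h := Subgroup.le_normalizer_map (H := K') C.subtype
  rw [Subgroup.normalizer_eq_top, ← MonoidHom.range_eq_map, Subgroup.range_subtype] at h
  exact h

/-- a subgroup of order `4` cannot have a normaliser of order divisible by `36` -/
theorem no_four_group (T : Subgroup G) (hT : Nat.card T = 4) (C : Subgroup G)
    (hC : Nat.card C = 36) (hCT : C ≤ normalizer (T : Set G)) : False := by
  have h1 : Nat.card ↥(normalizer (T : Set G)) ≡ Nat.card G [MOD 2 ^ (2 + 1)] :=
    Sylow.card_normalizer_modEq_card (p := 2) (n := 2) (by rw [hT]; norm_num)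
  rw [hcard] at h1
  have h8 : 8 ∣ Nat.card ↥(normalizer (T : Set G)) := by
    have : Nat.card ↥(normalizer (T : Set G)) % 8 = 360 % 8 := h1
    omega
  have h36 : 36 ∣ Nat.card ↥(normalizer (T : Set G)) := by
    rw [← hC]; exact Subgroup.card_dvd_of_le hCT
  have h72 : 72 ∣ Nat.card ↥(normalizer (T : Set G)) := by omega
  have hmul := (normalizer (T : Set G)).card_mul_index
  rw [hcard] at hmul
  have htop : normalizer (T : Set G) = ⊤ := by
    by_contra hne
    have h6 := six_le_index hcard _ hne
    obtain ⟨k, hk⟩ := h72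
    rw [hk] at hmul
    have hk0 : 0 < k := by
      rcases Nat.eq_zero_or_pos k with h0 | h0
      · rw [h0] at hmul; omega
      · exact h0
    nlinarith
  have hnorm : T.Normal := Subgroup.normalizer_eq_top_iff.mp htop
  rcases hnorm.eq_bot_or_eq_top with h | h
  · rw [h, Subgroup.card_bot] at hT; omega
  · rw [h, Subgroup.card_top, hcard] at hT; omega

/-- distinct Sylow `3`-subgroups intersect trivially -/
theorem sylow3_inf_eq_bot (P Q : Sylow 3 G) (hPQ : P ≠ Q) :
    (P : Subgroup G) ⊓ (Q : Subgroup G) = ⊥ := by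
  by_contra hD
  set D : Subgroup G := (P : Subgroup G) ⊓ (Q : Subgroup G) with hDdef
  set C : Subgroup G := centralizer (D : Set G) with hCdef
  have hPC : (P : Subgroup G) ≤ C := by
    intro x hx
    rw [hCdef, mem_centralizer_iff]
    intro d hd
    exact sylow3_comm hcard P hd.1 hx
  have hQC : (Q : Subgroup G) ≤ C := by
    intro x hx
    rw [hCdef, mem_centralizer_iff]
    intro d hd
    exact sylow3_comm hcard Q hd.2 hx
  have hCtop : C ≠ ⊤ := by
    intro htop
    have hDc : D ≤ center G := by
      intro d hd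
      rw [Subgroup.mem_center_iff]
      intro g
      have hg : g ∈ C := by rw [htop]; exact Subgroup.mem_top g
      rw [hCdef, mem_centralizer_iff] at hg
      exact (hg d hd).symm
    rcases (Subgroup.normal_of_characteristic (center G)).eq_bot_or_eq_top with h | h
    · rw [h] at hDc
      exact hD (le_bot_iff.mp hDc)
    · apply noncomm hcard
      refine ⟨⟨fun a b => ?_⟩⟩
      have hb : b ∈ center G := by rw [h]; trivial
      exact Subgroup.mem_center_iff.mp hb a
  have h6 := six_le_index hcard C hCtop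
  have hmul := C.card_mul_index
  rw [hcard] at hmul
  -- Sylow theory in `C`
  set P' : Sylow 3 ↥C := P.subtype hPC with hP'
  set Q' : Sylow 3 ↥C := Q.subtype hQC with hQ'
  have hP'Q' : P' ≠ Q' := by
    intro h
    apply hPQ
    have h2 : (P' : Subgroup ↥C) = (Q' : Subgroup ↥C) := congrArg _ h
    rw [hP', hQ', Sylow.coe_subtype, Sylow.coe_subtype] at h2
    apply Sylow.ext
    have h3 := congrArg (Subgroup.map C.subtype) h2
    rwa [Subgroup.subgroupOf_map_subtype, Subgroup.subgroupOf_map_subtype,
      inf_of_le_left hPC, inf_of_le_left hQC] at h3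
  have hcP' : Nat.card ↥(P' : Subgroup ↥C) = 9 := by
    rw [hP', Sylow.coe_subtype, Nat.card_congr (Subgroup.subgroupOfEquivOfLe hPC).toEquiv,
      card_sylow3 hcard P]
  have hn1 : Nat.card (Sylow 3 ↥C) ≠ 1 := by
    intro h1
    haveI : Subsingleton (Sylow 3 ↥C) := (Nat.card_eq_one_iff_unique.mp h1).1
    exact hP'Q' (Subsingleton.elim _ _)
  have hnmod : Nat.card (Sylow 3 ↥C) % 3 = 1 := by
    have := card_sylow_modEq_one 3 ↥C
    unfold Nat.ModEq at this
    rw [this]
  have hndvd : Nat.card (Sylow 3 ↥C) ∣ (P' : Subgroup ↥C).index := Sylow.card_dvd_index P'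
  have hmul' := (P' : Subgroup ↥C).card_mul_index
  rw [hcP'] at hmul'
  -- arithmetic: `|C| = 36`, `n₃(C) = 4`
  set m := (P' : Subgroup ↥C).index with hm
  set n := Nat.card (Sylow 3 ↥C) with hn
  have hm6 : m ≤ 6 := by nlinarith
  have hm0 : 0 < m := by
    rcases Nat.eq_zero_or_pos m with h0 | h0
    · rw [h0] at hmul'; rw [← hmul'] at hmul; omega
    · exact h0
  have hnm : n ≤ m := Nat.le_of_dvd hm0 hndvd
  have hmn : m = 4 ∧ n = 4 := by
    have hm40 : m * C.index = 40 := by
      rw [← hmul'] at hmul; nlinarith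
    have hmd : m ∣ 40 := ⟨_, hm40.symm⟩
    exact arith360 m n hm6 hm0 hmd hndvd hnmod hn1
  obtain ⟨hm4, hn4⟩ := hmn
  have hcC : Nat.card ↥C = 36 := by rw [← hmul', hm4]
  -- `N_C(P') = P'`
  have hidx : (normalizer ((P' : Subgroup ↥C) : Set ↥C)).index = 4 := by
    rw [← hn4, hn]; exact (Sylow.card_eq_index_normalizer P').symm
  have hcN : Nat.card ↥(normalizer ((P' : Subgroup ↥C) : Set ↥C)) = 9 := by
    have := (normalizer ((P' : Subgroup ↥C) : Set ↥C)).card_mul_index
    rw [hidx, hcC] at this
    omega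
  have hNP : (P' : Subgroup ↥C) = normalizer ((P' : Subgroup ↥C) : Set ↥C) :=
    Subgroup.eq_of_le_of_card_ge le_normalizer (by rw [hcN, hcP'])
  have hBurn : normalizer (P' : Set ↥C) ≤ centralizer (P' : Set ↥C) := by
    intro x hx0
    have hx : x ∈ normalizer ((P' : Subgroup ↥C) : Set ↥C) := hx0
    rw [← hNP] at hx
    show x ∈ centralizer ((P' : Subgroup ↥C) : Set ↥C)
    rw [mem_centralizer_iff]
    intro y hy
    have hy' : y ∈ (P' : Subgroup ↥C) := hy
    rw [hP', Sylow.coe_subtype, mem_subgroupOf] at hx hy'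
    apply Subtype.ext
    have := sylow3_comm hcard P hy' hx
    simpa using this
  have hc := MonoidHom.ker_transferSylow_isComplement' P' hBurn
  set K' : Subgroup ↥C := (MonoidHom.transferSylow P' hBurn).ker with hK'
  have hcK : Nat.card K' * Nat.card ↥(P' : Subgroup ↥C) = Nat.card ↥C := hc.card_mul_card
  rw [hcP', hcC] at hcK
  have hcK4 : Nat.card K' = 4 := by omega
  have hKn : K'.Normal := MonoidHom.normal_ker _
  haveI := hKn
  have hcT : Nat.card ↥(K'.map C.subtype) = 4 := by
    rw [Subgroup.card_map_of_injective C.subtype_injective, hcK4]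
  exact no_four_group hcard (K'.map C.subtype) hcT C hcC (le_normalizer_map_subtype C K')

end

end Cfsg.Agent.Helper3.A6
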