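import Mathlib
import Cfsg.Agent.Helper3.A6Grp2
import Cfsg.Agent.Helper11.TwoTransCount

set_option autoImplicit false
set_option linter.style.haveILetI false
set_option linter.unusedSectionVars false

/-! The action of a simple group of order `360` on its ten Sylow `3`-subgroups: `2`-transitivity
and the Zassenhaus property (when there are `36` Sylow `5`-subgroups). -/

namespace Cfsg.Agent.Helper3.A6

open Subgroup MulAction

variable {G : Type*} [Group G] [Finite G] [IsSimpleGroup G]

section

variable (hcard : Nat.card G = 360)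

include hcard

/-- an element of a Sylow `3`-subgroup fixing another Sylow `3`-subgroup is trivial -/
theorem eq_one_of_smul_eq {P Q : Sylow 3 G} (hPQ : Q ≠ P) {x : G} (hx : x ∈ (P : Subgroup G))
    (h : x • Q = Q) : x = 1 := by
  have h1 := Sylow.smul_eq_iff_mem_normalizer.mp h
  have h2 : x ∈ (P : Subgroup G) ⊓ _ := ⟨hx, h1⟩
  rw [IsPGroup.inf_normalizer_sylow P.isPGroup' Q] at h2
  have h3 : x ∈ (P : Subgroup G) ⊓ (Q : Subgroup G) := h2
  rw [sylow3_inf_eq_bot hcard P Q (Ne.symm hPQ), Subgroup.mem_bot] at h3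
  exact h3

/-- a Sylow `3`-subgroup is transitive on the other Sylow `3`-subgroups -/
theorem exists_smul_eq_of_ne {P Q₀ Q : Sylow 3 G} (hQ₀ : Q₀ ≠ P) (hQ : Q ≠ P) :
    ∃ x ∈ (P : Subgroup G), x • Q₀ = Q := by
  classical
  haveI : Fintype (Sylow 3 G) := Fintype.ofFinite _
  haveI : Fintype ↥(P : Subgroup G) := Fintype.ofFinite _
  have hfix : ∀ x ∈ (P : Subgroup G), x • P = P := fun x hx =>
    Sylow.smul_eq_iff_mem_normalizer.mpr (le_normalizer hx)
  -- the orbit map into the complement of `P`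
  let f : ↥(P : Subgroup G) → {Q : Sylow 3 G // Q ≠ P} := fun x => ⟨(x : G) • Q₀, by
    intro h
    apply hQ₀
    have h2 : (x : G) • Q₀ = (x : G) • P := h.trans (hfix _ x.2).symm
    exact MulAction.injective (x : G) h2⟩
  have hinj : Function.Injective f := by
    intro x y hxy
    have h1 : (x : G) • Q₀ = (y : G) • Q₀ := congrArg Subtype.val hxy
    have h2 : ((y : G)⁻¹ * (x : G)) • Q₀ = Q₀ := by rw [mul_smul, h1, inv_smul_smul]
    have h3 := eq_one_of_smul_eq hcard hQ₀ ((P : Subgroup G).mul_mem ((P : Subgroup G).inv_mem y.2) x.2) h2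
    apply Subtype.ext
    have : (x : G) = (y : G) := by
      have := congrArg (fun z => (y : G) * z) h3
      simpa using this
    exact this
  have hcardeq : Fintype.card ↥(P : Subgroup G) = Fintype.card {Q : Sylow 3 G // Q ≠ P} := by
    rw [Fintype.card_subtype_compl, Fintype.card_subtype_eq, ← Nat.card_eq_fintype_card,
      ← Nat.card_eq_fintype_card, card_sylow3 hcard P, card_syl3 hcard]
  have hbij : Function.Bijective f :=
    (Fintype.bijective_iff_injective_and_card f).mpr ⟨hinj, hcardeq⟩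
  obtain ⟨x, hx⟩ := hbij.2 ⟨Q, hQ⟩
  exact ⟨x, x.2, congrArg Subtype.val hx⟩

/-- two-fold transitivity -/
theorem two_trans (a b c d : Sylow 3 G) (hab : a ≠ b) (hcd : c ≠ d) :
    ∃ g : G, g • a = c ∧ g • b = d := by
  obtain ⟨g₁, hg₁⟩ := MulAction.exists_smul_eq G a c
  have hb' : g₁ • b ≠ c := by
    intro h
    apply hab
    rw [← hg₁] at h
    exact (MulAction.injective g₁ h).symm
  obtain ⟨x, hx, hxd⟩ := exists_smul_eq_of_ne hcard hb' (Ne.symm hcd)
  refine ⟨x * g₁, ?_, ?_⟩
  · rw [mul_smul, hg₁]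
    exact Sylow.smul_eq_iff_mem_normalizer.mpr (le_normalizer hx)
  · rw [mul_smul, hxd]

/-- elements of order `5` fix no Sylow `3`-subgroup -/
theorem fix_order5 {g : G} (hg : orderOf g = 5) (Q : Sylow 3 G) : g • Q ≠ Q := by
  intro h
  have h1 := Sylow.smul_eq_iff_mem_normalizer.mp h
  have h2 : g ∈ normalizer ((Q : Subgroup G) : Set G) := h1
  have h3 := Subgroup.orderOf_dvd_natCard _ h2
  rw [hg, card_normalizer3 hcard Q] at h3
  omega

end

end Cfsg.Agent.Helper3.A6
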