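import Mathlib
import Cfsg.Agent.Helper3.A6Grp3

set_option autoImplicit false
set_option linter.style.haveILetI false
set_option linter.unusedSectionVars false

/-! Counting fixed points: in a simple group of order `360` with `36` Sylow `5`-subgroups, no
non-identity element fixes three Sylow `3`-subgroups. -/

namespace Cfsg.Agent.Helper3.A6

open Subgroup MulAction Cfsg.Agent.Helper11.TwoTransCount

variable {G : Type*} [Group G] [Finite G] [IsSimpleGroup G]

section

variable (hcard : Nat.card G = 360) (h5 : Nat.card (Sylow 5 G) = 36)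

include hcard h5

theorem fix_three {g : G} {a b c : Sylow 3 G} (hab : a ≠ b) (hac : a ≠ c) (hbc : b ≠ c)
    (ha : g • a = a) (hb : g • b = b) (hc : g • c = c) : g = 1 := by
  classical
  by_contra hg1
  haveI : Fintype G := Fintype.ofFinite G
  have hcardF : Fintype.card G = 360 := by rw [← Nat.card_eq_fintype_card, hcard]
  haveI : IsPretransitive G (Sylow 3 G) := inferInstance
  have s1 := sum_fixN (G := G) (X := Sylow 3 G)
  have s2 := sum_fixN_sq (G := G) (X := Sylow 3 G)
    (fun a b c d hab hcd => two_trans hcard a b c d hab hcd) ⟨a, b, hab⟩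
  rw [hcardF] at s1 s2
  -- the weight function
  set t : G → ℤ := fun g => ((fixN (X := Sylow 3 G) g : ℤ) - 1) * ((fixN (X := Sylow 3 G) g : ℤ) - 2)
    with ht
  have hsum : ∑ g : G, t g = 360 := by
    have e : ∀ g : G, t g =
        ((fixN (X := Sylow 3 G) g ^ 2 : ℕ) : ℤ) - 3 * ((fixN (X := Sylow 3 G) g : ℕ) : ℤ) + 2 := by
      intro g; simp only [ht]; push_cast; ring
    simp_rw [e]
    rw [Finset.sum_add_distrib, Finset.sum_sub_distrib, ← Nat.cast_sum, ← Finset.mul_sum,
      ← Nat.cast_sum, s1, s2]
    simp [hcardF]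
  have hnonneg : ∀ g : G, 0 ≤ t g := by
    intro g
    simp only [ht]
    have h0 : (0 : ℤ) ≤ (fixN (X := Sylow 3 G) g : ℤ) := Int.natCast_nonneg _
    rcases Nat.lt_or_ge (fixN (X := Sylow 3 G) g) 2 with h | h
    · have : (fixN (X := Sylow 3 G) g : ℤ) ≤ 1 := by exact_mod_cast Nat.lt_succ_iff.mp h
      nlinarith
    · have : (2 : ℤ) ≤ (fixN (X := Sylow 3 G) g : ℤ) := by exact_mod_cast h
      nlinarith
  -- the identity
  have ht1 : t 1 = 72 := by
    simp only [ht]
    rw [fixN_one, card_syl3 hcard]
    norm_num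
  -- elements of order 5
  have hfix5 : ∀ g : G, orderOf g = 5 → fixN (X := Sylow 3 G) g = 0 := by
    intro g hg
    unfold fixN
    rw [Nat.card_eq_zero]
    left
    refine ⟨fun ⟨Q, hQ⟩ => fix_order5 hcard hg Q hQ⟩
  set S5 : Finset G := Finset.univ.filter (fun g => orderOf g = 5) with hS5
  have hcS5 : S5.card = 144 := by
    obtain ⟨P5⟩ : Nonempty (Sylow 5 G) := inferInstance
    have := Cfsg.Agent.Helper11.card_orderOf_eq_prime P5 (card_sylow5 hcard P5)
    rw [h5, Nat.card_eq_fintype_card, Fintype.card_subtype] at this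
    rw [hS5, this]
  have ht5 : ∀ g ∈ S5, t g = 2 := by
    intro g hg
    rw [hS5, Finset.mem_filter] at hg
    simp only [ht]
    rw [hfix5 g hg.2]
    norm_num
  have hsum5 : ∑ g ∈ S5, t g = 288 := by
    rw [Finset.sum_congr rfl ht5, Finset.sum_const, hcS5]
    norm_num
  -- the offending element
  have hfg : 3 ≤ fixN (X := Sylow 3 G) g := by
    unfold fixN
    have hsub : ({a, b, c} : Finset (Sylow 3 G)).card = 3 := by
      rw [Finset.card_insert_of_notMem (by simp [hab, hac]), Finset.card_pair hbc]
    have hsubset : (({a, b, c} : Finset (Sylow 3 G)) : Set (Sylow 3 G)) ⊆ fixedBy (Sylow 3 G) g := by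
      intro x hx
      simp only [Finset.coe_insert, Finset.coe_singleton, Set.mem_insert_iff,
        Set.mem_singleton_iff] at hx
      rcases hx with rfl | rfl | rfl
      · exact ha
      · exact hb
      · exact hc
    have := Set.ncard_le_ncard hsubset (Set.toFinite _)
    rw [Set.ncard_coe_finset, hsub] at this
    rw [Nat.card_coe_set_eq]
    exact this
  have htg : 2 ≤ t g := by
    simp only [ht]
    have : (3 : ℤ) ≤ (fixN (X := Sylow 3 G) g : ℤ) := by exact_mod_cast hfg
    nlinarith
  have hg5 : g ∉ S5 := by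
    intro hg
    rw [hS5, Finset.mem_filter] at hg
    rw [hfix5 g hg.2] at hfg
    omega
  have h1S5 : (1 : G) ∉ S5 := by
    intro h
    rw [hS5, Finset.mem_filter, orderOf_one] at h
    omega
  have hg1' : g ∉ insert (1 : G) S5 := by
    rw [Finset.mem_insert, not_or]
    exact ⟨hg1, hg5⟩
  have hle := Finset.sum_le_univ_sum_of_nonneg (s := insert g (insert (1 : G) S5))
    (f := t) (fun g => hnonneg g)
  rw [Finset.sum_insert hg1', Finset.sum_insert h1S5, ht1, hsum5, hsum] at hle
  omega

end

end Cfsg.Agent.Helper3.A6
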