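import Mathlib
import Cfsg.Agent.Helper3.A6Grp4
import Cfsg.Agent.Helper3.ZGroup4
import Cfsg.Agent.Helper22.MaxStab

set_option autoImplicit false
set_option linter.style.haveILetI false
set_option linter.unusedSectionVars false

/-! The two-point stabiliser in a simple group of order `360` (with `36` Sylow `5`-subgroups)
acting on its Sylow `3`-subgroups: it is cyclic of order `4` and acts fixed-point-freely on the
Sylow `3`-subgroup. -/

namespace Cfsg.Agent.Helper3.A6

open Subgroup MulAction Cfsg.Agent.Helper3.ZP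

variable {G : Type*} [Group G] [Finite G] [IsSimpleGroup G]

section

variable (hcard : Nat.card G = 360) (h5 : Nat.card (Sylow 5 G) = 36)
  {P Q₀ : Sylow 3 G} (hPQ : Q₀ ≠ P)

include hcard hPQ in
theorem orbit_stab_eq :
    MulAction.orbit ↥(MulAction.stabilizer G P) Q₀ = {Q : Sylow 3 G | Q ≠ P} := by
  ext Q
  constructor
  · rintro ⟨h, rfl⟩
    intro hQ
    apply hPQ
    have h1 : (h : G) • Q₀ = (h : G) • P := by
      have : (h : G) • P = P := h.2
      rw [this]; exact hQ
    exact MulAction.injective (h : G) h1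
  · intro hQ
    obtain ⟨x, hx, hxQ⟩ := exists_smul_eq_of_ne hcard hPQ hQ
    have hxs : x ∈ MulAction.stabilizer G P := by
      rw [MulAction.mem_stabilizer_iff]
      exact Sylow.smul_eq_iff_mem_normalizer.mpr (le_normalizer hx)
    exact ⟨⟨x, hxs⟩, hxQ⟩

include hcard hPQ in
theorem card_K : Nat.card ↥(twoStab P Q₀) = 4 := by
  classical
  haveI : Fintype (Sylow 3 G) := Fintype.ofFinite _
  have h1 := Cfsg.Agent.Helper22.MaxStab.relIndex_stabilizer (MulAction.stabilizer G P) Q₀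
  rw [orbit_stab_eq hcard hPQ] at h1
  have h9 : ({Q : Sylow 3 G | Q ≠ P} : Set (Sylow 3 G)).ncard = 9 := by
    have : ({Q : Sylow 3 G | Q ≠ P} : Set (Sylow 3 G)) = ({P} : Set (Sylow 3 G))ᶜ := by
      ext Q; simp
    rw [this, Set.ncard_compl, Set.ncard_singleton, card_syl3 hcard]
  rw [h9] at h1
  have h2 := Subgroup.relIndex_mul_relIndex ⊥ (twoStab P Q₀) (MulAction.stabilizer G P) bot_le
    inf_le_left
  rw [Subgroup.relIndex_bot_left, Subgroup.relIndex_bot_left] at h2
  have h3 : (twoStab P Q₀).relIndex (MulAction.stabilizer G P) = 9 := by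
    rw [twoStab, Subgroup.inf_relIndex_left, h1]
  rw [h3, Sylow.stabilizer_eq_normalizer] at h2
  have h4 : Nat.card ↥(normalizer ((P : Subgroup G) : Set G)) = 36 := card_normalizer3 hcard P
  have h5' : Nat.card ↥(twoStab P Q₀) * 9 = 36 := h2.trans h4
  omega

omit [IsSimpleGroup G] in
theorem conj_mem_P {k : G} (hk : k ∈ twoStab P Q₀) {x : G} (hx : x ∈ (P : Subgroup G)) :
    k * x * k⁻¹ ∈ (P : Subgroup G) := by
  have h0 := (mem_twoStab.mp hk).1
  have hkN := Sylow.smul_eq_iff_mem_normalizer.mp h0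
  exact (mem_normalizer_iff.mp hkN x).mp hx

include hcard h5 hPQ in
/-- the two-point stabiliser acts fixed-point-freely on `P` -/
theorem fpf {k : G} (hk : k ∈ twoStab P Q₀) (hk1 : k ≠ 1) {x : G} (hx : x ∈ (P : Subgroup G))
    (hx1 : x ≠ 1) : k * x * k⁻¹ ≠ x := by
  intro h
  apply hk1
  obtain ⟨h0, h1⟩ := mem_twoStab.mp hk
  have hxP : x • P = P := Sylow.smul_eq_iff_mem_normalizer.mpr (le_normalizer hx)
  have h2 : k • (x • Q₀) = x • Q₀ := by
    rw [smul_smul]
    have : k * x = (k * x * k⁻¹) * k := by group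
    rw [this, h, mul_smul, h1]
  have hne1 : x • Q₀ ≠ Q₀ := fun h3 => hx1 (eq_one_of_smul_eq hcard hPQ hx h3)
  have hne2 : x • Q₀ ≠ P := by
    intro h3
    apply hPQ
    have : x • Q₀ = x • P := h3.trans hxP.symm
    exact MulAction.injective x this
  exact fix_three hcard h5 (Ne.symm hPQ) (Ne.symm hne2) (Ne.symm hne1) h0 h1 h2

include hcard h5 hPQ in
/-- involutions of the two-point stabiliser invert `P` -/
theorem invert {t : G} (ht : t ∈ twoStab P Q₀) (ht1 : t ≠ 1) (ht2 : t * t = 1) {x : G}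
    (hx : x ∈ (P : Subgroup G)) : t * x * t⁻¹ = x⁻¹ := by
  have htx : t * x * t⁻¹ ∈ (P : Subgroup G) := conj_mem_P ht hx
  set y : G := x * (t * x * t⁻¹) with hy
  have hyP : y ∈ (P : Subgroup G) := (P : Subgroup G).mul_mem hx htx
  have hty : t * y * t⁻¹ = y := by
    have h1 : t * y * t⁻¹ = (t * x * t⁻¹) * (t * t * x * (t * t)⁻¹) := by
      rw [hy]; group
    rw [h1, ht2, one_mul, inv_one, mul_one, hy]
    exact sylow3_comm hcard P htx hx
  have hy1 : y = 1 := by
    by_contra hne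
    exact fpf hcard h5 hPQ ht ht1 hyP hne hty
  rw [hy] at hy1
  exact (eq_inv_of_mul_eq_one_right hy1)

include hcard h5 hPQ in
/-- the two-point stabiliser contains an element of order `4` -/
theorem exists_kappa : ∃ κ ∈ twoStab P Q₀, κ * κ ≠ 1 := by
  by_contra hcon
  push Not at hcon
  have hK := card_K hcard hPQ
  -- two distinct non-identity elements
  haveI : Finite ↥(twoStab P Q₀) := inferInstance
  have h1 : ∃ t₁ : ↥(twoStab P Q₀), t₁ ≠ 1 := by
    by_contra hall
    push Not at hall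
    have : Nat.card ↥(twoStab P Q₀) ≤ 1 := by
      rw [Finite.card_le_one_iff_subsingleton]
      exact ⟨fun a b => (hall a).trans (hall b).symm⟩
    omega
  obtain ⟨t₁, ht₁⟩ := h1
  have h2 : ∃ t₂ : ↥(twoStab P Q₀), t₂ ≠ 1 ∧ t₂ ≠ t₁ := by
    by_contra hall
    push Not at hall
    classical
    haveI : Fintype ↥(twoStab P Q₀) := Fintype.ofFinite _
    have hsub : (Finset.univ : Finset ↥(twoStab P Q₀)) ⊆ {1, t₁} := by
      intro a _
      by_cases ha : a = 1
      · simp [ha]
      · simp [hall a ha]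
    have := Finset.card_le_card hsub
    rw [Finset.card_univ, ← Nat.card_eq_fintype_card, hK] at this
    have h3 : ({1, t₁} : Finset ↥(twoStab P Q₀)).card ≤ 2 := Finset.card_le_two
    omega
  obtain ⟨t₂, ht₂, ht₁₂⟩ := h2
  -- both invert `P`, so the product centralises `P`
  have hex : ∃ x ∈ (P : Subgroup G), x ≠ 1 := by
    by_contra hall
    push Not at hall
    have : (P : Subgroup G) = ⊥ := by
      rw [eq_bot_iff]; intro x hx; rw [Subgroup.mem_bot]; exact hall x hx
    have hc := card_sylow3 hcard P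
    rw [this, Subgroup.card_bot] at hc
    omega
  obtain ⟨x, hx, hx1⟩ := hex
  have hi₁ := invert hcard h5 hPQ t₁.2 (fun h => ht₁ (Subtype.ext h)) (hcon _ t₁.2) hx
  have hxinv : x⁻¹ ∈ (P : Subgroup G) := (P : Subgroup G).inv_mem hx
  have hi₂ := invert hcard h5 hPQ t₂.2 (fun h => ht₂ (Subtype.ext h)) (hcon _ t₂.2) hxinv
  have hprod : ((t₂ : G) * (t₁ : G)) * x * ((t₂ : G) * (t₁ : G))⁻¹ = x := by
    have : ((t₂ : G) * (t₁ : G)) * x * ((t₂ : G) * (t₁ : G))⁻¹
        = (t₂ : G) * ((t₁ : G) * x * (t₁ : G)⁻¹) * (t₂ : G)⁻¹ := by group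
    rw [this, hi₁, hi₂, inv_inv]
  have hne : (t₂ : G) * (t₁ : G) ≠ 1 := by
    intro h
    apply ht₁₂
    have h3 : (t₁ : G) * (t₁ : G) = 1 := hcon _ t₁.2
    apply Subtype.ext
    have : (t₂ : G) = (t₂ : G) * ((t₁ : G) * (t₁ : G)) := by rw [h3, mul_one]
    rw [this, ← mul_assoc, h, one_mul]
  exact fpf hcard h5 hPQ ((twoStab P Q₀).mul_mem t₂.2 t₁.2) hne hx hx1 hprod

end

end Cfsg.Agent.Helper3.A6
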