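import Mathlib

set_option autoImplicit false
set_option linter.style.haveILetI false
set_option linter.unusedSectionVars false

/-! Permutations of the projective line over `F₉`, modelled as `Option (ZMod 3 × ZMod 3)` with
`J (a,b) = (-b,a)` playing the role of multiplication by a square root of `-1`. -/

namespace Cfsg.Agent.Helper3.A6

open Equiv

abbrev V := ZMod 3 × ZMod 3

def J (v : V) : V := (-v.2, v.1)

def Jinv (v : V) : V := (v.2, -v.1)

def e1 : V := (1, 0)
def gg : V := (1, 1)

/-- value of the candidate map at `y ≠ 0`: `y = J^i e1 ↦ J^(j i) c₁`, `y = J^i g ↦ J^(j i) c₂`. -/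
def candVal (j : ℕ) (c₁ c₂ : V) (y : V) : V :=
  (List.range 4).foldr (fun i acc =>
    if y = J^[i] e1 then J^[j * i] c₁ else if y = J^[i] gg then J^[j * i] c₂ else acc) 0

def cand (j : ℕ) (c₁ c₂ : V) : Option V → Option V
  | none => some 0
  | some y => if y = 0 then none else some (candVal j c₁ c₂ y)

def oadd (w : V) (y : Option V) : Option V := y.map (w + ·)
def omulJ (s : ℕ) (y : Option V) : Option V := y.map (J^[s])

/-- the Bruhat condition at `x = e1` -/
def bruhat9 (T : Option V → Option V) : Prop :=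
  ∃ u v : V, ∃ s : Fin 4, ∀ y : Option V,
    T (oadd e1 (T y)) = oadd u (omulJ s.val (T (oadd v y)))

instance (T : Option V → Option V) : Decidable (bruhat9 T) := by
  unfold bruhat9; infer_instance

theorem F2 : ∀ y : V, y ≠ 0 → ∃ i : Fin 4, y = J^[i.val] e1 ∨ y = J^[i.val] gg := by decide

set_option maxRecDepth 1000000 in
theorem F3 : ∀ j : Fin 4, ∀ c₂ : V, ∀ c₁ ∈ [e1, gg], c₂ ≠ 0 →
    bruhat9 (cand j.val c₁ c₂) → (j = 3 ∧ c₁ = e1 ∧ c₂ = (2, 1)) := by
  decide +kernel

theorem J_four (v : V) : J^[4] v = v := by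
  revert v; decide

theorem J_iter_mod (i : ℕ) (v : V) : J^[i] v = J^[i % 4] v := by
  conv_lhs => rw [← Nat.mod_add_div i 4]
  rw [Function.iterate_add_apply]
  congr 1
  induction (i / 4) with
  | zero => rfl
  | succ k ih => rw [Nat.mul_succ, Function.iterate_add_apply, J_four, ih]

/-- generic evaluation lemma for `candVal`. -/
theorem candVal_eq {j : ℕ} {c₁ c₂ : V} {y val : V}
    (h1 : ∀ i < 4, y = J^[i] e1 → val = J^[j * i] c₁)
    (h2 : ∀ i < 4, y = J^[i] gg → val = J^[j * i] c₂)
    (hex : ∃ i < 4, y = J^[i] e1 ∨ y = J^[i] gg) :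
    candVal j c₁ c₂ y = val := by
  unfold candVal
  have key : ∀ L : List ℕ, (∀ i ∈ L, i < 4) → (∃ i ∈ L, y = J^[i] e1 ∨ y = J^[i] gg) →
      L.foldr (fun i acc =>
        if y = J^[i] e1 then J^[j * i] c₁ else if y = J^[i] gg then J^[j * i] c₂ else acc) 0
        = val := by
    intro L
    induction L with
    | nil => rintro - ⟨i, hi, -⟩; simp at hi
    | cons a L ih =>
      intro hL hex
      rw [List.foldr_cons]
      have ha : a < 4 := hL a (by simp)
      by_cases e1' : y = J^[a] e1
      · rw [if_pos e1']; exact (h1 a ha e1').symm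
      · rw [if_neg e1']
        by_cases e2 : y = J^[a] gg
        · rw [if_pos e2]; exact (h2 a ha e2).symm
        · rw [if_neg e2]
          apply ih (fun i hi => hL i (by simp [hi]))
          obtain ⟨i, hi, hy⟩ := hex
          rcases List.mem_cons.mp hi with rfl | hi'
          · rcases hy with hy | hy
            · exact absurd hy e1'
            · exact absurd hy e2
          · exact ⟨i, hi', hy⟩
  apply key
  · intro i hi; exact List.mem_range.mp hi
  · obtain ⟨i, hi, hy⟩ := hex
    exact ⟨i, List.mem_range.mpr hi, hy⟩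

end Cfsg.Agent.Helper3.A6
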