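import Mathlib
import Cfsg.Agent.Helper3.A6Perm1

set_option autoImplicit false
set_option linter.style.haveILetI false
set_option linter.unusedSectionVars false

namespace Cfsg.Agent.Helper3.A6

open Equiv

/-- translation `y ↦ w + y` fixing `∞` -/
def sh (w : V) : Perm (Option V) := optionCongr (Equiv.addLeft w)

def Jperm : Perm V := ⟨J, Jinv, by decide, by decide⟩

/-- multiplication by `J`, fixing `∞` -/
def mu : Perm (Option V) := optionCongr Jperm

@[simp] theorem sh_none (w : V) : sh w none = none := rfl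
@[simp] theorem sh_some (w y : V) : sh w (some y) = some (w + y) := rfl
@[simp] theorem mu_none : mu none = none := rfl
@[simp] theorem mu_some (y : V) : mu (some y) = some (J y) := rfl

theorem sh_apply (w : V) (y : Option V) : sh w y = oadd w y := by
  cases y <;> rfl

theorem sh_add (w w' : V) : sh (w + w') = sh w * sh w' := by
  ext1 y
  cases y with
  | none => rfl
  | some y => simp [Perm.mul_apply, add_assoc]

theorem sh_zero : sh (0 : V) = 1 := by
  ext1 y
  cases y with
  | none => rfl
  | some y => simp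

theorem sh_neg (w : V) : sh (-w) = (sh w)⁻¹ := by
  rw [eq_inv_iff_mul_eq_one, ← sh_add, neg_add_cancel, sh_zero]

theorem mu_pow_none (i : ℕ) : (mu ^ i) none = none := by
  induction i with
  | zero => rfl
  | succ i ih => rw [pow_succ', Perm.mul_apply, ih, mu_none]

theorem mu_pow_some (i : ℕ) (y : V) : (mu ^ i) (some y) = some (J^[i] y) := by
  induction i with
  | zero => rfl
  | succ i ih => rw [pow_succ', Perm.mul_apply, ih, mu_some, Function.iterate_succ_apply']

theorem mu_pow_apply (i : ℕ) (y : Option V) : (mu ^ i) y = omulJ i y := by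
  cases y with
  | none => exact mu_pow_none i
  | some y => exact mu_pow_some i y

theorem mu_four : mu ^ 4 = 1 := by
  ext1 y
  cases y with
  | none => rw [mu_pow_none]; rfl
  | some y => rw [mu_pow_some, J_four]; rfl

theorem mu_pow_mod (i : ℕ) : mu ^ i = mu ^ (i % 4) := by
  conv_lhs => rw [← Nat.mod_add_div i 4]
  rw [pow_add, pow_mul, mu_four, one_pow, mul_one]

theorem J_add (a b : V) : J (a + b) = J a + J b := by
  revert a b; decide

theorem Jiter_add (i : ℕ) (a b : V) : J^[i] (a + b) = J^[i] a + J^[i] b := by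
  induction i with
  | zero => rfl
  | succ i ih => rw [Function.iterate_succ_apply', Function.iterate_succ_apply',
      Function.iterate_succ_apply', ih, J_add]

theorem Jiter_zero (i : ℕ) : J^[i] (0 : V) = 0 := by
  induction i with
  | zero => rfl
  | succ i ih => rw [Function.iterate_succ_apply', ih]; decide

theorem Jiter_ne_zero (i : ℕ) {v : V} (hv : v ≠ 0) : J^[i] v ≠ 0 := by
  intro h
  apply hv
  have hinj : Function.Injective (J^[i]) := Function.Injective.iterate Jperm.injective i
  exact hinj (h.trans (Jiter_zero i).symm)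

theorem mu_pow_sh (i : ℕ) (v : V) : mu ^ i * sh v = sh (J^[i] v) * mu ^ i := by
  ext1 y
  cases y with
  | none => simp [Perm.mul_apply, mu_pow_none]
  | some y => simp [Perm.mul_apply, mu_pow_some, Jiter_add]

theorem exists_Jiter_eq (i : ℕ) (m : V) : ∃ v : V, J^[i] v = m :=
  (Function.Surjective.iterate Jperm.surjective i) m

/-- The conditions satisfied by the image of a simple group of order `360` acting on its `10`
Sylow `3`-subgroups, after normalisation. -/
structure ZCond9 (R : Subgroup (Perm (Option V))) : Prop where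
  sh_mem : ∀ w : V, sh w ∈ R
  mu_mem : mu ∈ R
  stab : ∀ π ∈ R, π none = none → π (some 0) = some 0 → ∃ j : ℕ, π = mu ^ j
  swap : ∃ T ∈ R, T none = some 0 ∧ T (some 0) = none

namespace ZCond9

variable {R : Subgroup (Perm (Option V))}

theorem stab_none (h : ZCond9 R) {π : Perm (Option V)} (hπ : π ∈ R)
    (h0 : π none = none) : ∃ (w : V) (j : ℕ), π = sh w * mu ^ j := by
  have h1 : π (some 0) ≠ none := by
    intro h1
    have := π.injective (h1.trans h0.symm)
    simp at this
  obtain ⟨w, hw⟩ := Option.ne_none_iff_exists'.mp h1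
  have hmem : sh (-w) * π ∈ R := R.mul_mem (h.sh_mem _) hπ
  obtain ⟨j, hj⟩ := h.stab _ hmem (by simp [Perm.mul_apply, h0])
    (by simp [Perm.mul_apply, hw])
  refine ⟨w, j, ?_⟩
  rw [← hj, sh_neg, mul_inv_cancel_left]

theorem conj_mu (h : ZCond9 R) {T : Perm (Option V)} (hT : T ∈ R)
    (hT0 : T none = some 0) (hT1 : T (some 0) = none) :
    ∃ j : Fin 4, T * mu = mu ^ j.val * T := by
  have hi0 : T⁻¹ none = some 0 := by rw [Perm.inv_eq_iff_eq]; exact hT1.symm
  have hi1 : T⁻¹ (some 0) = none := by rw [Perm.inv_eq_iff_eq]; exact hT0.symm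
  have hmem : T * mu * T⁻¹ ∈ R := R.mul_mem (R.mul_mem hT h.mu_mem) (R.inv_mem hT)
  have hJ0 : J 0 = (0 : V) := by decide
  obtain ⟨j, hj⟩ := h.stab _ hmem (by simp [Perm.mul_apply, hi0, hJ0, hT1])
    (by simp [Perm.mul_apply, hi1, hT0])
  refine ⟨⟨j % 4, Nat.mod_lt _ (by norm_num)⟩, ?_⟩
  show T * mu = mu ^ (j % 4) * T
  rw [← mu_pow_mod, ← hj, inv_mul_cancel_right]

theorem conj_mu_pow {T : Perm (Option V)} {j : ℕ} (hconj : T * mu = mu ^ j * T) (c : ℕ) :
    T * mu ^ c = mu ^ (j * c) * T := by
  induction c with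
  | zero => simp
  | succ c ih =>
    rw [pow_succ, ← mul_assoc, ih, mul_assoc, hconj, ← mul_assoc, ← pow_add, Nat.mul_succ]

theorem form (h : ZCond9 R) {T : Perm (Option V)} (hT : T ∈ R)
    (hT0 : T none = some 0) (hT1 : T (some 0) = none) {π : Perm (Option V)} (hπ : π ∈ R)
    (h0 : π none ≠ none) :
    ∃ (w v : V) (j : ℕ), π = sh w * mu ^ j * T * sh v := by
  obtain ⟨w, hw⟩ := Option.ne_none_iff_exists'.mp h0
  have hi1 : T⁻¹ (some 0) = none := by rw [Perm.inv_eq_iff_eq]; exact hT0.symm
  have hmem : T⁻¹ * sh (-w) * π ∈ R :=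
    R.mul_mem (R.mul_mem (R.inv_mem hT) (h.sh_mem _)) hπ
  obtain ⟨m, c, hσ⟩ := h.stab_none hmem (by simp [Perm.mul_apply, hw, hi1])
  obtain ⟨j, hconj⟩ := h.conj_mu hT hT0 hT1
  obtain ⟨v, hv⟩ := exists_Jiter_eq c m
  refine ⟨w, v, j.val * c, ?_⟩
  have e1 : π = sh w * T * (sh m * mu ^ c) := by
    rw [← hσ, sh_neg]; group
  have e2 : sh m * mu ^ c = mu ^ c * sh v := by
    rw [mu_pow_sh, hv]
  rw [e1, e2]
  calc sh w * T * (mu ^ c * sh v)
      = sh w * (T * mu ^ c) * sh v := by group
    _ = sh w * (mu ^ (j.val * c) * T) * sh v := by rw [conj_mu_pow hconj]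
    _ = sh w * mu ^ (j.val * c) * T * sh v := by group

/-- the Bruhat condition for a swapping element -/
theorem bruhat (h : ZCond9 R) {T : Perm (Option V)} (hT : T ∈ R)
    (hT0 : T none = some 0) (hT1 : T (some 0) = none) : bruhat9 ⇑T := by
  have hne : T (some e1) ≠ none := by
    intro h1
    have := T.injective (h1.trans hT1.symm)
    have h2 : e1 = (0 : V) := Option.some.inj this
    exact absurd h2 (by decide)
  have hmem : T * sh e1 * T ∈ R := R.mul_mem (R.mul_mem hT (h.sh_mem _)) hT
  obtain ⟨u, v, s, hπ⟩ := h.form hT hT0 hT1 hmem (by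
    simp only [Perm.mul_apply, hT0, sh_some, add_zero]; exact hne)
  refine ⟨u, v, ⟨s % 4, Nat.mod_lt _ (by norm_num)⟩, ?_⟩
  intro y
  have := congrArg (fun π : Perm (Option V) => π y) hπ
  simp only [Perm.mul_apply] at this
  rw [← sh_apply, ← sh_apply, ← sh_apply, ← mu_pow_apply]
  show T (sh e1 (T y)) = sh u ((mu ^ (s % 4)) (T (sh v y)))
  rw [← mu_pow_mod]
  exact this

end ZCond9

end Cfsg.Agent.Helper3.A6
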