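import Mathlib
import Cfsg.Agent.Helper3.A6Perm2

set_option autoImplicit false
set_option linter.style.haveILetI false
set_option linter.unusedSectionVars false

namespace Cfsg.Agent.Helper3.A6

open Equiv

namespace ZCond9

variable {R : Subgroup (Perm (Option V))}

/-- a swapping element is a candidate map -/
theorem eq_cand (h : ZCond9 R) {T : Perm (Option V)} (hT : T ∈ R)
    (hT0 : T none = some 0) (hT1 : T (some 0) = none) :
    ∃ (j : Fin 4) (c₁ c₂ : V), c₁ ≠ 0 ∧ c₂ ≠ 0 ∧ T (some e1) = some c₁ ∧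
      ⇑T = cand j.val c₁ c₂ := by
  obtain ⟨j, hconj⟩ := h.conj_mu hT hT0 hT1
  have hstep : ∀ y : V, T (some (J y)) = omulJ j.val (T (some y)) := by
    intro y
    have := congrArg (fun π : Perm (Option V) => π (some y)) hconj
    simp only [Perm.mul_apply, mu_some] at this
    rw [this, mu_pow_apply]
  have hval : ∀ y : V, y ≠ 0 → ∃ z : V, z ≠ 0 ∧ T (some y) = some z := by
    intro y hy
    cases hz : T (some y) with
    | none =>
      exfalso
      have := T.injective (hz.trans hT1.symm)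
      exact hy (Option.some.inj this)
    | some z =>
      refine ⟨z, ?_, rfl⟩
      intro hz0
      rw [hz0] at hz
      have := T.injective (hz.trans hT0.symm)
      simp at this
  have hpow : ∀ (i : ℕ) (y z : V), T (some y) = some z →
      T (some (J^[i] y)) = some (J^[j.val * i] z) := by
    intro i
    induction i with
    | zero => intro y z hz; simpa using hz
    | succ i ih =>
      intro y z hz
      rw [Function.iterate_succ_apply', hstep, ih y z hz]
      simp only [omulJ, Option.map_some]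
      congr 1
      rw [← Function.iterate_add_apply, Nat.mul_succ, add_comm]
  obtain ⟨c₁, hc₁, hT1'⟩ := hval e1 (by decide)
  obtain ⟨c₂, hc₂, hTg⟩ := hval gg (by decide)
  refine ⟨j, c₁, c₂, hc₁, hc₂, hT1', ?_⟩
  funext y
  cases y with
  | none => rw [hT0]; rfl
  | some y =>
    by_cases hy : y = 0
    · rw [hy, hT1]; simp [cand]
    · obtain ⟨z, -, hz⟩ := hval y hy
      rw [hz]
      simp only [cand, if_neg hy]
      congr 1
      symm
      apply candVal_eq
      · intro i _ hi
        have := hpow i e1 c₁ hT1'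
        rw [← hi, hz] at this
        exact Option.some.inj this
      · intro i _ hi
        have := hpow i gg c₂ hTg
        rw [← hi, hz] at this
        exact Option.some.inj this
      · obtain ⟨i, hi⟩ := F2 y hy
        exact ⟨i.val, i.isLt, hi⟩

/-- after normalisation the swapping element is the fixed candidate map -/
theorem exists_normalized (h : ZCond9 R) :
    ∃ T ∈ R, T none = some 0 ∧ T (some 0) = none ∧ ⇑T = cand 3 e1 (2, 1) := by
  obtain ⟨T, hT, hT0, hT1⟩ := h.swap
  obtain ⟨-, c₁, -, hc₁, -, hT1', -⟩ := h.eq_cand hT hT0 hT1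
  obtain ⟨i, hi⟩ := F2 c₁ hc₁
  set T' : Perm (Option V) := (mu ^ i.val)⁻¹ * T with hT'
  have hT'R : T' ∈ R := R.mul_mem (R.inv_mem (R.pow_mem h.mu_mem _)) hT
  have hinv_none : (mu ^ i.val)⁻¹ none = none := by
    rw [Perm.inv_eq_iff_eq, mu_pow_none]
  have hinv_zero : (mu ^ i.val)⁻¹ (some 0) = some 0 := by
    rw [Perm.inv_eq_iff_eq, mu_pow_some, Jiter_zero]
  have hT'0 : T' none = some 0 := by
    simp only [hT', Perm.mul_apply, hT0, hinv_zero]
  have hT'1 : T' (some 0) = none := by
    simp only [hT', Perm.mul_apply, hT1, hinv_none]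
  obtain ⟨j, d₁, d₂, -, hd₂, hd1, hfun⟩ := h.eq_cand hT'R hT'0 hT'1
  have hmem : d₁ ∈ [e1, gg] := by
    have hT'e : T' (some e1) = (mu ^ i.val)⁻¹ (some c₁) := by
      simp only [hT', Perm.mul_apply, hT1']
    rw [hT'e] at hd1
    rcases hi with hi | hi
    · have : (mu ^ i.val)⁻¹ (some c₁) = some e1 := by
        rw [Perm.inv_eq_iff_eq, mu_pow_some, hi]
      rw [this] at hd1
      rw [← Option.some.inj hd1]; simp
    · have : (mu ^ i.val)⁻¹ (some c₁) = some gg := by
        rw [Perm.inv_eq_iff_eq, mu_pow_some, hi]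
      rw [this] at hd1
      rw [← Option.some.inj hd1]; simp
  have hb := h.bruhat hT'R hT'0 hT'1
  rw [hfun] at hb
  obtain ⟨e1', e2, e3⟩ := F3 j d₂ d₁ hmem hd₂ hb
  refine ⟨T', hT'R, hT'0, hT'1, ?_⟩
  rw [hfun, e1', e2, e3]
  rfl

theorem le_of_normalized (h : ZCond9 R) {R' : Subgroup (Perm (Option V))}
    (h' : ZCond9 R') {T : Perm (Option V)} (hT : T ∈ R) (hT' : T ∈ R')
    (hT0 : T none = some 0) (hT1 : T (some 0) = none) : R ≤ R' := by
  intro π hπ
  by_cases h0 : π none = none
  · obtain ⟨w, j, rfl⟩ := h.stab_none hπ h0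
    exact R'.mul_mem (h'.sh_mem w) (R'.pow_mem h'.mu_mem j)
  · obtain ⟨w, v, j, rfl⟩ := h.form hT hT0 hT1 hπ h0
    exact R'.mul_mem (R'.mul_mem (R'.mul_mem (h'.sh_mem w) (R'.pow_mem h'.mu_mem j)) hT')
      (h'.sh_mem v)

/-- Uniqueness: two subgroups satisfying the conditions coincide. -/
theorem unique {R₁ R₂ : Subgroup (Perm (Option V))}
    (h₁ : ZCond9 R₁) (h₂ : ZCond9 R₂) : R₁ = R₂ := by
  obtain ⟨T₁, hT₁, h10, h11, hf₁⟩ := h₁.exists_normalized
  obtain ⟨T₂, hT₂, h20, h21, hf₂⟩ := h₂.exists_normalized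
  have hTT : T₁ = T₂ := DFunLike.coe_injective (hf₁.trans hf₂.symm)
  subst hTT
  exact le_antisymm (h₁.le_of_normalized h₂ hT₁ hT₂ h10 h11)
    (h₂.le_of_normalized h₁ hT₂ hT₁ h10 h11)

end ZCond9

end Cfsg.Agent.Helper3.A6
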