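import Mathlib
import Cfsg.Agent.Helper3.A6Grp5
import Cfsg.Agent.Helper3.A6Perm3

set_option autoImplicit false
set_option linter.style.haveILetI false
set_option linter.unusedSectionVars false

/-! Coordinates on the Sylow `3`-subgroup and the normal form of the permutation
representation. -/

namespace Cfsg.Agent.Helper3.A6

open Equiv Subgroup MulAction Cfsg.Agent.Helper3.ZP

variable {G : Type*} [Group G] [Finite G]

/-- `(a,b) ↦ x₀^a x₁^b` -/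
def phi (x₀ x₁ : G) (v : V) : G := zpw x₀ v.1 * zpw x₁ v.2

section phi

variable {x₀ x₁ : G} (h0 : x₀ ^ 3 = 1) (h1 : x₁ ^ 3 = 1) (hc : Commute x₀ x₁)

include h0 h1 hc in
theorem phi_add (u v : V) : phi x₀ x₁ (u + v) = phi x₀ x₁ u * phi x₀ x₁ v := by
  unfold phi
  rw [Prod.fst_add, Prod.snd_add, zpw_add h0, zpw_add h1]
  have hc' : Commute (zpw x₁ u.2) (zpw x₀ v.1) := by
    unfold zpw
    exact (hc.symm.pow_pow _ _)
  calc zpw x₀ u.1 * zpw x₀ v.1 * (zpw x₁ u.2 * zpw x₁ v.2)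
      = zpw x₀ u.1 * (zpw x₀ v.1 * zpw x₁ u.2) * zpw x₁ v.2 := by group
    _ = zpw x₀ u.1 * (zpw x₁ u.2 * zpw x₀ v.1) * zpw x₁ v.2 := by rw [hc'.eq]
    _ = zpw x₀ u.1 * zpw x₁ u.2 * (zpw x₀ v.1 * zpw x₁ v.2) := by group

theorem phi_zero : phi x₀ x₁ (0 : V) = 1 := by
  unfold phi
  rw [Prod.fst_zero, Prod.snd_zero, zpw_zero, zpw_zero, one_mul]

include h0 h1 hc in
theorem phi_nsmul (n : ℕ) (v : V) : phi x₀ x₁ (n • v) = phi x₀ x₁ v ^ n := by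
  induction n with
  | zero => rw [zero_smul, pow_zero, phi_zero]
  | succ n ih => rw [succ_nsmul, phi_add h0 h1 hc, ih, pow_succ]

theorem phi_e1 : phi x₀ x₁ e1 = x₀ := by
  unfold phi e1
  rw [zpw_one, zpw_zero, mul_one]

theorem phi_mem {Q : Subgroup G} (hx0 : x₀ ∈ Q) (hx1 : x₁ ∈ Q) (v : V) : phi x₀ x₁ v ∈ Q :=
  Q.mul_mem (zpw_mem hx0 _) (zpw_mem hx1 _)

include h0 h1 hc in
theorem phi_neg (v : V) : phi x₀ x₁ (-v) = (phi x₀ x₁ v)⁻¹ := by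
  rw [eq_inv_iff_mul_eq_one, ← phi_add h0 h1 hc, neg_add_cancel, phi_zero]

theorem span_e1 : ∀ v : V, v ≠ 0 → ∃ a b : Fin 3, a.val • v + b.val • J v = e1 := by decide

include h0 h1 hc in
/-- conjugation by `κ` corresponds to `J` -/
theorem phi_J {κ : G} (hκ0 : κ * x₀ * κ⁻¹ = x₁) (hκ1 : κ * x₁ * κ⁻¹ = x₀⁻¹) (v : V) :
    κ * phi x₀ x₁ v * κ⁻¹ = phi x₀ x₁ (J v) := by
  have e0 : ∀ m : ZMod 3, κ * zpw x₀ m * κ⁻¹ = zpw x₁ m := by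
    intro m; unfold zpw; rw [← conj_pow, hκ0]
  have e1' : ∀ m : ZMod 3, κ * zpw x₁ m * κ⁻¹ = zpw x₀ (-m) := by
    intro m
    have h2 : zpw x₀ (-m) = (zpw x₀ m)⁻¹ := by
      rw [eq_inv_iff_mul_eq_one, ← zpw_add h0, neg_add_cancel, zpw_zero]
    rw [h2]
    unfold zpw
    rw [← conj_pow, hκ1, inv_pow]
  have hc' : Commute (zpw x₁ v.1) (zpw x₀ (-v.2)) := by
    unfold zpw
    exact (hc.symm.pow_pow _ _)
  unfold phi J
  show κ * (zpw x₀ v.1 * zpw x₁ v.2) * κ⁻¹ = zpw x₀ (-v.2) * zpw x₁ v.1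
  calc κ * (zpw x₀ v.1 * zpw x₁ v.2) * κ⁻¹
      = (κ * zpw x₀ v.1 * κ⁻¹) * (κ * zpw x₁ v.2 * κ⁻¹) := by group
    _ = zpw x₁ v.1 * zpw x₀ (-v.2) := by rw [e0, e1']
    _ = zpw x₀ (-v.2) * zpw x₁ v.1 := hc'.eq

include h0 h1 hc in
theorem phi_eq_one {κ : G} (hκ0 : κ * x₀ * κ⁻¹ = x₁) (hκ1 : κ * x₁ * κ⁻¹ = x₀⁻¹)
    (hx0 : x₀ ≠ 1) {v : V} (hv : phi x₀ x₁ v = 1) : v = 0 := by
  by_contra hne
  obtain ⟨a, b, hab⟩ := span_e1 v hne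
  have hJ : phi x₀ x₁ (J v) = 1 := by
    rw [← phi_J h0 h1 hc hκ0 hκ1, hv, mul_one, mul_inv_cancel]
  have h2 : phi x₀ x₁ e1 = 1 := by
    rw [← hab, phi_add h0 h1 hc, phi_nsmul h0 h1 hc, phi_nsmul h0 h1 hc, hv, hJ, one_pow, one_pow,
      one_mul]
  rw [phi_e1] at h2
  exact hx0 h2

end phi

end Cfsg.Agent.Helper3.A6
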