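import Mathlib
import Cfsg.Agent.Helper3.A6Grp6

set_option autoImplicit false
set_option linter.style.haveILetI false
set_option linter.unusedSectionVars false

/-! The normal form of the action of a simple group of order `360` (with `36` Sylow
`5`-subgroups) on its ten Sylow `3`-subgroups. -/

namespace Cfsg.Agent.Helper3.A6

open Equiv Subgroup MulAction Cfsg.Agent.Helper3.ZP

variable {G : Type*} [Group G] [Finite G]

/-- the permutation representation on `Option V` transported along `E` -/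
noncomputable def rep9 (E : Option V ≃ Sylow 3 G) : G →* Perm (Option V) :=
  (E.symm.permCongrHom).toMonoidHom.comp (MulAction.toPermHom G (Sylow 3 G))

theorem rep9_apply (E : Option V ≃ Sylow 3 G) (g : G) (x : Option V) :
    rep9 E g x = E.symm (g • E x) := by
  simp [rep9, Equiv.permCongrHom, MulAction.toPermHom_apply]

theorem rep9_injective (hfaith : ∀ g : G, (∀ Q : Sylow 3 G, g • Q = Q) → g = 1)
    (E : Option V ≃ Sylow 3 G) : Function.Injective (rep9 E) := by
  rw [injective_iff_map_eq_one]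
  intro g hg
  apply hfaith
  intro Q
  have h1 := congrArg (fun π : Perm (Option V) => π (E.symm Q)) hg
  simp only [rep9_apply, Equiv.apply_symm_apply, Perm.coe_one, id_eq] at h1
  exact E.symm.injective h1

/-- the orbit map -/
def orbMap9 (P Q₀ : Sylow 3 G) (x₀ x₁ : G) : Option V → Sylow 3 G
  | none => P
  | some v => phi x₀ x₁ v • Q₀

theorem mem_powers_kappa {P Q₀ : Sylow 3 G} {κ g : G} (hK : Nat.card ↥(twoStab P Q₀) = 4)
    (hκ : κ ∈ twoStab P Q₀) (hκ2 : κ * κ ≠ 1) (hg : g ∈ twoStab P Q₀) : ∃ j : ℕ, g = κ ^ j := by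
  set k : ↥(twoStab P Q₀) := ⟨κ, hκ⟩ with hkdef
  have hk4 : k ^ 4 = 1 := by rw [← hK]; exact pow_card_eq_one'
  have hord : orderOf k = 4 := by
    have hd : orderOf k ∣ 4 := orderOf_dvd_of_pow_eq_one hk4
    have hle := Nat.le_of_dvd (by norm_num) hd
    have h1 : orderOf k ≠ 1 := by
      intro h
      rw [orderOf_eq_one_iff] at h
      apply hκ2
      have h' : κ = 1 := congrArg Subtype.val h
      rw [h', one_mul]
    have h2 : orderOf k ≠ 2 := by
      intro h
      apply hκ2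
      have h' := pow_orderOf_eq_one k
      rw [h, pow_two] at h'
      exact congrArg Subtype.val h'
    have h3 : orderOf k ≠ 3 := by
      intro h; rw [h] at hd; norm_num at hd
    have h0 : orderOf k ≠ 0 := (orderOf_pos k).ne'
    omega
  have htop : zpowers k = ⊤ := by
    apply Subgroup.eq_top_of_card_eq
    rw [Nat.card_zpowers, hord, hK]
  have hmem : (⟨g, hg⟩ : ↥(twoStab P Q₀)) ∈ zpowers k := by rw [htop]; trivial
  rw [← mem_powers_iff_mem_zpowers] at hmem
  obtain ⟨j, hj⟩ := hmem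
  refine ⟨j, ?_⟩
  have := congrArg Subtype.val hj
  simpa [hkdef] using this.symm

section data

variable [IsSimpleGroup G] (hcard : Nat.card G = 360) (h5 : Nat.card (Sylow 5 G) = 36)
  {P Q₀ : Sylow 3 G} (hPQ : Q₀ ≠ P) {x₀ x₁ κ : G}
  (hx0P : x₀ ∈ (P : Subgroup G)) (hx1P : x₁ ∈ (P : Subgroup G))
  (h0 : x₀ ^ 3 = 1) (h1 : x₁ ^ 3 = 1) (hc : Commute x₀ x₁)
  (hκ : κ ∈ twoStab P Q₀) (hκ0 : κ * x₀ * κ⁻¹ = x₁) (hκ1 : κ * x₁ * κ⁻¹ = x₀⁻¹)
  (hx0 : x₀ ≠ 1)

include hx0P hx1P in
theorem phi_smul_P (v : V) : phi x₀ x₁ v • P = P :=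
  Sylow.smul_eq_iff_mem_normalizer.mpr (le_normalizer (phi_mem hx0P hx1P v))

include hcard hPQ hx0P hx1P h0 h1 hc hκ0 hκ1 hx0 in
theorem orbMap9_injective : Function.Injective (orbMap9 P Q₀ x₀ x₁) := by
  intro a b hab
  cases a with
  | none =>
    cases b with
    | none => rfl
    | some w =>
      exfalso
      apply hPQ
      have h2 : phi x₀ x₁ w • Q₀ = phi x₀ x₁ w • P := by
        rw [phi_smul_P hx0P hx1P]; exact hab.symm
      exact MulAction.injective _ h2
  | some v =>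
    cases b with
    | none =>
      exfalso
      apply hPQ
      have h2 : phi x₀ x₁ v • Q₀ = phi x₀ x₁ v • P := by
        rw [phi_smul_P hx0P hx1P]; exact hab
      exact MulAction.injective _ h2
    | some w =>
      have h2 : phi x₀ x₁ v • Q₀ = phi x₀ x₁ w • Q₀ := hab
      have h3 : phi x₀ x₁ (-w + v) • Q₀ = Q₀ := by
        rw [phi_add h0 h1 hc, phi_neg h0 h1 hc, mul_smul, h2, inv_smul_smul]
      have h4 : phi x₀ x₁ (-w + v) = 1 :=
        eq_one_of_smul_eq hcard hPQ (phi_mem hx0P hx1P _) h3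
      have h5 : -w + v = 0 := phi_eq_one h0 h1 hc hκ0 hκ1 hx0 h4
      have : v = w := by
        have := congrArg (fun z => w + z) h5
        simpa using this
      rw [this]

include hcard hPQ hx0P hx1P h0 h1 hc hκ0 hκ1 hx0 in
theorem orbMap9_bijective : Function.Bijective (orbMap9 P Q₀ x₀ x₁) := by
  apply (orbMap9_injective hcard hPQ hx0P hx1P h0 h1 hc hκ0 hκ1 hx0).bijective_of_nat_card_le
  rw [card_syl3 hcard, Nat.card_eq_fintype_card]
  decide

variable (E : Option V ≃ Sylow 3 G) (hE : ∀ x, E x = orbMap9 P Q₀ x₀ x₁ x)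

include hE in
theorem E9_none : E none = P := by rw [hE]; rfl

include hE in
theorem E9_some (v : V) : E (some v) = phi x₀ x₁ v • Q₀ := by rw [hE]; rfl

include hE in
theorem E9_zero : E (some 0) = Q₀ := by rw [E9_some E hE, phi_zero, one_smul]

include hE hx0P hx1P h0 h1 hc in
theorem rep9_phi (w : V) : rep9 E (phi x₀ x₁ w) = sh w := by
  ext1 x
  rw [rep9_apply]
  cases x with
  | none =>
    rw [E9_none E hE, sh_none, Equiv.symm_apply_eq, E9_none E hE]
    exact phi_smul_P hx0P hx1P w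
  | some v =>
    rw [E9_some E hE, sh_some, Equiv.symm_apply_eq, E9_some E hE, smul_smul, phi_add h0 h1 hc]

include hE h0 h1 hc hκ hκ0 hκ1 in
theorem rep9_kappa : rep9 E κ = mu := by
  obtain ⟨hκP, hκQ⟩ := mem_twoStab.mp hκ
  ext1 x
  rw [rep9_apply]
  cases x with
  | none =>
    rw [E9_none E hE, mu_none, Equiv.symm_apply_eq, E9_none E hE]
    exact hκP
  | some v =>
    rw [E9_some E hE, mu_some, Equiv.symm_apply_eq, E9_some E hE, smul_smul]
    have e1 : κ * phi x₀ x₁ v = phi x₀ x₁ (J v) * κ := by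
      rw [← phi_J h0 h1 hc hκ0 hκ1]; group
    rw [e1, mul_smul, hκQ]

include hE in
theorem smul_of_rep9_none {g : G} (h : rep9 E g none = none) : g • P = P := by
  rw [rep9_apply, Equiv.symm_apply_eq, E9_none E hE] at h; exact h

include hE in
theorem smul_of_rep9_zero {g : G} (h : rep9 E g (some 0) = some 0) : g • Q₀ = Q₀ := by
  rw [rep9_apply, Equiv.symm_apply_eq, E9_zero E hE] at h; exact h

end data

theorem some_zero_ne_e1 : (some (0 : V) : Option V) ≠ some e1 := by decide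

/-- The normal form. -/
theorem exists_rep9 [IsSimpleGroup G] (hcard : Nat.card G = 360)
    (h5 : Nat.card (Sylow 5 G) = 36) :
    ∃ ρ : G →* Perm (Option V), Function.Injective ρ ∧ ZCond9 ρ.range := by
  haveI := fact3
  obtain ⟨P⟩ : Nonempty (Sylow 3 G) := inferInstance
  have hex : ∃ Q₀ : Sylow 3 G, Q₀ ≠ P := by
    by_contra hcon
    push Not at hcon
    have : Nat.card (Sylow 3 G) ≤ 1 := by
      rw [Finite.card_le_one_iff_subsingleton]
      exact ⟨fun x y => (hcon x).trans (hcon y).symm⟩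
    rw [card_syl3 hcard] at this
    omega
  obtain ⟨Q₀, hPQ⟩ := hex
  obtain ⟨κ, hκ, hκ2⟩ := exists_kappa hcard h5 hPQ
  have hK := card_K hcard hPQ
  have hκ4 : κ ^ 4 = 1 := by
    have : (⟨κ, hκ⟩ : ↥(twoStab P Q₀)) ^ Nat.card ↥(twoStab P Q₀) = 1 := pow_card_eq_one'
    rw [hK] at this
    exact congrArg Subtype.val this
  have ht : κ * κ ∈ twoStab P Q₀ := (twoStab P Q₀).mul_mem hκ hκ
  have ht2 : (κ * κ) * (κ * κ) = 1 := by
    rw [← hκ4, pow_succ, pow_succ, pow_succ, pow_one]; group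
  -- an element of order 3 in P
  obtain ⟨a', ha'⟩ := exists_prime_orderOf_dvd_card' (G := ↥(P : Subgroup G)) 3
    (by rw [card_sylow3 hcard P]; norm_num)
  set x₀ : G := (a' : G) with hx₀def
  have hx0P : x₀ ∈ (P : Subgroup G) := a'.2
  have hox : orderOf x₀ = 3 := by rw [hx₀def, Subgroup.orderOf_coe, ha']
  have h0 : x₀ ^ 3 = 1 := by rw [← hox]; exact pow_orderOf_eq_one x₀
  have hx0 : x₀ ≠ 1 := by
    intro h
    rw [h, orderOf_one] at hox
    norm_num at hox
  set x₁ : G := κ * x₀ * κ⁻¹ with hx₁def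
  have hx1P : x₁ ∈ (P : Subgroup G) := conj_mem_P hκ hx0P
  have h1 : x₁ ^ 3 = 1 := by rw [hx₁def, conj_pow, h0, mul_one, mul_inv_cancel]
  have hc : Commute x₀ x₁ := sylow3_comm hcard P hx0P hx1P
  have hκ1 : κ * x₁ * κ⁻¹ = x₀⁻¹ := by
    have := invert hcard h5 hPQ ht hκ2 ht2 hx0P
    rw [← this, hx₁def]; group
  set E : Option V ≃ Sylow 3 G :=
    Equiv.ofBijective (orbMap9 P Q₀ x₀ x₁)
      (orbMap9_bijective hcard hPQ hx0P hx1P h0 h1 hc rfl hκ1 hx0) with hEdef
  have hE : ∀ x, E x = orbMap9 P Q₀ x₀ x₁ x := fun x => rfl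
  -- faithfulness
  have hfaith : ∀ g : G, (∀ Q : Sylow 3 G, g • Q = Q) → g = 1 := by
    intro g hg
    have hne1 : E none ≠ E (some 0) := fun h => by simpa using E.injective h
    have hne2 : E none ≠ E (some e1) := fun h => by simpa using E.injective h
    have h01 : (some (0 : V) : Option V) ≠ some e1 := some_zero_ne_e1
    have hne3 : E (some 0) ≠ E (some e1) := fun h => h01 (E.injective h)
    exact fix_three hcard h5 hne1 hne2 hne3 (hg _) (hg _) (hg _)
  refine ⟨rep9 E, rep9_injective hfaith E, ?_, ?_, ?_, ?_⟩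
  · intro w
    exact ⟨phi x₀ x₁ w, rep9_phi hx0P hx1P h0 h1 hc E hE w⟩
  · exact ⟨κ, rep9_kappa h0 h1 hc hκ rfl hκ1 E hE⟩
  · rintro _ ⟨g, rfl⟩ hg0 hg1
    have hg : g ∈ twoStab P Q₀ :=
      mem_twoStab.mpr ⟨smul_of_rep9_none E hE hg0, smul_of_rep9_zero E hE hg1⟩
    obtain ⟨j, hj⟩ := mem_powers_kappa hK hκ hκ2 hg
    refine ⟨j, ?_⟩
    rw [hj, map_pow, rep9_kappa h0 h1 hc hκ rfl hκ1 E hE]
  · obtain ⟨g, hg1, hg2⟩ := two_trans hcard P Q₀ Q₀ P (Ne.symm hPQ) hPQ
    refine ⟨rep9 E g, ⟨g, rfl⟩, ?_, ?_⟩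
    · rw [rep9_apply, Equiv.symm_apply_eq, E9_none E hE, E9_zero E hE]; exact hg1
    · rw [rep9_apply, Equiv.symm_apply_eq, E9_zero E hE, E9_none E hE]; exact hg2

end Cfsg.Agent.Helper3.A6
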