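import Mathlib
import Cfsg.Agent.Helper3.A6Grp7
import Cfsg.Agent.S0991

set_option autoImplicit false
set_option linter.style.haveILetI false
set_option linter.unusedSectionVars false

/-! A simple group of order `360` is isomorphic to the alternating group of degree `6`. -/

namespace Cfsg.Agent.Helper3.A6

open Equiv Subgroup

theorem card_A6 : Nat.card ↥(alternatingGroup (Fin 6)) = 360 := by
  rw [nat_card_alternatingGroup, Nat.card_eq_fintype_card, Fintype.card_fin]
  decide

theorem simple_A6 : IsSimpleGroup ↥(alternatingGroup (Fin 6)) :=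
  alternatingGroup.isSimpleGroup (by rw [Nat.card_eq_fintype_card, Fintype.card_fin]; norm_num)

set_option maxRecDepth 1000000 in
theorem count5 :
    (Finset.univ.filter (fun g : Perm (Fin 6) => g ^ 5 = 1 ∧ g ≠ 1)).card = 144 := by
  decide +kernel

theorem card_order5_A6 :
    Nat.card {g : ↥(alternatingGroup (Fin 6)) // orderOf g = 5} = 144 := by
  rw [← count5, ← Fintype.card_subtype, ← Nat.card_eq_fintype_card]
  apply Nat.card_congr
  refine
    { toFun := fun g => ⟨((g.1 : ↥(alternatingGroup (Fin 6))) : Perm (Fin 6)), ?_, ?_⟩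
      invFun := fun g => ⟨⟨g.1, ?_⟩, ?_⟩
      left_inv := fun g => rfl
      right_inv := fun g => rfl }
  · have h1 : orderOf ((g.1 : ↥(alternatingGroup (Fin 6))) : Perm (Fin 6)) = 5 := by
      rw [Subgroup.orderOf_coe]; exact g.2
    have h2 := pow_orderOf_eq_one (((g.1 : ↥(alternatingGroup (Fin 6))) : Perm (Fin 6)))
    rw [h1] at h2
    exact h2
  · intro h
    have h1 : orderOf ((g.1 : ↥(alternatingGroup (Fin 6))) : Perm (Fin 6)) = 5 := by
      rw [Subgroup.orderOf_coe]; exact g.2
    rw [h, orderOf_one] at h1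
    norm_num at h1
  · rw [Equiv.Perm.mem_alternatingGroup]
    have h1 : Perm.sign g.1 ^ 5 = 1 := by rw [← map_pow, g.2.1, map_one]
    rcases Int.units_eq_one_or (Perm.sign g.1) with h | h
    · exact h
    · rw [h] at h1
      exact absurd h1 (by decide)
  · haveI : Fact (Nat.Prime 5) := ⟨by norm_num⟩
    have h1 : orderOf (g.1 : Perm (Fin 6)) = 5 := orderOf_eq_prime g.2.1 g.2.2
    rw [← Subgroup.orderOf_coe]
    exact h1

theorem card_syl5_A6 : Nat.card (Sylow 5 ↥(alternatingGroup (Fin 6))) = 36 := by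
  haveI := simple_A6
  obtain ⟨P⟩ : Nonempty (Sylow 5 ↥(alternatingGroup (Fin 6))) := inferInstance
  have h := Cfsg.Agent.Helper11.card_orderOf_eq_prime P (card_sylow5 card_A6 P)
  rw [card_order5_A6] at h
  omega

section

variable {G : Type*} [Group G] [Finite G] [IsSimpleGroup G]

theorem iso_of_index6 (hcard : Nat.card G = 360) (H : Subgroup G) (hH : H.index = 6) :
    Nonempty (G ≃* ↥(alternatingGroup (Fin 6))) := by
  have hne : H ≠ ⊤ := by
    intro h
    rw [h, index_top] at hH
    norm_num at hH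
  have key : ∀ n, n = 6 →
      (∃ f : G →* ↥(alternatingGroup (Fin n)), Function.Injective f) →
      Nonempty (G ≃* ↥(alternatingGroup (Fin 6))) := by
    intro n hn
    subst hn
    rintro ⟨f, hf⟩
    have hbij : Function.Bijective f := by
      apply hf.bijective_of_nat_card_le
      rw [card_A6, hcard]
    exact ⟨MulEquiv.ofBijective f hbij⟩
  exact key _ hH (Cfsg.Agent.S0991.result (noncomm hcard) H hne)

end

theorem iso_of_card_syl5 {G₁ : Type*} {G₂ : Type*} [Group G₁] [Finite G₁] [IsSimpleGroup G₁]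
    [Group G₂] [Finite G₂] [IsSimpleGroup G₂] (h₁ : Nat.card G₁ = 360) (h₂ : Nat.card G₂ = 360)
    (k₁ : Nat.card (Sylow 5 G₁) = 36) (k₂ : Nat.card (Sylow 5 G₂) = 36) :
    Nonempty (G₁ ≃* G₂) := by
  obtain ⟨ρ₁, hρ₁, hc₁⟩ := exists_rep9 h₁ k₁
  obtain ⟨ρ₂, hρ₂, hc₂⟩ := exists_rep9 h₂ k₂
  have heq : ρ₁.range = ρ₂.range := ZCond9.unique hc₁ hc₂
  exact ⟨(MonoidHom.ofInjective hρ₁).trans
    ((MulEquiv.subgroupCongr heq).trans (MonoidHom.ofInjective hρ₂).symm)⟩

/-- A simple group of order `360` is isomorphic to `A₆`. -/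
theorem iso_A6 {G : Type*} [Group G] [Finite G] [IsSimpleGroup G] (hcard : Nat.card G = 360) :
    Nonempty (G ≃* ↥(alternatingGroup (Fin 6))) := by
  rcases card_syl5_cases hcard with h | h
  · obtain ⟨P⟩ : Nonempty (Sylow 5 G) := inferInstance
    have hidx : (normalizer (P : Set G)).index = 6 := by
      rw [← Sylow.card_eq_index_normalizer, h]
    exact iso_of_index6 hcard _ hidx
  · haveI := simple_A6
    exact iso_of_card_syl5 hcard card_A6 h card_syl5_A6

end Cfsg.Agent.Helper3.A6
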