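import Mathlib
import Cfsg.Agent.Helper15.S1983Defs

/-!
# S1983: the shared definition `imU` (image of `U` in the chief factor `X / Y`)
-/

set_option autoImplicit false

namespace Cfsg.Agent.S1983P

open Subgroup Cfsg Cfsg.Agent.Helper10

universe u

section Chief

variable {G : Type u} [Group G] [Finite G] (X Y : Subgroup G)
  [hXn : X.Normal] [hYn : Y.Normal]

/-- the image of `U` in the chief factor, as a subgroup of `↥(Ub X Y)` -/
def imU (U : Subgroup G) : Subgroup ↥(Ub X Y) := (U.map (QuotientGroup.mk' Y)).subgroupOf (Ub X Y)

end Chief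

end Cfsg.Agent.S1983P
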