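import Mathlib
import Cfsg.Agent.Helper15.S1983Defs
import Cfsg.Agent.Helper3.S1983ImU

/-!
# S1983, piece INV: a subgroup normalized by `K` has `K`-invariant image in the chief factor
-/

set_option autoImplicit false

namespace Cfsg.Agent.S1983P

open Subgroup Cfsg Cfsg.Agent.Helper10 Cfsg.Agent.Helper26
open scoped commutatorElement

universe u

section Chief

variable {G : Type u} [Group G] [Finite G] {p : ℕ} [Fact p.Prime] (X Y : Subgroup G)
  [hXn : X.Normal] [hYn : Y.Normal]

theorem INV.main (K U : Subgroup G) (hKU : K ≤ normalizer (U : Set G)) :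
    InvSub (rhoZ X Y) K (imU X Y U) := by
  intro k hk w hw
  rw [imU, Subgroup.mem_subgroupOf] at hw ⊢
  obtain ⟨u, hu, huw⟩ := hw
  rw [rhoZ_apply, ← huw, ← map_inv, ← map_mul, ← map_mul]
  exact ⟨k * u * k⁻¹, (Subgroup.mem_normalizer_iff.mp (hKU hk) u).mp hu, rfl⟩

end Chief

end Cfsg.Agent.S1983P
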