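import Mathlib
import Cfsg.Agent.Helper15.S3412.Defs2
import Cfsg.Agent.Helper7.AutPSL5

/-! S3412 piece SROOT (helper3): a subgroup of `SL_n` (`n ≥ 3`) consisting of transvections lies in
some `TP v` or some `TH φ` (the `SL` version of `Helper7.AutPSL.rootClosed_le`). -/

set_option autoImplicit false

namespace Cfsg.Agent.S3412P

open Matrix Cfsg.Agent.Helper2.RootSLn Cfsg.Agent.Helper7.AutPSL

namespace SROOT

theorem rootClosed_le_SL {n : ℕ} {F : Type*} [Field F] (hn : 3 ≤ n)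
    (A : Subgroup (Matrix.SpecialLinearGroup (Fin n) F)) (hA : ∀ a ∈ A, IsTm a) :
    (∃ v : Fin n → F, v ≠ 0 ∧ A ≤ TP v) ∨ (∃ φ : Fin n → F, φ ≠ 0 ∧ A ≤ TH φ) := by
  have hT : ∀ x ∈ A.map (pr : Matrix.SpecialLinearGroup (Fin n) F →* _), IsRootElt x := by
    rintro x ⟨a, ha, rfl⟩
    exact ⟨a, hA a ha, rfl⟩
  rcases rootClosed_le hn (A.map pr) hT with ⟨v, hv, hle⟩ | ⟨φ, hφ, hle⟩
  · left
    refine ⟨v, hv, ?_⟩
    intro a ha
    obtain ⟨g, hg, hga⟩ := hle (Subgroup.mem_map_of_mem pr ha)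
    have : g = a := pr_inj_of_isTm hn (isTm_of_mem_TP hg) (hA a ha) hga
    rw [← this]
    exact hg
  · right
    refine ⟨φ, hφ, ?_⟩
    intro a ha
    obtain ⟨g, hg, hga⟩ := hle (Subgroup.mem_map_of_mem pr ha)
    have : g = a := pr_inj_of_isTm hn (isTm_of_mem_TH hg) (hA a ha) hga
    rw [← this]
    exact hg

end SROOT

end Cfsg.Agent.S3412P
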