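import Mathlib
import Cfsg.Agent.Helper26.S5704GENDDefs

set_option autoImplicit false
set_option linter.unusedSectionVars false
set_option linter.unusedVariables false

/-! # S5704, chapter SEED, sub-chapter GEND (designer helper26), piece CONFIG (helper3):
the configuration of the double commutator in `W` (needs `5 ≤ b`). -/

namespace Cfsg.Agent.S5704P

open Matrix Cfsg.Agent.S5637P Cfsg.Agent.S5704S Cfsg.Agent.Helper28.Sg

variable {F : Type*} [Field F] {n a b : ℕ} (e : Fin n ≃ Fin a × Fin b)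

/-- the functional `x ↦ bf G y x` -/
def GEND.CONFIG.auxL {m : ℕ} (G : Matrix (Fin m) (Fin m) F) (y : Fin m → F) : (Fin m → F) →ₗ[F] F where
  toFun := fun x => bf G y x
  map_add' := bf_add_right G y
  map_smul' := by
    intro c x
    rw [bf_smul_right, RingHom.id_apply, smul_eq_mul]

/-- the common kernel of `k ≤ m - 2` functionals `bf G (ys i) ·` is not contained in a line -/
theorem GEND.CONFIG.aux_ker {m k : ℕ} (G : Matrix (Fin m) (Fin m) F) (ys : Fin k → Fin m → F)
    (z : Fin m → F) (hk : k + 2 ≤ m) :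
    ∃ x : Fin m → F, (∀ i, bf G (ys i) x = 0) ∧ NotMul z x := by
  classical
  by_contra hno
  have hno' : ∀ x : Fin m → F, (∀ i, bf G (ys i) x = 0) → ∃ c : F, x = c • z := by
    intro x hx
    by_contra hc
    apply hno
    refine ⟨x, hx, ?_⟩
    intro c hxc
    exact hc ⟨c, hxc⟩
  let L : (Fin m → F) →ₗ[F] (Fin k → F) := LinearMap.pi (fun i => GEND.CONFIG.auxL G (ys i))
  have hle : LinearMap.ker L ≤ Submodule.span F {z} := by
    intro x hx
    rw [LinearMap.mem_ker] at hx
    have hx' : ∀ i, bf G (ys i) x = 0 := by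
      intro i
      have := congrFun hx i
      exact this
    obtain ⟨c, hc⟩ := hno' x hx'
    rw [hc]
    exact Submodule.smul_mem _ _ (Submodule.subset_span (Set.mem_singleton z))
  have h1 : Module.finrank F (LinearMap.ker L) ≤ 1 := by
    refine (Submodule.finrank_mono hle).trans ?_
    refine (finrank_span_le_card ({z} : Set (Fin m → F))).trans ?_
    simp
  have h2 := LinearMap.finrank_range_add_finrank_ker L
  rw [Module.finrank_fin_fun] at h2
  have h3 : Module.finrank F (LinearMap.range L) ≤ k :=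
    (Submodule.finrank_le _).trans_eq (Module.finrank_fin_fun F)
  omega

/-- a vector orthogonal to `u` and not to `u'` (`u'` not a multiple of `u ≠ 0`) -/
theorem GEND.CONFIG.aux_pick {m : ℕ} {G : Matrix (Fin m) (Fin m) F} (hG : IsSymp G) {u u' : Fin m → F}
    (hu : u ≠ 0) (hind : NotMul u u') : ∃ v : Fin m → F, bf G u v = 0 ∧ bf G u' v ≠ 0 := by
  by_contra hno
  have hno' : ∀ v : Fin m → F, bf G u v = 0 → bf G u' v = 0 := by
    intro v hv
    by_contra hc
    exact hno ⟨v, hv, hc⟩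
  have hex : ∃ t₀ : Fin m → F, bf G u t₀ ≠ 0 := by
    by_contra hc
    apply hu
    apply hG.nondeg
    intro y
    by_contra hy
    exact hc ⟨y, hy⟩
  obtain ⟨t₀, ht₀⟩ := hex
  set t : Fin m → F := (bf G u t₀)⁻¹ • t₀ with ht
  have hut : bf G u t = 1 := by
    rw [ht, bf_smul_right, inv_mul_cancel₀ ht₀]
  have hkey : ∀ v : Fin m → F, bf G u' v = bf G u v * bf G u' t := by
    intro v
    have h1 : bf G u (v - bf G u v • t) = 0 := by
      rw [bf_sub_right, bf_smul_right, hut, mul_one, sub_self]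
    have h2 := hno' _ h1
    rw [bf_sub_right, bf_smul_right] at h2
    linear_combination h2
  apply hind (bf G u' t)
  have hrad : u' - bf G u' t • u = 0 := by
    apply hG.nondeg
    intro y
    rw [bf_sub_left, bf_smul_left, hkey y]
    ring
  exact sub_eq_zero.mp hrad

theorem GEND.CONFIG.exists {G : Matrix (Fin b) (Fin b) F} (hG : IsSymp G) (hb5 : 5 ≤ b)
    {z : Fin b → F} (hz : z ≠ 0) :
    ∃ z' w w' : Fin b → F, bf G z z' = 0 ∧ bf G w w' = 0 ∧ bf G z w = 0 ∧ bf G z w' = 0 ∧
      bf G z' w' = 0 ∧ bf G z' w ≠ 0 ∧ NotMul z w' := by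
  obtain ⟨z', hz'1, hz'2⟩ := GEND.CONFIG.aux_ker G (fun _ : Fin 1 => z) z (by omega)
  have hzz' : bf G z z' = 0 := hz'1 0
  obtain ⟨w, hzw, hz'w⟩ := GEND.CONFIG.aux_pick hG hz hz'2
  obtain ⟨w', hw'1, hw'2⟩ := GEND.CONFIG.aux_ker G (![z, z', w] : Fin 3 → Fin b → F) z (by omega)
  have h0 : bf G z w' = 0 := hw'1 0
  have h1 : bf G z' w' = 0 := hw'1 1
  have h2 : bf G w w' = 0 := hw'1 2
  exact ⟨z', w, w', hzz', h2, hzw, h0, h1, hz'w, hw'2⟩

end Cfsg.Agent.S5704P
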