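import Mathlib
import Cfsg.Agent.Helper15.S5704SEEDDefs2

/-! # S5704, chapter SEED (driver helper15), piece EGADDP (helper3):
with `C = 0` and `Θ * Θ' = 0` the `EGp` elements are additive in the partner `p ⊥ z`. -/

set_option autoImplicit false
set_option linter.unusedSectionVars false
set_option linter.unusedVariables false

namespace Cfsg.Agent.S5704P

open Matrix Cfsg.Agent.S5637P Cfsg.Agent.S5704S Cfsg.Agent.Helper28.Sg

variable {F : Type*} [Field F] {n a b : ℕ} (e : Fin n ≃ Fin a × Fin b)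
variable {Q : QuadraticForm F (Fin n → F)} {GU : Matrix (Fin a) (Fin a) F}
  {GW : Matrix (Fin b) (Fin b) F} {M : Subgroup (GL (Fin n) F)}

/-- EGADDP (M): with `C = 0` and `Θ * Θ' = 0` the elements are additive in the partner `p ⊥ z`. -/
theorem EGADDP.main (hW : IsSymp GW) {z p p' : Fin b → F} (hp : bf GW p z = 0) (hp' : bf GW p' z = 0)
    {Θ Θ' : Matrix (Fin a) (Fin a) F} (h0 : Θ * Θ' = 0) {k k' : GL (Fin n) F}
    (h : EGp e GW z p Θ Θ' 0 k) (h' : EGp e GW z p' Θ Θ' 0 k') :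
    EGp e GW z (p + p') Θ Θ' 0 (k * k') := by
  intro u w
  have hzp : bf GW z p = 0 := hW.eq_zero_symm hp
  have hzz : bf GW z z = 0 := hW.alt z
  -- `k` fixes `x ⊗ z`
  have hkz : ∀ x : Fin a → F, (k : Matrix (Fin n) (Fin n) F) *ᵥ tn e x z = tn e x z := by
    intro x
    rw [h x z, hzp, hzz, zero_smul, zero_smul, add_zero, add_zero]
  -- `k` on `Θ' u ⊗ p'`
  have hkp' : (k : Matrix (Fin n) (Fin n) F) *ᵥ tn e (Θ' *ᵥ u) p'
      = tn e (Θ' *ᵥ u) p' := by
    rw [h (Θ' *ᵥ u) p', hp', zero_smul, add_zero, Matrix.mulVec_mulVec, h0, Matrix.zero_mulVec,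
      tn_zero_left, smul_zero, add_zero]
  have hmul : ((k * k' : GL (Fin n) F) : Matrix (Fin n) (Fin n) F) *ᵥ tn e u w
      = (k : Matrix (Fin n) (Fin n) F) *ᵥ ((k' : Matrix (Fin n) (Fin n) F) *ᵥ tn e u w) := by
    rw [Matrix.mulVec_mulVec]
    rfl
  rw [hmul, h' u w, Matrix.mulVec_add, Matrix.mulVec_add, Matrix.mulVec_smul, Matrix.mulVec_smul,
    Matrix.mulVec_add, hkz, Matrix.zero_mulVec, tn_zero_left, Matrix.mulVec_zero, add_zero, hkp',
    h u w, Matrix.zero_mulVec, tn_zero_left, add_zero, add_zero, bf_add_right, tn_add_right,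
    add_smul, smul_add]
  abel

end Cfsg.Agent.S5704P
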