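import Mathlib
import Cfsg.Prelude.Def_ClassicalGeometry
import Cfsg.Agent.Helper16.S5955Defs
import Cfsg.Agent.Helper10.S5961FIXSPLIT
import Cfsg.Agent.Helper18.S5961ARITH
import Cfsg.Agent.Helper23.S5961STRUCT
import Cfsg.Agent.Helper20.S5955ODDTI

set_option autoImplicit false
open scoped MatrixGroups

/-! S5955 piece ODDSUM: for `i` odd, `s` blocks give a totally isotropic invariant `i s`-space. -/

universe u

namespace Cfsg.Agent.S5955P

open Polynomial Cfsg.Agent.Helper2.SympInvol Cfsg.Agent.Helper2.SympUnits Cfsg.Agent.S5961P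

/-- ODDSUM: for `i` odd, `s` blocks give a totally isotropic invariant `i s`-space -/
theorem exists_ti_odd {F V : Type*} [Field F] [Fintype F] [AddCommGroup V] [Module F V]
    [FiniteDimensional F V] {p : ℕ} [Fact p.Prime] [CharP F p] (r : ℕ) [Fact r.Prime]
    (hr2 : r ≠ 2) (hrp : r ≠ p) (B : LinearMap.BilinForm F V) (halt : ∀ v, B v v = 0)
    (hnd : Nondeg B ⊤) (y : Module.End F V) (hyB : ∀ u v, B (y u) (y v) = B u v)
    (hy : y ^ r = 1) (hodd : Odd (orderOf ((Fintype.card F : ℕ) : ZMod r))) (s : ℕ)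
    (hs : 2 * orderOf ((Fintype.card F : ℕ) : ZMod r) * s ≤
      Module.finrank F (LinearMap.range (y - 1))) :
    ∃ U : Submodule F V, U ≤ LinearMap.range (y - 1) ∧ U.map y ≤ U ∧ Orth B U U ∧
      Module.finrank F U = orderOf ((Fintype.card F : ℕ) : ZMod r) * s := by
  classical
  obtain ⟨hipos, hccpos, -, -, -, -, -, -⟩ := cc_arith (F := F) (p := p) r hr2 hrp
  have hcc : cc F r = 2 * orderOf ((Fintype.card F : ℕ) : ZMod r) := by
    rw [cc_def, if_neg (Nat.not_even_iff_odd.mpr hodd)]
  obtain ⟨m, E, hEinv, hEnd, hEfr, hEorth, hEind, hEsup⟩ :=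
    exists_blocks_sp (p := p) r hr2 hrp B halt hnd y hyB hy
  obtain ⟨hcompl, -, -, -, -⟩ := fix_split (p := p) r hrp B y hyB hy
  have hEN : ∀ j, E j ≤ LinearMap.range (y - 1) := fun j => by
    rw [← hEsup]; exact le_iSup E j
  -- `finrank N = m * 2i`
  have hNfr : Module.finrank F (LinearMap.range (y - 1)) =
      m * (2 * orderOf ((Fintype.card F : ℕ) : ZMod r)) := by
    have h1 := finrank_biSup E hEind Finset.univ
    have h2 : (⨆ j ∈ (Finset.univ : Finset (Fin m)), E j) = ⨆ j, E j := by simp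
    rw [h2, hEsup] at h1
    rw [h1, Finset.sum_congr rfl (fun j _ => hEfr j), Finset.sum_const, Finset.card_univ,
      Fintype.card_fin, smul_eq_mul, hcc]
  have hsm : s ≤ m := by
    rw [hNfr] at hs
    have h1 : (2 * orderOf ((Fintype.card F : ℕ) : ZMod r)) * s ≤
        (2 * orderOf ((Fintype.card F : ℕ) : ZMod r)) * m := by rw [mul_comm _ m]; exact hs
    exact Nat.le_of_mul_le_mul_left h1 (by omega)
  -- the totally isotropic pieces
  have hex : ∀ j, ∃ U : Submodule F V, U ≤ E j ∧ U.map y ≤ U ∧ Orth B U U ∧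
      Module.finrank F U = orderOf ((Fintype.card F : ℕ) : ZMod r) := by
    intro j
    apply exists_ti_in_block_odd (p := p) r hr2 hrp B halt y hyB hy hodd (E j) (hEinv j) (hEnd j)
    · rw [eq_bot_iff]
      intro v hv
      have h1 : v ∈ LinearMap.ker (y - 1) ⊓ LinearMap.range (y - 1) := ⟨hv.2, hEN j hv.1⟩
      rw [hcompl.inf_eq_bot] at h1
      exact h1
    · intro h0
      have := hEfr j
      rw [h0, finrank_bot] at this
      omega
  choose U hUE hUinv hUti hUfr using hex
  let S : Finset (Fin m) := Finset.univ.map (Fin.castLEEmb hsm)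
  have hScard : S.card = s := by
    rw [Finset.card_map, Finset.card_univ, Fintype.card_fin]
  refine ⟨⨆ j ∈ S, U j, ?_, ?_, ?_, ?_⟩
  · exact iSup₂_le fun j _ => le_trans (hUE j) (hEN j)
  · rw [Submodule.map_le_iff_le_comap]
    refine iSup₂_le fun j hj => ?_
    intro u hu
    rw [Submodule.mem_comap]
    have h1 : y u ∈ U j := hUinv j ⟨u, hu, rfl⟩
    exact (le_iSup₂ (f := fun j (_ : j ∈ S) => U j) j hj) h1
  · apply orth_biSup U S S
    intro a _ b _
    by_cases hab : a = b
    · subst hab; exact hUti a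
    · intro u hu v hv
      exact hEorth a b hab u (hUE a hu) v (hUE b hv)
  · have hUind : iSupIndep U := hEind.mono hUE
    rw [finrank_biSup U hUind S, Finset.sum_congr rfl (fun j _ => hUfr j), Finset.sum_const,
      hScard, smul_eq_mul, mul_comm]

end Cfsg.Agent.S5955P
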