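import Mathlib
import Cfsg.Prelude.Def_Classical
import Cfsg.Prelude.Def_GeometricClasses
import Cfsg.Agent.Helper5.S5973Defs

set_option autoImplicit false
open scoped MatrixGroups

/-!
# S5973 piece NT2 (helper3): `r ∣ nsing hyp q e` in terms of the order of `q` modulo `r`.
-/

universe u

namespace Cfsg.Agent.S5973P

namespace NT2

theorem dvd_pow_sub_one_iff (r : ℕ) (q : ℕ) (hq0 : 0 < q) (k : ℕ) :
    r ∣ q ^ k - 1 ↔ orderOf (q : ZMod r) ∣ k := by
  have h1 : 1 ≤ q ^ k := Nat.one_le_pow _ _ hq0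
  rw [← ZMod.natCast_eq_zero_iff, Nat.cast_sub h1, Nat.cast_pow, Nat.cast_one, sub_eq_zero,
    orderOf_dvd_iff_pow_eq_one]

theorem dvd_pow_add_one_iff (r : ℕ) (hr : r.Prime) (hr2 : r ≠ 2) (q : ℕ) (k : ℕ) :
    r ∣ q ^ k + 1 ↔ (orderOf (q : ZMod r) ∣ 2 * k ∧ ¬ orderOf (q : ZMod r) ∣ k) := by
  haveI : Fact r.Prime := ⟨hr⟩
  haveI : Fact (2 < r) := ⟨by have := hr.two_le; omega⟩
  rw [← ZMod.natCast_eq_zero_iff, Nat.cast_add, Nat.cast_pow, Nat.cast_one,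
    orderOf_dvd_iff_pow_eq_one, orderOf_dvd_iff_pow_eq_one]
  set x : ZMod r := (q : ZMod r) ^ k with hx
  have hx2 : (q : ZMod r) ^ (2 * k) = x * x := by
    rw [hx, ← pow_add]; congr 1; ring
  rw [hx2, mul_self_eq_one_iff]
  constructor
  · intro h
    have hx1 : x = -1 := by linear_combination h
    refine ⟨Or.inr hx1, ?_⟩
    rw [hx1]
    exact ZMod.neg_one_ne_one
  · rintro ⟨h | h, hne⟩
    · exact absurd h hne
    · rw [h]; ring

end NT2

/-- NT2: `r ∣ nsing hyp q e` in terms of the order of `q` modulo `r` -/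
theorem dvd_nsing_iff (r : ℕ) (hr : r.Prime) (hr2 : r ≠ 2) (q : ℕ) (hq : ¬ r ∣ q) (hyp : Bool)
    (e : ℕ) : r ∣ nsing hyp q e ↔ NTc hyp (orderOf (q : ZMod r)) e := by
  have hq0 : 0 < q := by
    rcases Nat.eq_zero_or_pos q with h | h
    · exact absurd (h ▸ dvd_zero r) hq
    · exact h
  cases hyp
  · -- elliptic
    have e1 : nsing false q e = (q ^ e + 1) * (q ^ (e - 1) - 1) := by simp [nsing]
    have e2 : NTc false (orderOf (q : ZMod r)) e ↔
        ((orderOf (q : ZMod r) ∣ 2 * e ∧ ¬ orderOf (q : ZMod r) ∣ e) ∨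
          orderOf (q : ZMod r) ∣ (e - 1)) := by simp [NTc]
    rw [e1, e2, Nat.Prime.dvd_mul hr, NT2.dvd_pow_add_one_iff r hr hr2 q e,
      NT2.dvd_pow_sub_one_iff r q hq0 (e - 1)]
  · -- hyperbolic
    have e1 : nsing true q e = (q ^ e - 1) * (q ^ (e - 1) + 1) := by simp [nsing]
    have e2 : NTc true (orderOf (q : ZMod r)) e ↔
        (orderOf (q : ZMod r) ∣ e ∨
          (orderOf (q : ZMod r) ∣ 2 * (e - 1) ∧ ¬ orderOf (q : ZMod r) ∣ (e - 1))) := by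
      simp [NTc]
    rw [e1, e2, Nat.Prime.dvd_mul hr, NT2.dvd_pow_sub_one_iff r q hq0 e,
      NT2.dvd_pow_add_one_iff r hr hr2 q (e - 1)]

end Cfsg.Agent.S5973P
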