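import Mathlib
import Cfsg.Prelude.Def_Classical
import Cfsg.Prelude.Def_GeometricClasses
import Cfsg.Agent.Helper5.S5973Defs

set_option autoImplicit false
open scoped MatrixGroups

/-!
# S5973 piece ORBIT (helper3): an isometry `y` of prime order `r` without nonzero fixed vectors
permutes the nonzero singular vectors in orbits of length `r`.
-/

universe u

namespace Cfsg.Agent.S5973P

open Module

/-- ORBIT: `y` permutes the nonzero singular vectors in orbits of length `r` -/
theorem r_dvd_card_singular {F V : Type*} [Field F] [Fintype F] [AddCommGroup V] [Module F V]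
    [FiniteDimensional F V] (r : ℕ) [Fact r.Prime] (Q : QuadraticForm F V) (y : Module.End F V)
    (h : IsYO Q y r) (hfix : LinearMap.ker (y - 1) = ⊥) :
    r ∣ Nat.card {v : V // v ≠ 0 ∧ Q v = 0} := by
  classical
  have hr : r.Prime := Fact.out
  haveI : Finite V := Module.finite_of_finite F
  haveI : Fintype {v : V // v ≠ 0 ∧ Q v = 0} := Fintype.ofFinite _
  have hr1 : r - 1 + 1 = r := Nat.sub_add_cancel hr.one_le
  have hleft : ∀ v : V, (y ^ (r - 1)) (y v) = v := by
    intro v
    rw [← Module.End.mul_apply, ← pow_succ, hr1, h.pow, Module.End.one_apply]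
  have hinj : Function.Injective y := by
    intro v w hvw
    rw [← hleft v, ← hleft w, hvw]
  let f : {v : V // v ≠ 0 ∧ Q v = 0} → {v : V // v ≠ 0 ∧ Q v = 0} := fun v =>
    ⟨y v.1, fun h0 => v.2.1 (hinj (by rw [h0, map_zero])), by rw [h.isom]; exact v.2.2⟩
  let σ : Function.End {v : V // v ≠ 0 ∧ Q v = 0} := f
  have hσk : ∀ (k : ℕ) (v : {v : V // v ≠ 0 ∧ Q v = 0}), ((σ ^ k) v).1 = (y ^ k) v.1 := by
    intro k
    induction k with
    | zero => intro v; rfl
    | succ k ih =>
      intro v
      rw [pow_succ', pow_succ', Module.End.mul_apply, ← ih v]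
      rfl
  have hσr : σ ^ r ^ 1 = 1 := by
    rw [pow_one]
    funext v
    apply Subtype.ext
    rw [hσk, h.pow, Module.End.one_apply]
    rfl
  have hmod := Equiv.Perm.card_fixedPoints_modEq (p := r) (n := 1) hσr
  have hfixempty : Fintype.card (Function.fixedPoints σ) = 0 := by
    rw [Fintype.card_eq_zero_iff]
    constructor
    rintro ⟨v, hv⟩
    have hv' : σ v = v := hv
    have hyv : y v.1 = v.1 := congrArg Subtype.val hv'
    have hker : v.1 ∈ LinearMap.ker (y - 1) := by
      rw [LinearMap.mem_ker, LinearMap.sub_apply, hyv, Module.End.one_apply, sub_self]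
    rw [hfix, Submodule.mem_bot] at hker
    exact v.2.1 hker
  rw [hfixempty] at hmod
  rw [Nat.card_eq_fintype_card]
  exact (Nat.modEq_zero_iff_dvd).1 hmod

end Cfsg.Agent.S5973P
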