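import Mathlib
import Cfsg.Agent.Helper21.OCa
import Cfsg.Agent.Helper6.S5992Defs

/-!
# The number of nonzero singular vectors of a nondegenerate quadratic space over a finite field
(helper3; every characteristic).  From helper21's `OC.nsing_of_plus` / `OC.nsing_of_not_plus`.
Versions for an abstract space and for a nondegenerate subspace (helper6's `Plus Q W`).
-/

set_option autoImplicit false

namespace Cfsg.Agent.Helper3.SingCount

open Module Cfsg.Agent.Helper21

variable {F : Type*} [Field F] [Fintype F] {V : Type*} [AddCommGroup V] [Module F V]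
  [FiniteDimensional F V]

/-- singular vectors = nonzero singular vectors + the zero vector -/
theorem card_ne_zero_sing (Q : QuadraticForm F V) :
    Nat.card {v : V // v ≠ 0 ∧ Q v = 0} + 1 = Nat.card {v : V // Q v = 0} := by
  classical
  have : Finite V := Module.finite_of_finite F
  have : Fintype V := Fintype.ofFinite V
  rw [Nat.card_eq_fintype_card, Nat.card_eq_fintype_card, Fintype.card_subtype,
    Fintype.card_subtype]
  have h : Finset.univ.filter (fun v : V => Q v = 0) =
      insert 0 (Finset.univ.filter (fun v : V => v ≠ 0 ∧ Q v = 0)) := by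
    ext v
    simp only [Finset.mem_filter, Finset.mem_univ, true_and, Finset.mem_insert]
    constructor
    · intro h
      by_cases hv : v = 0
      · left; exact hv
      · right; exact ⟨hv, h⟩
    · rintro (rfl | ⟨_, h⟩)
      · exact map_zero Q
      · exact h
  rw [h, Finset.card_insert_of_notMem]
  simp

/-- the number of nonzero singular vectors of a nondegenerate quadratic space of dimension `2 e`,
by type -/
theorem card_nonzero_singular (Q : QuadraticForm F V)
    (hQ : (QuadraticMap.polarBilin Q).Nondegenerate) (e : ℕ) (he : finrank F V = 2 * e) :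
    (OC.Plus Q → Nat.card {v : V // v ≠ 0 ∧ Q v = 0} =
      (Fintype.card F ^ e - 1) * (Fintype.card F ^ (e - 1) + 1)) ∧
    (¬ OC.Plus Q → Nat.card {v : V // v ≠ 0 ∧ Q v = 0} =
      (Fintype.card F ^ e + 1) * (Fintype.card F ^ (e - 1) - 1)) := by
  have hq : 1 < Fintype.card F := Fintype.one_lt_card
  have hN := card_ne_zero_sing Q
  rcases Nat.eq_zero_or_pos e with he0 | he0
  · subst he0
    have hV0 : finrank F V = 0 := by rw [he]
    have hsub : Subsingleton V := Module.finrank_zero_iff.1 hV0
    have hempty : IsEmpty {v : V // v ≠ 0 ∧ Q v = 0} :=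
      ⟨fun v => v.2.1 (Subsingleton.elim _ _)⟩
    have h0 : Nat.card {v : V // v ≠ 0 ∧ Q v = 0} = 0 := Nat.card_of_isEmpty
    rw [h0]
    simp
  · obtain ⟨k, rfl⟩ : ∃ k, e = k + 1 := ⟨e - 1, by omega⟩
    rw [Nat.add_sub_cancel]
    set q := Fintype.card F with hqdef
    set X := Nat.card {v : V // v ≠ 0 ∧ Q v = 0} with hX
    set a := q ^ k with ha
    have ha1 : 1 ≤ a := Nat.one_le_pow _ _ (by omega)
    have hq0 : 0 < q := by omega
    have e1 : q ^ (k + 1) = a * q := by rw [pow_succ]
    have haq1 : 1 ≤ a * q := Nat.mul_pos ha1 hq0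
    constructor
    · intro hp
      have h1 := OC.nsing_of_plus he Q hQ hp
      unfold OC.nsing at h1
      rw [← hN, ← hqdef] at h1
      have e2 : q ^ (2 * (k + 1)) = (a * a * q + 0) * q := by rw [ha]; ring
      have e3 : q ^ (k + 1 + 1) = (a * q) * q := by rw [ha]; ring
      rw [e1, e2, e3] at h1
      have h2 : (X + 1 + a) * q = (a * a * q + a * q) * q := by
        calc (X + 1 + a) * q = (X + 1) * q + a * q := by ring
          _ = (a * a * q + 0) * q + a * q * q := h1
          _ = (a * a * q + a * q) * q := by ring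
      have h3 : X + 1 + a = a * a * q + a * q := Nat.eq_of_mul_eq_mul_right hq0 h2
      have h4 : (a * q - 1) * (a + 1) + (a + 1) = a * a * q + a * q := by
        have : (a * q - 1) * (a + 1) + (a + 1) = (a * q - 1 + 1) * (a + 1) := by ring
        rw [this, Nat.sub_add_cancel haq1]
        ring
      rw [e1]
      omega
    · intro hp
      have h1 := OC.nsing_of_not_plus (by omega) he Q hQ hp
      unfold OC.nsing at h1
      rw [← hN, ← hqdef] at h1
      have e2 : q ^ (2 * (k + 1) - 1) = a * a * q := by
        have : 2 * (k + 1) - 1 = 2 * k + 1 := by omega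
        rw [this, ha]; ring
      have e3 : q ^ (k + 1 - 1) = a := by rw [Nat.add_sub_cancel]
      rw [e1, e2, e3] at h1
      have h4 : (a * q + 1) * (a - 1) + (a * q + 1) = a * a * q + a := by
        have : (a * q + 1) * (a - 1) + (a * q + 1) = (a * q + 1) * (a - 1 + 1) := by ring
        rw [this, Nat.sub_add_cancel ha1]
        ring
      rw [e1]
      omega

section sub

open Cfsg.Agent.Helper2.SympInvol Cfsg.Agent.S5992P

/-- nondegeneracy of a subspace gives nondegeneracy of the restricted form -/
theorem nondegenerate_comp_subtype (Q : QuadraticForm F V) (W : Submodule F V)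
    (hW : Nondeg (PB Q) W) :
    (QuadraticMap.polarBilin (Q.comp W.subtype)).Nondegenerate := by
  have hpol : ∀ u v : W, QuadraticMap.polarBilin (Q.comp W.subtype) u v =
      PB Q (u : V) (v : V) := by
    intro u v
    simp [PB_apply, QuadraticMap.polar]
  constructor
  · intro u hu
    by_contra hne
    obtain ⟨v, hv, hv0⟩ := hW (u : V) u.2 (fun h => hne (Subtype.ext h))
    apply hv0
    have := hu ⟨v, hv⟩
    rw [hpol] at this
    exact this
  · intro u hu
    by_contra hne
    obtain ⟨v, hv, hv0⟩ := hW (u : V) u.2 (fun h => hne (Subtype.ext h))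
    apply hv0
    have := hu ⟨v, hv⟩
    rw [hpol, PB_comm] at this
    exact this

/-- the type of the restricted form -/
theorem plus_comp_subtype_iff (Q : QuadraticForm F V) (W : Submodule F V) :
    OC.Plus (Q.comp W.subtype) ↔ Plus Q W := by
  constructor
  · rintro ⟨T, hT, hd⟩
    refine ⟨T.map W.subtype, Submodule.map_subtype_le W T, ?_, ?_⟩
    · rintro _ ⟨t, ht, rfl⟩
      exact hT t ht
    · rw [Submodule.finrank_map_subtype_eq, hd]
  · rintro ⟨U, hUW, hU, hd⟩
    refine ⟨U.comap W.subtype, ?_, ?_⟩
    · intro v hv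
      exact hU (v : V) hv
    · rw [(Submodule.comapSubtypeEquivOfLe hUW).finrank_eq, hd]

/-- the number of nonzero singular vectors of a nondegenerate subspace of dimension `2 a`,
by type -/
theorem card_nonzero_singular_sub (Q : QuadraticForm F V) (W : Submodule F V)
    (hW : Nondeg (PB Q) W) (a : ℕ) (hdim : finrank F W = 2 * a) :
    (Plus Q W → Nat.card {w : W // w ≠ 0 ∧ Q (w : V) = 0} =
      (Fintype.card F ^ a - 1) * (Fintype.card F ^ (a - 1) + 1)) ∧
    (¬ Plus Q W → Nat.card {w : W // w ≠ 0 ∧ Q (w : V) = 0} =
      (Fintype.card F ^ a + 1) * (Fintype.card F ^ (a - 1) - 1)) := by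
  have h := card_nonzero_singular (Q.comp W.subtype) (nondegenerate_comp_subtype Q W hW) a hdim
  rw [plus_comp_subtype_iff] at h
  exact h

end sub

end Cfsg.Agent.Helper3.SingCount
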