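import Mathlib
import Cfsg.Prelude.Def_Classical
import Cfsg.Prelude.Def_GeometricClasses
import Cfsg.Agent.Helper5.S5973Defs
import Cfsg.Agent.Helper3.S5973NT2
import Cfsg.Agent.Helper3.S5973ORBIT
import Cfsg.Agent.Helper22.S5973NFPF
import Cfsg.Agent.Helper22.S5973NDVD
import Cfsg.Agent.Helper3.SingCount

set_option autoImplicit false
open scoped MatrixGroups

/-!
# S5973 piece NTYPE (helper3): the Witt type of a quadratic space with an isometry of odd prime order
without nonzero fixed vectors.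
-/

universe u

namespace Cfsg.Agent.S5973P

open Module Polynomial Cfsg.Agent.S5955P

namespace NTYPE

/-- pure arithmetic: from `NTc` to the parity of `b` (`i = 2 i₂`, `e = i₂ b`) -/
theorem parity_of_ntc (hyp : Bool) (i₂ b : ℕ) (hi₂ : 0 < i₂)
    (h : NTc hyp (2 * i₂) (i₂ * b)) (hb : hyp = false → 1 ≤ b) : (hyp = true ↔ Even b) := by
  unfold NTc at h
  -- `i₂ ∣ e - 1` and `e ≥ 1` force `i₂ = 1`
  have hone : 1 ≤ i₂ * b → i₂ ∣ i₂ * b - 1 → i₂ = 1 := by
    intro h1 h2
    have h3 : i₂ ∣ i₂ * b := dvd_mul_right _ _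
    have h4 : i₂ ∣ i₂ * b - (i₂ * b - 1) := Nat.dvd_sub h3 h2
    have h5 : i₂ * b - (i₂ * b - 1) = 1 := by omega
    rw [h5] at h4
    exact Nat.dvd_one.1 h4
  by_cases hh : hyp = true
  · rw [if_pos hh] at h
    refine ⟨fun _ => ?_, fun _ => hh⟩
    rcases h with ⟨x, hx⟩ | ⟨⟨x, hx⟩, hnd⟩
    · -- `2 i₂ ∣ i₂ b`
      have : i₂ * b = i₂ * (2 * x) := by rw [hx]; ring
      have := Nat.eq_of_mul_eq_mul_left hi₂ this
      exact ⟨x, by omega⟩
    · -- `2 i₂ ∣ 2 (e - 1)`, `¬ 2 i₂ ∣ e - 1`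
      have h2 : i₂ * b - 1 = i₂ * x := by
        have : 2 * (i₂ * b - 1) = 2 * (i₂ * x) := by rw [hx]; ring
        omega
      by_cases he0 : i₂ * b = 0
      · exfalso
        apply hnd
        rw [he0]
        exact dvd_zero _
      · have he1 : 1 ≤ i₂ * b := Nat.one_le_iff_ne_zero.2 he0
        have hi1 : i₂ = 1 := hone he1 ⟨x, h2⟩
        subst hi1
        rw [one_mul] at hnd he1
        rw [Nat.even_iff]
        by_contra hodd
        apply hnd
        exact ⟨(b - 1) / 2, by omega⟩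
  · have hf : hyp = false := by
      cases hyp
      · rfl
      · exact absurd rfl hh
    rw [if_neg hh] at h
    refine ⟨fun h1 => absurd h1 hh, fun hev => ?_⟩
    exfalso
    rcases h with ⟨_, hnd⟩ | ⟨x, hx⟩
    · -- `¬ 2 i₂ ∣ i₂ b` but `b` even
      obtain ⟨b', rfl⟩ := hev
      apply hnd
      exact ⟨b', by ring⟩
    · -- `2 i₂ ∣ e - 1`
      have hb1 := hb hf
      have he1 : 1 ≤ i₂ * b := Nat.mul_pos hi₂ hb1
      have hi1 : i₂ = 1 := hone he1 ⟨2 * x, by rw [hx]; ring⟩
      subst hi1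
      rw [one_mul] at hx
      obtain ⟨b', rfl⟩ := hev
      omega

/-- the number of nonzero singular vectors (own copy of COUNTSING, from `Helper3.SingCount`) -/
theorem card_singular' {F V : Type*} [Field F] [Fintype F] [AddCommGroup V] [Module F V]
    [FiniteDimensional F V] (Q : QuadraticForm F V) (hQ : ND Q) (e : ℕ)
    (he : finrank F V = 2 * e) (hyp : Bool) (hhyp : IsHyp Q ↔ hyp = true) :
    Nat.card {v : V // v ≠ 0 ∧ Q v = 0} = nsing hyp (Fintype.card F) e := by
  obtain ⟨h1, h2⟩ := Cfsg.Agent.Helper3.SingCount.card_nonzero_singular Q hQ e he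
  unfold nsing
  cases hyp
  · rw [if_neg (by simp)]
    exact h2 (fun h => Bool.noConfusion (hhyp.1 h))
  · rw [if_pos rfl]
    exact h1 (hhyp.2 rfl)

end NTYPE

/-- NTYPE: the Witt type of a space without fixed vectors -/
theorem fpf_type {F V : Type*} [Field F] [Fintype F] [AddCommGroup V] [Module F V]
    [FiniteDimensional F V] {p : ℕ} [Fact p.Prime] [CharP F p] (r : ℕ) [Fact r.Prime]
    (hr2 : r ≠ 2) (hrp : r ≠ p) (Q : QuadraticForm F V) (y : Module.End F V) (h : IsYO Q y r)
    (hfix : LinearMap.ker (y - 1) = ⊥) :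
    (Odd (orderOf ((Fintype.card F : ℕ) : ZMod r)) → IsHyp Q) ∧
    (Even (orderOf ((Fintype.card F : ℕ) : ZMod r)) →
      (IsHyp Q ↔ Even (finrank F V / orderOf ((Fintype.card F : ℕ) : ZMod r)))) := by
  classical
  have hr : r.Prime := Fact.out
  have hp : p.Prime := Fact.out
  set i := orderOf ((Fintype.card F : ℕ) : ZMod r) with hi
  have hdvd := fpf_dvd r hr2 hrp Q y h hfix
  rw [← hi] at hdvd
  -- `r ∤ q`
  have hrq : ¬ r ∣ Fintype.card F := by
    obtain ⟨⟨f, hf0⟩, _, hcard⟩ := FiniteField.card F p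
    rw [hcard]
    intro hdv
    have := (Nat.prime_dvd_prime_iff_eq hr hp).1 (hr.dvd_of_dvd_pow hdv)
    exact hrp this
  -- `i > 0`
  have hi0 : 0 < i := by
    have hunit : ((Fintype.card F : ℕ) : ZMod r) ≠ 0 := by
      intro h0
      exact hrq ((ZMod.natCast_eq_zero_iff _ _).1 h0)
    have hpow := ZMod.pow_card_sub_one_eq_one hunit
    have hd : i ∣ r - 1 := orderOf_dvd_of_pow_eq_one hpow
    have hr1 : 0 < r - 1 := by have := hr.two_le; omega
    exact Nat.pos_of_dvd_of_pos hd hr1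
  constructor
  · intro hodd
    have hne : ¬ Even i := Nat.not_even_iff_odd.2 hodd
    rw [if_neg hne] at hdvd
    obtain ⟨b, hb⟩ := hdvd
    obtain ⟨U, _, hUts, hUfr⟩ := exists_ts_fpf r hr2 hrp Q y h hfix b
      (fun _ => by rw [← hi, hb])
      (fun he => absurd he (by rw [← hi]; exact hne))
    refine ⟨U, hUts, ?_⟩
    rw [hUfr, ← hi, hb]
    ring
  · intro hev
    rw [if_pos hev] at hdvd
    obtain ⟨b, hb⟩ := hdvd
    obtain ⟨i₂, hi₂⟩ := hev
    have hi₂' : i = 2 * i₂ := by omega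
    have hi₂0 : 0 < i₂ := by omega
    have hdiv : finrank F V / i = b := by
      rw [hb, Nat.mul_div_cancel_left _ hi0]
    rw [hdiv]
    have hfr : finrank F V = 2 * (i₂ * b) := by rw [hb, hi₂']; ring
    -- the type as a boolean
    set hyp : Bool := decide (IsHyp Q) with hhypdef
    have hhyp : IsHyp Q ↔ hyp = true := by
      rw [hhypdef, decide_eq_true_iff]
    have hcount := NTYPE.card_singular' Q h.nondeg (i₂ * b) hfr hyp hhyp
    have horb := r_dvd_card_singular r Q y h hfix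
    rw [hcount] at horb
    have hntc := (dvd_nsing_iff r hr hr2 (Fintype.card F) hrq hyp (i₂ * b)).1 horb
    rw [← hi, hi₂'] at hntc
    have hpar := NTYPE.parity_of_ntc hyp i₂ b hi₂0 hntc (by
      intro hf
      by_contra hb0
      have hb0' : b = 0 := by omega
      -- `V = 0` is hyperbolic
      have hV0 : finrank F V = 0 := by rw [hfr, hb0']; simp
      have hH : IsHyp Q := ⟨⊥, fun w hw => by
        rw [Submodule.mem_bot] at hw
        rw [hw, map_zero], by rw [finrank_bot, hV0]⟩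
      rw [hhyp.1 hH] at hf
      exact Bool.noConfusion hf)
    rw [hhyp]
    exact hpar

end Cfsg.Agent.S5973P
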