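import Mathlib

/-!
# Gluing isomorphisms along a central product decomposition

If `E = D C` with `[D, C] = 1` and `E' = D' C'` with `[D', C'] = 1`, isomorphisms `D ≃* D'` and
`C ≃* C'` which agree on `D ∩ C` glue to a surjective homomorphism `E →* E'`, an isomorphism when
the orders agree.
-/

set_option autoImplicit false

namespace Cfsg.Agent.Helper3

variable {E E' : Type*} [Group E] [Group E']

/-- the glued homomorphism -/
theorem exists_glue_hom (D C : Subgroup E) (D' C' : Subgroup E')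
    (hcomm : ∀ d ∈ D, ∀ c ∈ C, d * c = c * d) (hcomm' : ∀ d ∈ D', ∀ c ∈ C', d * c = c * d)
    (hprod : ∀ e : E, ∃ d ∈ D, ∃ c ∈ C, e = d * c)
    (φD : D →* D') (φC : C →* C')
    (hagree : ∀ (g : E) (hd : g ∈ D) (hc : g ∈ C), (φD ⟨g, hd⟩ : E') = φC ⟨g, hc⟩) :
    ∃ φ : E →* E', ∀ (d : D) (c : C), φ ((d : E) * c) = (φD d : E') * φC c := by
  let π : D × C →* E := MonoidHom.noncommCoprod D.subtype C.subtype
    (fun d c => hcomm d.1 d.2 c.1 c.2)
  let ψ : D × C →* E' := MonoidHom.noncommCoprod (D'.subtype.comp φD) (C'.subtype.comp φC)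
    (fun d c => hcomm' (φD d).1 (φD d).2 (φC c).1 (φC c).2)
  have hπ : Function.Surjective π := by
    intro e
    obtain ⟨d, hd, c, hc, rfl⟩ := hprod e
    exact ⟨(⟨d, hd⟩, ⟨c, hc⟩), rfl⟩
  have hker : π.ker ≤ ψ.ker := by
    rintro ⟨d, c⟩ hdc
    rw [MonoidHom.mem_ker] at hdc ⊢
    have h1 : (d : E) * (c : E) = 1 := hdc
    have h2 : (d : E) = (c : E)⁻¹ := eq_inv_of_mul_eq_one_left h1
    have hdC : (d : E) ∈ C := by rw [h2]; exact C.inv_mem c.2
    have h3 : (φD d : E') = φC ⟨(d : E), hdC⟩ := hagree d.1 d.2 hdC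
    have h4 : (⟨(d : E), hdC⟩ : C) = c⁻¹ := Subtype.ext h2
    show (φD d : E') * (φC c : E') = 1
    rw [h3, h4, map_inv]
    simp
  refine ⟨MonoidHom.liftOfSurjective π hπ ⟨ψ, hker⟩, ?_⟩
  intro d c
  have := MonoidHom.liftOfRightInverse_comp_apply π (Function.surjInv hπ)
    (Function.rightInverse_surjInv hπ) ⟨ψ, hker⟩ (d, c)
  exact this

/-- Gluing isomorphisms along central product decompositions. -/
theorem nonempty_mulEquiv_of_central_products [Finite E] [Finite E']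
    (D C : Subgroup E) (D' C' : Subgroup E')
    (hcomm : ∀ d ∈ D, ∀ c ∈ C, d * c = c * d) (hcomm' : ∀ d ∈ D', ∀ c ∈ C', d * c = c * d)
    (hprod : ∀ e : E, ∃ d ∈ D, ∃ c ∈ C, e = d * c)
    (hprod' : ∀ e : E', ∃ d ∈ D', ∃ c ∈ C', e = d * c)
    (φD : D ≃* D') (φC : C ≃* C')
    (hagree : ∀ (g : E) (hd : g ∈ D) (hc : g ∈ C), (φD ⟨g, hd⟩ : E') = φC ⟨g, hc⟩)
    (hcard : Nat.card E = Nat.card E') : Nonempty (E ≃* E') := by
  obtain ⟨φ, hφ⟩ := exists_glue_hom D C D' C' hcomm hcomm' hprod φD.toMonoidHom φC.toMonoidHom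
    hagree
  have hsurj : Function.Surjective φ := by
    intro e'
    obtain ⟨d', hd', c', hc', rfl⟩ := hprod' e'
    refine ⟨(φD.symm ⟨d', hd'⟩ : E) * (φC.symm ⟨c', hc'⟩ : E), ?_⟩
    rw [hφ]
    simp
  have hbij : Function.Bijective φ := by
    haveI := Fintype.ofFinite E
    haveI := Fintype.ofFinite E'
    rw [Fintype.bijective_iff_surjective_and_card]
    refine ⟨hsurj, ?_⟩
    rw [← Nat.card_eq_fintype_card, ← Nat.card_eq_fintype_card, hcard]
  exact ⟨MulEquiv.ofBijective φ hbij⟩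

end Cfsg.Agent.Helper3
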