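import Mathlib

/-!
# Extraspecial 2-groups, elementwise (`ES2 G z`) and the decomposition `G = ⟨x, y⟩ ∘ C_G(x, y)`
-/

set_option autoImplicit false
set_option linter.style.haveILetI false

namespace Cfsg.Agent.Helper3

/-- `G` is a nonabelian group whose centre is `{1, z}` and contains all squares and commutators:
for finite `G` this says `G` is an extraspecial 2-group. -/
structure ES2 (G : Type*) [Group G] (z : G) : Prop where
  ne_one : z ≠ 1
  central : ∀ g : G, g * z = z * g
  center_sub : ∀ g : G, (∀ h : G, g * h = h * g) → g = 1 ∨ g = z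
  sq : ∀ x : G, x ^ 2 = 1 ∨ x ^ 2 = z
  comm : ∀ x y : G, x * y = y * x ∨ x * y = y * x * z
  nonab : ∃ x y : G, x * y ≠ y * x

namespace ES2

variable {G : Type*} [Group G] {z : G}

theorem zz (h : ES2 G z) : z * z = 1 := by
  rcases h.sq z with h1 | h1
  · rwa [pow_two] at h1
  · exfalso
    apply h.ne_one
    rw [pow_two] at h1
    exact mul_left_cancel (a := z) (by rw [h1, mul_one])

theorem z_inv (h : ES2 G z) : z⁻¹ = z := inv_eq_of_mul_eq_one_left h.zz

theorem eq_mul_z (h : ES2 G z) {x y : G} (hxy : x * y ≠ y * x) : x * y = y * x * z := by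
  rcases h.comm x y with h1 | h1
  · exact absurd h1 hxy
  · exact h1

theorem mul_z_ne (h : ES2 G z) (g : G) : g * z ≠ g := by
  intro h1
  apply h.ne_one
  exact mul_left_cancel (a := g) (by rw [h1, mul_one])

/-- noncentral involutions have noncommuting involution partners -/
theorem exists_noncomm_invol (h : ES2 G z) {x : G} (hx : x * x = 1) (hx1 : x ≠ 1) (hxz : x ≠ z) :
    ∃ y : G, y * y = 1 ∧ x * y ≠ y * x := by
  have hnc : ¬ ∀ g : G, x * g = g * x := by
    intro hc
    rcases h.center_sub x hc with h1 | h1
    · exact hx1 h1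
    · exact hxz h1
  push Not at hnc
  obtain ⟨y0, hy0⟩ := hnc
  rcases h.sq y0 with h1 | h1
  · exact ⟨y0, by rwa [pow_two] at h1, hy0⟩
  · refine ⟨x * y0, ?_, ?_⟩
    · have h2 : y0 * x = x * y0 * z := h.eq_mul_z (fun hh => hy0 hh.symm)
      rw [pow_two] at h1
      calc x * y0 * (x * y0) = x * (y0 * x) * y0 := by group
        _ = x * (x * y0 * z) * y0 := by rw [h2]
        _ = x * x * y0 * (z * y0) := by group
        _ = x * x * y0 * (y0 * z) := by rw [h.central y0]
        _ = x * x * (y0 * y0) * z := by group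
        _ = 1 := by rw [hx, h1, one_mul, h.zz]
    · intro hh
      apply hy0
      have : x * (x * y0) = x * (y0 * x) := by rw [hh]; group
      exact mul_left_cancel this

section pair

/-- the transversal `x^a y^b` -/
def tau (x y : G) (a b : Bool) : G := (if a then x else 1) * (if b then y else 1)

/-- the sign element -/
def zpw (z : G) (b : Bool) : G := if b then z else 1

theorem zpw_central (h : ES2 G z) (b : Bool) (g : G) : g * zpw z b = zpw z b * g := by
  cases b
  · simp [zpw]
  · simpa [zpw] using h.central g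

theorem yx (h : ES2 G z) {x y : G} (hxy : x * y ≠ y * x) : y * x = x * y * z :=
  h.eq_mul_z (fun hh => hxy hh.symm)

theorem tau_mul_x (h : ES2 G z) {x y : G} (hxy : x * y ≠ y * x) (a b : Bool) :
    tau x y a b * x = x * tau x y a b * zpw z b := by
  have h1 := yx h hxy
  cases a <;> cases b <;> simp only [tau, zpw, if_true, if_false, Bool.false_eq_true, one_mul,
    mul_one]
  · rw [h1]
  · rw [mul_assoc x y x, h1]; group

theorem tau_mul_y (h : ES2 G z) {x y : G} (hy : y * y = 1) (hxy : x * y ≠ y * x) (a b : Bool) :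
    tau x y a b * y = y * tau x y a b * zpw z a := by
  have h1 := h.eq_mul_z hxy
  cases a <;> cases b <;> simp only [tau, zpw, if_true, if_false, Bool.false_eq_true, one_mul,
    mul_one]
  · exact h1
  · calc x * y * y = x := by rw [mul_assoc, hy, mul_one]
      _ = y * y * x * (z * z) := by rw [hy, h.zz, one_mul, mul_one]
      _ = y * (y * x * z) * z := by group
      _ = y * (x * y) * z := by rw [← h1]

/-- the centralizer of the pair -/
def cent (x y : G) : Subgroup G := Subgroup.centralizer ({x, y} : Set G)

theorem mem_cent {x y g : G} : g ∈ cent x y ↔ x * g = g * x ∧ y * g = g * y := by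
  unfold cent
  rw [Subgroup.mem_centralizer_iff]
  constructor
  · intro hg
    exact ⟨hg x (by simp), hg y (by simp)⟩
  · rintro ⟨h1, h2⟩ u hu
    rcases hu with rfl | rfl
    · exact h1
    · exact h2

theorem z_mem_cent (h : ES2 G z) (x y : G) : z ∈ cent x y :=
  mem_cent.mpr ⟨h.central x, h.central y⟩

/-- `t⁻¹ e` commutes with `x` when `t` and `e` have the same commutation sign with `x` -/
theorem inv_mul_comm {x t e w : G} (hw : ∀ g : G, g * w = w * g)
    (ht : t * x = x * t * w) (he : e * x = x * e * w) : x * (t⁻¹ * e) = t⁻¹ * e * x := by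
  have ht' : t⁻¹ * x = x * t⁻¹ * w⁻¹ := by
    have : x = t⁻¹ * (x * t * w) := by rw [← ht]; group
    calc t⁻¹ * x = t⁻¹ * x * (t * w) * (t * w)⁻¹ := by group
      _ = t⁻¹ * (x * t * w) * (t * w)⁻¹ := by group
      _ = x * (t * w)⁻¹ := by rw [← this]
      _ = x * (w * t)⁻¹ := by rw [hw t]
      _ = x * t⁻¹ * w⁻¹ := by group
  symm
  calc t⁻¹ * e * x = t⁻¹ * (e * x) := by group
    _ = t⁻¹ * (x * e * w) := by rw [he]
    _ = (t⁻¹ * x) * e * w := by group
    _ = (x * t⁻¹ * w⁻¹) * e * w := by rw [ht']
    _ = x * t⁻¹ * w⁻¹ * (e * w) := by group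
    _ = x * t⁻¹ * w⁻¹ * (w * e) := by rw [hw e]
    _ = x * (t⁻¹ * e) := by group

theorem comm_sign (h : ES2 G z) (e x : G) : ∃ b : Bool, e * x = x * e * zpw z b := by
  rcases h.comm e x with h1 | h1
  · exact ⟨false, by simpa [zpw] using h1⟩
  · exact ⟨true, by simpa [zpw] using h1⟩

/-- decomposition `e = x^a y^b c` with `c` centralizing `x, y` -/
theorem exists_decomp (h : ES2 G z) {x y : G} (hy : y * y = 1) (hxy : x * y ≠ y * x) (e : G) :
    ∃ a b : Bool, ∃ c ∈ cent x y, e = tau x y a b * c := by
  obtain ⟨b, hb⟩ := comm_sign h e x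
  obtain ⟨a, ha⟩ := comm_sign h e y
  refine ⟨a, b, (tau x y a b)⁻¹ * e, ?_, by group⟩
  rw [mem_cent]
  exact ⟨inv_mul_comm (zpw_central h b) (tau_mul_x h hxy a b) hb,
    inv_mul_comm (zpw_central h a) (tau_mul_y h hy hxy a b) ha⟩

theorem tau_mul_cent_x (h : ES2 G z) {x y : G} (hxy : x * y ≠ y * x) (a b : Bool) {c : G}
    (hc : c ∈ cent x y) : tau x y a b * c * x = x * (tau x y a b * c) * zpw z b := by
  have h1 := (mem_cent.mp hc).1
  calc tau x y a b * c * x = tau x y a b * (c * x) := by group
    _ = tau x y a b * (x * c) := by rw [h1]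
    _ = (tau x y a b * x) * c := by group
    _ = x * tau x y a b * zpw z b * c := by rw [tau_mul_x h hxy]
    _ = x * tau x y a b * (zpw z b * c) := by group
    _ = x * tau x y a b * (c * zpw z b) := by rw [zpw_central h b c]
    _ = x * (tau x y a b * c) * zpw z b := by group

theorem tau_mul_cent_y (h : ES2 G z) {x y : G} (hy : y * y = 1) (hxy : x * y ≠ y * x)
    (a b : Bool) {c : G} (hc : c ∈ cent x y) :
    tau x y a b * c * y = y * (tau x y a b * c) * zpw z a := by
  have h1 := (mem_cent.mp hc).2
  calc tau x y a b * c * y = tau x y a b * (c * y) := by group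
    _ = tau x y a b * (y * c) := by rw [h1]
    _ = (tau x y a b * y) * c := by group
    _ = y * tau x y a b * zpw z a * c := by rw [tau_mul_y h hy hxy]
    _ = y * tau x y a b * (zpw z a * c) := by group
    _ = y * tau x y a b * (c * zpw z a) := by rw [zpw_central h a c]
    _ = y * (tau x y a b * c) * zpw z a := by group

theorem zpw_injective (h : ES2 G z) {a b : Bool} (hab : zpw z a = zpw z b) : a = b := by
  cases a <;> cases b <;> simp only [zpw, if_true, if_false, Bool.false_eq_true] at hab
  · rfl
  · exact absurd hab.symm h.ne_one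
  · exact absurd hab h.ne_one
  · rfl

/-- the bijection `(Bool × Bool) × C → G` -/
def Psi (x y : G) (p : (Bool × Bool) × cent x y) : G := tau x y p.1.1 p.1.2 * p.2

theorem Psi_bijective (h : ES2 G z) {x y : G} (hy : y * y = 1) (hxy : x * y ≠ y * x) :
    Function.Bijective (Psi x y) := by
  constructor
  · rintro ⟨⟨a, b⟩, c⟩ ⟨⟨a', b'⟩, c'⟩ heq
    simp only [Psi] at heq
    have hb : b = b' := by
      have h1 := tau_mul_cent_x h hxy a b c.2
      have h2 := tau_mul_cent_x h hxy a' b' c'.2
      rw [heq, h2] at h1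
      exact (zpw_injective h (mul_left_cancel h1)).symm
    have ha : a = a' := by
      have h1 := tau_mul_cent_y h hy hxy a b c.2
      have h2 := tau_mul_cent_y h hy hxy a' b' c'.2
      rw [heq, h2] at h1
      exact (zpw_injective h (mul_left_cancel h1)).symm
    subst ha hb
    have hc : (c : G) = c' := mul_left_cancel heq
    have : c = c' := Subtype.ext hc
    rw [this]
  · intro e
    obtain ⟨a, b, c, hc, rfl⟩ := exists_decomp h hy hxy e
    exact ⟨((a, b), ⟨c, hc⟩), rfl⟩

theorem card_eq_four_mul [Finite G] (h : ES2 G z) {x y : G} (hy : y * y = 1)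
    (hxy : x * y ≠ y * x) : Nat.card G = 4 * Nat.card (cent x y) := by
  rw [← Nat.card_congr (Equiv.ofBijective (Psi x y) (Psi_bijective h hy hxy)), Nat.card_prod,
    Nat.card_prod]
  simp

theorem tau_comm_cent {x y : G} (a b : Bool) {c : G} (hc : c ∈ cent x y) :
    tau x y a b * c = c * tau x y a b := by
  obtain ⟨h1, h2⟩ := mem_cent.mp hc
  cases a <;> cases b <;> simp only [tau, if_true, if_false, Bool.false_eq_true, one_mul, mul_one]
  · exact h2
  · exact h1
  · rw [mul_assoc, h2, ← mul_assoc, h1, mul_assoc]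

theorem card_le_two_of_dichotomy {α : Type*} (a b : α) (hab : ∀ e : α, e = a ∨ e = b) :
    Nat.card α ≤ 2 := by
  classical
  have hinj : Function.Injective (fun e : α => decide (e = a)) := by
    intro e1 e2 h12
    simp only [decide_eq_decide] at h12
    rcases hab e1 with h1 | h1 <;> rcases hab e2 with h2 | h2
    · rw [h1, h2]
    · have := h12.mp h1
      rw [h1, this]
    · have := h12.mpr h2
      rw [this, h2]
    · rw [h1, h2]
  have := Nat.card_le_card_of_injective _ hinj
  simpa using this

/-- the centralizer of a noncommuting pair is again extraspecial, if it is not just the centre -/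
theorem cent_es2 [Finite G] (h : ES2 G z) {x y : G} (hy : y * y = 1) (hxy : x * y ≠ y * x)
    (hcard : 2 < Nat.card (cent x y)) :
    ES2 (cent x y) ⟨z, z_mem_cent h x y⟩ := by
  have hcs : ∀ g : cent x y, (∀ k : cent x y, g * k = k * g) → g = 1 ∨ g = ⟨z, z_mem_cent h x y⟩ := by
    intro g hg
    have hall : ∀ e : G, (g : G) * e = e * g := by
      intro e
      obtain ⟨a, b, c, hc, rfl⟩ := exists_decomp h hy hxy e
      have h1 : (g : G) * c = c * g := congrArg Subtype.val (hg ⟨c, hc⟩)
      have h2 := tau_comm_cent (x := x) (y := y) a b g.2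
      calc (g : G) * (tau x y a b * c) = ((g : G) * tau x y a b) * c := by group
        _ = (tau x y a b * g) * c := by rw [h2]
        _ = tau x y a b * ((g : G) * c) := by group
        _ = tau x y a b * (c * g) := by rw [h1]
        _ = tau x y a b * c * g := by group
    rcases h.center_sub g hall with h1 | h1
    · exact Or.inl (Subtype.ext h1)
    · exact Or.inr (Subtype.ext h1)
  refine ⟨fun hh => h.ne_one (congrArg Subtype.val hh), fun g => Subtype.ext (h.central g),
    hcs, ?_, ?_, ?_⟩
  · intro u
    rcases h.sq u with h1 | h1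
    · exact Or.inl (Subtype.ext (by simpa using h1))
    · exact Or.inr (Subtype.ext (by simpa using h1))
  · intro u v
    rcases h.comm u v with h1 | h1
    · exact Or.inl (Subtype.ext (by simpa using h1))
    · exact Or.inr (Subtype.ext (by simpa using h1))
  · by_contra hcon
    push Not at hcon
    have : ∀ g : cent x y, g = 1 ∨ g = ⟨z, z_mem_cent h x y⟩ :=
      fun g => hcs g (fun k => hcon g k)
    have := card_le_two_of_dichotomy _ _ this
    omega

/-- squares in `G` in terms of the decomposition -/
theorem sq_tau_mul (h : ES2 G z) {x y : G} (hx : x * x = 1) (hy : y * y = 1)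
    (hxy : x * y ≠ y * x) (a b : Bool) {c : G} (hc : c ∈ cent x y) :
    (tau x y a b * c) ^ 2 = zpw z (a && b) * c ^ 2 := by
  have h1 := tau_comm_cent (x := x) (y := y) a b hc
  have h2 : tau x y a b * tau x y a b = zpw z (a && b) := by
    cases a <;> cases b <;> simp only [tau, zpw, if_true, if_false, Bool.false_eq_true, one_mul,
      mul_one, Bool.and_self, Bool.and_false, Bool.and_true]
    · exact hy
    · exact hx
    · have h3 := yx h hxy
      calc x * y * (x * y) = x * (y * x) * y := by group
        _ = x * (x * y * z) * y := by rw [h3]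
        _ = x * x * y * (z * y) := by group
        _ = x * x * y * (y * z) := by rw [h.central y]
        _ = x * x * (y * y) * z := by group
        _ = z := by rw [hx, hy, one_mul, one_mul]
  calc (tau x y a b * c) ^ 2 = tau x y a b * (c * tau x y a b) * c := by rw [pow_two]; group
    _ = tau x y a b * (tau x y a b * c) * c := by rw [h1]
    _ = (tau x y a b * tau x y a b) * (c * c) := by group
    _ = zpw z (a && b) * c ^ 2 := by rw [h2, pow_two]

/-- number of solutions of `x^2 = 1` -/
noncomputable def jj (H : Type*) [Group H] : ℕ := Nat.card {u : H // u ^ 2 = 1}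

theorem jj_add_compl (H : Type*) [Group H] [Finite H] :
    jj H + Nat.card {u : H // ¬ u ^ 2 = 1} = Nat.card H := by
  classical
  unfold jj
  rw [← Nat.card_sum]
  exact Nat.card_congr (Equiv.sumCompl (fun u : H => u ^ 2 = 1))

theorem jj_eq [Finite G] (h : ES2 G z) {x y : G} (hx : x * x = 1) (hy : y * y = 1)
    (hxy : x * y ≠ y * x) : jj G = 2 * jj (cent x y) + Nat.card (cent x y) := by
  classical
  have e1 : {u : G // u ^ 2 = 1} ≃
      {p : (Bool × Bool) × cent x y // (tau x y p.1.1 p.1.2 * (p.2 : G)) ^ 2 = 1} :=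
    (Equiv.subtypeEquiv (Equiv.ofBijective (Psi x y) (Psi_bijective h hy hxy))
      (fun p => by rfl)).symm
  have e2 : {p : (Bool × Bool) × cent x y // (tau x y p.1.1 p.1.2 * (p.2 : G)) ^ 2 = 1} ≃
      Σ ab : Bool × Bool, {c : cent x y // (tau x y ab.1 ab.2 * (c : G)) ^ 2 = 1} :=
    Equiv.subtypeProdEquivSigmaSubtype
      (fun (ab : Bool × Bool) (c : cent x y) => (tau x y ab.1 ab.2 * (c : G)) ^ 2 = 1)
  have hcount : jj G = ∑ ab : Bool × Bool,
      Nat.card {c : cent x y // (tau x y ab.1 ab.2 * (c : G)) ^ 2 = 1} := by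
    unfold jj
    rw [Nat.card_congr (e1.trans e2), Nat.card_sigma]
  have hA : ∀ a b : Bool, (a && b) = false →
      Nat.card {c : cent x y // (tau x y a b * (c : G)) ^ 2 = 1} = jj (cent x y) := by
    intro a b hab
    unfold jj
    apply Nat.card_congr
    apply Equiv.subtypeEquivRight
    intro c
    rw [sq_tau_mul h hx hy hxy a b c.2, hab]
    simp only [zpw, Bool.false_eq_true, if_false, one_mul]
    rw [← Subgroup.coe_pow, OneMemClass.coe_eq_one]
  have hB : Nat.card {c : cent x y // (tau x y true true * (c : G)) ^ 2 = 1} =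
      Nat.card {c : cent x y // ¬ c ^ 2 = 1} := by
    apply Nat.card_congr
    apply Equiv.subtypeEquivRight
    intro c
    rw [sq_tau_mul h hx hy hxy true true c.2]
    simp only [zpw, Bool.and_self, if_true]
    rw [← Subgroup.coe_pow]
    constructor
    · intro h1 h2
      rw [h2] at h1
      apply h.ne_one
      simpa using h1
    · intro h1
      rcases h.sq (c : G) with h2 | h2
      · exfalso; apply h1; apply Subtype.ext; simpa using h2
      · rw [Subgroup.coe_pow, h2]; exact h.zz
  rw [hcount, Fintype.sum_prod_type, Fintype.sum_bool, Fintype.sum_bool, Fintype.sum_bool]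
  rw [hA true false rfl, hA false true rfl, hA false false rfl, hB]
  have := jj_add_compl (cent x y)
  omega

end pair

end ES2

end Cfsg.Agent.Helper3
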