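import Mathlib
import Cfsg.Agent.Helper3.ES2
import Cfsg.Agent.Helper3.CentralGlue
import Cfsg.Agent.Helper1.QuadCount
import Cfsg.Agent.Helper11.DihedralLift
import Cfsg.Agent.Helper2.QuaternionLift

/-!
# Extraspecial 2-groups are determined by their order and the number of solutions of `x^2 = 1`
-/

set_option autoImplicit false
set_option linter.style.haveILetI false

namespace Cfsg.Agent.Helper3

namespace ES2

universe u v

variable {G : Type*} [Group G] {z : G}

theorem xy_sq (h : ES2 G z) {x y : G} (hx : x * x = 1) (hy : y * y = 1)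
    (hxy : x * y ≠ y * x) : (x * y) ^ 2 = z := by
  have := sq_tau_mul h hx hy hxy true true (one_mem (cent x y))
  simpa [tau, zpw] using this

theorem inv_of_invol {y : G} (hy : y * y = 1) : y⁻¹ = y := inv_eq_of_mul_eq_one_left hy

theorem dih_ha (h : ES2 G z) {x y : G} (hx : x * x = 1) (hy : y * y = 1)
    (hxy : x * y ≠ y * x) : (x * y) ^ 4 = 1 := by
  have : (x * y) ^ 4 = ((x * y) ^ 2) ^ 2 := by rw [← pow_mul]
  rw [this, xy_sq h hx hy hxy, pow_two, h.zz]

theorem dih_hab {x y : G} (hx : x * x = 1) (hy : y * y = 1) :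
    x * (x * y) * x = (x * y)⁻¹ := by
  rw [mul_inv_rev, inv_of_invol hx, inv_of_invol hy, ← mul_assoc, hx, one_mul]

theorem dih_order (h : ES2 G z) {x y : G} (hx : x * x = 1) (hy : y * y = 1)
    (hxy : x * y ≠ y * x) : orderOf (x * y) = 4 := by
  haveI : Fact (Nat.Prime 2) := ⟨Nat.prime_two⟩
  have := orderOf_eq_prime_pow (x := x * y) (p := 2) (n := 1)
    (by rw [pow_one, xy_sq h hx hy hxy]; exact h.ne_one)
    (by norm_num; exact dih_ha h hx hy hxy)
  simpa using this

theorem not_mem_zpowers_of_noncomm {a b : G} (hab : b * a ≠ a * b) : b ∉ Subgroup.zpowers a := by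
  intro hb
  obtain ⟨k, rfl⟩ := Subgroup.mem_zpowers_iff.mp hb
  apply hab
  exact ((Commute.refl a).zpow_left k).eq

theorem dih_hba {x y : G} (hxy : x * y ≠ y * x) : x ∉ Subgroup.zpowers (x * y) := by
  apply not_mem_zpowers_of_noncomm
  intro hh
  apply hxy
  have : x * (x * y) = x * (y * x) := by rw [hh]; group
  exact mul_left_cancel this

/-- the embedding of the dihedral group of order 8 -/
noncomputable def dih (h : ES2 G z) {x y : G} (hx : x * x = 1) (hy : y * y = 1)
    (hxy : x * y ≠ y * x) : DihedralGroup 4 →* G :=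
  Cfsg.Agent.Helper11.dihedralLift 4 (x * y) x (dih_ha h hx hy hxy) hx (dih_hab hx hy)

theorem dih_injective (h : ES2 G z) {x y : G} (hx : x * x = 1) (hy : y * y = 1)
    (hxy : x * y ≠ y * x) : Function.Injective (dih h hx hy hxy) :=
  Cfsg.Agent.Helper11.dihedralLift_injective 4 (x * y) x (dih_ha h hx hy hxy) hx (dih_hab hx hy)
    (dih_order h hx hy hxy) (dih_hba hxy)

theorem dih_r (h : ES2 G z) {x y : G} (hx : x * x = 1) (hy : y * y = 1)
    (hxy : x * y ≠ y * x) (i : ZMod 4) :
    dih h hx hy hxy (DihedralGroup.r i) = (x * y) ^ (ZMod.cast i : ℤ) := by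
  unfold dih
  rw [Cfsg.Agent.Helper11.dihedralLift_r, Cfsg.Agent.Helper11.zmodPow_eq_zpow]

theorem dih_sr (h : ES2 G z) {x y : G} (hx : x * x = 1) (hy : y * y = 1)
    (hxy : x * y ≠ y * x) (i : ZMod 4) :
    dih h hx hy hxy (DihedralGroup.sr i) = x * (x * y) ^ (ZMod.cast i : ℤ) := by
  unfold dih
  rw [Cfsg.Agent.Helper11.dihedralLift_sr, Cfsg.Agent.Helper11.zmodPow_eq_zpow]

theorem dih_sr0 (h : ES2 G z) {x y : G} (hx : x * x = 1) (hy : y * y = 1)
    (hxy : x * y ≠ y * x) : dih h hx hy hxy (DihedralGroup.sr 0) = x := by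
  rw [dih_sr]
  have : (ZMod.cast (0 : ZMod 4) : ℤ) = 0 := by decide
  rw [this, zpow_zero, mul_one]

theorem dih_sr1 (h : ES2 G z) {x y : G} (hx : x * x = 1) (hy : y * y = 1)
    (hxy : x * y ≠ y * x) : dih h hx hy hxy (DihedralGroup.sr 1) = y := by
  rw [dih_sr]
  have : (ZMod.cast (1 : ZMod 4) : ℤ) = 1 := by decide
  rw [this, zpow_one, ← mul_assoc, hx, one_mul]

theorem dih_r2 (h : ES2 G z) {x y : G} (hx : x * x = 1) (hy : y * y = 1)
    (hxy : x * y ≠ y * x) : dih h hx hy hxy (DihedralGroup.r 2) = z := by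
  rw [dih_r]
  have : (ZMod.cast (2 : ZMod 4) : ℤ) = 2 := by decide
  rw [this]
  have h2 : (x * y) ^ (2 : ℤ) = (x * y) ^ (2 : ℕ) := by norm_cast
  rw [h2, xy_sq h hx hy hxy]

theorem tau_mem_range (h : ES2 G z) {x y : G} (hx : x * x = 1) (hy : y * y = 1)
    (hxy : x * y ≠ y * x) (a b : Bool) : tau x y a b ∈ (dih h hx hy hxy).range := by
  have h1 : x ∈ (dih h hx hy hxy).range := ⟨_, dih_sr0 h hx hy hxy⟩
  have h2 : y ∈ (dih h hx hy hxy).range := ⟨_, dih_sr1 h hx hy hxy⟩
  unfold tau
  apply mul_mem
  · split_ifs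
    · exact h1
    · exact one_mem _
  · split_ifs
    · exact h2
    · exact one_mem _

theorem range_comm_cent (h : ES2 G z) {x y : G} (hx : x * x = 1) (hy : y * y = 1)
    (hxy : x * y ≠ y * x) : ∀ d ∈ (dih h hx hy hxy).range, ∀ c ∈ cent x y, d * c = c * d := by
  rintro _ ⟨u, rfl⟩ c hc
  obtain ⟨h1, h2⟩ := mem_cent.mp hc
  have hcx : Commute c x := h1.symm
  have hcy : Commute c y := h2.symm
  have hca : Commute c (x * y) := hcx.mul_right hcy
  rcases u with i | i
  · rw [dih_r]
    exact (hca.zpow_right _).symm.eq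
  · rw [dih_sr]
    exact (hcx.mul_right (hca.zpow_right _)).symm.eq

theorem range_inf_cent (h : ES2 G z) {x y : G} (hx : x * x = 1) (hy : y * y = 1)
    (hxy : x * y ≠ y * x) : ∀ d ∈ (dih h hx hy hxy).range, d ∈ cent x y → d = 1 ∨ d = z := by
  rintro _ ⟨u, rfl⟩ hc
  obtain ⟨h1, h2⟩ := mem_cent.mp hc
  have hinj := dih_injective h hx hy hxy
  have e1 : DihedralGroup.sr 0 * u = u * DihedralGroup.sr 0 := by
    apply hinj
    rw [map_mul, map_mul, dih_sr0]
    exact h1
  have e2 : DihedralGroup.sr 1 * u = u * DihedralGroup.sr 1 := by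
    apply hinj
    rw [map_mul, map_mul, dih_sr1]
    exact h2
  have key : ∀ u : DihedralGroup 4, DihedralGroup.sr 0 * u = u * DihedralGroup.sr 0 →
      DihedralGroup.sr 1 * u = u * DihedralGroup.sr 1 →
      u = DihedralGroup.r 0 ∨ u = DihedralGroup.r 2 := by decide
  rcases key u e1 e2 with rfl | rfl
  · left
    rw [DihedralGroup.r_zero, map_one]
  · right
    exact dih_r2 h hx hy hxy

/-- an isomorphism of extraspecial 2-groups respects the central involutions -/
theorem map_z {G' : Type*} [Group G'] {z' : G'} (h : ES2 G z) (h' : ES2 G' z') (φ : G ≃* G') :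
    φ z = z' := by
  have hc : ∀ k : G', φ z * k = k * φ z := by
    intro k
    obtain ⟨g, rfl⟩ := φ.surjective k
    rw [← map_mul, ← map_mul, (h.central g).symm]
  rcases h'.center_sub _ hc with h1 | h1
  · exfalso
    apply h.ne_one
    apply φ.injective
    rw [h1, map_one]
  · exact h1

/-- existence of a noncentral involution is detected by the count -/
theorem two_lt_jj_iff [Finite G] (h : ES2 G z) :
    2 < jj G ↔ ∃ x : G, x * x = 1 ∧ x ≠ 1 ∧ x ≠ z := by
  constructor
  · intro hj
    by_contra hcon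
    push Not at hcon
    have hz2 : z ^ 2 = 1 := by rw [pow_two]; exact h.zz
    have : ∀ e : {u : G // u ^ 2 = 1}, e = ⟨1, one_pow 2⟩ ∨ e = ⟨z, hz2⟩ := by
      intro e
      by_cases he : (e : G) = 1
      · exact Or.inl (Subtype.ext he)
      · right
        apply Subtype.ext
        have := e.2
        rw [pow_two] at this
        exact hcon e this he
    have := card_le_two_of_dichotomy _ _ this
    unfold jj at hj
    omega
  · rintro ⟨x, hx, hx1, hxz⟩
    haveI := Fintype.ofFinite {u : G // u ^ 2 = 1}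
    unfold jj
    rw [Nat.card_eq_fintype_card, Fintype.two_lt_card_iff]
    have hz2 : z ^ 2 = 1 := by rw [pow_two]; exact h.zz
    have hx2 : x ^ 2 = 1 := by rw [pow_two]; exact hx
    refine ⟨⟨1, one_pow 2⟩, ⟨z, hz2⟩, ⟨x, hx2⟩, ?_, ?_, ?_⟩
    · intro hh; exact h.ne_one (congrArg Subtype.val hh).symm
    · intro hh; exact hx1 (congrArg Subtype.val hh).symm
    · intro hh; exact hxz (congrArg Subtype.val hh).symm

theorem exists_pair [Finite G] (h : ES2 G z) (hj : 2 < jj G) :
    ∃ x y : G, x * x = 1 ∧ y * y = 1 ∧ x * y ≠ y * x := by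
  obtain ⟨x, hx, hx1, hxz⟩ := (two_lt_jj_iff h).mp hj
  obtain ⟨y, hy, hxy⟩ := h.exists_noncomm_invol hx hx1 hxz
  exact ⟨x, y, hx, hy, hxy⟩

/-- the Gauss sum identity -/
theorem gauss [Finite G] (h : ES2 G z) :
    (2 * (jj G : ℤ) - Nat.card G) ^ 2 = 2 * Nat.card G := by
  classical
  haveI := Fintype.ofFinite G
  have hcm : ∀ w x : G, w⁻¹ * x⁻¹ * w * x = 1 ∨ w⁻¹ * x⁻¹ * w * x = z := by
    intro w x
    rcases h.comm w x with h1 | h1
    · left
      calc w⁻¹ * x⁻¹ * w * x = w⁻¹ * x⁻¹ * (w * x) := by group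
        _ = w⁻¹ * x⁻¹ * (x * w) := by rw [h1]
        _ = 1 := by group
    · right
      calc w⁻¹ * x⁻¹ * w * x = w⁻¹ * x⁻¹ * (w * x) := by group
        _ = w⁻¹ * x⁻¹ * (x * w * z) := by rw [h1]
        _ = z := by group
  have hcenter : ∀ w ∈ Subgroup.center G, w = 1 ∨ w = z := by
    intro w hw
    apply h.center_sub
    intro k
    exact (Subgroup.mem_center_iff.mp hw k).symm
  have hcard : Nat.card (Subgroup.center G) = 2 := by
    apply le_antisymm
    · apply card_le_two_of_dichotomy (1 : Subgroup.center G)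
        ⟨z, Subgroup.mem_center_iff.mpr (fun g => h.central g)⟩
      intro e
      rcases hcenter e.1 e.2 with h1 | h1
      · exact Or.inl (Subtype.ext h1)
      · exact Or.inr (Subtype.ext h1)
    · have : 1 < Nat.card (Subgroup.center G) := by
        rw [Subgroup.one_lt_card_iff_ne_bot]
        intro hbot
        have : z ∈ Subgroup.center G := Subgroup.mem_center_iff.mpr (fun g => h.central g)
        rw [hbot, Subgroup.mem_bot] at this
        exact h.ne_one this
      omega
  rcases Cfsg.Agent.Helper1.QuadCount.quad_count z h.zz h.central h.sq hcm with ⟨-, hS⟩ | ⟨⟨w, hw, hw2⟩, -⟩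
  · rw [hcard] at hS
    unfold jj
    rw [hS]; push_cast; ring
  · exfalso
    apply hw2
    rcases hcenter w hw with rfl | rfl
    · exact one_pow 2
    · rw [pow_two]; exact h.zz

theorem three_le_card [Finite G] (h : ES2 G z) : 3 ≤ Nat.card G := by
  obtain ⟨x, y, hxy⟩ := h.nonab
  haveI := Fintype.ofFinite G
  have : 2 < Fintype.card G := by
    rw [Fintype.two_lt_card_iff]
    refine ⟨1, z, x, fun hh => h.ne_one hh.symm, ?_, ?_⟩
    · rintro rfl
      apply hxy; rw [one_mul, mul_one]
    · rintro rfl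
      apply hxy; exact (h.central y).symm
  rw [Nat.card_eq_fintype_card]
  omega

theorem card_eq_eight_of_jj_le [Finite G] (h : ES2 G z) (hj : jj G ≤ 2) : Nat.card G = 8 := by
  have hg := gauss h
  have h3 := three_le_card h
  set N := Nat.card G with hN
  set j := jj G with hjdef
  have hN8 : N ≤ 8 := by
    by_contra hcon
    push Not at hcon
    have h9 : (9 : ℤ) ≤ N := by exact_mod_cast hcon
    have hj2 : (j : ℤ) ≤ 2 := by exact_mod_cast hj
    have hj0 : (0 : ℤ) ≤ j := by positivity
    nlinarith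
  interval_cases N <;> interval_cases j <;> first | rfl | (exfalso; norm_num at hg)

/-- order 8, only central involutions: quaternion -/
theorem nonempty_mulEquiv_quaternion [Finite G] (h : ES2 G z) (hcard : Nat.card G = 8)
    (hj : ¬ 2 < jj G) : Nonempty (G ≃* QuaternionGroup 2) := by
  haveI : Fact (Nat.Prime 2) := ⟨Nat.prime_two⟩
  obtain ⟨x, y, hxy⟩ := h.nonab
  have hnoinv : ∀ u : G, u * u = 1 → u = 1 ∨ u = z := by
    intro u hu
    by_contra hcon
    push Not at hcon
    exact hj ((two_lt_jj_iff h).mpr ⟨u, hu, hcon.1, hcon.2⟩)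
  have hx1 : x ≠ 1 := by rintro rfl; apply hxy; rw [one_mul, mul_one]
  have hxz : x ≠ z := by rintro rfl; apply hxy; exact (h.central y).symm
  have hy1 : y ≠ 1 := by rintro rfl; apply hxy; rw [one_mul, mul_one]
  have hyz : y ≠ z := by rintro rfl; apply hxy; exact h.central x
  have hx2 : x ^ 2 = z := by
    rcases h.sq x with h1 | h1
    · exfalso
      rw [pow_two] at h1
      rcases hnoinv x h1 with h2 | h2
      · exact hx1 h2
      · exact hxz h2
    · exact h1
  have hy2 : y ^ 2 = z := by
    rcases h.sq y with h1 | h1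
    · exfalso
      rw [pow_two] at h1
      rcases hnoinv y h1 with h2 | h2
      · exact hy1 h2
      · exact hyz h2
    · exact h1
  apply Cfsg.Agent.Helper2.QLift.nonempty_mulEquiv_quaternionGroup 2 (by rw [hcard]) x y
  · have := orderOf_eq_prime_pow (x := x) (p := 2) (n := 1)
      (by rw [pow_one, hx2]; exact h.ne_one)
      (by
        have : x ^ 2 ^ (1 + 1) = (x ^ 2) ^ 2 := by rw [← pow_mul]; norm_num
        rw [this, hx2, pow_two, h.zz])
    simpa using this
  · rw [hx2, ← pow_two, hy2]
  · have h1 : y * x = x * y * z := yx h hxy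
    have h2 : x * (x * z) = 1 := by rw [← mul_assoc, ← pow_two, hx2, h.zz]
    calc y * x * y⁻¹ = x * y * z * y⁻¹ := by rw [h1]
      _ = x * (y * z) * y⁻¹ := by group
      _ = x * (z * y) * y⁻¹ := by rw [h.central y]
      _ = x * z := by group
      _ = x⁻¹ := (inv_eq_of_mul_eq_one_right h2).symm
  · exact not_mem_zpowers_of_noncomm (fun hh => hxy hh.symm)

/-- order at most 8 with noncommuting involutions: dihedral -/
theorem dih_bijective [Finite G] (h : ES2 G z) {x y : G} (hx : x * x = 1) (hy : y * y = 1)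
    (hxy : x * y ≠ y * x) (hcard : Nat.card G ≤ 8) : Function.Bijective (dih h hx hy hxy) := by
  apply (dih_injective h hx hy hxy).bijective_of_nat_card_le
  rw [DihedralGroup.nat_card]
  exact hcard

/-- **Main theorem**: extraspecial 2-groups with the same order and the same number of solutions
of `x^2 = 1` are isomorphic. -/
theorem nonempty_mulEquiv_aux (n : ℕ) :
    ∀ (G : Type u) [Group G] [Finite G] (z : G) (G' : Type v) [Group G'] [Finite G'] (z' : G'),
      ES2 G z → ES2 G' z' → Nat.card G = n → Nat.card G' = n → jj G = jj G' →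
      Nonempty (G ≃* G') := by
  induction n using Nat.strong_induction_on with
  | _ n ih =>
    intro G _ _ z G' _ _ z' h h' hn hn' hjj
    by_cases hj : 2 < jj G
    · have hj' : 2 < jj G' := hjj ▸ hj
      obtain ⟨x, y, hx, hy, hxy⟩ := exists_pair h hj
      obtain ⟨x', y', hx', hy', hxy'⟩ := exists_pair h' hj'
      have hc4 := card_eq_four_mul h hy hxy
      have hc4' := card_eq_four_mul h' hy' hxy'
      have hje := jj_eq h hx hy hxy
      have hje' := jj_eq h' hx' hy' hxy'
      have hcC : Nat.card (cent x y) = Nat.card (cent x' y') := by omega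
      have hjC : jj (cent x y) = jj (cent x' y') := by omega
      by_cases hC : 2 < Nat.card (cent x y)
      · have hC' : 2 < Nat.card (cent x' y') := hcC ▸ hC
        have hES := cent_es2 h hy hxy hC
        have hES' := cent_es2 h' hy' hxy' hC'
        have hlt : Nat.card (cent x y) < n := by omega
        obtain ⟨φC⟩ := ih _ hlt (cent x y) _ (cent x' y') _ hES hES' rfl hcC.symm hjC
        have hφCz := map_z hES hES' φC
        -- the dihedral parts
        let φD : (dih h hx hy hxy).range ≃* (dih h' hx' hy' hxy').range :=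
          (MonoidHom.ofInjective (dih_injective h hx hy hxy)).symm.trans
            (MonoidHom.ofInjective (dih_injective h' hx' hy' hxy'))
        apply nonempty_mulEquiv_of_central_products (dih h hx hy hxy).range (cent x y)
          (dih h' hx' hy' hxy').range (cent x' y') (range_comm_cent h hx hy hxy)
          (range_comm_cent h' hx' hy' hxy') ?_ ?_ φD φC ?_ (by rw [hn, hn'])
        · intro e
          obtain ⟨a, b, c, hc, rfl⟩ := exists_decomp h hy hxy e
          exact ⟨_, tau_mem_range h hx hy hxy a b, c, hc, rfl⟩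
        · intro e
          obtain ⟨a, b, c, hc, rfl⟩ := exists_decomp h' hy' hxy' e
          exact ⟨_, tau_mem_range h' hx' hy' hxy' a b, c, hc, rfl⟩
        · intro g hd hc
          rcases range_inf_cent h hx hy hxy g hd hc with rfl | rfl
          · have e1 : (⟨1, hd⟩ : (dih h hx hy hxy).range) = 1 := rfl
            have e2 : (⟨1, hc⟩ : cent x y) = 1 := rfl
            rw [e1, e2, map_one, map_one]
            rfl
          · have e1 : (⟨g, hd⟩ : (dih h hx hy hxy).range) =
                MonoidHom.ofInjective (dih_injective h hx hy hxy) (DihedralGroup.r 2) := by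
              apply Subtype.ext
              rw [MonoidHom.ofInjective_apply]
              exact (dih_r2 h hx hy hxy).symm
            have e3 : φD ⟨g, hd⟩ =
                MonoidHom.ofInjective (dih_injective h' hx' hy' hxy') (DihedralGroup.r 2) := by
              rw [e1]
              show (MonoidHom.ofInjective (dih_injective h' hx' hy' hxy'))
                ((MonoidHom.ofInjective (dih_injective h hx hy hxy)).symm
                  (MonoidHom.ofInjective (dih_injective h hx hy hxy) (DihedralGroup.r 2))) = _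
              rw [MulEquiv.symm_apply_apply]
            rw [e3, MonoidHom.ofInjective_apply, dih_r2 h' hx' hy' hxy']
            have e4 : (⟨g, hc⟩ : cent x y) = ⟨g, z_mem_cent h x y⟩ := rfl
            rw [e4, hφCz]
      · -- order 8: both dihedral
        have h8 : Nat.card G ≤ 8 := by omega
        have h8' : Nat.card G' ≤ 8 := by omega
        exact ⟨(MulEquiv.ofBijective _ (dih_bijective h hx hy hxy h8)).symm.trans
          (MulEquiv.ofBijective _ (dih_bijective h' hx' hy' hxy' h8'))⟩
    · have hj' : ¬ 2 < jj G' := hjj ▸ hj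
      have h8 := card_eq_eight_of_jj_le h (by omega)
      have h8' := card_eq_eight_of_jj_le h' (by omega)
      obtain ⟨e⟩ := nonempty_mulEquiv_quaternion h h8 hj
      obtain ⟨e'⟩ := nonempty_mulEquiv_quaternion h' h8' hj'
      exact ⟨e.trans e'.symm⟩

theorem nonempty_mulEquiv {G : Type u} [Group G] [Finite G] {z : G} {G' : Type v} [Group G']
    [Finite G'] {z' : G'} (h : ES2 G z) (h' : ES2 G' z') (hcard : Nat.card G = Nat.card G')
    (hjj : jj G = jj G') : Nonempty (G ≃* G') :=
  nonempty_mulEquiv_aux (Nat.card G) G z G' z' h h' rfl hcard.symm hjj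

end ES2



end Cfsg.Agent.Helper3
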