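import Mathlib
import Cfsg.Prelude.Def_Classical
import Cfsg.Agent.Helper8.MatBNDefs
import Cfsg.Agent.Helper8.S2546Defs
import Cfsg.Agent.Helper17.S2546JCalc
import Cfsg.Agent.Helper17.S2546XMEM
import Cfsg.Agent.Helper21.S2549Defs
import Cfsg.Agent.Helper18.S2549PRESJ

set_option autoImplicit false
open scoped Matrix

/-! # S2549 piece XMEM (driver helper21): the root elements are rational isometries of the split
form, and the root groups are additive. -/

namespace Cfsg.Agent.S2549P

open Cfsg.Agent.MatBN Cfsg.Agent.S2546P Cfsg.Agent.S2546P.JC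

variable {K : Type*} [Field K]

namespace XMEM

/-- the "linear type" root element `1 + s E(a,b) - s E(rev b, rev a)` -/
def tL {n : ℕ} (a b : Fin n) (s : K) : Matrix (Fin n) (Fin n) K :=
  1 + (Matrix.single a b s - Matrix.single b.rev a.rev s)

theorem tL_apply {n : ℕ} (a b : Fin n) (s : K) (i c : Fin n) :
    tL a b s i c = (if i = c then 1 else 0) + ((if a = i ∧ b = c then s else 0) -
      (if b.rev = i ∧ a.rev = c then s else 0)) := by
  unfold tL
  rw [Matrix.add_apply, Matrix.sub_apply, Matrix.one_apply, Matrix.single_apply,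
    Matrix.single_apply]

theorem tL_ne_zero {n : ℕ} (a b : Fin n) (s : K) (i c : Fin n) (h : tL a b s i c ≠ 0) :
    i = c ∨ (a = i ∧ b = c) ∨ (b.rev = i ∧ a.rev = c) := by
  by_contra hcon
  push Not at hcon
  apply h
  rw [tL_apply, if_neg hcon.1, if_neg (fun h' => hcon.2.1 h'.1 h'.2),
    if_neg (fun h' => hcon.2.2 h'.1 h'.2)]
  ring

/-- `tL a b s` preserves the split quadratic form -/
theorem presQ_tL (m : ℕ) (a b : Fin (2 * m + 2)) (hab : a ≠ b) (hba : b ≠ a.rev) (s : K) :
    PresQ (2 * m + 2) (tL a b s) := by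
  rw [presQ_iff]
  constructor
  · have ha : a ≠ a.rev := by
      intro h
      have := congrArg Fin.val h
      rw [Fin.val_rev] at this
      omega
    have hb : b ≠ b.rev := by
      intro h
      have := congrArg Fin.val h
      rw [Fin.val_rev] at this
      omega
    exact presJ_typeL (RingHom.id K) (fun _ => rfl) a b hab ha hb s
  · intro c
    apply Finset.sum_eq_zero
    intro i _
    split_ifs with hi
    · by_contra hne
      have h1 : tL a b s i c ≠ 0 := fun h0 => hne (by rw [h0, zero_mul])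
      have h2 : tL a b s i.rev c ≠ 0 := fun h0 => hne (by rw [h0, mul_zero])
      have k1 := tL_ne_zero a b s i c h1
      have k2 := tL_ne_zero a b s i.rev c h2
      simp only [ne_eq, Fin.ext_iff, Fin.val_rev] at k1 k2 hab hba
      have := a.2
      have := b.2
      have := i.2
      have := c.2
      omega
    · rfl

theorem xLin_eq_tL (m j : ℕ) (hj : j + 1 < m) (t : K) :
    xLin m j t = tL (⟨j, by omega⟩ : Fin (2 * m + 2)) ⟨j + 1, by omega⟩ t := by
  have h1 : j < 2 * m + 2 := by omega
  have h2 : j + 1 < 2 * m + 2 := by omega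
  have h3 : 2 * m + 2 - 2 - j < 2 * m + 2 := by omega
  have h4 : 2 * m + 2 - 1 - j < 2 * m + 2 := by omega
  unfold xLin xL tL
  have e1 : (⟨j + 1, h2⟩ : Fin (2 * m + 2)).rev = ⟨2 * m + 2 - 2 - j, h3⟩ := by
    rw [rev_mk]; apply Fin.ext; show 2 * m + 2 - 1 - (j + 1) = 2 * m + 2 - 2 - j; omega
  have e2 : (⟨j, h1⟩ : Fin (2 * m + 2)).rev = ⟨2 * m + 2 - 1 - j, h4⟩ := rev_mk _ _
  rw [E_eq_single _ _ h1 h2, E_eq_single _ _ h3 h4, Matrix.smul_single, Matrix.smul_single,
    smul_eq_mul, mul_one, smul_eq_mul, mul_one, e1, e2, add_sub_assoc, RingHom.id_apply]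

/-- additivity of `tL` -/
theorem tL_mul {n : ℕ} (a b : Fin n) (hab : a ≠ b) (hba : b ≠ a.rev) (hb : b ≠ b.rev)
    (ha : a ≠ a.rev) (s s' : K) : tL a b s * tL a b s' = tL a b (s + s') := by
  have hba' : a.rev ≠ b.rev := fun h => hab (Fin.rev_injective h)
  unfold tL
  simp only [add_mul, mul_add, one_mul, mul_one, sub_mul, mul_sub,
    Matrix.single_mul_single_of_ne _ _ _ _ hab.symm,
    Matrix.single_mul_single_of_ne _ _ _ _ hb, Matrix.single_mul_single_of_ne _ _ _ _ ha.symm,
    Matrix.single_mul_single_of_ne _ _ _ _ hba', Matrix.single_add]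
  abel

/-- five matrix units -/
def N5 {n : ℕ} (a b c d : Fin n) (x1 x2 x3 x4 x5 : K) : Matrix (Fin n) (Fin n) K :=
  Matrix.single a b x1 + Matrix.single a c x2 + Matrix.single b d x3 + Matrix.single c d x4 +
    Matrix.single a d x5

theorem one_add_N5_apply {n : ℕ} (a b c d : Fin n) (x1 x2 x3 x4 x5 : K) (i k : Fin n) :
    (1 + N5 a b c d x1 x2 x3 x4 x5) i k = (if i = k then 1 else 0) +
      ((if a = i ∧ b = k then x1 else 0) + (if a = i ∧ c = k then x2 else 0) +
        (if b = i ∧ d = k then x3 else 0) + (if c = i ∧ d = k then x4 else 0) +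
        (if a = i ∧ d = k then x5 else 0)) := by
  unfold N5
  simp only [Matrix.add_apply, Matrix.one_apply, Matrix.single_apply]

theorem N5_mul {n : ℕ} (a b c d : Fin n) (hab : a ≠ b) (hac : a ≠ c) (had : a ≠ d) (hbc : b ≠ c)
    (hbd : b ≠ d) (hcd : c ≠ d) (x1 x2 x3 x4 x5 y1 y2 y3 y4 y5 : K) :
    (1 + N5 a b c d x1 x2 x3 x4 x5) * (1 + N5 a b c d y1 y2 y3 y4 y5) =
      1 + N5 a b c d (x1 + y1) (x2 + y2) (x3 + y3) (x4 + y4) (x5 + y5 + x1 * y3 + x2 * y4) := by
  unfold N5
  simp only [add_mul, mul_add, one_mul, mul_one, Matrix.single_mul_single_of_ne _ _ _ _ hab.symm,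
    Matrix.single_mul_single_of_ne _ _ _ _ hac.symm, Matrix.single_mul_single_of_ne _ _ _ _ had.symm,
    Matrix.single_mul_single_of_ne _ _ _ _ hbc, Matrix.single_mul_single_of_ne _ _ _ _ hbc.symm,
    Matrix.single_mul_single_of_ne _ _ _ _ hbd.symm, Matrix.single_mul_single_of_ne _ _ _ _ hcd.symm,
    Matrix.single_mul_single_same, Matrix.single_add, add_zero, zero_add]
  abel

theorem tL_mul_tL {n : ℕ} (a b c d : Fin n) (hab : a ≠ b) (hac : a ≠ c) (had : a ≠ d)
    (hbc : b ≠ c) (hbd : b ≠ d) (hcd : c ≠ d) (rb : b.rev = c) (rc : c.rev = b) (ra : a.rev = d)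
    (s u : K) : tL a b s * tL a c u = 1 + N5 a b c d s u (-u) (-s) (-(s * u)) := by
  unfold tL N5
  rw [rb, rc, ra]
  simp only [add_mul, mul_add, one_mul, mul_one, sub_mul, mul_sub,
    Matrix.single_mul_single_of_ne _ _ _ _ hab.symm,
    Matrix.single_mul_single_of_ne _ _ _ _ had.symm, Matrix.single_mul_single_of_ne _ _ _ _ hbd.symm,
    Matrix.single_mul_single_same, ← Matrix.single_neg, sub_zero]
  abel

theorem swapM_swapM (m : ℕ) (y : Fin (2 * m + 2)) : swapM m (swapM m y) = y := by
  unfold swapM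
  exact Equiv.swap_apply_self _ _ y

theorem eq_swapM_iff (m : ℕ) (x x' i : Fin (2 * m + 2)) (hx : swapM m x = x') :
    x = swapM m i ↔ x' = i := by
  constructor
  · intro h
    rw [← hx, h, swapM_swapM]
  · intro h
    rw [← h, ← hx, swapM_swapM]

theorem swapM_of_ne (m : ℕ) (x : Fin (2 * m + 2)) (h1 : x.val ≠ m) (h2 : x.val ≠ m + 1) :
    swapM m x = x := by
  unfold swapM
  apply Equiv.swap_apply_of_ne_of_ne
  · intro h
    exact h1 (congrArg Fin.val h)
  · intro h
    exact h2 (congrArg Fin.val h)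

theorem swapM_left (m : ℕ) (x y : Fin (2 * m + 2)) (h1 : x.val = m) (h2 : y.val = m + 1) :
    swapM m x = y := by
  unfold swapM
  rw [Equiv.swap_apply_def]
  split_ifs with p q
  · exact Fin.ext h2.symm
  · exact absurd (Fin.ext h1) p
  · exact absurd (Fin.ext h1) p

theorem swapM_right (m : ℕ) (x y : Fin (2 * m + 2)) (h1 : x.val = m) (h2 : y.val = m + 1) :
    swapM m y = x := by
  unfold swapM
  rw [Equiv.swap_apply_def]
  split_ifs with p q
  · exfalso
    have := congrArg Fin.val p
    simp only at this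
    omega
  · exact Fin.ext h1.symm
  · exact absurd (Fin.ext h2) q

/-- rationality of `1 + N5` -/
theorem rat_N5 (σ : K →+* K) (m : ℕ) (a b c d : Fin (2 * m + 2)) (sa : swapM m a = a)
    (sb : swapM m b = c) (sc : swapM m c = b) (sd : swapM m d = d) (x1 x2 x3 x4 x5 : K)
    (h1 : σ x1 = x2) (h2 : σ x2 = x1) (h3 : σ x3 = x4) (h4 : σ x4 = x3) (h5 : σ x5 = x5) :
    Rat σ m (1 + N5 a b c d x1 x2 x3 x4 x5) := by
  intro i k
  rw [one_add_N5_apply, one_add_N5_apply]
  simp only [map_add, apply_ite σ, map_one, map_zero, h1, h2, h3, h4, h5,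
    eq_swapM_iff m a a _ sa, eq_swapM_iff m b c _ sb, eq_swapM_iff m c b _ sc,
    eq_swapM_iff m d d _ sd, (swapM m).apply_eq_iff_eq]
  ring

/-- rationality of `tL` for positions outside the middle -/
theorem rat_tL (σ : K →+* K) (m : ℕ) (a b : Fin (2 * m + 2)) (sa : swapM m a = a)
    (sb : swapM m b = b) (sa' : swapM m a.rev = a.rev) (sb' : swapM m b.rev = b.rev) (t : K)
    (ht : σ t = t) : Rat σ m (tL a b t) := by
  intro i k
  rw [tL_apply, tL_apply]
  simp only [map_add, map_sub, apply_ite σ, map_one, map_zero, ht,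
    eq_swapM_iff m a a _ sa, eq_swapM_iff m b b _ sb, eq_swapM_iff m a.rev a.rev _ sa',
    eq_swapM_iff m b.rev b.rev _ sb', (swapM m).apply_eq_iff_eq]

theorem xLast_eq (σ : K →+* K) (m : ℕ) (t : K) (a b c d : Fin (2 * m + 2))
    (ha : a.val = m - 1) (hb : b.val = m) (hc : c.val = m + 1) (hd : d.val = m + 2) :
    xLast σ m t = 1 + N5 a b c d (-σ t) (-t) t (σ t) (-(t * σ t)) := by
  have e1 : a = ⟨m - 1, by omega⟩ := Fin.ext ha
  have e2 : b = ⟨m, by omega⟩ := Fin.ext hb
  have e3 : c = ⟨m + 1, by omega⟩ := Fin.ext hc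
  have e4 : d = ⟨m + 2, by have := d.2; omega⟩ := Fin.ext hd
  have hd' : m + 2 < 2 * m + 2 := by have := d.2; omega
  unfold xLast EM N5
  rw [E_eq_single _ _ (by omega) (by omega : m < 2 * m + 2),
    E_eq_single _ _ (by omega) (by omega : m + 1 < 2 * m + 2),
    E_eq_single _ _ (by omega : m < 2 * m + 2) hd',
    E_eq_single _ _ (by omega : m + 1 < 2 * m + 2) hd',
    E_eq_single _ _ (by omega : m - 1 < 2 * m + 2) hd', ← e1, ← e2, ← e3, ← e4]
  simp only [Matrix.smul_single, smul_eq_mul, mul_one, ← Matrix.single_neg]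
  abel

end XMEM

open XMEM

theorem pres_xLin (σ : K →+* K) (m j : ℕ) (hj : j + 1 < m) (t : K) (ht : σ t = t) :
    PresQ (2 * m + 2) (xLin m j t) ∧ Rat σ m (xLin m j t) := by
  rw [xLin_eq_tL m j hj t]
  constructor
  · apply presQ_tL
    · intro h
      have := congrArg Fin.val h
      simp only at this
      omega
    · intro h
      have := congrArg Fin.val h
      rw [Fin.val_rev] at this
      simp only at this
      omega
  · apply rat_tL σ m _ _ _ _ _ _ t ht
    · apply swapM_of_ne <;> simp only <;> omega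
    · apply swapM_of_ne <;> simp only <;> omega
    · apply swapM_of_ne <;> rw [Fin.val_rev] <;> simp only <;> omega
    · apply swapM_of_ne <;> rw [Fin.val_rev] <;> simp only <;> omega

theorem xLin_add (m j : ℕ) (hj : j + 1 < m) (t t' : K) :
    xLin m j t * xLin m j t' = xLin m j (t + t') := by
  rw [xLin_eq_tL m j hj, xLin_eq_tL m j hj, xLin_eq_tL m j hj]
  apply tL_mul
  · intro h
    have := congrArg Fin.val h
    simp only at this
    omega
  · intro h
    have := congrArg Fin.val h
    rw [Fin.val_rev] at this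
    simp only at this
    omega
  · intro h
    have := congrArg Fin.val h
    rw [Fin.val_rev] at this
    simp only at this
    omega
  · intro h
    have := congrArg Fin.val h
    rw [Fin.val_rev] at this
    simp only at this
    omega

theorem pres_xLast (σ : K →+* K) (hσ : ∀ x, σ (σ x) = x) (m : ℕ) (hm : 1 ≤ m) (t : K) :
    PresQ (2 * m + 2) (xLast σ m t) ∧ Rat σ m (xLast σ m t) := by
  let a : Fin (2 * m + 2) := ⟨m - 1, by omega⟩
  let b : Fin (2 * m + 2) := ⟨m, by omega⟩
  let c : Fin (2 * m + 2) := ⟨m + 1, by omega⟩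
  let d : Fin (2 * m + 2) := ⟨m + 2, by omega⟩
  have ha : a.val = m - 1 := rfl
  have hb : b.val = m := rfl
  have hc : c.val = m + 1 := rfl
  have hd : d.val = m + 2 := rfl
  have hab : a ≠ b := fun h => by have := congrArg Fin.val h; omega
  have hac : a ≠ c := fun h => by have := congrArg Fin.val h; omega
  have had : a ≠ d := fun h => by have := congrArg Fin.val h; omega
  have hbc : b ≠ c := fun h => by have := congrArg Fin.val h; omega
  have hbd : b ≠ d := fun h => by have := congrArg Fin.val h; omega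
  have hcd : c ≠ d := fun h => by have := congrArg Fin.val h; omega
  have rb : b.rev = c := by apply Fin.ext; rw [Fin.val_rev, hb, hc]; omega
  have rc : c.rev = b := by apply Fin.ext; rw [Fin.val_rev, hb, hc]; omega
  have ra : a.rev = d := by apply Fin.ext; rw [Fin.val_rev, ha, hd]; omega
  rw [xLast_eq σ m t a b c d ha hb hc hd]
  constructor
  · have h := tL_mul_tL a b c d hab hac had hbc hbd hcd rb rc ra (-σ t) (-t)
    have e : (1 : Matrix (Fin (2 * m + 2)) (Fin (2 * m + 2)) K) +
        N5 a b c d (-σ t) (-t) t (σ t) (-(t * σ t)) = tL a b (-σ t) * tL a c (-t) := by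
      rw [h, neg_neg, neg_neg, neg_mul_neg, mul_comm (σ t) t]
    rw [e]
    apply presQ_mul
    · exact presQ_tL m a b hab (by rw [ra]; exact hbd) _
    · exact presQ_tL m a c hac (by rw [ra]; exact hcd) _
  · apply rat_N5 σ m a b c d
    · exact swapM_of_ne m a (by omega) (by omega)
    · exact swapM_left m b c hb hc
    · exact swapM_right m b c hb hc
    · exact swapM_of_ne m d (by omega) (by omega)
    · rw [map_neg, hσ]
    · rw [map_neg]
    · rfl
    · exact hσ t
    · rw [map_neg, map_mul, hσ, mul_comm]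

theorem xLast_add (σ : K →+* K) (m : ℕ) (hm : 1 ≤ m) (t t' : K) :
    xLast σ m t * xLast σ m t' = xLast σ m (t + t') := by
  let a : Fin (2 * m + 2) := ⟨m - 1, by omega⟩
  let b : Fin (2 * m + 2) := ⟨m, by omega⟩
  let c : Fin (2 * m + 2) := ⟨m + 1, by omega⟩
  let d : Fin (2 * m + 2) := ⟨m + 2, by omega⟩
  have ha : a.val = m - 1 := rfl
  have hb : b.val = m := rfl
  have hc : c.val = m + 1 := rfl
  have hd : d.val = m + 2 := rfl
  have hab : a ≠ b := fun h => by have := congrArg Fin.val h; omega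
  have hac : a ≠ c := fun h => by have := congrArg Fin.val h; omega
  have had : a ≠ d := fun h => by have := congrArg Fin.val h; omega
  have hbc : b ≠ c := fun h => by have := congrArg Fin.val h; omega
  have hbd : b ≠ d := fun h => by have := congrArg Fin.val h; omega
  have hcd : c ≠ d := fun h => by have := congrArg Fin.val h; omega
  rw [xLast_eq σ m t a b c d ha hb hc hd, xLast_eq σ m t' a b c d ha hb hc hd,
    xLast_eq σ m (t + t') a b c d ha hb hc hd, N5_mul a b c d hab hac had hbc hbd hcd]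
  congr 2
  · rw [map_add]; ring
  · ring
  · rw [map_add]
  · rw [map_add]; ring

end Cfsg.Agent.S2549P
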