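import Mathlib
import Cfsg.Agent.Helper9.S3161NF

/-!
# S3161 piece NFG: group form of the normal-form lemma NF

Descend an equivariant biadditive map `B : M₁ × M₂ → F` that vanishes on the kernels of
the additive surjections `p₁, p₂` to a biadditive map on `F × F` along sections, and apply `NF`.
-/

namespace Cfsg.Agent.S3161P

/-- NFG: group form of NF. -/
theorem NFG {F : Type*} [Field F] [Fintype F] [CharP F 2] (hF : 2 < Fintype.card F) (ζ : Fˣ)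
    (hζ : ∀ w : Fˣ, ∃ k : ℕ, w = ζ ^ k) {M₁ M₂ : Type*} [Group M₁] [Group M₂]
    (r₁ : M₁ → M₁) (r₂ : M₂ → M₂) (p₁ : M₁ → F) (p₂ : M₂ → F)
    (hp₁ : ∀ x y, p₁ (x * y) = p₁ x + p₁ y) (hp₂ : ∀ x y, p₂ (x * y) = p₂ x + p₂ y)
    (hs₁ : Function.Surjective p₁) (hs₂ : Function.Surjective p₂)
    (hr₁ : ∀ x, p₁ (r₁ x) = ζ * p₁ x) (hr₂ : ∀ x, p₂ (r₂ x) = ζ * p₂ x)
    (B : M₁ → M₂ → F) (hB₁ : ∀ x x' y, B (x * x') y = B x y + B x' y)
    (hB₂ : ∀ x y y', B x (y * y') = B x y + B x y')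
    (hBr : ∀ x y, B (r₁ x) (r₂ y) = ζ * B x y)
    (hk₁ : ∀ x y, p₁ x = 0 → B x y = 0) (hk₂ : ∀ x y, p₂ y = 0 → B x y = 0) :
    ∃ c : F, ∀ x y, B x y ^ 2 = c * (p₁ x * p₂ y) := by
  classical
  -- basic facts on `p₁`, `p₂`
  have hp₁one : p₁ 1 = 0 := by
    have := hp₁ 1 1
    rw [mul_one] at this
    exact left_eq_add.mp this
  have hp₂one : p₂ 1 = 0 := by
    have := hp₂ 1 1
    rw [mul_one] at this
    exact left_eq_add.mp this
  have hp₁inv : ∀ x, p₁ x⁻¹ = p₁ x := by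
    intro x
    have h := hp₁ x⁻¹ x
    rw [inv_mul_cancel, hp₁one] at h
    have h2 : p₁ x⁻¹ = - p₁ x := eq_neg_of_add_eq_zero_left h.symm
    rw [h2, CharTwo.neg_eq]
  have hp₂inv : ∀ x, p₂ x⁻¹ = p₂ x := by
    intro x
    have h := hp₂ x⁻¹ x
    rw [inv_mul_cancel, hp₂one] at h
    have h2 : p₂ x⁻¹ = - p₂ x := eq_neg_of_add_eq_zero_left h.symm
    rw [h2, CharTwo.neg_eq]
  -- `B` depends only on the images under `p₁`, `p₂`
  have hdep₁ : ∀ x x' y, p₁ x = p₁ x' → B x y = B x' y := by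
    intro x x' y h
    have h0 : p₁ (x'⁻¹ * x) = 0 := by
      rw [hp₁, hp₁inv, h, CharTwo.add_self_eq_zero]
    have : x = x' * (x'⁻¹ * x) := by group
    rw [this, hB₁, hk₁ _ _ h0, add_zero]
  have hdep₂ : ∀ x y y', p₂ y = p₂ y' → B x y = B x y' := by
    intro x y y' h
    have h0 : p₂ (y'⁻¹ * y) = 0 := by
      rw [hp₂, hp₂inv, h, CharTwo.add_self_eq_zero]
    have : y = y' * (y'⁻¹ * y) := by group
    rw [this, hB₂, hk₂ _ _ h0, add_zero]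
  have hdep : ∀ x x' y y', p₁ x = p₁ x' → p₂ y = p₂ y' → B x y = B x' y' := by
    intro x x' y y' h1 h2
    rw [hdep₁ x x' y h1, hdep₂ x' y y' h2]
  -- sections
  let s₁ : F → M₁ := Function.surjInv hs₁
  let s₂ : F → M₂ := Function.surjInv hs₂
  have hs₁' : ∀ u, p₁ (s₁ u) = u := Function.surjInv_eq hs₁
  have hs₂' : ∀ u, p₂ (s₂ u) = u := Function.surjInv_eq hs₂
  let B' : F → F → F := fun u v => B (s₁ u) (s₂ v)
  have hBB' : ∀ x y, B x y = B' (p₁ x) (p₂ y) := by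
    intro x y
    exact hdep _ _ _ _ (hs₁' _).symm (hs₂' _).symm
  have hB'1 : ∀ u u' v, B' (u + u') v = B' u v + B' u' v := by
    intro u u' v
    show B (s₁ (u + u')) (s₂ v) = B (s₁ u) (s₂ v) + B (s₁ u') (s₂ v)
    rw [← hB₁]
    apply hdep₁
    rw [hs₁', hp₁, hs₁', hs₁']
  have hB'2 : ∀ u v v', B' u (v + v') = B' u v + B' u v' := by
    intro u v v'
    show B (s₁ u) (s₂ (v + v')) = B (s₁ u) (s₂ v) + B (s₁ u) (s₂ v')
    rw [← hB₂]
    apply hdep₂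
    rw [hs₂', hp₂, hs₂', hs₂']
  have hB'ζ : ∀ u v, B' ((ζ : F) * u) ((ζ : F) * v) = (ζ : F) * B' u v := by
    intro u v
    show B (s₁ ((ζ : F) * u)) (s₂ ((ζ : F) * v)) = (ζ : F) * B (s₁ u) (s₂ v)
    rw [← hBr]
    apply hdep
    · rw [hs₁', hr₁, hs₁']
    · rw [hs₂', hr₂, hs₂']
  have hB'pow : ∀ (k : ℕ) u v,
      B' (((ζ ^ k : Fˣ) : F) * u) (((ζ ^ k : Fˣ) : F) * v) = ((ζ ^ k : Fˣ) : F) * B' u v := by
    intro k
    induction k with
    | zero => intro u v; simp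
    | succ k ih =>
      intro u v
      rw [pow_succ', Units.val_mul, mul_assoc, mul_assoc, hB'ζ, ih, mul_assoc]
  have hB'w : ∀ w u v : F, w ≠ 0 → B' (w * u) (w * v) = w * B' u v := by
    intro w u v hw
    obtain ⟨k, hk⟩ := hζ (Units.mk0 w hw)
    have hwk : w = ((ζ ^ k : Fˣ) : F) := by
      rw [← hk]; rfl
    rw [hwk]
    exact hB'pow k u v
  have hNF := NF hF B' hB'1 hB'2 hB'w
  refine ⟨B' 1 1 ^ 2, ?_⟩
  intro x y
  rw [hBB' x y]
  exact hNF _ _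

end Cfsg.Agent.S3161P
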