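import Mathlib
import Cfsg.Prelude.Def_GeometricClasses
import Cfsg.Agent.Helper18.S5707.Defs

/-! # S5707 piece NOTSTD (driver helper18): a matrix in normal form with non-zero diagonal and zero entries at all index
pairs differing in exactly one coordinate is diagonal. -/

set_option autoImplicit false

namespace Cfsg.Agent.S5707P

open Matrix

variable {F : Type*} [Field F] {k t : ℕ}

namespace NOTSTD

/-- entries of a matrix in normal form -/
theorem nf_apply (gs : Fin t → Matrix (Fin k) (Fin k) F) (σ : Equiv.Perm (Fin t)) (x x' : X k t) :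
    (tensM gs * (permM k σ : Matrix (X k t) (X k t) F)) x x' = ∏ i, gs i (x i) (x' (σ.symm i)) := by
  rw [Matrix.mul_apply, Finset.sum_eq_single (x' ∘ σ.symm)]
  · have h : x' = (x' ∘ σ.symm) ∘ σ := by
      funext i
      simp
    unfold permM tensM
    rw [if_pos h, mul_one]
    rfl
  · intro y _ hy
    have h : ¬ x' = y ∘ σ := by
      intro h
      apply hy
      funext i
      simp [h]
    unfold permM
    rw [if_neg h, mul_zero]
  · intro h
    exact absurd (Finset.mem_univ _) h

end NOTSTD

/-- piece NOTSTD (M-L): a matrix in normal form with non-zero diagonal and zero entries at all index pairs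
differing in exactly one coordinate is diagonal. -/
theorem NOTSTD.diag_of_nf (hk : 2 ≤ k) (Y : Matrix (X k t) (X k t) F)
    (gs : Fin t → Matrix (Fin k) (Fin k) F) (σ : Equiv.Perm (Fin t))
    (hY : Y = tensM gs * permM k σ) (hd : ∀ x, Y x x ≠ 0)
    (h1 : ∀ (x x' : X k t) (i : Fin t), x i ≠ x' i → (∀ j, j ≠ i → x j = x' j) → Y x x' = 0) :
    ∀ x x' : X k t, x ≠ x' → Y x x' = 0 := by
  classical
  have hform : ∀ x x' : X k t, Y x x' = ∏ i, gs i (x i) (x' (σ.symm i)) := by
    intro x x'
    rw [hY, NOTSTD.nf_apply]
  have hfac : ∀ (x : X k t) (i : Fin t), gs i (x i) (x (σ.symm i)) ≠ 0 := by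
    intro x i
    have h := hd x
    rw [hform, Finset.prod_ne_zero_iff] at h
    exact h i (Finset.mem_univ i)
  -- two distinct elements of `Fin k`
  let a₀ : Fin k := ⟨0, by omega⟩
  let a₁ : Fin k := ⟨1, by omega⟩
  have ha : a₀ ≠ a₁ := by
    intro h
    have := congrArg Fin.val h
    simp [a₀, a₁] at this
  -- the permutation is trivial
  have hσ : ∀ i : Fin t, σ.symm i = i := by
    intro i₁
    by_contra hne
    set j₁ : Fin t := σ.symm i₁ with hj₁
    let x : X k t := fun _ => a₀
    let x' : X k t := Function.update x j₁ a₁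
    have hx'j : x' j₁ = a₁ := Function.update_self _ _ _
    have hx'o : ∀ j, j ≠ j₁ → x' j = a₀ := fun j hj => Function.update_of_ne hj _ _
    have h0 := h1 x x' j₁ (by rw [hx'j]; exact ha) (fun j hj => (hx'o j hj).symm)
    rw [hform, Finset.prod_eq_zero_iff] at h0
    obtain ⟨i, -, hi⟩ := h0
    by_cases hii : i = i₁
    · subst hii
      have h2 := hfac x' i
      rw [hx'o i (fun h => hne h.symm)] at h2
      exact h2 hi
    · have h3 : σ.symm i ≠ j₁ := fun h => hii (σ.symm.injective h)
      have h2 := hfac x i
      rw [hx'o _ h3] at hi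
      exact h2 hi
  -- the local factors are diagonal
  have hoff : ∀ (i : Fin t) (a b : Fin k), a ≠ b → gs i a b = 0 := by
    intro i a b hab
    let x : X k t := fun _ => a
    let x' : X k t := Function.update x i b
    have hx'i : x' i = b := Function.update_self _ _ _
    have hx'o : ∀ j, j ≠ i → x' j = a := fun j hj => Function.update_of_ne hj _ _
    have h0 := h1 x x' i (by rw [hx'i]; exact hab) (fun j hj => (hx'o j hj).symm)
    rw [hform, Finset.prod_eq_zero_iff] at h0
    obtain ⟨j, -, hj⟩ := h0
    rw [hσ j] at hj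
    by_cases hji : j = i
    · subst hji
      rw [hx'i] at hj
      exact hj
    · exfalso
      have h2 := hfac x j
      rw [hσ j] at h2
      rw [hx'o j hji] at hj
      exact h2 hj
  intro x x' hxx'
  obtain ⟨i, hi⟩ := Function.ne_iff.1 hxx'
  rw [hform]
  apply Finset.prod_eq_zero (Finset.mem_univ i)
  rw [hσ i]
  exact hoff i _ _ hi

end Cfsg.Agent.S5707P
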