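import Mathlib
import Cfsg.Prelude.Def_ClassicalGeometry
import Cfsg.Agent.Helper16.S5955Defs
import Cfsg.Agent.Helper10.S5961FIXSPLIT
import Cfsg.Agent.Helper8.S5955TIHALF

set_option autoImplicit false
open scoped MatrixGroups

/-! S5955 piece TIFIX: a totally isotropic subspace meets the fixed space in at most half of it. -/

universe u

namespace Cfsg.Agent.S5955P

open Polynomial Cfsg.Agent.Helper2.SympInvol Cfsg.Agent.Helper2.SympUnits Cfsg.Agent.S5961P

/-- TIFIX -/
theorem ti_fix_le {F V : Type*} [Field F] [AddCommGroup V] [Module F V]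
    [FiniteDimensional F V] {p : ℕ} [Fact p.Prime] [CharP F p] (r : ℕ) [Fact r.Prime]
    (hrp : r ≠ p) (B : LinearMap.BilinForm F V) (y : Module.End F V) (h : IsYSp B y r)
    (W : Submodule F V) (hW : Orth B W W) :
    2 * Module.finrank F ↥(W ⊓ LinearMap.ker (y - 1)) ≤
      Module.finrank F (LinearMap.ker (y - 1)) := by
  obtain ⟨hcompl, horth, -, -, -⟩ := fix_split (p := p) r hrp B y h.isom h.pow
  -- the fixed space is nondegenerate
  have hnd : Nondeg B (LinearMap.ker (y - 1)) := by
    intro c hc hc0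
    obtain ⟨v, -, hv⟩ := h.nondeg c trivial hc0
    have hv' : v ∈ LinearMap.ker (y - 1) ⊔ LinearMap.range (y - 1) := by
      rw [hcompl.sup_eq_top]; trivial
    obtain ⟨c', hc', n', hn', rfl⟩ := Submodule.mem_sup.mp hv'
    refine ⟨c', hc', ?_⟩
    rw [map_add, horth c hc n' hn', add_zero] at hv
    exact hv
  exact ti_le_half B h.alt (LinearMap.ker (y - 1)) (W ⊓ LinearMap.ker (y - 1)) hnd inf_le_right
    (fun u hu v hv => hW u hu.1 v hv.1)

end Cfsg.Agent.S5955P
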