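import Mathlib
import Cfsg.Prelude.Def_GeometricClasses
import Cfsg.Prelude.Def_Classical
import Cfsg.Prelude.Def_LieClassical
import Cfsg.Agent.Helper16.S5974Defs
import Cfsg.Agent.Helper3.S5973NT2

/-! S5974 piece DIVNT (helper3): `r ∣ wkE ε θ q d s` in terms of `i = ord_r(q)`. -/

set_option autoImplicit false
open scoped MatrixGroups
universe u

namespace Cfsg.Agent.S5974P

open Cfsg.Agent.S5989P (stabW ordO epsFac R2cond)

/-- DIVNT (pure number theory) -/
theorem hdiv_of_dvd_wkE {q r : ℕ} [Fact r.Prime] (hr2 : r ≠ 2) (hrq : ¬ r ∣ q) (hq : 2 ≤ q)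
    (ε θ : Bool) (d s : ℕ) (hs1 : 1 ≤ s) (hsd : s + 1 ≤ d) (h : r ∣ wkE ε θ q d s) :
    HDiv ε θ (orderOf (q : ZMod r)) d s := by
  have hr : r.Prime := Fact.out
  have hq0 : 0 < q := by omega
  unfold wkE at h
  unfold HDiv
  rcases hr.dvd_mul.1 h with h | h
  · rcases hr.dvd_mul.1 h with h | h
    · left
      unfold epsFac at h
      cases ε
      · rw [if_neg (by simp)] at h ⊢
        exact (Cfsg.Agent.S5973P.NT2.dvd_pow_add_one_iff r hr hr2 q d).1 h
      · rw [if_pos rfl] at h ⊢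
        exact (Cfsg.Agent.S5973P.NT2.dvd_pow_sub_one_iff r q hq0 d).1 h
    · right; left
      unfold epsFac at h
      by_cases hεθ : ε = θ
      · rw [if_pos hεθ]
        have : (!(ε == θ)) = false := by
          subst hεθ
          simp
        rw [this, if_neg (by simp)] at h
        exact (Cfsg.Agent.S5973P.NT2.dvd_pow_add_one_iff r hr hr2 q (d - s)).1 h
      · rw [if_neg hεθ]
        have : (!(ε == θ)) = true := by
          cases ε <;> cases θ <;> simp_all
        rw [this, if_pos rfl] at h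
        exact (Cfsg.Agent.S5973P.NT2.dvd_pow_sub_one_iff r q hq0 (d - s)).1 h
  · right; right
    obtain ⟨j, hj, hjd⟩ := (Prime.dvd_finsetProd_iff hr.prime _).1 h
    rw [Finset.mem_Ico] at hj
    exact ⟨j, hj.1, hj.2, (Cfsg.Agent.S5973P.NT2.dvd_pow_sub_one_iff r q hq0 (2 * j)).1 hjd⟩

end Cfsg.Agent.S5974P
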