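import Mathlib
import Cfsg.Prelude.Def_GeometricClasses
import Cfsg.Prelude.Def_Classical
import Cfsg.Prelude.Def_LieClassical
import Cfsg.Agent.Helper27.S5989Defs

/-!
# S5989 piece R2NT (helper3): `(-1)^d`, `2^d` squares in a finite field of odd order `q`,
in terms of `q mod 8`.
-/

set_option autoImplicit false
open scoped MatrixGroups
universe u

namespace Cfsg.Agent.S5989P

namespace R2NT

/-- an even power is a square -/
theorem isSquare_pow_even {F : Type*} [Field F] (a : F) (d : ℕ) (hd : Even d) :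
    IsSquare (a ^ d) := by
  obtain ⟨k, rfl⟩ := hd
  exact ⟨a ^ k, by rw [pow_add]⟩

/-- an odd power of a nonzero element is a square iff the element is -/
theorem isSquare_pow_odd {F : Type*} [Field F] (a : F) (ha : a ≠ 0) (d : ℕ) (hd : Odd d) :
    IsSquare (a ^ d) ↔ IsSquare a := by
  obtain ⟨k, rfl⟩ := hd
  have hk : a ^ k ≠ 0 := pow_ne_zero _ ha
  constructor
  · rintro ⟨b, hb⟩
    refine ⟨b / a ^ k, ?_⟩
    have h1 : a ^ (2 * k + 1) = a * (a ^ k * a ^ k) := by ring
    rw [h1] at hb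
    field_simp
    linear_combination hb
  · rintro ⟨b, hb⟩
    refine ⟨b * a ^ k, ?_⟩
    rw [hb]
    ring

end R2NT

/-- R2NT -/
theorem r2_nt {F : Type*} [Field F] [Fintype F] {q : ℕ} (hq : Fintype.card F = q) (hodd : Odd q)
    (ε : Bool) (d : ℕ) :
    ((IsSquare ((-1 : F) ^ d) ↔ ε = true) ∧ IsSquare ((2 : F) ^ d)) ↔ ¬ R2cond ε d q := by
  subst hq
  have hq2 : Fintype.card F % 2 = 1 := Nat.odd_iff.1 hodd
  have h2 : (2 : F) ≠ 0 := by
    apply Ring.two_ne_zero
    intro hch
    have := FiniteField.even_card_of_char_two hch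
    omega
  have hm1 : (-1 : F) ≠ 0 := neg_ne_zero.2 one_ne_zero
  unfold R2cond
  rcases Nat.even_or_odd d with hd | hd
  · have h1 : IsSquare ((-1 : F) ^ d) := R2NT.isSquare_pow_even _ d hd
    have h2' : IsSquare ((2 : F) ^ d) := R2NT.isSquare_pow_even _ d hd
    have hnd : ¬ Odd d := Nat.not_odd_iff_even.2 hd
    cases ε
    · simp [h2', hd]
    · simp [h1, h2', hnd]
  · have h1 : IsSquare ((-1 : F) ^ d) ↔ Fintype.card F % 4 ≠ 3 := by
      rw [R2NT.isSquare_pow_odd _ hm1 d hd, FiniteField.isSquare_neg_one_iff]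
    have h2' : IsSquare ((2 : F) ^ d) ↔ Fintype.card F % 8 ≠ 3 ∧ Fintype.card F % 8 ≠ 5 := by
      rw [R2NT.isSquare_pow_odd _ h2 d hd, FiniteField.isSquare_two_iff]
    have hnd : ¬ Even d := Nat.not_even_iff_odd.2 hd
    rw [h1, h2']
    cases ε
    · simp only [Bool.false_eq_true, iff_false, if_false, not_or, not_not, hnd, not_false_iff,
        true_and]
      omega
    · simp only [iff_true, if_true, hd, true_and, not_not]
      omega
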