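import Mathlib
import Cfsg.Prelude.Def_GeometricClasses
import Cfsg.Prelude.Def_Classical
import Cfsg.Prelude.Def_LieClassical
import Cfsg.Agent.Helper16.S5974Defs
import Cfsg.Agent.Helper3.S5989R2NT

/-! S5974 piece R2NTE (helper3): `(-1)^(m/2)` is a square in a finite field of odd order `q`
iff `m % 4 = 0` or `q % 4 = 1` (`m` even). -/

set_option autoImplicit false
open scoped MatrixGroups
universe u

namespace Cfsg.Agent.S5974P

/-- R2NTE (number theory) -/
theorem isSquare_neg_one_pow_iff {F : Type*} [Field F] [Fintype F] {q : ℕ}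
    (hq : Fintype.card F = q) (hodd : Odd q) (m : ℕ) (hme : Even m) :
    IsSquare ((-1 : F) ^ (m / 2)) ↔ (m % 4 = 0 ∨ q % 4 = 1) := by
  subst hq
  have hq2 : Fintype.card F % 2 = 1 := Nat.odd_iff.1 hodd
  have hm1 : (-1 : F) ≠ 0 := neg_ne_zero.2 one_ne_zero
  obtain ⟨k, rfl⟩ := hme
  have hk : (k + k) / 2 = k := by omega
  rw [hk]
  rcases Nat.even_or_odd k with hd | hd
  · have h1 : IsSquare ((-1 : F) ^ k) := Cfsg.Agent.S5989P.R2NT.isSquare_pow_even _ k hd
    obtain ⟨j, rfl⟩ := hd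
    constructor
    · intro _
      left
      omega
    · intro _
      exact h1
  · rw [Cfsg.Agent.S5989P.R2NT.isSquare_pow_odd _ hm1 k hd, FiniteField.isSquare_neg_one_iff]
    obtain ⟨j, rfl⟩ := hd
    omega

end Cfsg.Agent.S5974P
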