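import Mathlib
import Cfsg.Prelude.Def_GeometricClasses
import Cfsg.Prelude.Def_Classical
import Cfsg.Prelude.Def_LieClassical
import Cfsg.Agent.Helper16.S5974Defs

/-! S5974 piece A74SE (helper3): sufficiency of the closed form of S5974 for `i` even. -/

set_option autoImplicit false
open scoped MatrixGroups
universe u

namespace Cfsg.Agent.S5974P

open Cfsg.Agent.S5973P

namespace AE

/-- `Realz` for even `i` -/
theorem realz_even_iff (ε : Bool) {i : ℕ} (hi : Even i) (c d b : ℕ) :
    Realz ε i c d b ↔ (1 ≤ b ∧ c * b ≤ 2 * d ∧ (c * b = 2 * d → (ε = true ↔ Even b))) := by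
  unfold Realz typeC
  rw [if_pos hi]

/-- `FixC` for even `i` -/
theorem fixC_even_iff (ε θ : Bool) {i : ℕ} (hi : Even i) (c d m b : ℕ) :
    FixC ε θ i c d m b ↔ ∃ b' a' : ℕ, a' + c * b' = m ∧ b' ≤ b ∧ a' + c * b ≤ 2 * d ∧
      (a' = 0 → (Even b' ↔ θ = true)) ∧
      (a' + c * b = 2 * d → (((ε = true ↔ Even b) ↔ Even b') ↔ θ = true)) := by
  unfold FixC typeC tNP
  rw [if_pos hi]
  simp only [hi, forall_true_left]

/-- the shape `b' = b` when `b < m / c` -/
theorem fixC_small (ε θ : Bool) {i : ℕ} (hi : Even i) (c d m b m' ℓ : ℕ) (hc0 : 0 < c)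
    (hm : c * m' + ℓ = m) (hmd : m < 2 * d) (hb : b < m') : FixC ε θ i c d m b := by
  rw [fixC_even_iff ε θ hi]
  have h1 : c * (b + 1) ≤ c * m' := Nat.mul_le_mul_left c hb
  rw [mul_add, mul_one] at h1
  refine ⟨b, m - c * b, by omega, le_refl _, by omega, ?_, ?_⟩
  · intro h0
    omega
  · intro h0
    omega

end AE

/-- A74SE -/
theorem crit_of_closed74_even (i c d m : ℕ) (hi0 : 0 < i) (hi : Even i) (hc : c = i)
    (hd : 4 ≤ d) (hm2 : 2 ≤ m) (hme : Even m) (hmd : m < d) (h : Closed74 i c d m) :
    CritE true true i c d m := by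
  subst hc
  have hno : ¬ Odd c := Nat.not_odd_iff_even.2 hi
  have hn : c * (2 * d / c) + 2 * d % c = 2 * d := Nat.div_add_mod (2 * d) c
  have hk : 2 * d % c < c := Nat.mod_lt _ hi0
  have hm : c * (m / c) + m % c = m := Nat.div_add_mod m c
  have hℓ : m % c < c := Nat.mod_lt _ hi0
  unfold Closed74 at h
  set n' := 2 * d / c with hn'
  set k := 2 * d % c with hk'
  set m' := m / c with hm'
  set ℓ := m % c with hℓ'
  intro b hR
  rw [AE.realz_even_iff true hi] at hR
  obtain ⟨hb1, hbn, hbe⟩ := hR
  by_cases hbm : b < m'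
  · exact AE.fixC_small true true hi c d m b m' ℓ hi0 hm (by omega) hbm
  push Not at hbm
  have h1 : c * m' ≤ c * b := Nat.mul_le_mul_left c hbm
  have hbn' : b ≤ n' := by
    by_contra hcon
    push Not at hcon
    have : c * (n' + 1) ≤ c * b := Nat.mul_le_mul_left c hcon
    rw [mul_add, mul_one] at this
    omega
  have h2 : c * b ≤ c * n' := Nat.mul_le_mul_left c hbn'
  rw [AE.fixC_even_iff true true hi]
  simp only [true_iff, iff_true]
  simp only [true_iff] at hbe
  rcases h with ⟨ho, -⟩ | ⟨-, h⟩
  · exact absurd ho hno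
  rcases h with ⟨hk0, h⟩ | ⟨him, h⟩
  · rcases h with hodd | ⟨hℓ0, hev⟩
    · -- `k = 0`, `n'` odd
      have hbne : b ≠ n' := by
        intro hbn2
        have : Even b := hbe (by rw [hbn2]; omega)
        rw [hbn2] at this
        exact (Nat.not_even_iff_odd.2 hodd) this
      have hblt : b + 1 ≤ n' := by omega
      have h3 : c * (b + 1) ≤ c * n' := Nat.mul_le_mul_left c hblt
      rw [mul_add, mul_one] at h3
      by_cases hℓ0 : ℓ = 0
      · rcases Nat.even_or_odd m' with hme' | hmo'
        · refine ⟨m', 0, by omega, hbm, by omega, fun _ => hme', ?_⟩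
          intro h0
          omega
        · have hm'1 : 1 ≤ m' := hmo'.pos
          have h4 : c * (m' - 1 + 1) = c * (m' - 1) + c := by rw [mul_add, mul_one]
          rw [Nat.sub_add_cancel hm'1] at h4
          refine ⟨m' - 1, c, by omega, by omega, by omega, fun h0 => by omega, ?_⟩
          intro h0
          have hb2 : b + 1 = n' := by
            have : c * (b + 1) = c * n' := by rw [mul_add, mul_one]; omega
            exact Nat.eq_of_mul_eq_mul_left hi0 this
          have e1 : Even b := by
            have : Odd (b + 1) := by rw [hb2]; exact hodd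
            rcases Nat.even_or_odd b with hb | hb
            · exact hb
            · exact absurd (Odd.add_odd hb odd_one) (Nat.not_even_iff_odd.2 this)
          have e2 : Even (m' - 1) := by
            rcases Nat.even_or_odd (m' - 1) with hb | hb
            · exact hb
            · have : Even (m' - 1 + 1) := Odd.add_odd hb odd_one
              rw [Nat.sub_add_cancel hm'1] at this
              exact absurd this (Nat.not_even_iff_odd.2 hmo')
          exact ⟨fun _ => e2, fun _ => e1⟩
      · refine ⟨m', ℓ, by omega, hbm, by omega, fun h0 => absurd h0 hℓ0, ?_⟩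
        intro h0
        omega
    · -- `k = 0`, `ℓ = 0`, `m'` even
      refine ⟨m', 0, by omega, hbm, by omega, fun _ => hev, ?_⟩
      intro h0
      have : Even b := hbe (by omega)
      exact ⟨fun _ => hev, fun _ => this⟩
  · rcases h with ⟨hlt, hpos⟩ | ⟨hkℓ, hpos, hev⟩ | ⟨hkpos, hℓ0, hev⟩
    · refine ⟨m', ℓ, by omega, hbm, by omega, fun h0 => by omega, ?_⟩
      intro h0
      omega
    · have hdiv : (2 * d + m - 2 * k) / c = n' + m' := by
        have : 2 * d + m - 2 * k = c * (n' + m') := by
          rw [mul_add]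
          omega
        rw [this, Nat.mul_div_cancel_left _ hi0]
      rw [hdiv, Nat.even_add] at hev
      refine ⟨m', ℓ, by omega, hbm, by omega, fun h0 => by omega, ?_⟩
      intro h0
      have hb2 : b = n' := by
        have : c * b = c * n' := by omega
        exact Nat.eq_of_mul_eq_mul_left hi0 this
      rw [hb2]
      exact hev
    · refine ⟨m', 0, by omega, hbm, by omega, fun _ => hev, ?_⟩
      intro h0
      omega

end Cfsg.Agent.S5974P
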