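import Mathlib
import Cfsg.Prelude.Def_GeometricClasses
import Cfsg.Prelude.Def_Classical
import Cfsg.Prelude.Def_LieClassical
import Cfsg.Agent.Helper16.S5974Defs
import Cfsg.Agent.Helper3.S5974A74SE

/-! S5974 pieces A88SE, A90SE (helper3): sufficiency of the closed forms of S5988, S5990 for `i` even. -/

set_option autoImplicit false
open scoped MatrixGroups
universe u

namespace Cfsg.Agent.S5974P

open Cfsg.Agent.S5973P

namespace AE

theorem fixC_tf {i : ℕ} (hi : Even i) (c d m b : ℕ) :
    FixC true false i c d m b ↔ ∃ b' a' : ℕ, a' + c * b' = m ∧ b' ≤ b ∧ a' + c * b ≤ 2 * d ∧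
      (a' = 0 → ¬ Even b') ∧ (a' + c * b = 2 * d → ¬ (Even b ↔ Even b')) := by
  rw [fixC_even_iff true false hi]
  simp

theorem fixC_ff {i : ℕ} (hi : Even i) (c d m b : ℕ) :
    FixC false false i c d m b ↔ ∃ b' a' : ℕ, a' + c * b' = m ∧ b' ≤ b ∧ a' + c * b ≤ 2 * d ∧
      (a' = 0 → ¬ Even b') ∧ (a' + c * b = 2 * d → (Even b ↔ Even b')) := by
  rw [fixC_even_iff false false hi]
  simp only [Bool.false_eq_true, iff_false, false_iff]
  constructor
  · rintro ⟨b', a', h1, h2, h3, h4, h5⟩
    refine ⟨b', a', h1, h2, h3, h4, fun h => ?_⟩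
    have := h5 h
    tauto
  · rintro ⟨b', a', h1, h2, h3, h4, h5⟩
    refine ⟨b', a', h1, h2, h3, h4, fun h => ?_⟩
    have := h5 h
    tauto

theorem even_pred_of_even {x : ℕ} (hx : Even x) (hx0 : 1 ≤ x) : ¬ Even (x - 1) := by
  intro h
  have : Odd (x - 1 + 1) := Even.add_one h
  rw [Nat.sub_add_cancel hx0] at this
  exact (Nat.not_even_iff_odd.2 this) hx

end AE

/-- A88SE -/
theorem crit_of_closed88_even (i c d m : ℕ) (hi0 : 0 < i) (hi : Even i) (hc : c = i)
    (hd : 4 ≤ d) (hm2 : 2 ≤ m) (hme : Even m) (hmd : m < d) (h : Closed88 i c d m) :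
    CritE true false i c d m := by
  subst hc
  have hno : ¬ Odd c := Nat.not_odd_iff_even.2 hi
  have hn : c * (2 * d / c) + 2 * d % c = 2 * d := Nat.div_add_mod (2 * d) c
  have hk : 2 * d % c < c := Nat.mod_lt _ hi0
  have hm : c * (m / c) + m % c = m := Nat.div_add_mod m c
  have hℓ : m % c < c := Nat.mod_lt _ hi0
  unfold Closed88 at h
  set n' := 2 * d / c with hn'
  set k := 2 * d % c with hk'
  set m' := m / c with hm'
  set ℓ := m % c with hℓ'
  intro b hR
  rw [AE.realz_even_iff true hi] at hR
  obtain ⟨hb1, hbn, hbe⟩ := hR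
  by_cases hbm : b < m'
  · exact AE.fixC_small true false hi c d m b m' ℓ hi0 hm (by omega) hbm
  push Not at hbm
  have h1 : c * m' ≤ c * b := Nat.mul_le_mul_left c hbm
  have hbn' : b ≤ n' := by
    by_contra hcon
    push Not at hcon
    have : c * (n' + 1) ≤ c * b := Nat.mul_le_mul_left c hcon
    rw [mul_add, mul_one] at this
    omega
  have h2 : c * b ≤ c * n' := Nat.mul_le_mul_left c hbn'
  rw [AE.fixC_tf hi]
  simp only [true_iff] at hbe
  rcases h with ⟨ho, -⟩ | ⟨-, h⟩
  · exact absurd ho hno
  rcases h with ⟨hk0, h⟩ | ⟨him, h⟩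
  · rcases h with hodd | ⟨hℓ0, hmo'⟩
    · -- `k = 0`, `n'` odd
      have hbne : b ≠ n' := by
        intro hbn2
        have : Even b := hbe (by rw [hbn2]; omega)
        rw [hbn2] at this
        exact (Nat.not_even_iff_odd.2 hodd) this
      have hblt : b + 1 ≤ n' := by omega
      have h3 : c * (b + 1) ≤ c * n' := Nat.mul_le_mul_left c hblt
      rw [mul_add, mul_one] at h3
      by_cases hℓ0 : ℓ = 0
      · rcases Nat.even_or_odd m' with hme' | hmo'
        · have hm'1 : 1 ≤ m' := by
            rcases Nat.eq_zero_or_pos m' with h0 | h0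
            · rw [h0] at hm; omega
            · exact h0
          have h4 : c * (m' - 1 + 1) = c * (m' - 1) + c := by rw [mul_add, mul_one]
          rw [Nat.sub_add_cancel hm'1] at h4
          have e2 : ¬ Even (m' - 1) := AE.even_pred_of_even hme' hm'1
          refine ⟨m' - 1, c, by omega, by omega, by omega, fun h0 => by omega, ?_⟩
          intro h0
          have hb2 : b + 1 = n' := by
            have : c * (b + 1) = c * n' := by rw [mul_add, mul_one]; omega
            exact Nat.eq_of_mul_eq_mul_left hi0 this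
          have e1 : Even b := by
            have : Odd (b + 1) := by rw [hb2]; exact hodd
            rcases Nat.even_or_odd b with hb | hb
            · exact hb
            · exact absurd (Odd.add_odd hb odd_one) (Nat.not_even_iff_odd.2 this)
          intro hiff
          exact e2 (hiff.1 e1)
        · refine ⟨m', 0, by omega, hbm, by omega, fun _ => Nat.not_even_iff_odd.2 hmo', ?_⟩
          intro h0
          omega
      · refine ⟨m', ℓ, by omega, hbm, by omega, fun h0 => absurd h0 hℓ0, ?_⟩
        intro h0
        omega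
    · -- `k = 0`, `ℓ = 0`, `m'` odd
      refine ⟨m', 0, by omega, hbm, by omega, fun _ => Nat.not_even_iff_odd.2 hmo', ?_⟩
      intro h0
      have : Even b := hbe (by omega)
      intro hiff
      exact (Nat.not_even_iff_odd.2 hmo') (hiff.1 this)
  · rcases h with ⟨hpos, hlt⟩ | ⟨hpos, hkℓ, hod⟩ | ⟨hℓ0, hkpos, hmo'⟩
    · refine ⟨m', ℓ, by omega, hbm, by omega, fun h0 => by omega, ?_⟩
      intro h0
      omega
    · have hdiv : (2 * d + m - 2 * k) / c = n' + m' := by
        have : 2 * d + m - 2 * k = c * (n' + m') := by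
          rw [mul_add]
          omega
        rw [this, Nat.mul_div_cancel_left _ hi0]
      rw [hdiv] at hod
      have hne : ¬ Even (n' + m') := Nat.not_even_iff_odd.2 hod
      rw [Nat.even_add] at hne
      refine ⟨m', ℓ, by omega, hbm, by omega, fun h0 => by omega, ?_⟩
      intro h0
      have hb2 : b = n' := by
        have : c * b = c * n' := by omega
        exact Nat.eq_of_mul_eq_mul_left hi0 this
      rw [hb2]
      exact hne
    · refine ⟨m', 0, by omega, hbm, by omega, fun _ => Nat.not_even_iff_odd.2 hmo', ?_⟩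
      intro h0
      omega

/-- A90SE -/
theorem crit_of_closed90_even (i c d m : ℕ) (hi0 : 0 < i) (hi : Even i) (hc : c = i)
    (hd : 4 ≤ d) (hm2 : 2 ≤ m) (hme : Even m) (hmn : m + 2 ≤ 2 * d) (h : Closed90 i c d m) :
    CritE false false i c d m := by
  subst hc
  have hno : ¬ Odd c := Nat.not_odd_iff_even.2 hi
  have hn : c * (2 * d / c) + 2 * d % c = 2 * d := Nat.div_add_mod (2 * d) c
  have hk : 2 * d % c < c := Nat.mod_lt _ hi0
  have hm : c * (m / c) + m % c = m := Nat.div_add_mod m c
  have hℓ : m % c < c := Nat.mod_lt _ hi0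
  unfold Closed90 at h
  set n' := 2 * d / c with hn'
  set k := 2 * d % c with hk'
  set m' := m / c with hm'
  set ℓ := m % c with hℓ'
  intro b hR
  rw [AE.realz_even_iff false hi] at hR
  obtain ⟨hb1, hbn, hbe⟩ := hR
  by_cases hbm : b < m'
  · exact AE.fixC_small false false hi c d m b m' ℓ hi0 hm (by omega) hbm
  push Not at hbm
  have h1 : c * m' ≤ c * b := Nat.mul_le_mul_left c hbm
  have hbn' : b ≤ n' := by
    by_contra hcon
    push Not at hcon
    have : c * (n' + 1) ≤ c * b := Nat.mul_le_mul_left c hcon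
    rw [mul_add, mul_one] at this
    omega
  have h2 : c * b ≤ c * n' := Nat.mul_le_mul_left c hbn'
  rw [AE.fixC_ff hi]
  simp only [Bool.false_eq_true, false_iff] at hbe
  rcases h with ⟨ho, -⟩ | ⟨-, h⟩
  · exact absurd ho hno
  rcases h with ⟨hk0, h⟩ | ⟨hkpos, him, h⟩
  · rcases h with hev | ⟨hℓ0, hmo'⟩
    · -- `k = 0`, `n'` even
      have hbne : b ≠ n' := by
        intro hbn2
        have : ¬ Even b := hbe (by rw [hbn2]; omega)
        rw [hbn2] at this
        exact this hev
      have hblt : b + 1 ≤ n' := by omega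
      have h3 : c * (b + 1) ≤ c * n' := Nat.mul_le_mul_left c hblt
      rw [mul_add, mul_one] at h3
      by_cases hℓ0 : ℓ = 0
      · rcases Nat.even_or_odd m' with hme' | hmo'
        · have hm'1 : 1 ≤ m' := by
            rcases Nat.eq_zero_or_pos m' with h0 | h0
            · rw [h0] at hm; omega
            · exact h0
          have h4 : c * (m' - 1 + 1) = c * (m' - 1) + c := by rw [mul_add, mul_one]
          rw [Nat.sub_add_cancel hm'1] at h4
          have e2 : ¬ Even (m' - 1) := AE.even_pred_of_even hme' hm'1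
          refine ⟨m' - 1, c, by omega, by omega, by omega, fun h0 => by omega, ?_⟩
          intro h0
          have hb2 : b + 1 = n' := by
            have : c * (b + 1) = c * n' := by rw [mul_add, mul_one]; omega
            exact Nat.eq_of_mul_eq_mul_left hi0 this
          have e1 : ¬ Even b := by
            intro hb
            have : Odd (b + 1) := Even.add_one hb
            rw [hb2] at this
            exact (Nat.not_even_iff_odd.2 this) hev
          exact ⟨fun hb => absurd hb e1, fun hb => absurd hb e2⟩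
        · refine ⟨m', 0, by omega, hbm, by omega, fun _ => Nat.not_even_iff_odd.2 hmo', ?_⟩
          intro h0
          omega
      · refine ⟨m', ℓ, by omega, hbm, by omega, fun h0 => absurd h0 hℓ0, ?_⟩
        intro h0
        omega
    · -- `k = 0`, `ℓ = 0`, `m'` odd
      refine ⟨m', 0, by omega, hbm, by omega, fun _ => Nat.not_even_iff_odd.2 hmo', ?_⟩
      intro h0
      have hb : ¬ Even b := hbe (by omega)
      exact ⟨fun hb' => absurd hb' hb, fun hb' => absurd hb' (Nat.not_even_iff_odd.2 hmo')⟩
  · rcases h with ⟨hpos, hlt⟩ | ⟨hℓ0, hmo'⟩ | ⟨hkℓ, hev⟩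
    · refine ⟨m', ℓ, by omega, hbm, by omega, fun h0 => by omega, ?_⟩
      intro h0
      omega
    · refine ⟨m', 0, by omega, hbm, by omega, fun _ => Nat.not_even_iff_odd.2 hmo', ?_⟩
      intro h0
      omega
    · have hdiv : (2 * d + m - 2 * k) / c = n' + m' := by
        have : 2 * d + m - 2 * k = c * (n' + m') := by
          rw [mul_add]
          omega
        rw [this, Nat.mul_div_cancel_left _ hi0]
      rw [hdiv, Nat.even_add] at hev
      refine ⟨m', ℓ, by omega, hbm, by omega, fun h0 => by omega, ?_⟩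
      intro h0
      have hb2 : b = n' := by
        have : c * b = c * n' := by omega
        exact Nat.eq_of_mul_eq_mul_left hi0 this
      rw [hb2]
      exact hev

end Cfsg.Agent.S5974P
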