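import Mathlib
import Cfsg.Prelude.Def_CaseTheorems
import Cfsg.Agent.Helper1.PGroup
import Cfsg.Agent.Helper23.PGroup
import Cfsg.Agent.Helper17.Basic

set_option autoImplicit false
set_option linter.style.haveILetI false

namespace Cfsg.Agent.Helper3.SecRank

/-- In a finite nonabelian 2-group, the Frattini subgroup has index at least 4. -/
theorem four_mul_card_frattini_le {P : Type*} [Group P] [Finite P] (hP : IsPGroup 2 P)
    (hna : ¬ IsMulCommutative P) : 4 * Nat.card (frattini P) ≤ Nat.card P := by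
  haveI : Fact (Nat.Prime 2) := ⟨Nat.prime_two⟩
  -- a first coatom
  rcases eq_top_or_exists_le_coatom (⊥ : Subgroup P) with h | ⟨M1, hM1, -⟩
  · exfalso
    apply hna
    refine ⟨⟨fun a b => ?_⟩⟩
    have ha : a ∈ (⊤ : Subgroup P) := Subgroup.mem_top a
    have hb : b ∈ (⊤ : Subgroup P) := Subgroup.mem_top b
    rw [← h, Subgroup.mem_bot] at ha hb
    rw [ha, hb]
  have hne : ∃ x, x ∉ M1 := by
    by_contra hcon
    push Not at hcon
    exact hM1.1 (by rw [eq_top_iff]; intro x _; exact hcon x)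
  obtain ⟨x, hx⟩ := hne
  rcases eq_top_or_exists_le_coatom (Subgroup.zpowers x) with h | ⟨M2, hM2, hxM2⟩
  · exfalso
    apply hna
    haveI : IsCyclic P := ⟨⟨x, fun y => by
      have : y ∈ (⊤ : Subgroup P) := Subgroup.mem_top y
      rwa [← h] at this⟩⟩
    exact ⟨⟨fun a b => IsCyclic.commGroup.mul_comm a b⟩⟩
  have hxM2' : x ∈ M2 := hxM2 (Subgroup.mem_zpowers x)
  have hne12 : ¬ M1 ≤ M2 := by
    intro hle
    have : M1 = M2 := by
      by_contra hneq
      exact hM2.1 (hM1.2 M2 (lt_of_le_of_ne hle hneq))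
    rw [this] at hx
    exact hx hxM2'
  have hi1 : M1.index = 2 := Cfsg.Agent.Helper1.IsPGroup.coatom_index hP hM1
  have hfr : frattini P ≤ M1 ⊓ M2 := le_inf (frattini_le_coatom hM1) (frattini_le_coatom hM2)
  have h1 : Nat.card (frattini P) ≤ Nat.card (M1 ⊓ M2 : Subgroup P) := Subgroup.card_le_of_le hfr
  have h2 : (M1 ⊓ M2).relIndex M1 ≠ 1 := by
    intro h
    rw [Subgroup.relIndex_eq_one] at h
    exact hne12 (h.trans inf_le_right)
  have h3 : (M1 ⊓ M2).relIndex M1 * Nat.card (M1 ⊓ M2 : Subgroup P) = Nat.card M1 :=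
by
    have := Subgroup.relIndex_mul_relIndex (⊥ : Subgroup P) (M1 ⊓ M2) M1 bot_le inf_le_left
    rwa [Subgroup.relIndex_bot_left, Subgroup.relIndex_bot_left, mul_comm] at this
  have h4 : Nat.card M1 * M1.index = Nat.card P := Subgroup.card_mul_index M1
  have h5 : (M1 ⊓ M2).relIndex M1 ≠ 0 := by
    intro h
    rw [h, zero_mul] at h3
    exact (Nat.card_pos (α := M1)).ne' h3.symm
  have h6 : 2 ≤ (M1 ⊓ M2).relIndex M1 := by omega
  rw [hi1] at h4
  nlinarith


/-- If `P ⊴ S` has centre of order two then every element of `Z(P)` is central in `S`. -/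
theorem mem_center_of_card_center_two {S : Type*} [Group S] (P : Subgroup S) [hPn : P.Normal]
    (h : Nat.card (Subgroup.center P) = 2) {z : S} (hz : z ∈ P) (hzc : ∀ x ∈ P, x * z = z * x) :
    z ∈ Subgroup.center S := by
  by_cases hz1 : z = 1
  · rw [hz1]; exact Subgroup.one_mem _
  rw [Subgroup.mem_center_iff]
  intro g
  have hw : g * z * g⁻¹ ∈ P := hPn.conj_mem z hz g
  have hwc : ∀ x ∈ P, x * (g * z * g⁻¹) = (g * z * g⁻¹) * x := by
    intro x hx
    have hx' : g⁻¹ * x * g⁻¹⁻¹ ∈ P := hPn.conj_mem x hx g⁻¹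
    have := hzc _ hx'
    rw [inv_inv] at this
    calc x * (g * z * g⁻¹) = g * ((g⁻¹ * x * g) * z) * g⁻¹ := by group
      _ = g * (z * (g⁻¹ * x * g)) * g⁻¹ := by rw [this]
      _ = (g * z * g⁻¹) * x := by group
  let z' : Subgroup.center P := ⟨⟨z, hz⟩, Subgroup.mem_center_iff.mpr
    (fun x => Subtype.ext (hzc x x.2))⟩
  let w' : Subgroup.center P := ⟨⟨g * z * g⁻¹, hw⟩, Subgroup.mem_center_iff.mpr
    (fun x => Subtype.ext (hwc x x.2))⟩
  obtain ⟨y, -, hy⟩ := (Nat.card_eq_two_iff' (1 : Subgroup.center P)).mp h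
  have hz' : z' ≠ 1 := by
    intro h1
    apply hz1
    have := congrArg (fun t : Subgroup.center P => ((t : P) : S)) h1
    simpa [z'] using this
  have hw' : w' ≠ 1 := by
    intro h1
    apply hz1
    have := congrArg (fun t : Subgroup.center P => ((t : P) : S)) h1
    have h2 : g * z * g⁻¹ = 1 := by simpa [w'] using this
    have : z = g⁻¹ * (g * z * g⁻¹) * g := by group
    rw [this, h2]; group
  have h3 : w' = z' := (hy w' hw').trans (hy z' hz').symm
  have h4 : g * z * g⁻¹ = z := by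
    have := congrArg (fun t : Subgroup.center P => ((t : P) : S)) h3
    simpa [w', z'] using this
  calc g * z = (g * z * g⁻¹) * g := by group
    _ = z * g := by rw [h4]

/-- A subgroup of order two is generated by any of its non-identity elements. -/
theorem eq_zpowers_of_card_two {S : Type*} [Group S] (A : Subgroup S) (hA : Nat.card A = 2)
    {b : S} (hb : b ∈ A) (hb1 : b ≠ 1) : A = Subgroup.zpowers b := by
  haveI : Finite A := Nat.finite_of_card_ne_zero (by omega)
  symm
  apply Subgroup.eq_of_le_of_card_ge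
  · rw [Subgroup.zpowers_le]; exact hb
  · rw [Nat.card_zpowers, hA]
    have h1 : orderOf (⟨b, hb⟩ : A) ∣ 2 := hA ▸ orderOf_dvd_natCard _
    have h2 : orderOf (⟨b, hb⟩ : A) = orderOf b := by
      rw [← Subgroup.orderOf_coe]
    rw [h2] at h1
    have h3 : orderOf b ≠ 1 := by
      rw [Ne, orderOf_eq_one_iff]; exact hb1
    rcases (Nat.dvd_prime Nat.prime_two).mp h1 with h | h
    · exact absurd h h3
    · omega



/-- If `C ≰ M` in a 2-group there is `d ∈ C \ M` with `d² ∈ M`. -/
theorem exists_sq_mem {S : Type*} [Group S] (h2 : IsPGroup 2 S) (M C : Subgroup S)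
    (h : ¬ C ≤ M) : ∃ d ∈ C, d ∉ M ∧ d ^ 2 ∈ M := by
  classical
  obtain ⟨c, hcC, hcM⟩ := SetLike.not_le_iff_exists.mp h
  have hex : ∃ k : ℕ, c ^ (2 ^ k) ∈ M := by
    obtain ⟨k, hk⟩ := h2 c
    exact ⟨k, by rw [hk]; exact M.one_mem⟩
  have hk0 : Nat.find hex ≠ 0 := by
    intro h0
    have := Nat.find_spec hex
    rw [h0, pow_zero, pow_one] at this
    exact hcM this
  obtain ⟨k, hk⟩ := Nat.exists_eq_succ_of_ne_zero hk0
  refine ⟨c ^ (2 ^ k), C.pow_mem hcC _, ?_, ?_⟩
  · exact Nat.find_min hex (by omega)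
  · have := Nat.find_spec hex
    rw [hk, Nat.succ_eq_add_one, pow_succ, pow_mul] at this
    exact this

/-- In a nonabelian finite 2-group with centre of order two, the centre lies in the Frattini
subgroup. -/
theorem center_le_frattini {P : Type*} [Group P] [Finite P] (hP : IsPGroup 2 P)
    (hna : ¬ IsMulCommutative P) (hZ : Nat.card (Subgroup.center P) = 2) :
    Subgroup.center P ≤ frattini P := by
  haveI : Fact (Nat.Prime 2) := ⟨Nat.prime_two⟩
  have hc : commutator P ≠ ⊥ := by
    rw [Ne, commutator_eq_bot_iff]; exact hna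
  obtain ⟨b, hbN, hbZ, hb1⟩ := Cfsg.Agent.Helper23.exists_mem_inf_center_ne_one hP (commutator P) hc
  obtain ⟨y, -, hy⟩ := (Nat.card_eq_two_iff' (1 : Subgroup.center P)).mp hZ
  intro a ha
  apply Cfsg.Agent.Helper1.IsPGroup.commutator_le_frattini hP
  by_cases ha1 : a = 1
  · rw [ha1]; exact Subgroup.one_mem _
  have h1 : (⟨a, ha⟩ : Subgroup.center P) = ⟨b, hbZ⟩ := by
    refine (hy _ ?_).trans (hy _ ?_).symm
    · intro h; apply ha1; exact congrArg Subtype.val h
    · intro h; apply hb1; exact congrArg Subtype.val h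
  have : a = b := congrArg Subtype.val h1
  rw [this]; exact hbN


section main

variable {S : Type*} [Group S] [Finite S]

/-- The image in `S` of the Frattini subgroup of a normal subgroup is normal. -/
instance frattini_map_normal (P : Subgroup S) [P.Normal] :
    ((frattini P).map P.subtype).Normal :=
  ConjAct.normal_of_characteristic_of_normal

theorem sq_mem_frattini_map (h2 : IsPGroup 2 S) (P : Subgroup S) {a : S} (ha : a ∈ P) :
    a ^ 2 ∈ (frattini P).map P.subtype := by
  haveI : Fact (Nat.Prime 2) := ⟨Nat.prime_two⟩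
  refine ⟨(⟨a, ha⟩ : P) ^ 2, ?_, rfl⟩
  exact Cfsg.Agent.Helper1.IsPGroup.pow_mem_frattini (h2.to_subgroup P) _

theorem central_mem_frattini_map (h2 : IsPGroup 2 S) (P : Subgroup S)
    (hP : ¬ IsMulCommutative ↥P) (hZP : Nat.card ↥(Subgroup.center ↥P) = 2)
    {a : S} (ha : a ∈ P) (hac : ∀ x ∈ P, x * a = a * x) :
    a ∈ (frattini P).map P.subtype := by
  refine ⟨⟨a, ha⟩, ?_, rfl⟩
  apply center_le_frattini (h2.to_subgroup P) hP hZP
  rw [Subgroup.mem_center_iff]
  intro x
  exact Subtype.ext (hac x x.2)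

/-- Key step: two commuting normal nonabelian subgroups with centres of order two, meeting
trivially, in a 2-group of sectional rank at most 4: their product is self-centralizing. -/
theorem centralizer_sup_le (h2 : IsPGroup 2 S) (hr : Cfsg.SectionalPRankLE 2 4 S)
    (P Q : Subgroup S) [P.Normal] [Q.Normal] (hP : ¬ IsMulCommutative ↥P) (hQ : ¬ IsMulCommutative ↥Q)
    (hZP : Nat.card ↥(Subgroup.center ↥P) = 2) (hZQ : Nat.card ↥(Subgroup.center ↥Q) = 2)
    (hinf : P ⊓ Q = ⊥) (hcomm : ∀ a ∈ P, ∀ b ∈ Q, a * b = b * a) :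
    Subgroup.centralizer ((P ⊔ Q : Subgroup S) : Set S) ≤ P ⊔ Q := by
  by_contra hcon
  obtain ⟨d, hdC, hdM, hd2⟩ := exists_sq_mem h2 (P ⊔ Q) _ hcon
  set F : Subgroup S := (frattini P).map P.subtype ⊔ (frattini Q).map Q.subtype with hF
  set H : Subgroup S := Subgroup.zpowers d ⊔ (P ⊔ Q) with hH
  have hdcomm : ∀ m ∈ P ⊔ Q, m * d = d * m := fun m hm =>
    Subgroup.mem_centralizer_iff.mp hdC m hm
  -- d^2 ∈ F
  have hd2F : d ^ 2 ∈ F := by
    obtain ⟨a0, ha0, b0, hb0, hab⟩ := Subgroup.mem_sup_of_normal_right.mp hd2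
    have hd2c : ∀ m ∈ P ⊔ Q, m * (a0 * b0) = (a0 * b0) * m := by
      intro m hm
      rw [hab, pow_two]
      have := hdcomm m hm
      rw [← mul_assoc, this, mul_assoc, this, ← mul_assoc]
    have ha0c : ∀ x ∈ P, x * a0 = a0 * x := by
      intro x hx
      have h1 := hd2c x (Subgroup.mem_sup_left hx)
      have h2' := hcomm x hx b0 hb0
      have : x * a0 * b0 = a0 * x * b0 := by
        calc x * a0 * b0 = x * (a0 * b0) := by group
          _ = a0 * b0 * x := h1
          _ = a0 * (b0 * x) := by group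
          _ = a0 * (x * b0) := by rw [h2']
          _ = a0 * x * b0 := by group
      exact mul_right_cancel this
    have hb0c : ∀ y ∈ Q, y * b0 = b0 * y := by
      intro y hy
      have h1 := hd2c y (Subgroup.mem_sup_right hy)
      have h2' := hcomm a0 ha0 y hy
      have : a0 * (y * b0) = a0 * (b0 * y) := by
        calc a0 * (y * b0) = (a0 * y) * b0 := by group
          _ = (y * a0) * b0 := by rw [h2']
          _ = y * (a0 * b0) := by group
          _ = a0 * b0 * y := h1
          _ = a0 * (b0 * y) := by group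
      exact mul_left_cancel this
    rw [← hab]
    exact Subgroup.mul_mem _
      (Subgroup.mem_sup_left (central_mem_frattini_map h2 P hP hZP ha0 ha0c))
      (Subgroup.mem_sup_right (central_mem_frattini_map h2 Q hQ hZQ hb0 hb0c))
  -- K1: squares of H lie in F
  have hK1 : ∀ x ∈ H, x ^ 2 ∈ F := by
    intro x hx
    obtain ⟨y, hy, m, hm, rfl⟩ := Subgroup.mem_sup_of_normal_right.mp hx
    obtain ⟨a, ha, b, hb, rfl⟩ := Subgroup.mem_sup_of_normal_right.mp hm
    obtain ⟨k, rfl⟩ := Subgroup.mem_zpowers_iff.mp hy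
    have hyc : ∀ m ∈ P ⊔ Q, m * d ^ k = d ^ k * m := by
      intro m hm
      exact ((Commute.zpow_right (hdcomm m hm) k)).eq
    have hab := hcomm a ha b hb
    have e : (d ^ k * (a * b)) ^ 2 = (d ^ 2) ^ k * (a ^ 2 * b ^ 2) := by
      have h1 := hyc (a * b) hm
      calc (d ^ k * (a * b)) ^ 2 = d ^ k * ((a * b) * d ^ k) * (a * b) := by rw [pow_two]; group
        _ = d ^ k * (d ^ k * (a * b)) * (a * b) := by rw [h1]
        _ = (d ^ k * d ^ k) * (a * (b * a) * b) := by group
        _ = (d ^ k * d ^ k) * (a * (a * b) * b) := by rw [hab]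
        _ = (d ^ 2) ^ k * (a ^ 2 * b ^ 2) := by
          rw [pow_two d, (Commute.refl d).mul_zpow k, pow_two a, pow_two b]
          group
    rw [e]
    refine Subgroup.mul_mem _ (Subgroup.zpow_mem _ hd2F k) (Subgroup.mul_mem _ ?_ ?_)
    · exact Subgroup.mem_sup_left (sq_mem_frattini_map h2 P ha)
    · exact Subgroup.mem_sup_right (sq_mem_frattini_map h2 Q hb)
  have hFM : F ≤ P ⊔ Q := by
    apply sup_le
    · rintro _ ⟨x, -, rfl⟩; exact Subgroup.mem_sup_left x.2
    · rintro _ ⟨x, -, rfl⟩; exact Subgroup.mem_sup_right x.2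
  have hMH : P ⊔ Q ≤ H := le_sup_right
  have hFH : F ≤ H := hFM.trans hMH
  -- K2: cards
  have hcF : Nat.card F ≤ Nat.card (frattini P) * Nat.card (frattini Q) := by
    have h1 := Cfsg.Agent.Helper17.card_sup_mul_card_inf_of_normal
      ((frattini P).map P.subtype) ((frattini Q).map Q.subtype)
    rw [Subgroup.card_subtype, Subgroup.card_subtype] at h1
    rw [← h1]
    exact Nat.le_mul_of_pos_right _ Nat.card_pos
  have hcM : Nat.card (P ⊔ Q : Subgroup S) = Nat.card P * Nat.card Q := by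
    have h1 := Cfsg.Agent.Helper17.card_sup_mul_card_inf_of_normal P Q
    rw [hinf, Subgroup.card_bot, mul_one] at h1
    exact h1
  have hcP := four_mul_card_frattini_le (h2.to_subgroup P) hP
  have hcQ := four_mul_card_frattini_le (h2.to_subgroup Q) hQ
  have hcH : 2 * Nat.card (P ⊔ Q : Subgroup S) ≤ Nat.card H := by
    have h3 : (P ⊔ Q).relIndex H * Nat.card (P ⊔ Q : Subgroup S) = Nat.card H := by
      have := Subgroup.relIndex_mul_relIndex (⊥ : Subgroup S) (P ⊔ Q) H bot_le hMH
      rwa [Subgroup.relIndex_bot_left, Subgroup.relIndex_bot_left, mul_comm] at this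
    have h4 : (P ⊔ Q).relIndex H ≠ 1 := by
      intro h
      rw [Subgroup.relIndex_eq_one] at h
      exact hdM (h (Subgroup.mem_sup_left (Subgroup.mem_zpowers d)))
    have h5 : (P ⊔ Q).relIndex H ≠ 0 := by
      intro h
      rw [h, zero_mul] at h3
      exact (Nat.card_pos (α := H)).ne' h3.symm
    have h6 : 2 ≤ (P ⊔ Q).relIndex H := by omega
    rw [← h3]
    exact Nat.mul_le_mul_right _ h6
  -- the section
  have hsec := hr H (F.subgroupOf H)
  have hexp : ∀ q : H ⧸ F.subgroupOf H, q ^ 2 = 1 := by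
    intro q
    induction q using QuotientGroup.induction_on with
    | H x =>
      rw [← QuotientGroup.mk_pow, QuotientGroup.eq_one_iff, Subgroup.mem_subgroupOf]
      exact hK1 x x.2
  have hcommq : ∀ a b : H ⧸ F.subgroupOf H, a * b = b * a := by
    intro a b
    have h1 := hexp (a * b)
    have ha := hexp a
    have hb := hexp b
    have ha' : a⁻¹ = a := by rw [inv_eq_iff_mul_eq_one, ← pow_two]; exact ha
    have hb' : b⁻¹ = b := by rw [inv_eq_iff_mul_eq_one, ← pow_two]; exact hb
    have : (a * b)⁻¹ = a * b := by rw [inv_eq_iff_mul_eq_one, ← pow_two]; exact h1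
    rw [← this, mul_inv_rev, ha', hb']
  have hle := hsec ⊤ ⟨⟨fun a b => Subtype.ext (hcommq a b)⟩⟩ (fun a _ => hexp a)
  rw [Subgroup.card_top] at hle
  have hq := Subgroup.card_eq_card_quotient_mul_card_subgroup (F.subgroupOf H)
  rw [Cfsg.Agent.Helper17.card_subgroupOf_of_le hFH] at hq
  have hFpos : 0 < Nat.card F := Nat.card_pos
  have hPpos : 0 < Nat.card (frattini P) := Nat.card_pos
  have hQpos : 0 < Nat.card (frattini Q) := Nat.card_pos
  nlinarith

end main

end Cfsg.Agent.Helper3.SecRank
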