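import Mathlib
import Cfsg.Prelude.Def_CaseTheorems
import Cfsg.Agent.Helper3.SecRank
import Cfsg.Agent.Helper14.Conj

set_option autoImplicit false
set_option linter.style.haveILetI false

/-!
Element-level tools for 2-groups of bounded sectional rank (used for S4401).
-/

namespace Cfsg.Agent.Helper3.SecRank

open Cfsg.Agent.Helper14 (cj mem_map_cj)

section R1

variable {S : Type*} [Group S] [Finite S]

omit [Finite S] in
/-- Sectional rank bound in subgroup form: if `N ≤ H` is normalized by `H` and contains all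
squares of `H`, then `|H| ≤ 2^k |N|`. -/
theorem card_le_of_sq {k : ℕ} (hr : Cfsg.SectionalPRankLE 2 k S) (H N : Subgroup S) (hNH : N ≤ H)
    (hnorm : ∀ h ∈ H, ∀ n ∈ N, h * n * h⁻¹ ∈ N) (hsq : ∀ x ∈ H, x ^ 2 ∈ N) :
    Nat.card H ≤ 2 ^ k * Nat.card N := by
  haveI : (N.subgroupOf H).Normal := by
    constructor
    intro n hn g
    rw [Subgroup.mem_subgroupOf] at hn ⊢
    exact hnorm g g.2 n hn
  have hsec := hr H (N.subgroupOf H)
  have hexp : ∀ q : H ⧸ N.subgroupOf H, q ^ 2 = 1 := by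
    intro q
    induction q using QuotientGroup.induction_on with
    | H x =>
      rw [← QuotientGroup.mk_pow, QuotientGroup.eq_one_iff, Subgroup.mem_subgroupOf]
      exact hsq x x.2
  have hcommq : ∀ a b : H ⧸ N.subgroupOf H, a * b = b * a := by
    intro a b
    have h1 := hexp (a * b)
    have ha := hexp a
    have hb := hexp b
    have ha' : a⁻¹ = a := by rw [inv_eq_iff_mul_eq_one, ← pow_two]; exact ha
    have hb' : b⁻¹ = b := by rw [inv_eq_iff_mul_eq_one, ← pow_two]; exact hb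
    have : (a * b)⁻¹ = a * b := by rw [inv_eq_iff_mul_eq_one, ← pow_two]; exact h1
    rw [← this, mul_inv_rev, ha', hb']
  have hle := hsec ⊤ ⟨⟨fun a b => Subtype.ext (hcommq a b)⟩⟩ (fun a _ => hexp a)
  rw [Subgroup.card_top] at hle
  have hq := Subgroup.card_eq_card_quotient_mul_card_subgroup (N.subgroupOf H)
  rw [Cfsg.Agent.Helper17.card_subgroupOf_of_le hNH] at hq
  rw [hq]
  exact Nat.mul_le_mul_right _ hle

end R1

section SqCZ

open scoped commutatorElement

variable {S : Type*} [Group S]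

/-- The subgroup generated by the squares of the elements of `P`. -/
def Sq (P : Subgroup S) : Subgroup S := Subgroup.closure ((fun x => x ^ 2) '' (P : Set S))

theorem sq_mem_Sq {P : Subgroup S} {a : S} (ha : a ∈ P) : a ^ 2 ∈ Sq P :=
  Subgroup.subset_closure ⟨a, ha, rfl⟩

theorem Sq_le (P : Subgroup S) : Sq P ≤ P := by
  rw [Sq, Subgroup.closure_le]
  rintro _ ⟨x, hx, rfl⟩
  exact P.pow_mem hx 2

/-- `Sq P` is normalized by whatever normalizes `P`. -/
theorem conj_mem_Sq {P : Subgroup S} {g : S} (hg : ∀ x ∈ P, g * x * g⁻¹ ∈ P) {y : S}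
    (hy : y ∈ Sq P) : g * y * g⁻¹ ∈ Sq P := by
  have h : Sq P ≤ (Sq P).comap (cj g) := by
    change Subgroup.closure ((fun x => x ^ 2) '' (P : Set S)) ≤ _
    rw [Subgroup.closure_le]
    rintro _ ⟨x, hx, rfl⟩
    change cj g (x ^ 2) ∈ Sq P
    rw [map_pow]
    exact sq_mem_Sq (hg x hx)
  exact h hy

theorem commutator_le_Sq (P : Subgroup S) : ⁅P, P⁆ ≤ Sq P := by
  rw [Subgroup.commutator_le]
  intro a ha b hb
  have e : ⁅a, b⁆ = a ^ 2 * (a⁻¹ * b) ^ 2 * (b⁻¹) ^ 2 := by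
    rw [commutatorElement_def]; simp only [pow_two]; group
  rw [e]
  exact Subgroup.mul_mem _ (Subgroup.mul_mem _ (sq_mem_Sq ha)
    (sq_mem_Sq (P.mul_mem (P.inv_mem ha) hb))) (sq_mem_Sq (P.inv_mem hb))

theorem Sq_le_frattini_map [Finite S] (h2 : IsPGroup 2 S) (P : Subgroup S) :
    Sq P ≤ (frattini P).map P.subtype := by
  rw [Sq, Subgroup.closure_le]
  rintro _ ⟨x, hx, rfl⟩
  exact sq_mem_frattini_map h2 P hx

/-- `P` is nonabelian with centre `{1, z}`. -/
structure CZ (P : Subgroup S) (z : S) : Prop where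
  mem : z ∈ P
  ne_one : z ≠ 1
  comm : ∀ x ∈ P, x * z = z * x
  cen : ∀ y ∈ P, (∀ x ∈ P, x * y = y * x) → y = 1 ∨ y = z
  nonab : ∃ a ∈ P, ∃ b ∈ P, a * b ≠ b * a

theorem CZ.conj {P : Subgroup S} {z : S} (h : CZ P z) (g : S) :
    CZ (P.map (cj g)) (g * z * g⁻¹) := by
  refine ⟨⟨z, h.mem, rfl⟩, ?_, ?_, ?_, ?_⟩
  · intro h1
    apply h.ne_one
    have : z = g⁻¹ * (g * z * g⁻¹) * g := by group
    rw [this, h1]; group
  · rintro _ ⟨x, hx, rfl⟩
    change g * x * g⁻¹ * (g * z * g⁻¹) = g * z * g⁻¹ * (g * x * g⁻¹)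
    have := h.comm x hx
    calc g * x * g⁻¹ * (g * z * g⁻¹) = g * (x * z) * g⁻¹ := by group
      _ = g * (z * x) * g⁻¹ := by rw [this]
      _ = g * z * g⁻¹ * (g * x * g⁻¹) := by group
  · rintro _ ⟨y, hy, rfl⟩ hc
    change g * y * g⁻¹ = 1 ∨ g * y * g⁻¹ = g * z * g⁻¹
    have hyc : ∀ x ∈ P, x * y = y * x := by
      intro x hx
      have := hc (g * x * g⁻¹) ⟨x, hx, rfl⟩
      change g * x * g⁻¹ * (g * y * g⁻¹) = g * y * g⁻¹ * (g * x * g⁻¹) at this
      have e1 : x * y = g⁻¹ * (g * x * g⁻¹ * (g * y * g⁻¹)) * g := by group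
      rw [e1, this]; group
    rcases h.cen y hy hyc with h1 | h1
    · left; rw [h1]; group
    · right; rw [h1]
  · obtain ⟨a, ha, b, hb, hab⟩ := h.nonab
    refine ⟨g * a * g⁻¹, ⟨a, ha, rfl⟩, g * b * g⁻¹, ⟨b, hb, rfl⟩, ?_⟩
    intro h1
    apply hab
    have e1 : a * b = g⁻¹ * (g * a * g⁻¹ * (g * b * g⁻¹)) * g := by group
    rw [e1, h1]; group

theorem CZ.not_comm {P : Subgroup S} {z : S} (h : CZ P z) : ¬ IsMulCommutative ↥P := by
  intro hc
  obtain ⟨a, ha, b, hb, hab⟩ := h.nonab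
  apply hab
  have := hc.is_comm.comm (⟨a, ha⟩ : P) ⟨b, hb⟩
  exact congrArg Subtype.val this

theorem CZ.sq_eq_one {P : Subgroup S} {z : S} (h : CZ P z) : z ^ 2 = 1 := by
  have h1 : ∀ x ∈ P, x * z ^ 2 = z ^ 2 * x := by
    intro x hx
    have := h.comm x hx
    rw [pow_two, ← mul_assoc, this, mul_assoc, this, ← mul_assoc]
  rcases h.cen (z ^ 2) (P.pow_mem h.mem 2) h1 with h2 | h2
  · exact h2
  · exfalso
    apply h.ne_one
    rw [pow_two] at h2
    exact mul_left_cancel (a := z) (by rw [h2, mul_one])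

/-- A nontrivial subgroup of `P` normalized by `P` contains `z`. -/
theorem CZ.mem_of_normal [Finite S] (h2 : IsPGroup 2 S) {P : Subgroup S} {z : S} (h : CZ P z)
    (N : Subgroup S) (hNP : N ≤ P) (hnorm : ∀ a ∈ P, ∀ n ∈ N, a * n * a⁻¹ ∈ N) (hN : N ≠ ⊥) :
    z ∈ N := by
  haveI : Fact (Nat.Prime 2) := ⟨Nat.prime_two⟩
  haveI : (N.subgroupOf P).Normal := by
    constructor
    intro n hn g
    rw [Subgroup.mem_subgroupOf] at hn ⊢
    exact hnorm g g.2 n hn
  have hN' : N.subgroupOf P ≠ ⊥ := by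
    rw [Ne, Subgroup.subgroupOf_eq_bot, disjoint_iff, inf_eq_left.mpr hNP]
    exact hN
  obtain ⟨b, hbN, hbZ, hb1⟩ := Cfsg.Agent.Helper23.exists_mem_inf_center_ne_one
    (h2.to_subgroup P) (N.subgroupOf P) hN'
  rw [Subgroup.mem_subgroupOf] at hbN
  have hbc : ∀ x ∈ P, x * (b : S) = (b : S) * x := by
    intro x hx
    have := (Subgroup.mem_center_iff.mp hbZ) ⟨x, hx⟩
    exact congrArg Subtype.val this
  rcases h.cen b b.2 hbc with h1 | h1
  · exact absurd (Subtype.ext h1) hb1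
  · rw [← h1]; exact hbN

theorem CZ.mem_commutator [Finite S] (h2 : IsPGroup 2 S) {P : Subgroup S} {z : S} (h : CZ P z) :
    z ∈ ⁅P, P⁆ := by
  apply h.mem_of_normal h2 ⁅P, P⁆
  · rw [Subgroup.commutator_le]
    intro a ha b hb
    exact P.mul_mem (P.mul_mem (P.mul_mem ha hb) (P.inv_mem ha)) (P.inv_mem hb)
  · intro a ha n hn
    have hle : ⁅P, P⁆ ≤ (⁅P, P⁆).comap (cj a) := by
      rw [Subgroup.commutator_le]
      intro x hx y hy
      change cj a ⁅x, y⁆ ∈ ⁅P, P⁆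
      rw [map_commutatorElement]
      exact Subgroup.commutator_mem_commutator
        (P.mul_mem (P.mul_mem ha hx) (P.inv_mem ha)) (P.mul_mem (P.mul_mem ha hy) (P.inv_mem ha))
    exact hle hn
  · obtain ⟨a, ha, b, hb, hab⟩ := h.nonab
    intro hbot
    apply hab
    have h1 : ⁅a, b⁆ ∈ ⁅P, P⁆ := Subgroup.commutator_mem_commutator ha hb
    rw [hbot, Subgroup.mem_bot, commutatorElement_eq_one_iff_mul_comm] at h1
    exact h1

theorem CZ.mem_Sq [Finite S] (h2 : IsPGroup 2 S) {P : Subgroup S} {z : S} (h : CZ P z) :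
    z ∈ Sq P := commutator_le_Sq P (h.mem_commutator h2)

theorem CZ.four_mul_card_Sq_le [Finite S] (h2 : IsPGroup 2 S) {P : Subgroup S} {z : S}
    (h : CZ P z) : 4 * Nat.card (Sq P) ≤ Nat.card P := by
  have h1 := four_mul_card_frattini_le (h2.to_subgroup P) h.not_comm
  have h3 : Nat.card (Sq P) ≤ Nat.card ((frattini P).map P.subtype) :=
    Subgroup.card_le_of_le (Sq_le_frattini_map h2 P)
  rw [Subgroup.card_subtype] at h3
  omega

end SqCZ

section Pair

variable {S : Type*} [Group S] [Finite S]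

omit [Finite S] in
/-- membership in the join of two subgroups, the first normalizing the second -/
theorem mem_sup_of_normalizes {A B : Subgroup S} (h : ∀ a ∈ A, ∀ b ∈ B, a * b * a⁻¹ ∈ B)
    {x : S} : x ∈ A ⊔ B ↔ ∃ a ∈ A, ∃ b ∈ B, a * b = x := by
  have hle : A ≤ Subgroup.normalizer (B : Set S) :=
    Cfsg.Agent.Helper14.le_normalizer_of_map_cj_le (fun g hg => by
      rintro _ ⟨b, hb, rfl⟩
      exact h g hg b hb)
  rw [← SetLike.mem_coe, Subgroup.coe_mul_of_left_le_normalizer_right A B hle, Set.mem_mul]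
  rfl

/-- Hypotheses for a pair of nonabelian subgroups with centres of order two normalizing each
other. -/
structure PairHyp (P Q : Subgroup S) (z z' : S) : Prop where
  hP : CZ P z
  hQ : CZ Q z'
  hne : z ≠ z'
  nPQ : ∀ a ∈ P, ∀ b ∈ Q, a * b * a⁻¹ ∈ Q
  nQP : ∀ b ∈ Q, ∀ a ∈ P, b * a * b⁻¹ ∈ P
  czQ : ∀ b ∈ Q, b * z = z * b

theorem PairHyp.inf_eq_bot (h2 : IsPGroup 2 S) {P Q : Subgroup S} {z z' : S}
    (h : PairHyp P Q z z') : P ⊓ Q = ⊥ := by
  by_contra hcon
  have hz : z ∈ P ⊓ Q := by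
    apply h.hP.mem_of_normal h2 (P ⊓ Q) inf_le_left _ hcon
    intro a ha n hn
    exact ⟨P.mul_mem (P.mul_mem ha hn.1) (P.inv_mem ha), h.nPQ a ha n hn.2⟩
  rcases h.hQ.cen z hz.2 h.czQ with h1 | h1
  · exact h.hP.ne_one h1
  · exact h.hne h1

theorem PairHyp.commute (h2 : IsPGroup 2 S) {P Q : Subgroup S} {z z' : S}
    (h : PairHyp P Q z z') : ∀ a ∈ P, ∀ b ∈ Q, a * b = b * a := by
  intro a ha b hb
  have h1 : a * b * a⁻¹ * b⁻¹ ∈ P ⊓ Q := by
    constructor
    · have := h.nQP b hb a⁻¹ (P.inv_mem ha)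
      have e : a * b * a⁻¹ * b⁻¹ = a * (b * a⁻¹ * b⁻¹) := by group
      rw [e]
      exact P.mul_mem ha this
    · exact Q.mul_mem (h.nPQ a ha b hb) (Q.inv_mem hb)
  rw [h.inf_eq_bot h2, Subgroup.mem_bot] at h1
  have e : a * b = (a * b * a⁻¹ * b⁻¹) * (b * a) := by group
  rw [e, h1, one_mul]

/-- An element centralizing both `P` and `Q` lies in `P ⊔ Q`. -/
theorem PairHyp.mem_sup_of_centralizes (h2 : IsPGroup 2 S) (hr : Cfsg.SectionalPRankLE 2 4 S)
    {P Q : Subgroup S} {z z' : S} (h : PairHyp P Q z z') {c : S}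
    (hcP : ∀ a ∈ P, a * c = c * a) (hcQ : ∀ b ∈ Q, b * c = c * b) : c ∈ P ⊔ Q := by
  by_contra hcM
  have hcomm := h.commute h2
  have hinf := h.inf_eq_bot h2
  have hmemM : ∀ {x : S}, x ∈ P ⊔ Q ↔ ∃ a ∈ P, ∃ b ∈ Q, a * b = x :=
    mem_sup_of_normalizes h.nPQ
  have hcon : ¬ Subgroup.centralizer ((P ⊔ Q : Subgroup S) : Set S) ≤ P ⊔ Q := by
    intro hle
    apply hcM
    apply hle
    rw [Subgroup.mem_centralizer_iff]
    intro m hm
    obtain ⟨a, ha, b, hb, rfl⟩ := hmemM.mp hm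
    rw [mul_assoc, hcQ b hb, ← mul_assoc, hcP a ha, mul_assoc]
  obtain ⟨d, hdC, hdM, hd2⟩ := exists_sq_mem h2 (P ⊔ Q) _ hcon
  set F : Subgroup S := Sq P ⊔ Sq Q with hF
  set H : Subgroup S := Subgroup.zpowers d ⊔ (P ⊔ Q) with hH
  have hdcomm : ∀ m ∈ P ⊔ Q, m * d = d * m := fun m hm =>
    Subgroup.mem_centralizer_iff.mp hdC m hm
  have hdk : ∀ (k : ℤ), ∀ m ∈ P ⊔ Q, m * d ^ k = d ^ k * m := by
    intro k m hm
    exact ((Commute.zpow_right (hdcomm m hm) k)).eq
  have hmemH : ∀ {x : S}, x ∈ H ↔ ∃ y ∈ Subgroup.zpowers d, ∃ m ∈ P ⊔ Q, y * m = x := by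
    apply mem_sup_of_normalizes
    intro y hy m hm
    obtain ⟨k, rfl⟩ := Subgroup.mem_zpowers_iff.mp hy
    rw [← hdk k m hm]
    simpa using hm
  -- d^2 ∈ F
  have hd2F : d ^ 2 ∈ F := by
    obtain ⟨a0, ha0, b0, hb0, hab⟩ := hmemM.mp hd2
    have hd2c : ∀ m ∈ P ⊔ Q, m * (a0 * b0) = (a0 * b0) * m := by
      intro m hm
      rw [hab, pow_two]
      have := hdcomm m hm
      rw [← mul_assoc, this, mul_assoc, this, ← mul_assoc]
    have ha0c : ∀ x ∈ P, x * a0 = a0 * x := by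
      intro x hx
      have h1 := hd2c x (Subgroup.mem_sup_left hx)
      have h2' := hcomm x hx b0 hb0
      have : x * a0 * b0 = a0 * x * b0 := by
        calc x * a0 * b0 = x * (a0 * b0) := by group
          _ = a0 * b0 * x := h1
          _ = a0 * (b0 * x) := by group
          _ = a0 * (x * b0) := by rw [h2']
          _ = a0 * x * b0 := by group
      exact mul_right_cancel this
    have hb0c : ∀ y ∈ Q, y * b0 = b0 * y := by
      intro y hy
      have h1 := hd2c y (Subgroup.mem_sup_right hy)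
      have h2' := hcomm a0 ha0 y hy
      have : a0 * (y * b0) = a0 * (b0 * y) := by
        calc a0 * (y * b0) = (a0 * y) * b0 := by group
          _ = (y * a0) * b0 := by rw [h2']
          _ = y * (a0 * b0) := by group
          _ = a0 * b0 * y := h1
          _ = a0 * (b0 * y) := by group
      exact mul_left_cancel this
    rw [← hab]
    refine Subgroup.mul_mem _ (Subgroup.mem_sup_left ?_) (Subgroup.mem_sup_right ?_)
    · rcases h.hP.cen a0 ha0 ha0c with h1 | h1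
      · rw [h1]; exact Subgroup.one_mem _
      · rw [h1]; exact h.hP.mem_Sq h2
    · rcases h.hQ.cen b0 hb0 hb0c with h1 | h1
      · rw [h1]; exact Subgroup.one_mem _
      · rw [h1]; exact h.hQ.mem_Sq h2
  -- K1: squares of H lie in F
  have hK1 : ∀ x ∈ H, x ^ 2 ∈ F := by
    intro x hx
    obtain ⟨y, hy, m, hm, rfl⟩ := hmemH.mp hx
    obtain ⟨a, ha, b, hb, rfl⟩ := hmemM.mp hm
    obtain ⟨k, rfl⟩ := Subgroup.mem_zpowers_iff.mp hy
    have hab := hcomm a ha b hb
    have e : (d ^ k * (a * b)) ^ 2 = (d ^ 2) ^ k * (a ^ 2 * b ^ 2) := by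
      have h1 := hdk k (a * b) hm
      calc (d ^ k * (a * b)) ^ 2 = d ^ k * ((a * b) * d ^ k) * (a * b) := by rw [pow_two]; group
        _ = d ^ k * (d ^ k * (a * b)) * (a * b) := by rw [h1]
        _ = (d ^ k * d ^ k) * (a * (b * a) * b) := by group
        _ = (d ^ k * d ^ k) * (a * (a * b) * b) := by rw [hab]
        _ = (d ^ 2) ^ k * (a ^ 2 * b ^ 2) := by
          rw [pow_two d, (Commute.refl d).mul_zpow k, pow_two a, pow_two b]
          group
    rw [e]
    refine Subgroup.mul_mem _ (Subgroup.zpow_mem _ hd2F k) (Subgroup.mul_mem _ ?_ ?_)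
    · exact Subgroup.mem_sup_left (sq_mem_Sq ha)
    · exact Subgroup.mem_sup_right (sq_mem_Sq hb)
  have hFM : F ≤ P ⊔ Q := sup_le ((Sq_le P).trans le_sup_left) ((Sq_le Q).trans le_sup_right)
  have hMH : P ⊔ Q ≤ H := le_sup_right
  have hFH : F ≤ H := hFM.trans hMH
  -- H normalizes F
  have hnormF : ∀ g ∈ H, ∀ n ∈ F, g * n * g⁻¹ ∈ F := by
    have key : ∀ g : S, (∀ x ∈ P, g * x * g⁻¹ ∈ P) → (∀ x ∈ Q, g * x * g⁻¹ ∈ Q) →
        ∀ n ∈ F, g * n * g⁻¹ ∈ F := by
      intro g hgP hgQ n hn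
      have hle : F ≤ F.comap (cj g) := by
        apply sup_le
        · intro y hy
          exact Subgroup.mem_sup_left (conj_mem_Sq hgP hy)
        · intro y hy
          exact Subgroup.mem_sup_right (conj_mem_Sq hgQ hy)
      exact hle hn
    intro g hg
    obtain ⟨y, hy, m, hm, rfl⟩ := hmemH.mp hg
    obtain ⟨a, ha, b, hb, rfl⟩ := hmemM.mp hm
    obtain ⟨k, rfl⟩ := Subgroup.mem_zpowers_iff.mp hy
    apply key
    · intro x hx
      have h1 := hdk k x (Subgroup.mem_sup_left hx)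
      have h2' := hcomm x hx b hb
      have e : d ^ k * (a * b) * x * (d ^ k * (a * b))⁻¹ = a * x * a⁻¹ := by
        calc d ^ k * (a * b) * x * (d ^ k * (a * b))⁻¹
            = d ^ k * a * (b * x) * b⁻¹ * a⁻¹ * (d ^ k)⁻¹ := by group
          _ = d ^ k * a * (x * b) * b⁻¹ * a⁻¹ * (d ^ k)⁻¹ := by rw [h2']
          _ = d ^ k * (a * x * a⁻¹) * (d ^ k)⁻¹ := by group
          _ = (a * x * a⁻¹) * d ^ k * (d ^ k)⁻¹ := by
            rw [hdk k (a * x * a⁻¹) (Subgroup.mem_sup_left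
              (P.mul_mem (P.mul_mem ha hx) (P.inv_mem ha)))]
          _ = a * x * a⁻¹ := by group
      rw [e]
      exact P.mul_mem (P.mul_mem ha hx) (P.inv_mem ha)
    · intro x hx
      have h2' := hcomm a ha (b * x * b⁻¹) (Q.mul_mem (Q.mul_mem hb hx) (Q.inv_mem hb))
      have e : d ^ k * (a * b) * x * (d ^ k * (a * b))⁻¹ = b * x * b⁻¹ := by
        calc d ^ k * (a * b) * x * (d ^ k * (a * b))⁻¹
            = d ^ k * (a * (b * x * b⁻¹)) * a⁻¹ * (d ^ k)⁻¹ := by group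
          _ = d ^ k * ((b * x * b⁻¹) * a) * a⁻¹ * (d ^ k)⁻¹ := by rw [h2']
          _ = d ^ k * (b * x * b⁻¹) * (d ^ k)⁻¹ := by group
          _ = (b * x * b⁻¹) * d ^ k * (d ^ k)⁻¹ := by
            rw [hdk k (b * x * b⁻¹) (Subgroup.mem_sup_right
              (Q.mul_mem (Q.mul_mem hb hx) (Q.inv_mem hb)))]
          _ = b * x * b⁻¹ := by group
      rw [e]
      exact Q.mul_mem (Q.mul_mem hb hx) (Q.inv_mem hb)
  -- cards
  have hcF : Nat.card F ≤ Nat.card (Sq P) * Nat.card (Sq Q) := by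
    have hB : Sq Q ≤ Subgroup.normalizer ((Sq P : Subgroup S) : Set S) := by
      apply Cfsg.Agent.Helper14.le_normalizer_of_map_cj_le
      intro g hg
      rintro _ ⟨x, hx, rfl⟩
      have := hcomm x (Sq_le P hx) g (Sq_le Q hg)
      change g * x * g⁻¹ ∈ Sq P
      rw [← this]
      simpa using hx
    have h1 := Cfsg.Agent.Helper17.card_sup_mul_card_inf (Sq P) (Sq Q) hB
    rw [← h1]
    exact Nat.le_mul_of_pos_right _ Nat.card_pos
  have hcM : Nat.card (P ⊔ Q : Subgroup S) = Nat.card P * Nat.card Q := by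
    have hB : Q ≤ Subgroup.normalizer ((P : Subgroup S) : Set S) := by
      apply Cfsg.Agent.Helper14.le_normalizer_of_map_cj_le
      intro g hg
      rintro _ ⟨x, hx, rfl⟩
      exact h.nQP g hg x hx
    have h1 := Cfsg.Agent.Helper17.card_sup_mul_card_inf P Q hB
    rw [hinf, Subgroup.card_bot, mul_one] at h1
    exact h1
  have hcP := h.hP.four_mul_card_Sq_le h2
  have hcQ := h.hQ.four_mul_card_Sq_le h2
  have hcH : 2 * Nat.card (P ⊔ Q : Subgroup S) ≤ Nat.card H := by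
    have h3 : (P ⊔ Q).relIndex H * Nat.card (P ⊔ Q : Subgroup S) = Nat.card H := by
      have := Subgroup.relIndex_mul_relIndex (⊥ : Subgroup S) (P ⊔ Q) H bot_le hMH
      rwa [Subgroup.relIndex_bot_left, Subgroup.relIndex_bot_left, mul_comm] at this
    have h4 : (P ⊔ Q).relIndex H ≠ 1 := by
      intro h
      rw [Subgroup.relIndex_eq_one] at h
      exact hdM (h (Subgroup.mem_sup_left (Subgroup.mem_zpowers d)))
    have h5 : (P ⊔ Q).relIndex H ≠ 0 := by
      intro h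
      rw [h, zero_mul] at h3
      exact (Nat.card_pos (α := H)).ne' h3.symm
    have h6 : 2 ≤ (P ⊔ Q).relIndex H := by omega
    rw [← h3]
    exact Nat.mul_le_mul_right _ h6
  have hle := card_le_of_sq hr H F hFH hnormF hK1
  have hFpos : 0 < Nat.card F := Nat.card_pos
  have hPpos : 0 < Nat.card (Sq P) := Nat.card_pos
  have hQpos : 0 < Nat.card (Sq Q) := Nat.card_pos
  nlinarith

end Pair

end Cfsg.Agent.Helper3.SecRank
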