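import Mathlib
import Cfsg.Prelude.Def_ClassicalGeometry
import Cfsg.Agent.Helper17.S2482GDefs

/-! # S2482 chapter (G), piece SPCONJ: an isometry of the spaces of two symplectic matrices conjugates them -/

set_option autoImplicit false

namespace Cfsg.Agent.S2482P

open Polynomial Cfsg.Agent.Helper2.SympInvol Cfsg.Agent.S5955P Cfsg.Agent.S5961P Cfsg.Agent.S2676P
  Cfsg.Agent.S2478P Cfsg.Agent.S2481P

universe u

variable {F : Type u} [Field F]

namespace SPCONJ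

theorem isConj_of_iso {n : ℕ} (g g' : Matrix.symplecticGroup (Fin n) F)
    (h : (ofSp g).Iso (ofSp g')) : IsConj g g' := by
  obtain ⟨φ, hB, hφ⟩ := h
  -- unfold the bundled data
  change (Fin n ⊕ Fin n → F) ≃ₗ[F] (Fin n ⊕ Fin n → F) at φ
  have hB' : ∀ u v : Fin n ⊕ Fin n → F, sB n F (φ u) (φ v) = sB n F u v := hB
  have hφ' : ∀ v : Fin n ⊕ Fin n → F,
      φ (Matrix.toLin' (g : Matrix (Fin n ⊕ Fin n) (Fin n ⊕ Fin n) F) v) =
        Matrix.toLin' (g' : Matrix (Fin n ⊕ Fin n) (Fin n ⊕ Fin n) F) (φ v) := hφ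
  set A : Matrix (Fin n ⊕ Fin n) (Fin n ⊕ Fin n) F := LinearMap.toMatrix' (φ : (Fin n ⊕ Fin n → F) →ₗ[F] (Fin n ⊕ Fin n → F)) with hA
  have hAlin : Matrix.toLin' A = (φ : (Fin n ⊕ Fin n → F) →ₗ[F] (Fin n ⊕ Fin n → F)) := by
    rw [hA, Matrix.toLin'_toMatrix']
  have hAmem : A ∈ Matrix.symplecticGroup (Fin n) F := by
    apply mem_symplectic_of_isometry
    intro u v
    rw [hAlin]
    exact hB' u v
  have hcomm : A * (g : Matrix (Fin n ⊕ Fin n) (Fin n ⊕ Fin n) F) =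
      (g' : Matrix (Fin n ⊕ Fin n) (Fin n ⊕ Fin n) F) * A := by
    apply Matrix.toLin'.injective
    rw [Matrix.toLin'_mul, Matrix.toLin'_mul, hAlin]
    refine LinearMap.ext (fun v => ?_)
    rw [LinearMap.comp_apply, LinearMap.comp_apply]
    exact hφ' v
  rw [isConj_iff]
  refine ⟨⟨A, hAmem⟩, ?_⟩
  have hc : (⟨A, hAmem⟩ : Matrix.symplecticGroup (Fin n) F) * g = g' * ⟨A, hAmem⟩ := by
    apply Subtype.ext
    exact hcomm
  rw [hc, mul_assoc, mul_inv_cancel, mul_one]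

end SPCONJ

end Cfsg.Agent.S2482P
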