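import Mathlib
import Cfsg.Prelude.Def_Classical
import Cfsg.Agent.Helper8.MatBNDefs
import Cfsg.Agent.Helper8.S2546Defs
import Cfsg.Agent.Helper17.S2546PRES
import Cfsg.Agent.Helper17.S2546XMEM
import Cfsg.Agent.Helper17.S2546SUPP
import Cfsg.Agent.Helper17.S2547Defs

set_option autoImplicit false
open scoped Matrix

/-! # S2547 piece XNEO: nontrivial root elements exist in `SO(J)`, `n` odd, `2 ≠ 0`. -/

namespace Cfsg.Agent.S2547P

open Cfsg.Agent.MatBN Cfsg.Agent.S2546P Cfsg.Agent.S2546P.SUPP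

variable {K : Type*} [Field K]

/-- XNEO -/
theorem exists_X_ne_one_odd (h2 : (2 : K) ≠ 0) (n : ℕ) (hn : n % 2 = 1) (j : ℕ) (hj : j < n / 2) :
    ∃ x ∈ XsetO K n j, x ≠ 1 := by
  have hσ : ∀ x : K, (RingHom.id K) ((RingHom.id K) x) = x := fun x => rfl
  have key : ∀ (M : Matrix (Fin n) (Fin n) K) (a c : Fin n),
      PresJ (RingHom.id K) n M ∧ M.det = 1 →
      M ∈ XMat (RingHom.id K) n j → a ≠ c → M a c ≠ 0 → ∃ x ∈ XsetO K n j, x ≠ 1 := by
    rintro M a c ⟨hP, hdet⟩ hX hac hne
    obtain ⟨x, hx⟩ := exists_of_presJ (RingHom.id K) n M hdet hP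
    refine ⟨x, ?_, ?_⟩
    · show rho (RingHom.id K) n x ∈ XMat (RingHom.id K) n j
      rw [hx]
      exact hX
    · intro h1
      apply hne
      rw [← hx, h1, map_one, Matrix.one_apply_ne hac]
  by_cases h1 : j + 1 < n / 2
  · apply key (xL (RingHom.id K) n j 1) ⟨j, by omega⟩ ⟨j + 1, by omega⟩
      (presJ_xL (RingHom.id K) hσ n j h1 1)
    · unfold XMat
      rw [if_pos h1]
      exact ⟨1, rfl⟩
    · intro h
      have := congrArg Fin.val h
      simp at this
    · rw [xL_apply]
      have e0 : ¬ ((⟨j, by omega⟩ : Fin n) = ⟨j + 1, by omega⟩) := by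
        intro h
        have := congrArg Fin.val h
        simp at this
      have e2 : ¬ ((⟨j, by omega⟩ : Fin n).val = n - 2 - j ∧
          (⟨j + 1, by omega⟩ : Fin n).val = n - 1 - j) := by
        simp only
        omega
      rw [if_neg e0, if_pos ⟨rfl, rfl⟩, if_neg e2]
      simp
  · have hj' : j = n / 2 - 1 := by omega
    have h2' : ¬ (n % 2 = 0) := by omega
    have hn3 : 3 ≤ n := by omega
    have hab : (-(1 / 2 : K)) + (RingHom.id K) (-(1 / 2 : K)) + 1 * (RingHom.id K) 1 = 0 := by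
      simp only [RingHom.id_apply]
      field_simp
      ring
    apply key (xO (RingHom.id K) n 1 (-(1 / 2 : K))) ⟨n / 2 - 1, by omega⟩ ⟨n / 2, by omega⟩
      (presJ_xO (RingHom.id K) hσ n hn hn3 1 (-(1 / 2 : K)) hab)
    · unfold XMat
      rw [if_neg h1, if_neg h2']
      exact ⟨1, -(1 / 2 : K), hab, rfl⟩
    · intro h
      have := congrArg Fin.val h
      simp only at this
      omega
    · rw [xO_apply]
      have e0 : ¬ ((⟨n / 2 - 1, by omega⟩ : Fin n) = ⟨n / 2, by omega⟩) := by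
        intro h
        have := congrArg Fin.val h
        simp only at this
        omega
      have e1 : ¬ ((⟨n / 2 - 1, by omega⟩ : Fin n).val = n / 2 - 1 ∧
          (⟨n / 2, by omega⟩ : Fin n).val = n / 2 + 1) := by
        simp only
        omega
      have e3 : ¬ ((⟨n / 2 - 1, by omega⟩ : Fin n).val = n / 2 ∧
          (⟨n / 2, by omega⟩ : Fin n).val = n / 2 + 1) := by
        simp only
        omega
      rw [if_neg e0, if_pos ⟨rfl, rfl⟩, if_neg e1, if_neg e3]
      simp

end Cfsg.Agent.S2547P
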