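import Mathlib
import Cfsg.Prelude.Def_Classical
import Cfsg.Agent.Helper8.MatBNDefs
import Cfsg.Agent.Helper8.S2546Defs
import Cfsg.Agent.Helper17.S2546TauVal
import Cfsg.Agent.Helper17.S2546SMEM
import Cfsg.Agent.Helper21.S2549Defs
import Cfsg.Agent.Helper18.S2549PRESJ
import Cfsg.Agent.Helper24.S2549TAU

set_option autoImplicit false
open scoped Matrix

/-! # S2549 piece SMEM (driver helper21): the permutation-matrix lifts of the simple reflections are
rational isometries of the split form, monomial with permutation `tauM m j`. -/

namespace Cfsg.Agent.S2549P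

open Cfsg.Agent.MatBN Cfsg.Agent.S2546P Cfsg.Agent.S2546P.SMEM17 Cfsg.Agent.S2546P.TAU17

variable {K : Type*} [Field K]

namespace SMEM

theorem swapM_val (m : ℕ) (i : Fin (2 * m + 2)) :
    (swapM m i).val = if i.val = m then m + 1 else if i.val = m + 1 then m else i.val := by
  unfold swapM
  rw [swap_val]

/-- the permutation matrix of a permutation commuting with `rev` and with the middle swap -/
theorem pres_pMat (σ : K →+* K) (m : ℕ) (π : Equiv.Perm (Fin (2 * m + 2)))
    (hrev : ∀ i, π i.rev = (π i).rev) (hsw : ∀ i, π (swapM m i) = swapM m (π i)) :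
    PresQ (2 * m + 2) (pMat (2 * m + 2) π : Matrix _ _ K) ∧
      Rat σ m (pMat (2 * m + 2) π : Matrix _ _ K) ∧
      Mon (pMat (2 * m + 2) π : Matrix (Fin (2 * m + 2)) (Fin (2 * m + 2)) K) π := by
  have hM : ∀ a c : Fin (2 * m + 2), a ≠ π c →
      (pMat (2 * m + 2) π : Matrix (Fin (2 * m + 2)) (Fin (2 * m + 2)) K) a c = 0 := by
    intro a c h
    unfold pMat
    rw [Matrix.of_apply, if_neg h]
  have hμ : ∀ c : Fin (2 * m + 2),
      (pMat (2 * m + 2) π : Matrix (Fin (2 * m + 2)) (Fin (2 * m + 2)) K) (π c) c = 1 := by
    intro c
    unfold pMat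
    rw [Matrix.of_apply, if_pos rfl]
  refine ⟨?_, ?_, mon_of _ _ hM (fun c => by rw [hμ]; exact one_ne_zero)⟩
  · rw [presQ_iff]
    constructor
    · exact presJ_of_mon (RingHom.id K) _ π hrev hM
        (fun c => by rw [hμ, hμ, map_one, mul_one])
    · intro c
      apply Finset.sum_eq_zero
      intro i _
      split_ifs with hi
      · by_cases h : i = π c
        · have h' : i.rev ≠ π c := by
            rw [← h]
            intro h2
            have := congrArg Fin.val h2
            rw [Fin.val_rev] at this
            omega
          rw [hM _ _ h', mul_zero]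
        · rw [hM _ _ h, zero_mul]
      · rfl
  · intro a c
    unfold pMat
    rw [Matrix.of_apply, Matrix.of_apply, apply_ite σ, map_one, map_zero]
    simp only [hsw, (swapM m).apply_eq_iff_eq]

end SMEM

open SMEM TAU

theorem pres_sM (σ : K →+* K) (m j : ℕ) (hj : j < m) :
    PresQ (2 * m + 2) (sM m j : Matrix _ _ K) ∧ Rat σ m (sM m j : Matrix _ _ K) ∧
      Mon (sM m j : Matrix (Fin (2 * m + 2)) (Fin (2 * m + 2)) K) (tauM m j) := by
  unfold sM
  apply pres_pMat
  · intro i
    unfold tauM
    by_cases h : j + 1 < m
    · rw [if_pos h]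
      exact tau_rev' _ _ i
    · rw [if_neg h]
      apply Fin.ext
      have := i.2
      rw [tauLast_val, Fin.val_rev, Fin.val_rev, tauLast_val]
      unfold lastNat
      split_ifs <;> omega
  · intro i
    unfold tauM
    have hi := i.2
    have hm : 1 ≤ m := by omega
    by_cases h : j + 1 < m
    · rw [if_pos h]
      apply Fin.ext
      rw [TAU17.tau_val, swapM_val, swapM_val, TAU17.tau_val]
      have h' : j + 1 < (2 * m + 2) / 2 := by omega
      have hv : ∀ x : ℕ, tv (2 * m + 2) j x = if x = j then j + 1 else if x = j + 1 then j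
          else if x = 2 * m + 2 - 2 - j then 2 * m + 2 - 1 - j
          else if x = 2 * m + 2 - 1 - j then 2 * m + 2 - 2 - j else x := by
        intro x
        unfold tv
        rw [if_pos h']
      have hvm : tv (2 * m + 2) j m = m := by
        rw [hv]
        split_ifs <;> omega
      have hvm1 : tv (2 * m + 2) j (m + 1) = m + 1 := by
        rw [hv]
        split_ifs <;> omega
      generalize i.val = x at *
      by_cases h1 : x = m
      · rw [if_pos h1, h1, hvm1, hvm, if_pos rfl]
      · rw [if_neg h1]
        by_cases h2 : x = m + 1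
        · rw [if_pos h2, h2, hvm1, hvm, if_neg (by omega), if_pos rfl]
        · rw [if_neg h2]
          have h3 : tv (2 * m + 2) j x ≠ m ∧ tv (2 * m + 2) j x ≠ m + 1 := by
            rw [hv]
            split_ifs <;> omega
          rw [if_neg h3.1, if_neg h3.2]
    · rw [if_neg h]
      apply Fin.ext
      rw [tauLast_val, swapM_val, swapM_val, tauLast_val]
      have hv : ∀ x : ℕ, lastNat m x = if x = m - 1 then m + 2 else if x = m + 2 then m - 1
          else if x = m then m + 1 else if x = m + 1 then m else x := by
        intro x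
        unfold lastNat
        rw [if_pos hm]
      have hvm : lastNat m m = m + 1 := by
        rw [hv]
        split_ifs <;> omega
      have hvm1 : lastNat m (m + 1) = m := by
        rw [hv]
        split_ifs <;> omega
      generalize i.val = x at *
      by_cases h1 : x = m
      · rw [if_pos h1, h1, hvm1, hvm, if_neg (by omega), if_pos rfl]
      · rw [if_neg h1]
        by_cases h2 : x = m + 1
        · rw [if_pos h2, h2, hvm1, hvm, if_pos rfl]
        · rw [if_neg h2]
          have h3 : lastNat m x ≠ m ∧ lastNat m x ≠ m + 1 := by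
            rw [hv]
            split_ifs <;> omega
          rw [if_neg h3.1, if_neg h3.2]

end Cfsg.Agent.S2549P
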