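import Mathlib
import Cfsg.Agent.Helper7.S2862Defs
import Cfsg.Agent.Helper14.PCore
import Cfsg.Agent.Helper3.S2862COP

/-! Board `s2862pieces`, row LS (`lemmaS`): a nontrivial `p'`-element of `H` acts nontrivially on some chief factor of
`H` inside `O_p(H)`. -/

set_option autoImplicit false
set_option linter.unusedVariables false

namespace Cfsg.Agent.S2862P

open Cfsg
open Cfsg.Agent.Helper14 (cj)
open Subgroup
open scoped commutatorElement

variable {G : Type*} [Group G] [Finite G] {p : ℕ} [Fact p.Prime]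
variable {H Y D L L0 Vt Vb : Subgroup G}

/-- LS (Lemma S) -/
theorem lemmaS (hchar : H ⊓ centralizer ((pCoreOf p H : Subgroup G) : Set G) ≤ pCoreOf p H)
    {g : G} (hgH : g ∈ H) (hg : (orderOf g).Coprime p) (hg1 : g ≠ 1) :
    ∃ Vt Vb : Subgroup G, ChiefPair p H Vt Vb ∧ ¬ TrivOn g Vt Vb := by
  have hVH : pCoreOf p H ≤ H := Cfsg.Agent.Helper14.pCoreOf_le p H
  have hVp : IsPGroup p ↥(pCoreOf p H) := Cfsg.Agent.Helper14.pCoreOf_isPGroup p H
  -- `g` is not trivial on `O_p(H)`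
  have h0 : ¬ TrivOn g (pCoreOf p H) ⊥ := by
    intro ht
    have hgc : g ∈ centralizer ((pCoreOf p H : Subgroup G) : Set G) := by
      rw [mem_centralizer_iff]
      intro v hv
      have h1 := ht v hv
      rw [mem_bot, commutatorElement_eq_one_iff_mul_comm] at h1
      exact h1
    have hgV : g ∈ pCoreOf p H := hchar (mem_inf.mpr ⟨hgH, hgc⟩)
    obtain ⟨k, hk⟩ := hVp ⟨g, hgV⟩
    have hk' : g ^ (p ^ k) = 1 := by
      have := congrArg Subtype.val hk
      simpa using this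
    have hdvd : orderOf g ∣ p ^ k := orderOf_dvd_of_pow_eq_one hk'
    have h1 : orderOf g ∣ 1 := by
      have := Nat.dvd_gcd (dvd_refl (orderOf g)) hdvd
      rwa [(Nat.Coprime.pow_right k hg).gcd_eq_one] at this
    exact hg1 (orderOf_eq_one_iff.mp (Nat.dvd_one.mp h1))
  -- minimal `H`-invariant `Vt ≤ O_p(H)` on which `g` is not trivial
  let 𝒮 : Set (Subgroup G) :=
    {Z | Z ≤ pCoreOf p H ∧ H ≤ normalizer (Z : Set G) ∧ ¬ TrivOn g Z ⊥}
  have h𝒮 : 𝒮.Nonempty := ⟨pCoreOf p H, le_rfl, Cfsg.Agent.Helper14.le_normalizer_pCoreOf p H, h0⟩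
  obtain ⟨Vt, hVt𝒮, hVtmin⟩ := (wellFounded_lt (α := Subgroup G)).has_min 𝒮 h𝒮
  obtain ⟨hVtle, hVtn, hVtg⟩ := hVt𝒮
  have hVtbot : Vt ≠ ⊥ := by
    intro hb
    apply hVtg
    intro v hv
    rw [hb, mem_bot] at hv
    subst hv
    simp [commutatorElement_def]
  -- maximal proper `H`-invariant `Vb < Vt`
  let 𝒯 : Set (Subgroup G) := {Z | Z < Vt ∧ H ≤ normalizer (Z : Set G)}
  have h𝒯 : 𝒯.Nonempty := ⟨⊥, bot_lt_iff_ne_bot.mpr hVtbot, by
    intro x _
    rw [mem_normalizer_iff]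
    intro y
    simp only [mem_bot]
    constructor
    · intro hy; subst hy; simp
    · intro hy
      have : y = x⁻¹ * (x * y * x⁻¹) * x := by group
      rw [this, hy]; simp⟩
  obtain ⟨Vb, hVb𝒯, hVbmax⟩ := (wellFounded_gt (α := Subgroup G)).has_min 𝒯 h𝒯
  obtain ⟨hVblt, hVbn⟩ := hVb𝒯
  have hCP : ChiefPair p H Vt Vb := by
    refine ⟨hVblt, hVtle, hVtn, hVbn, ?_⟩
    intro Z hZn hbZ hZt
    by_cases hZ : Z = Vt
    · exact Or.inr hZ
    · left
      have hZlt : Z < Vt := lt_of_le_of_ne hZt hZ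
      by_contra hne
      exact hVbmax Z ⟨hZlt, hZn⟩ (lt_of_le_of_ne hbZ (Ne.symm hne))
  refine ⟨Vt, Vb, hCP, ?_⟩
  intro ht
  -- `g` is trivial on `Vb` by minimality of `Vt`
  have hb : TrivOn g Vb ⊥ := by
    by_contra hnb
    exact hVtmin Vb ⟨hVblt.le.trans hVtle, hVbn, hnb⟩ hVblt
  apply hVtg
  refine triv_of_coprime hg (hVp.to_le hVtle) bot_le hVblt.le ?_ ((hVtle.trans hVH).trans hVbn)
    (hVtn hgH) (hVbn hgH) ?_ ht hb
  · intro x _
    rw [mem_normalizer_iff]
    intro y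
    simp only [mem_bot]
    constructor
    · intro hy; subst hy; simp
    · intro hy
      have : y = x⁻¹ * (x * y * x⁻¹) * x := by group
      rw [this, hy]; simp
  · rw [mem_normalizer_iff]
    intro y
    simp only [mem_bot]
    constructor
    · intro hy; subst hy; simp
    · intro hy
      have : y = g⁻¹ * (g * y * g⁻¹) * g := by group
      rw [this, hy]; simp

end Cfsg.Agent.S2862P
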