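import Mathlib
import Cfsg.Agent.Helper7.S2862Defs
import Cfsg.Agent.Helper14.PCore
import Cfsg.Agent.Helper3.S2862COP
import Cfsg.Agent.Helper3.S2862LS

/-! Board `s2862pieces`, rows NCE (`exists_noncentral`) and S5b. -/

set_option autoImplicit false
set_option linter.unusedVariables false

namespace Cfsg.Agent.S2862P

open Cfsg
open Cfsg.Agent.Helper14 (cj)
open Subgroup
open scoped commutatorElement

variable {G : Type*} [Group G] [Finite G] {p : ℕ} [Fact p.Prime]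
variable {H Y D L L0 Vt Vb : Subgroup G}

/-- an element of a finite group which is not a `p`-element has a nontrivial `p'`-power -/
theorem NCE_aux_pprime_power {x : G} (hx : ∀ k : ℕ, x ^ (p ^ k) ≠ 1) :
    ∃ a : ℕ, x ^ (p ^ a) ≠ 1 ∧ (orderOf (x ^ (p ^ a))).Coprime p := by
  have hp : p.Prime := Fact.out
  have hn : orderOf x ≠ 0 := (orderOf_pos x).ne'
  obtain ⟨a, m, hm, hnm⟩ := Nat.exists_eq_pow_mul_and_not_dvd hn p hp.ne_one
  refine ⟨a, hx a, ?_⟩
  have h1 : (x ^ (p ^ a)) ^ m = 1 := by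
    rw [← pow_mul, ← hnm, pow_orderOf_eq_one]
  have hdvd : orderOf (x ^ (p ^ a)) ∣ m := orderOf_dvd_of_pow_eq_one h1
  have hcop : Nat.Coprime m p := ((Nat.Prime.coprime_iff_not_dvd hp).mpr hm).symm
  exact Nat.Coprime.coprime_dvd_left hdvd hcop

/-- NCE : a noncentral chief factor exists. -/
theorem exists_noncentral (K : KHyp p H Y D L L0) :
    ∃ Vt Vb : Subgroup G, ChiefPair p H Vt Vb ∧ Noncentral H Vt Vb := by
  have hnp : ¬ IsPGroup p ↥H := by
    intro hH
    apply K.hYV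
    have h1 : H ≤ pCoreOf p H := Cfsg.Agent.Helper14.le_pCoreOf p le_rfl le_normalizer hH
    exact (K.hYD.trans K.hDH).trans h1
  unfold IsPGroup at hnp
  push Not at hnp
  obtain ⟨x, hx⟩ := hnp
  have hx' : ∀ k : ℕ, (x : G) ^ (p ^ k) ≠ 1 := by
    intro k hk
    apply hx k
    apply Subtype.ext
    simpa using hk
  obtain ⟨a, ha1, hacop⟩ := NCE_aux_pprime_power hx'
  obtain ⟨Vt, Vb, hC, hnt⟩ := lemmaS K.hchar (H.pow_mem x.2 (p ^ a)) hacop ha1
  exact ⟨Vt, Vb, hC, noncentral_of_not_triv hC (H.pow_mem x.2 (p ^ a)) hnt⟩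

/-- S5b : elements trivial on all chief factors lie in `O_p(H)`. -/
theorem S5b (hchar : H ⊓ centralizer ((pCoreOf p H : Subgroup G) : Set G) ≤ pCoreOf p H) {a : G} (haH : a ∈ H)
    (h : ∀ Vt Vb : Subgroup G, ChiefPair p H Vt Vb → TrivOn a Vt Vb) : a ∈ pCoreOf p H := by
  -- the subgroup of the elements of `H` trivial on every chief factor
  let N : Subgroup G :=
    { carrier := {x | x ∈ H ∧ ∀ Vt Vb : Subgroup G, ChiefPair p H Vt Vb → TrivOn x Vt Vb}
      one_mem' := ⟨H.one_mem, fun _ _ _ => COP_aux_one⟩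
      mul_mem' := fun {x y} hx hy =>
        ⟨H.mul_mem hx.1 hy.1, fun Vt Vb hC => COP_aux_mul (hC.nb hx.1) (hx.2 Vt Vb hC) (hy.2 Vt Vb hC)⟩
      inv_mem' := fun {x} hx =>
        ⟨H.inv_mem hx.1, fun Vt Vb hC => COP_aux_inv (hC.nb hx.1) (hx.2 Vt Vb hC)⟩ }
  have hNH : N ≤ H := fun x hx => hx.1
  have hNn : H ≤ normalizer (N : Set G) := by
    -- conjugation by `k ∈ H` preserves `N`
    have key : ∀ k ∈ H, ∀ x ∈ N, k * x * k⁻¹ ∈ N := by
      intro k hk x hx
      refine ⟨H.mul_mem (H.mul_mem hk hx.1) (H.inv_mem hk), ?_⟩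
      intro Vt Vb hC v hv
      have hv' : k⁻¹ * v * k ∈ Vt := by
        have := (mem_normalizer_iff.mp (hC.nt (H.inv_mem hk)) v).mp hv
        simpa using this
      have h1 : ⁅k⁻¹ * v * k, x⁆ ∈ Vb := hx.2 Vt Vb hC _ hv'
      have e : ⁅v, k * x * k⁻¹⁆ = k * ⁅k⁻¹ * v * k, x⁆ * k⁻¹ := by
        simp only [commutatorElement_def]; group
      rw [e]
      exact (mem_normalizer_iff.mp (hC.nb hk) _).mp h1
    intro k hk
    rw [mem_normalizer_iff]
    intro x
    constructor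
    · intro hx; exact key k hk x hx
    · intro hx
      have := key k⁻¹ (H.inv_mem hk) _ hx
      have e : k⁻¹ * (k * x * k⁻¹) * k⁻¹⁻¹ = x := by group
      rwa [e] at this
  have hNp : IsPGroup p ↥N := by
    intro x
    by_contra hcon
    push Not at hcon
    have hx' : ∀ k : ℕ, (x : G) ^ (p ^ k) ≠ 1 := by
      intro k hk
      apply hcon k
      apply Subtype.ext
      simpa using hk
    obtain ⟨b, hb1, hbcop⟩ := NCE_aux_pprime_power hx'
    have hbN : (x : G) ^ (p ^ b) ∈ N := N.pow_mem x.2 _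
    obtain ⟨Vt, Vb, hC, hnt⟩ := lemmaS hchar hbN.1 hbcop hb1
    exact hnt (hbN.2 Vt Vb hC)
  exact Cfsg.Agent.Helper14.le_pCoreOf p hNH hNn hNp ⟨haH, h⟩

end Cfsg.Agent.S2862P
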