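import Mathlib
import Cfsg.Agent.Helper3.Conj
import Cfsg.Agent.Helper19.Sylow
import Cfsg.Agent.Lead.CoprimeSylow

set_option autoImplicit false
set_option linter.style.haveILetI false

namespace Cfsg.Agent.Helper3

open scoped Pointwise

variable {H : Type*} [Group H]

/-- In a group with a TI subgroup `B` (meeting its conjugates by outside elements trivially),
a Sylow `p`-subgroup of `B`, `p ∣ |B|`, is a Sylow `p`-subgroup of the group with normalizer
inside `B`. -/
theorem exists_sylow_le_of_TI [Finite H] (B : Subgroup H)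
    (hTI : ∀ h : H, h ∉ B → B ⊓ MulAut.conj h • B = ⊥) (p : ℕ) [Fact p.Prime]
    (hp : p ∣ Nat.card B) :
    ∃ S : Sylow p H, (S : Subgroup H) ≤ B ∧ Subgroup.normalizer ((S : Subgroup H) : Set H) ≤ B := by
  have P0 : Sylow p B := default
  set P := (P0 : Subgroup B).map B.subtype with hPdef
  have hPB : P ≤ B := Subgroup.map_subtype_le _
  have hPp : IsPGroup p P := P0.isPGroup'.map _
  have hP0 : P ≠ ⊥ := by
    intro h0
    have h1 : (P0 : Subgroup B) = ⊥ := by
      rwa [hPdef, Subgroup.map_eq_bot_iff_of_injective _ B.subtype_injective] at h0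
    have h2 := P0.card_eq_multiplicity
    rw [h1, Subgroup.card_bot] at h2
    have h3 : 0 < (Nat.card B).factorization p :=
      (Fact.out : p.Prime).factorization_pos_of_dvd Nat.card_pos.ne' hp
    have := Nat.one_lt_pow h3.ne' (Fact.out : p.Prime).one_lt
    omega
  have hN : Subgroup.normalizer (P : Set H) ≤ B := by
    intro x hx
    by_contra hxB
    have h1 : MulAut.conj x • P = P := (conj_smul_eq_iff_mem_normalizer x P).mpr hx
    have h2 : P ≤ B ⊓ MulAut.conj x • B :=
      le_inf hPB (by rw [← h1]; exact Subgroup.pointwise_smul_le_pointwise_smul_iff.mpr hPB)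
    rw [hTI x hxB] at h2
    exact hP0 (le_bot_iff.mp h2)
  obtain ⟨S, hPS⟩ := hPp.exists_le_sylow
  have hSP : (S : Subgroup H) = P := by
    by_contra hne
    have hlt : P < (S : Subgroup H) := lt_of_le_of_ne hPS (Ne.symm hne)
    obtain ⟨x, hxS, hxN, hxP⟩ := Cfsg.Agent.Helper19.exists_mem_normalizer_not_mem S.isPGroup' hlt
    have hxB := hN hxN
    have hQp : IsPGroup p (((S : Subgroup H) ⊓ B : Subgroup H).subgroupOf B) :=
      (S.isPGroup'.to_le inf_le_left).comap_subtype
    have hle : (P0 : Subgroup B) ≤ ((S : Subgroup H) ⊓ B : Subgroup H).subgroupOf B := by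
      intro y hy
      exact ⟨hPS (Subgroup.mem_map_of_mem _ hy), y.2⟩
    have hmax := P0.is_maximal' hQp hle
    have hx' : (⟨x, hxB⟩ : B) ∈ ((S : Subgroup H) ⊓ B : Subgroup H).subgroupOf B := ⟨hxS, hxB⟩
    rw [hmax] at hx'
    exact hxP (Subgroup.mem_map_of_mem B.subtype hx')
  exact ⟨S, hSP ▸ hPB, hSP ▸ hN⟩

/-- Burnside transfer: a Sylow `p`-subgroup inside an abelian subgroup `B` containing its
normalizer has a normal complement containing the commutator subgroup. -/
theorem exists_normal_compl_of_sylow_le_abelian [Finite H] (B : Subgroup H) [IsMulCommutative B]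
    (p : ℕ) [Fact p.Prime] (S : Sylow p H) (hSB : (S : Subgroup H) ≤ B)
    (hN : Subgroup.normalizer ((S : Subgroup H) : Set H) ≤ B) :
    ∃ K : Subgroup H, K.Normal ∧ commutator H ≤ K ∧ ¬ p ∣ Nat.card K := by
  have hcomm : ∀ a ∈ B, ∀ b ∈ B, a * b = b * a := by
    intro a ha b hb
    have := mul_comm' (⟨a, ha⟩ : B) ⟨b, hb⟩
    exact congrArg Subtype.val this
  have hNC : Subgroup.normalizer ((S : Subgroup H) : Set H)
      ≤ Subgroup.centralizer ((S : Subgroup H) : Set H) := by
    intro x hx
    rw [Subgroup.mem_centralizer_iff]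
    intro s hs
    exact hcomm s (hSB hs) x (hN hx)
  refine ⟨(MonoidHom.transferSylow S hNC).ker, inferInstance, ?_,
    MonoidHom.not_dvd_card_ker_transferSylow S hNC⟩
  rw [commutator_eq_closure, Subgroup.closure_le]
  rintro g ⟨g₁, g₂, rfl⟩
  rw [SetLike.mem_coe, MonoidHom.mem_ker, map_commutatorElement]
  set a := MonoidHom.transferSylow S hNC g₁
  set b := MonoidHom.transferSylow S hNC g₂
  have hab : a * b = b * a := Subtype.ext (hcomm a (hSB a.2) b (hSB b.2))
  rw [commutatorElement_def, hab]; group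

theorem eq_of_sup_eq_top (B L X : Subgroup H) [X.Normal] (hBL : B ⊓ L = ⊥) (hXL : X ≤ L)
    (h : B ⊔ X = ⊤) : X = L := by
  apply le_antisymm hXL
  intro l hl
  have hmem : l ∈ ((B ⊔ X : Subgroup H) : Set H) := by rw [h]; trivial
  rw [Subgroup.mul_normal] at hmem
  obtain ⟨b, hb, x, hx, rfl⟩ := hmem
  have hbL : b ∈ L := by
    have : b = b * x * x⁻¹ := by group
    rw [this]; exact L.mul_mem hl (L.inv_mem (hXL hx))
  have hb1 : b ∈ B ⊓ L := ⟨hb, hbL⟩
  rw [hBL, Subgroup.mem_bot] at hb1
  subst hb1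
  change 1 * x ∈ X
  rw [one_mul]; exact hx

/-- a finite group with an abelian maximal subgroup `B` that is TI is metabelian -/
theorem frob_abelian_derived [Finite H] (B : Subgroup H) (hB : IsCoatom B) [IsMulCommutative B]
    (hTI : ∀ h : H, h ∉ B → B ⊓ MulAut.conj h • B = ⊥) : derivedSeries H 2 = ⊥ := by
  classical
  set L := commutator H with hL
  have hLn : L.Normal := inferInstance
  have hK : ∀ p : ℕ, p.Prime → p ∣ Nat.card B → ∃ K : Subgroup H, L ≤ K ∧ ¬ p ∣ Nat.card K := by
    intro p hp hpB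
    haveI : Fact p.Prime := ⟨hp⟩
    obtain ⟨S, hSB, hN⟩ := exists_sylow_le_of_TI B hTI p hpB
    obtain ⟨K, -, hLK, hpK⟩ := exists_normal_compl_of_sylow_le_abelian B p S hSB hN
    exact ⟨K, hLK, hpK⟩
  have hcop : (Nat.card B).Coprime (Nat.card L) := by
    apply Nat.coprime_of_dvd
    intro p hp hpB hpL
    obtain ⟨K, hLK, hpK⟩ := hK p hp hpB
    exact hpK (hpL.trans (Subgroup.card_dvd_of_le hLK))
  have hBL : B ⊓ L = ⊥ := (Subgroup.disjoint_of_coprime_natCard hcop).eq_bot
  have hd1 : derivedSeries H 1 = L := by rw [derivedSeries_one]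
  rw [show (2 : ℕ) = 1 + 1 from rfl, derivedSeries_succ, hd1]
  by_cases hL0 : L = ⊥
  · rw [hL0]; exact Subgroup.commutator_bot_left ⊥
  · have hBLtop : ∀ X : Subgroup H, X ≤ L → X ≠ ⊥ → B ⊔ X = ⊤ := by
      intro X hXL hX0
      apply hB.2
      apply lt_of_le_of_ne le_sup_left
      intro heq
      apply hX0
      have hXB : X ≤ B := by rw [heq]; exact le_sup_right
      rw [eq_bot_iff, ← hBL]; exact le_inf hXB hXL
    obtain ⟨r, hr, hrL⟩ := Nat.exists_prime_and_dvd (n := Nat.card L)
      (by intro h1; exact hL0 (Subgroup.card_eq_one.mp h1))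
    haveI : Fact r.Prime := ⟨hr⟩
    have hBNL : B ≤ Subgroup.normalizer (L : Set H) := by
      rw [Subgroup.normalizer_eq_top_iff.mpr hLn]; exact le_top
    have hBsolv : Group.IsSolvable B := Group.isSolvable_of_comm (fun a b => mul_comm' a b)
    obtain ⟨R, hR⟩ := Cfsg.Agent.Lead.coprime_exists_invariant_sylow B L hBNL hcop
      (Or.inl hBsolv) r
    set R₀ := (R : Subgroup L).map L.subtype with hR₀
    have hR₀L : R₀ ≤ L := Subgroup.map_subtype_le _
    have hR₀0 : R₀ ≠ ⊥ := by
      intro h0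
      have h1 : (R : Subgroup L) = ⊥ := by
        rwa [hR₀, Subgroup.map_eq_bot_iff_of_injective _ L.subtype_injective] at h0
      have h2 := R.card_eq_multiplicity
      rw [h1, Subgroup.card_bot] at h2
      have h3 : 0 < (Nat.card L).factorization r :=
        hr.factorization_pos_of_dvd Nat.card_pos.ne' hrL
      have := Nat.one_lt_pow h3.ne' hr.one_lt
      omega
    have htop := hBLtop R₀ hR₀L hR₀0
    haveI hR₀n : R₀.Normal := by
      rw [← Subgroup.normalizer_eq_top_iff, eq_top_iff, ← htop]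
      exact sup_le hR Subgroup.le_normalizer
    have hRL : R₀ = L := eq_of_sup_eq_top B L R₀ hBL hR₀L htop
    have hLr : IsPGroup r L := by rw [← hRL]; exact R.isPGroup'.map _
    haveI : Nontrivial L := (Subgroup.nontrivial_iff_ne_bot L).mpr hL0
    haveI : Group.IsNilpotent L := hLr.isNilpotent
    have hlt := Group.IsSolvable.commutator_lt_top_of_nontrivial L
    have hL'ne : ⁅L, L⁆ ≠ L := by
      intro heq
      have h1 : (commutator L).map L.subtype = (⊤ : Subgroup L).map L.subtype := by
        rw [Subgroup.map_subtype_commutator, heq, ← MonoidHom.range_eq_map, Subgroup.range_subtype]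
      exact hlt.ne (Subgroup.map_injective L.subtype_injective h1)
    by_contra hne
    have htop' := hBLtop ⁅L, L⁆ (Subgroup.commutator_le_self L) hne
    exact hL'ne (eq_of_sup_eq_top B L ⁅L, L⁆ hBL (Subgroup.commutator_le_self L) htop')

end Cfsg.Agent.Helper3
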