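import Mathlib
import Cfsg.Agent.Helper25.S3913OVER
import Cfsg.Agent.Helper25.S3913COP

/-! s3913pieces PRIME: a normal subgroup `M` of prime order `q` containing all elements of order `q`, with `SProp (X ⧸ M)`,
gives `SProp X` (OVER when `q ∣ |A|`, COP otherwise). -/

set_option autoImplicit false

namespace Cfsg.Agent.S3913P

open Cfsg.Agent.S3911P Cfsg.Agent.S3913P

theorem PRIME_aux_le {X : Type*} [Group X] [Finite X] (M : Subgroup X)
    (q : ℕ) (hq : q.Prime) (hM : Nat.card ↥M = q) (habs : ∀ x : X, orderOf x = q → x ∈ M)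
    (A : Subgroup X) (hqA : q ∣ Nat.card ↥A) : M ≤ A := by
  haveI : Fact q.Prime := ⟨hq⟩
  obtain ⟨x, hx⟩ := exists_prime_orderOf_dvd_card' (G := ↥A) q hqA
  have hxo : orderOf (x : X) = q := by rw [Subgroup.orderOf_coe, hx]
  have hxM : (x : X) ∈ M := habs _ hxo
  have hle : Subgroup.zpowers (x : X) ≤ M := Subgroup.zpowers_le.mpr hxM
  have heq : Subgroup.zpowers (x : X) = M := by
    apply Subgroup.eq_of_le_of_card_ge hle
    rw [Nat.card_zpowers, hxo, hM]
  rw [← heq]
  exact Subgroup.zpowers_le.mpr x.2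

theorem PRIME {X : Type*} [Group X] [Finite X] (hsol : Group.IsSolvable X) (M : Subgroup X) [M.Normal]
    (q : ℕ) (hq : q.Prime) (hM : Nat.card ↥M = q) (habs : ∀ x : X, orderOf x = q → x ∈ M)
    (hquot : SProp (X ⧸ M)) : SProp X := by
  intro A B h
  by_cases hqA : q ∣ Nat.card ↥A
  · exact OVER M hquot A B (PRIME_aux_le M q hq hM habs A hqA)
      (PRIME_aux_le M q hq hM habs B (h ▸ hqA)) h
  · refine COP hsol M hquot A B h ?_
    rw [hM]
    exact ((Nat.Prime.coprime_iff_not_dvd hq).2 hqA).symm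

end Cfsg.Agent.S3913P
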