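import Mathlib
import Cfsg.Agent.Helper3.S5655EVDefs
import Cfsg.Agent.Helper7.S5655.Defs

set_option autoImplicit false

/-! # S5655 k = 1, chapter "q even": glue between the chapter's vocabulary (`EV.IsMono`: every column has weight `≤ 1`)
and the driver's (`MonoP.IsMono`, `MonoP.ColMono`). -/

namespace Cfsg.Agent.S5655K1.EV

open Matrix
open Cfsg.Agent.S2644 Cfsg.Agent.Helper2.SUGen Cfsg.Agent.Helper28.SimMax Cfsg.Agent.S5658P

variable {K : Type*} [Field K] {q n : ℕ}

theorem GLUE.wt_le_one_of {v : Fin n → K} (hv : ∃ k : Fin n, ∀ i, i ≠ k → v i = 0) : wt v ≤ 1 := by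
  classical
  obtain ⟨k, hk⟩ := hv
  unfold wt
  rw [Finset.card_le_one]
  intro a ha b hb
  have h1 : a = k := by
    by_contra hne
    exact (mem_supp.1 ha) (hk a hne)
  have h2 : b = k := by
    by_contra hne
    exact (mem_supp.1 hb) (hk b hne)
  rw [h1, h2]

theorem GLUE.exists_of_wt_le_one (j0 : Fin n) {v : Fin n → K} (hv : wt v ≤ 1) :
    ∃ k : Fin n, ∀ i, i ≠ k → v i = 0 := by
  classical
  unfold wt at hv
  rw [Finset.card_le_one] at hv
  by_cases hne : (supp v).Nonempty
  · obtain ⟨k, hk⟩ := hne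
    refine ⟨k, fun i hik => ?_⟩
    by_contra hvi
    exact hik (hv i (mem_supp.2 hvi) k hk)
  · refine ⟨j0, fun i _ => ?_⟩
    by_contra hvi
    exact hne ⟨i, mem_supp.2 hvi⟩

theorem GLUE.isMono_of {A : Matrix (Fin n) (Fin n) K} (hA : Cfsg.Agent.MonoP.IsMono A) : IsMono A := by
  obtain ⟨σ, hσ⟩ := hA
  intro j
  exact GLUE.wt_le_one_of ⟨σ j, fun i hi => hσ i j hi⟩

theorem GLUE.colMono_iff (A : Matrix (Fin n) (Fin n) K) :
    Cfsg.Agent.MonoP.ColMono A ↔ ∃ j, wt (col A j) ≤ 1 := by
  constructor
  · rintro ⟨k, k', hk⟩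
    exact ⟨k, GLUE.wt_le_one_of ⟨k', fun i hi => hk i hi⟩⟩
  · rintro ⟨j, hj⟩
    obtain ⟨k', hk'⟩ := GLUE.exists_of_wt_le_one j hj
    exact ⟨j, k', fun i hi => hk' i hi⟩

/-- an invertible matrix all of whose columns have weight `≤ 1` is monomial -/
theorem GLUE.of_isMono {A : Matrix (Fin n) (Fin n) K} (hA : IsMono A) (hdet : A.det ≠ 0) :
    Cfsg.Agent.MonoP.IsMono A := by
  classical
  choose f hf using fun j => GLUE.exists_of_wt_le_one j (hA j)
  -- `f` is injective, otherwise two columns are proportional ... use: A has trivial kernel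
  have hinj : Function.Injective f := by
    intro a b hab
    by_contra hne
    -- the vector `A f(a) b • e_a - A f(a) a • e_b` is in the kernel
    have hker : A *ᵥ (A (f a) b • Pi.single a (1 : K) - A (f a) a • Pi.single b (1 : K)) = 0 := by
      rw [Matrix.mulVec_sub, Matrix.mulVec_smul, Matrix.mulVec_smul, Matrix.mulVec_single_one,
        Matrix.mulVec_single_one]
      ext i
      simp only [Pi.sub_apply, Pi.smul_apply, smul_eq_mul, Pi.zero_apply, Matrix.col_apply]
      by_cases hi : i = f a
      · subst hi; ring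
      · have h1 : A i a = 0 := hf a i hi
        have h2 : A i b = 0 := hf b i (by rw [← hab]; exact hi)
        rw [h1, h2]; ring
    have hz := Matrix.eq_zero_of_mulVec_eq_zero hdet hker
    have ha := congrFun hz a
    have hb := congrFun hz b
    simp only [Pi.sub_apply, Pi.smul_apply, smul_eq_mul, Pi.zero_apply, Pi.single_eq_same,
      Pi.single_eq_of_ne hne, Pi.single_eq_of_ne (Ne.symm hne), mul_one, mul_zero, sub_zero,
      zero_sub, neg_eq_zero] at ha hb
    -- column a is zero
    have hcol : ∀ i, A i a = 0 := by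
      intro i
      by_cases hi : i = f a
      · subst hi; exact hb
      · exact hf a i hi
    apply hdet
    apply Matrix.det_eq_zero_of_column_eq_zero a hcol
  have hbij : Function.Bijective f := Finite.injective_iff_bijective.1 hinj
  refine ⟨Equiv.ofBijective f hbij, fun i j hij => ?_⟩
  exact hf j i hij

end Cfsg.Agent.S5655K1.EV
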