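import Mathlib
import Cfsg.Agent.Helper27.Suz2Defs

/-! SUZ2 board, piece FPF (blueprint F2): a nontrivial `k ∈ K` has no fixed points on `P`, hence
`s ↦ s⁻¹ k(s)` is injective, and bijective on every `k`-invariant subgroup. -/

set_option autoImplicit false

namespace Cfsg.Agent.SUZ2P

open Cfsg.Agent.Helper17.Suz2 Cfsg.Agent.SUZ2P

universe u v

variable {K : Type v} {P : Type u} [Group K] [Group P] [MulDistribMulAction K P]

/-- a nontrivial element of `K` fixes no nontrivial element of `P` -/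
theorem fpf_aux_fix (hS : Star K P) {k : K} (hk : k ≠ 1) (s : P) (hs : k • s = s) : s = 1 := by
  have := hS.fin
  by_contra hs1
  obtain ⟨j, hj1, hj2⟩ := exists_invol_pow hS.pgrp hs1
  have hkz : k • (s ^ (2 ^ j)) = s ^ (2 ^ j) := by rw [smul_pow', hs]
  obtain ⟨k0, -, huniq⟩ := hS.reg _ _ hj1 hj2 hj1 hj2
  have h1 := huniq 1 (one_smul _ _)
  have h2 := huniq k hkz
  exact hk (h2.trans h1.symm)

/-- `s ↦ s⁻¹ k(s)` is injective -/
theorem fpf_aux_inj (hS : Star K P) {k : K} (hk : k ≠ 1) (s t : P)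
    (h : s⁻¹ * k • s = t⁻¹ * k • t) : s = t := by
  have hfix : k • (t * s⁻¹) = t * s⁻¹ := by
    rw [smul_mul', smul_inv']
    have h' : k • t = t * (s⁻¹ * k • s) := by rw [h]; group
    rw [h']; group
  have h1 := fpf_aux_fix hS hk _ hfix
  exact (mul_inv_eq_one.mp h1).symm

theorem fpf (hS : Star K P) {k : K} (hk : k ≠ 1) (Y : Subgroup P) (hY : ∀ x ∈ Y, k • x ∈ Y)
    {x : P} (hx : x⁻¹ * k • x ∈ Y) : x ∈ Y := by
  have := hS.fin
  let f : Y → Y := fun y => ⟨(y : P)⁻¹ * k • (y : P), Y.mul_mem (Y.inv_mem y.2) (hY _ y.2)⟩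
  have hfinj : Function.Injective f := by
    intro a b hab
    apply Subtype.ext
    exact fpf_aux_inj hS hk _ _ (congrArg Subtype.val hab)
  have hfsurj : Function.Surjective f := Finite.injective_iff_surjective.mp hfinj
  obtain ⟨y, hy⟩ := hfsurj ⟨_, hx⟩
  have hyx : (y : P) = x := fpf_aux_inj hS hk _ _ (congrArg Subtype.val hy)
  rw [← hyx]; exact y.2

end Cfsg.Agent.SUZ2P
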