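import Mathlib

set_option autoImplicit false

/-!
# S2202 frame: a matrix lemma

In characteristic two, a subgroup of odd order of `SL₂(F)`, `F` with an element different from
`0` and `1`, is not transitive (by conjugation) on the involutions of `SL₂(F)`.
-/

namespace Cfsg.Agent.Helper3.AbInv

open Matrix

variable {F : Type*} [Field F]

local notation "SL2" => Matrix.SpecialLinearGroup (Fin 2) F

/-- The upper transvection. -/
def uT (c : F) : SL2 := ⟨!![1, c; 0, 1], by simp [Matrix.det_fin_two]⟩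

/-- `x` is upper triangular with `(0,0)`-entry `a`. -/
def IsUT (x : SL2) (a : F) : Prop := x.1 1 0 = 0 ∧ x.1 0 0 = a

theorem det_eq (x : SL2) : x.1 0 0 * x.1 1 1 - x.1 0 1 * x.1 1 0 = 1 := by
  have := x.2
  rw [Matrix.det_fin_two] at this
  exact this

theorem mul_entry (x y : SL2) (i j : Fin 2) :
    (x * y).1 i j = x.1 i 0 * y.1 0 j + x.1 i 1 * y.1 1 j := by
  show (x.1 * y.1) i j = _
  rw [Matrix.mul_apply, Fin.sum_univ_two]

theorem IsUT.mul {x y : SL2} {a b : F} (hx : IsUT x a) (hy : IsUT y b) : IsUT (x * y) (a * b) := by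
  obtain ⟨hx1, hx2⟩ := hx
  obtain ⟨hy1, hy2⟩ := hy
  refine ⟨?_, ?_⟩
  · rw [mul_entry, hx1, hy1]; ring
  · rw [mul_entry, hx2, hy2, hy1]; ring

theorem ext_entries {x y : SL2} (h00 : x.1 0 0 = y.1 0 0) (h01 : x.1 0 1 = y.1 0 1)
    (h10 : x.1 1 0 = y.1 1 0) (h11 : x.1 1 1 = y.1 1 1) : x = y := by
  apply Subtype.ext
  ext i j
  fin_cases i <;> fin_cases j
  · exact h00
  · exact h01
  · exact h10
  · exact h11

theorem one_entry (i j : Fin 2) : (1 : SL2).1 i j = if i = j then 1 else 0 := by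
  show (1 : Matrix (Fin 2) (Fin 2) F) i j = _
  rw [Matrix.one_apply]

theorem uT_entries (c : F) : (uT c).1 0 0 = 1 ∧ (uT c).1 0 1 = c ∧ (uT c).1 1 0 = 0 ∧
    (uT c).1 1 1 = 1 := by
  refine ⟨rfl, rfl, rfl, rfl⟩

section CharTwo

variable [CharP F 2]

theorem two_mul_eq_zero' (a : F) : a + a = 0 := CharTwo.add_self_eq_zero a

theorem IsUT.mul_self_eq_one {x : SL2} (hx : IsUT x 1) : x * x = 1 := by
  obtain ⟨hx1, hx2⟩ := hx
  have hd := det_eq x
  rw [hx1, hx2] at hd
  have h11 : x.1 1 1 = 1 := by linear_combination hd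
  apply ext_entries
  · rw [mul_entry, one_entry, hx1, hx2]; simp
  · rw [mul_entry, one_entry, hx2, h11]
    simp only [Fin.isValue, one_mul, mul_one, zero_ne_one, ↓reduceIte]
    exact two_mul_eq_zero' _
  · rw [mul_entry, one_entry, hx1, hx2]; simp
  · rw [mul_entry, one_entry, hx1, h11]; simp

theorem uT_mul_self (c : F) : uT c * uT c = 1 := by
  apply IsUT.mul_self_eq_one
  exact ⟨rfl, rfl⟩

omit [CharP F 2] in
theorem uT_ne_one {c : F} (hc : c ≠ 0) : uT c ≠ 1 := by
  intro h
  have := congrArg (fun M : SL2 => M.1 0 1) h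
  simp only [one_entry] at this
  exact hc this

theorem orderOf_uT {c : F} (hc : c ≠ 0) : orderOf (uT c) = 2 := by
  apply orderOf_eq_prime
  · rw [pow_two]; exact uT_mul_self c
  · exact uT_ne_one hc

omit [CharP F 2] in
/-- An element conjugating `uT 1` to `uT c` is upper triangular with `(0,0)`-entry a square root
of `c`. -/
theorem isUT_of_conj {x : SL2} {c : F} (hc : c ≠ 0) (h : x * uT 1 = uT c * x) :
    ∃ a : F, a * a = c ∧ IsUT x a := by
  have h00 := congrArg (fun M : SL2 => M.1 0 0) h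
  have h01 := congrArg (fun M : SL2 => M.1 0 1) h
  simp only [mul_entry] at h00 h01
  obtain ⟨u00, u01, u10, u11⟩ := uT_entries (1 : F)
  obtain ⟨c00, c01, c10, c11⟩ := uT_entries c
  rw [u00, u10, c00, c01] at h00
  rw [u01, u11, c00, c01] at h01
  have h10 : x.1 1 0 = 0 := by
    have : c * x.1 1 0 = 0 := by linear_combination -h00
    rcases mul_eq_zero.mp this with h | h
    · exact absurd h hc
    · exact h
  have hd := det_eq x
  rw [h10] at hd
  refine ⟨x.1 0 0, ?_, h10, rfl⟩
  have h1 : x.1 0 0 = c * x.1 1 1 := by linear_combination h01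
  have h2 : x.1 0 0 * x.1 1 1 = 1 := by linear_combination hd
  calc x.1 0 0 * x.1 0 0 = x.1 0 0 * (c * x.1 1 1) := by rw [← h1]
    _ = c * (x.1 0 0 * x.1 1 1) := by ring
    _ = c := by rw [h2, mul_one]

/-- The transvection with axis spanned by `(p, q)`. -/
def axT (p q : F) : SL2 :=
  ⟨!![1 + p * q, p * p; q * q, 1 + p * q], by
    rw [Matrix.det_fin_two]
    simp only [Matrix.of_apply, Matrix.cons_val', Matrix.cons_val_zero, Matrix.cons_val_one,
      Matrix.empty_val', Matrix.cons_val_fin_one]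
    have h := two_mul_eq_zero' (p * q)
    linear_combination h⟩

theorem axT_entries (p q : F) : (axT p q).1 0 0 = 1 + p * q ∧ (axT p q).1 0 1 = p * p ∧
    (axT p q).1 1 0 = q * q ∧ (axT p q).1 1 1 = 1 + p * q := ⟨rfl, rfl, rfl, rfl⟩

theorem axT_mul_self (p q : F) : axT p q * axT p q = 1 := by
  obtain ⟨a00, a01, a10, a11⟩ := axT_entries p q
  have h := two_mul_eq_zero' (p * q)
  have h2 := two_mul_eq_zero' (p * p * (q * q))
  have h3 := two_mul_eq_zero' (p * p)
  have h4 := two_mul_eq_zero' (q * q)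
  apply ext_entries
  · rw [mul_entry, one_entry, a00, a01, a10]
    simp only [↓reduceIte]
    linear_combination h + h2
  · rw [mul_entry, one_entry, a00, a01, a11]
    simp only [Fin.isValue, zero_ne_one, ↓reduceIte]
    linear_combination (1 + p * q) * h3
  · rw [mul_entry, one_entry, a00, a10, a11]
    simp only [Fin.isValue, one_ne_zero, ↓reduceIte]
    linear_combination (1 + p * q) * h4
  · rw [mul_entry, one_entry, a11, a01, a10]
    simp only [↓reduceIte]
    linear_combination h + h2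

theorem orderOf_axT (p q : F) (hq : q ≠ 0) : orderOf (axT p q) = 2 := by
  apply orderOf_eq_prime
  · rw [pow_two]; exact axT_mul_self p q
  · intro h
    have := congrArg (fun M : SL2 => M.1 1 0) h
    simp only [one_entry] at this
    have h2 : q * q = 0 := this
    rcases mul_eq_zero.mp h2 with h3 | h3 <;> exact hq h3

/-- If `y` conjugates `uT 1` to `axT p q` (`q ≠ 0`), then the first column of `y` is
proportional to `(p, q)`. -/
theorem col_of_conj_axT {y : SL2} {p q : F} (hq : q ≠ 0) (h : y * uT 1 = axT p q * y) :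
    q * y.1 0 0 = p * y.1 1 0 := by
  have h10 := congrArg (fun M : SL2 => M.1 1 0) h
  simp only [mul_entry] at h10
  obtain ⟨u00, u01, u10, u11⟩ := uT_entries (1 : F)
  obtain ⟨a00, a01, a10, a11⟩ := axT_entries p q
  rw [u00, u10, a10, a11] at h10
  have h1 : q * (q * y.1 0 0 + p * y.1 1 0) = 0 := by linear_combination -h10
  rcases mul_eq_zero.mp h1 with h2 | h2
  · exact absurd h2 hq
  · have h3 := two_mul_eq_zero' (p * y.1 1 0)
    linear_combination h2 - h3

/-- The main computation: if `x₀` is upper triangular with diagonal `(a, a⁻¹)` and the first column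
of `y` is an eigenvector for the eigenvalue `a⁻¹`, then `y⁻¹ x₀ y` is upper triangular with
`(0,0)`-entry `a⁻¹`. -/
theorem isUT_conj {x₀ y : SL2} {a : F} (ha : a ≠ 0) (hx : IsUT x₀ a)
    (hcol : (a⁻¹ + a) * y.1 0 0 = x₀.1 0 1 * y.1 1 0) : IsUT (y⁻¹ * x₀ * y) a⁻¹ := by
  obtain ⟨hx1, hx2⟩ := hx
  have hd := det_eq x₀
  rw [hx1, hx2] at hd
  have h11 : x₀.1 1 1 = a⁻¹ := by
    have : a * x₀.1 1 1 = 1 := by linear_combination hd
    field_simp
    linear_combination this
  have hyd := det_eq y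
  have hinv : ∀ i j : Fin 2, (y⁻¹).1 i j = (Matrix.adjugate y.1) i j := by
    intro i j
    rw [Matrix.SpecialLinearGroup.coe_inv]
  have haa := two_mul_eq_zero' (a * y.1 0 0)
  refine ⟨?_, ?_⟩
  · rw [mul_entry, mul_entry, mul_entry, hinv, hinv, Matrix.adjugate_fin_two]
    simp only [Matrix.of_apply, Matrix.cons_val', Matrix.cons_val_zero, Matrix.cons_val_one,
      Matrix.empty_val', Matrix.cons_val_fin_one]
    rw [hx1, hx2, h11]
    linear_combination (y.1 1 0) * hcol - (y.1 1 0) * haa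
  · rw [mul_entry, mul_entry, mul_entry, hinv, hinv, Matrix.adjugate_fin_two]
    simp only [Matrix.of_apply, Matrix.cons_val', Matrix.cons_val_zero, Matrix.cons_val_one,
      Matrix.empty_val', Matrix.cons_val_fin_one]
    rw [hx1, hx2, h11]
    linear_combination (-(y.1 1 1)) * hcol + (y.1 1 1) * haa + a⁻¹ * hyd

/-- **Lemma M.** A subgroup of odd order of `SL₂(F)`, `char F = 2`, `F` having an element other
than `0, 1`, is not transitive on the involutions of `SL₂(F)`. -/
theorem not_transitive_of_odd (X : Subgroup SL2) (hX : Odd (Nat.card X))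
    (c₀ : F) (hc0 : c₀ ≠ 0) (hc1 : c₀ ≠ 1)
    (htr : ∀ s t : SL2, orderOf s = 2 → orderOf t = 2 → ∃ x ∈ X, x * s * x⁻¹ = t) : False := by
  have : Finite X := Nat.finite_of_card_ne_zero (by rintro h; rw [h] at hX; exact (by decide : ¬ Odd 0) hX)
  -- elements of `X` of order dividing two are trivial
  have hsq : ∀ x ∈ X, x * x = 1 → x = 1 := by
    intro x hx hxx
    have h1 : orderOf x ∣ 2 := orderOf_dvd_of_pow_eq_one (by rw [pow_two]; exact hxx)
    have h2 : orderOf x ∣ Nat.card X := by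
      have := orderOf_dvd_natCard (⟨x, hx⟩ : X)
      rwa [Subgroup.orderOf_mk] at this
    rcases (Nat.dvd_prime Nat.prime_two).mp h1 with h3 | h3
    · exact orderOf_eq_one_iff.mp h3
    · exfalso
      rw [h3] at h2
      exact (Nat.not_even_iff_odd.mpr hX) (even_iff_two_dvd.mpr h2)
  have h1ne : (1 : F) ≠ 0 := one_ne_zero
  -- `x₀`
  obtain ⟨x₀, hx₀X, hx₀⟩ := htr (uT 1) (uT c₀) (orderOf_uT h1ne) (orderOf_uT hc0)
  have hx₀' : x₀ * uT 1 = uT c₀ * x₀ := by rw [← hx₀]; group
  obtain ⟨a, haa, hUT⟩ := isUT_of_conj hc0 hx₀'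
  have ha0 : a ≠ 0 := by
    rintro rfl
    rw [mul_zero] at haa
    exact hc0 haa.symm
  have ha1 : a ≠ 1 := by
    rintro rfl
    rw [mul_one] at haa
    exact hc1 haa.symm
  set δ : F := a⁻¹ + a with hδ
  have hδ0 : δ ≠ 0 := by
    intro h0
    have h1 : a⁻¹ = a := by
      have := two_mul_eq_zero' a
      linear_combination h0 - this
    have h2 : a * a = 1 := by
      nth_rewrite 1 [← h1]
      exact inv_mul_cancel₀ ha0
    have h3 : (a + 1) * (a + 1) = 0 := by
      have := two_mul_eq_zero' a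
      have h4 := two_mul_eq_zero' (1 : F)
      linear_combination h2 + this + h4
    have h5 : a + 1 = 0 := by
      rcases mul_eq_zero.mp h3 with h | h <;> exact h
    apply ha1
    have := two_mul_eq_zero' (1 : F)
    linear_combination h5 - this
  -- `y`
  obtain ⟨y, hyX, hy⟩ := htr (uT 1) (axT (x₀.1 0 1) δ) (orderOf_uT h1ne) (orderOf_axT _ _ hδ0)
  have hy' : y * uT 1 = axT (x₀.1 0 1) δ * y := by rw [← hy]; group
  have hcol := col_of_conj_axT hδ0 hy'
  have hw := isUT_conj ha0 hUT hcol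
  have hprod : IsUT (x₀ * (y⁻¹ * x₀ * y)) 1 := by
    have := hUT.mul hw
    rwa [mul_inv_cancel₀ ha0] at this
  have hprodX : x₀ * (y⁻¹ * x₀ * y) ∈ X :=
    X.mul_mem hx₀X (X.mul_mem (X.mul_mem (X.inv_mem hyX) hx₀X) hyX)
  have h1 := hsq _ hprodX hprod.mul_self_eq_one
  -- `y` inverts `x₀`
  have hinv : y⁻¹ * x₀ * y = x₀⁻¹ := eq_inv_of_mul_eq_one_right h1
  -- `y * y` commutes with `x₀`
  have hcomm2 : Commute x₀ (y * y) := by
    have h2 : (y * y)⁻¹ * x₀ * (y * y) = x₀ := by
      calc (y * y)⁻¹ * x₀ * (y * y) = y⁻¹ * (y⁻¹ * x₀ * y) * y := by group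
        _ = y⁻¹ * x₀⁻¹ * y := by rw [hinv]
        _ = (y⁻¹ * x₀ * y)⁻¹ := by group
        _ = x₀ := by rw [hinv, inv_inv]
    show x₀ * (y * y) = (y * y) * x₀
    calc x₀ * (y * y) = (y * y) * ((y * y)⁻¹ * x₀ * (y * y)) := by group
      _ = (y * y) * x₀ := by rw [h2]
  have hyodd : Odd (orderOf y) := by
    have h2 : orderOf y ∣ Nat.card X := by
      have := orderOf_dvd_natCard (⟨y, hyX⟩ : X)
      rwa [Subgroup.orderOf_mk] at this
    exact Odd.of_dvd_nat hX h2
  obtain ⟨k, hk⟩ := hyodd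
  have hypow : (y * y) ^ (k + 1) = y := by
    rw [← pow_two, ← pow_mul]
    have : 2 * (k + 1) = orderOf y + 1 := by omega
    rw [this, pow_succ, pow_orderOf_eq_one, one_mul]
  have hcomm : Commute x₀ y := by
    rw [← hypow]
    exact hcomm2.pow_right _
  have hx₀inv : x₀ = x₀⁻¹ := by
    rw [← hinv]
    have : x₀ * y = y * x₀ := hcomm
    calc x₀ = y⁻¹ * (y * x₀) := by group
      _ = y⁻¹ * x₀ * y := by rw [← this]; group
  have hx₀sq : x₀ * x₀ = 1 := by
    nth_rewrite 2 [hx₀inv]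
    exact mul_inv_cancel x₀
  have hx₀1 := hsq x₀ hx₀X hx₀sq
  apply ha1
  rw [← hUT.2, hx₀1, one_entry]
  simp

end CharTwo

end Cfsg.Agent.Helper3.AbInv
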