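import Mathlib
import Cfsg.Agent.Helper18.AIDefs
import Cfsg.Agent.S1230
import Cfsg.Agent.Helper11.L2EG
import Cfsg.Agent.Helper3.AbInvSL2M

set_option autoImplicit false

/-!
# S2202 piece PAIR: a group with elementary abelian involution centralizers (non-cyclic,
non-normal Sylow `2`-subgroup) has no subgroup of odd order transitive on its involutions
-/

namespace Cfsg.Agent.Helper3.AI

open Cfsg Cfsg.Agent.Helper18.AI MulAction

/-- A finite field whose order is a positive power of two has characteristic two. -/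
theorem charP_two_of_card_pow {F : Type*} [Field F] [Fintype F] {k : ℕ} (_hk : k ≠ 0)
    (h : Fintype.card F = 2 ^ k) : CharP F 2 := by
  have hc : CharP F (ringChar F) := ringChar.charP F
  obtain ⟨n, hp, hn⟩ := FiniteField.card F (ringChar F)
  have hdvd : ringChar F ∣ 2 ^ k := by
    rw [← h, hn]
    exact dvd_pow_self _ n.ne_zero
  have h2 : ringChar F = 2 :=
    (Nat.prime_dvd_prime_iff_eq hp Nat.prime_two).mp (hp.dvd_of_dvd_pow hdvd)
  rw [h2] at hc
  exact hc

theorem no_odd_transitive {Y : Type*} [Group Y] [Finite Y] (T : Sylow 2 Y)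
    (hnc : ¬ IsCyclic ↥(T : Subgroup Y)) (hnn : ¬ (T : Subgroup Y).Normal) (hC : HC Y)
    (D : Subgroup Y) (hodd : Odd (Nat.card D))
    (htr : ∀ s t : Y, orderOf s = 2 → orderOf t = 2 → ∃ d ∈ D, d * s * d⁻¹ = t) : False := by
  classical
  obtain ⟨F, hF1, hF2, hFc, ⟨iso⟩⟩ := Cfsg.Agent.S1230.result T hnc hnn hC
  obtain ⟨f, hf⟩ := (T.isPGroup').exists_card_eq
  -- `f ≥ 2`
  have hf2 : 2 ≤ f := by
    by_contra hcon
    push Not at hcon
    apply hnc
    interval_cases f
    · rw [pow_zero] at hf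
      haveI : Subsingleton ↥(T : Subgroup Y) := (Nat.card_eq_one_iff_unique.mp hf).1
      exact isCyclic_of_subsingleton
    · rw [pow_one] at hf
      haveI : Fact (Nat.Prime 2) := ⟨Nat.prime_two⟩
      exact isCyclic_of_prime_card hf
  have hcardF : Fintype.card F = 2 ^ f := by rw [hFc]; exact hf
  haveI : CharP F 2 := charP_two_of_card_pow (by omega) hcardF
  -- an element different from `0`, `1`
  have hex : ∃ c : F, c ≠ 0 ∧ c ≠ 1 := by
    by_contra hcon
    push Not at hcon
    have hsub : (Finset.univ : Finset F) ⊆ {0, 1} := by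
      intro c _
      by_cases h0 : c = 0
      · simp [h0]
      · simp [hcon c h0]
    have h1 := Finset.card_le_card hsub
    rw [Finset.card_univ, hcardF] at h1
    have h2 : ({0, 1} : Finset F).card ≤ 2 := Finset.card_le_two
    have h3 : 2 ^ 2 ≤ 2 ^ f := Nat.pow_le_pow_right (by norm_num) hf2
    omega
  obtain ⟨c₀, hc0, hc1⟩ := hex
  -- transport to `SL₂(F)`
  let φ : Y ≃* Matrix.SpecialLinearGroup (Fin 2) F :=
    iso.trans (Cfsg.Agent.Helper11.L2E.slEquivPSL F).symm
  have hXodd : Odd (Nat.card (D.map φ.toMonoidHom)) :=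
    Odd.of_dvd_nat hodd (Subgroup.card_map_dvd _ _)
  apply Cfsg.Agent.Helper3.AbInv.not_transitive_of_odd (D.map φ.toMonoidHom) hXodd c₀ hc0 hc1
  intro s t hs ht
  have hs' : orderOf (φ.symm s) = 2 := by rw [MulEquiv.orderOf_eq]; exact hs
  have ht' : orderOf (φ.symm t) = 2 := by rw [MulEquiv.orderOf_eq]; exact ht
  obtain ⟨d, hdD, hd⟩ := htr _ _ hs' ht'
  refine ⟨φ d, ⟨d, hdD, rfl⟩, ?_⟩
  have := congrArg φ hd
  rw [map_mul, map_mul, map_inv, MulEquiv.apply_symm_apply, MulEquiv.apply_symm_apply] at this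
  exact this

end Cfsg.Agent.Helper3.AI
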