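import Mathlib

set_option autoImplicit false

/-!
# S2202 frame: groups with abelian involution centralizers — passage to a quotient by a normal
subgroup of odd order
-/

namespace Cfsg.Agent.Helper3.AbInv

universe u

variable {G : Type u} [Group G]

/-- An involution of `G ⧸ N`, `N` of odd order, lifts to an involution of `G`. -/
theorem exists_involution_lift (N : Subgroup G) [N.Normal] (hN : Odd (Nat.card N))
    (t' : G ⧸ N) (ht' : orderOf t' = 2) : ∃ t : G, orderOf t = 2 ∧ (t : G ⧸ N) = t' := by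
  obtain ⟨y, rfl⟩ := QuotientGroup.mk_surjective t'
  have hy2 : y ^ 2 ∈ N := by
    rw [← QuotientGroup.eq_one_iff, QuotientGroup.mk_pow, ← ht', pow_orderOf_eq_one]
  set m := orderOf (y ^ 2) with hm
  have hmodd : Odd m := by
    have h1 : orderOf (⟨y ^ 2, hy2⟩ : N) ∣ Nat.card N := orderOf_dvd_natCard _
    rw [Subgroup.orderOf_mk] at h1
    exact Odd.of_dvd_nat hN h1
  refine ⟨y ^ m, ?_, ?_⟩
  · apply orderOf_eq_prime
    · rw [← pow_mul, mul_comm, pow_mul, hm, pow_orderOf_eq_one]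
    · intro h1
      have h2 : ((y ^ m : G) : G ⧸ N) = 1 := by rw [h1]; rfl
      rw [QuotientGroup.mk_pow] at h2
      have h3 : 2 ∣ m := by rw [← ht']; exact orderOf_dvd_of_pow_eq_one h2
      exact (Nat.not_even_iff_odd.mpr hmodd) (even_iff_two_dvd.mpr h3)
  · rw [QuotientGroup.mk_pow]
    obtain ⟨k, hk⟩ := hmodd
    rw [hk, pow_succ, pow_mul, ← ht', pow_orderOf_eq_one, one_pow, one_mul]

/-- Coprime lifting of centralizers of involutions: an element of `G ⧸ N` commuting with the image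
of an involution `t` lifts to an element commuting with `t`, if `N` has odd order. -/
theorem exists_commute_lift [Finite G] (N : Subgroup G) [N.Normal] (hN : Odd (Nat.card N))
    (t : G) (ht : orderOf t = 2) (x' : G ⧸ N) (hx' : (t : G ⧸ N) * x' = x' * (t : G ⧸ N)) :
    ∃ x : G, t * x = x * t ∧ (x : G ⧸ N) = x' := by
  classical
  obtain ⟨x₀, rfl⟩ := QuotientGroup.mk_surjective x'
  have : Fintype N := Fintype.ofFinite N
  have ht2 : t * t = 1 := by rw [← pow_two, ← ht, pow_orderOf_eq_one]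
  have htinv : t⁻¹ = t := inv_eq_of_mul_eq_one_left ht2
  have hmem : ∀ n : N, x₀⁻¹ * t * x₀ * (n : G) * t⁻¹ ∈ N := by
    intro n
    rw [← QuotientGroup.eq_one_iff]
    have hn : ((n : G) : G ⧸ N) = 1 := (QuotientGroup.eq_one_iff _).mpr n.2
    simp only [QuotientGroup.mk_mul, QuotientGroup.mk_inv, hn, mul_one]
    rw [mul_assoc ((x₀ : G ⧸ N)⁻¹), hx', ← mul_assoc, inv_mul_cancel, one_mul, mul_inv_cancel]
  let f : N → N := fun n => ⟨x₀⁻¹ * t * x₀ * (n : G) * t⁻¹, hmem n⟩
  have hf : Function.Involutive f := by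
    intro n
    apply Subtype.ext
    show x₀⁻¹ * t * x₀ * (x₀⁻¹ * t * x₀ * (n : G) * t⁻¹) * t⁻¹ = n
    rw [htinv]
    calc x₀⁻¹ * t * x₀ * (x₀⁻¹ * t * x₀ * (n : G) * t) * t
        = x₀⁻¹ * (t * t) * x₀ * (n : G) * (t * t) := by group
      _ = n := by rw [ht2]; group
  have hcard : ¬ 2 ∣ Fintype.card N := by
    rw [← Nat.card_eq_fintype_card, ← even_iff_two_dvd, Nat.not_even_iff_odd]
    exact hN
  have hσ : (hf.toPerm f) ^ 2 ^ 1 = 1 := by
    ext n
    simp [pow_two, hf n]
  obtain ⟨n, hn⟩ := Equiv.Perm.exists_fixed_point_of_prime (p := 2) (n := 1) hcard hσ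
  have hn' : x₀⁻¹ * t * x₀ * (n : G) * t⁻¹ = n := congrArg Subtype.val hn
  refine ⟨x₀ * n, ?_, ?_⟩
  · have : t * (x₀ * n) * t⁻¹ = x₀ * n := by
      calc t * (x₀ * n) * t⁻¹ = x₀ * (x₀⁻¹ * t * x₀ * (n : G) * t⁻¹) := by group
        _ = x₀ * n := by rw [hn']
    calc t * (x₀ * n) = t * (x₀ * n) * t⁻¹ * t := by group
      _ = x₀ * n * t := by rw [this]
  · rw [QuotientGroup.mk_mul, (QuotientGroup.eq_one_iff _).mpr n.2, mul_one]

/-- The hypothesis "all involution centralizers are abelian" passes to quotients by normal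
subgroups of odd order. -/
theorem isMulCommutative_centralizer_quotient [Finite G] (N : Subgroup G) [N.Normal] (hN : Odd (Nat.card N))
    (h : ∀ t : G, orderOf t = 2 → IsMulCommutative ↥(Subgroup.centralizer ({t} : Set G)))
    (t' : G ⧸ N) (ht' : orderOf t' = 2) :
    IsMulCommutative ↥(Subgroup.centralizer ({t'} : Set (G ⧸ N))) := by
  obtain ⟨t, ht, rfl⟩ := exists_involution_lift N hN t' ht'
  refine ⟨⟨?_⟩⟩
  rintro ⟨a, ha⟩ ⟨b, hb⟩
  rw [Subgroup.mem_centralizer_singleton_iff] at ha hb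
  obtain ⟨x, hx, rfl⟩ := exists_commute_lift N hN t ht a ha.symm
  obtain ⟨y, hy, rfl⟩ := exists_commute_lift N hN t ht b hb.symm
  apply Subtype.ext
  show (x : G ⧸ N) * (y : G ⧸ N) = (y : G ⧸ N) * (x : G ⧸ N)
  have := h t ht
  have hxm : x ∈ Subgroup.centralizer ({t} : Set G) :=
    Subgroup.mem_centralizer_singleton_iff.mpr hx.symm
  have hym : y ∈ Subgroup.centralizer ({t} : Set G) :=
    Subgroup.mem_centralizer_singleton_iff.mpr hy.symm
  have h1 := mul_comm' (⟨x, hxm⟩ : Subgroup.centralizer ({t} : Set G)) ⟨y, hym⟩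
  have h2 : x * y = y * x := congrArg Subtype.val h1
  rw [← QuotientGroup.mk_mul, ← QuotientGroup.mk_mul, h2]

/-- Parity of the quotient. -/
theorem even_card_quotient (N : Subgroup G) [N.Normal] (hN : Odd (Nat.card N))
    (heven : Even (Nat.card G)) : Even (Nat.card (G ⧸ N)) := by
  have h1 : Nat.card G = Nat.card (G ⧸ N) * Nat.card N := Subgroup.card_eq_card_quotient_mul_card_subgroup N
  rw [h1, Nat.even_mul] at heven
  rcases heven with h | h
  · exact h
  · exact absurd h (Nat.not_even_iff_odd.mpr hN)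

end Cfsg.Agent.Helper3.AbInv
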