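import Mathlib
import Cfsg.Agent.Helper18.AIDefs
import Cfsg.Agent.Helper3.AbInvQuot

set_option autoImplicit false

/-!
# S2202 piece QA2: the hypothesis passes to the quotient by a normal subgroup of odd order
-/

namespace Cfsg.Agent.Helper3.AI

open Cfsg Cfsg.Agent.Helper18.AI MulAction

variable {G : Type*} [Group G]

theorem hyp_quot [Finite G] (hG : Hyp G) (N : Subgroup G) [N.Normal]
    (hodd : Odd (Nat.card N))
    (_hcomm : ∀ n ∈ N, ∀ t : G, orderOf t = 2 → n * t = t * n) :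
    Hyp (G ⧸ N) ∧ ∀ s : G ⧸ N, orderOf s = 2 → ∃ t : G, orderOf t = 2 ∧ (t : G ⧸ N) = s :=
  ⟨fun s hs => Cfsg.Agent.Helper3.AbInv.isMulCommutative_centralizer_quotient N hodd hG s hs,
    fun s hs => Cfsg.Agent.Helper3.AbInv.exists_involution_lift N hodd s hs⟩

end Cfsg.Agent.Helper3.AI
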