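import Mathlib

set_option autoImplicit false

/-!
# S2202 frame: splitting of a central extension with cyclic Sylow subgroups (transfer)

If `Z ≤ Z(G)`, the quotient `G ⧸ Z` is perfect and, for every prime `p` dividing `|Z|`, the
`p`-subgroups of `G ⧸ Z` are cyclic, then `G = G' × Z` and `G ≃* (G ⧸ Z) × Z`.
-/

namespace Cfsg.Agent.Helper3.AbInv

universe u

variable {G : Type u} [Group G]

/-- A Sylow `p`-subgroup whose image modulo a central subgroup is cyclic is abelian. -/
theorem sylow_comm_of_cyclic_image (Z : Subgroup G) [Z.Normal]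
    (hZ : Z ≤ Subgroup.center G) (P : Subgroup G)
    (hcyc : IsCyclic ↥(P.map (QuotientGroup.mk' Z))) : ∀ x ∈ P, ∀ y ∈ P, x * y = y * x := by
  let f : ↥P →* G ⧸ Z := (QuotientGroup.mk' Z).comp P.subtype
  have hrange : f.range = P.map (QuotientGroup.mk' Z) := by
    rw [MonoidHom.range_comp, Subgroup.range_subtype]
  have : IsCyclic ↥f.range := by rw [hrange]; exact hcyc
  have hker : f.rangeRestrict.ker ≤ Subgroup.center ↥P := by
    intro x hx
    rw [MonoidHom.ker_rangeRestrict, MonoidHom.mem_ker] at hx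
    have hxZ : (x : G) ∈ Z := by
      rw [← QuotientGroup.eq_one_iff]; exact hx
    rw [Subgroup.mem_center_iff]
    intro y
    apply Subtype.ext
    have := (Subgroup.mem_center_iff.mp (hZ hxZ)) (y : G)
    exact this
  have hcomm := MonoidHom.isMulCommutative_of_isCyclic_of_ker_le_center f.rangeRestrict hker
  intro x hx y hy
  exact congrArg Subtype.val (mul_comm' (⟨x, hx⟩ : P) ⟨y, hy⟩)

/-- Transfer into an abelian Sylow `p`-subgroup: a central `p`-element lying in the commutator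
subgroup is trivial. -/
theorem eq_one_of_mem_center_commutator_sylow [Finite G] {p : ℕ} [Fact p.Prime] (P : Sylow p G)
    (hP : ∀ x ∈ P, ∀ y ∈ P, x * y = y * x) (z : G) (hzP : z ∈ P)
    (hzc : z ∈ Subgroup.center G) (hz' : z ∈ commutator G) : z = 1 := by
  let _ : CommGroup ↥(P : Subgroup G) :=
    { (inferInstance : Group ↥(P : Subgroup G)) with
      mul_comm := fun a b => Subtype.ext (hP a a.2 b b.2) }
  have key : ∀ (k : ℕ) (g₀ : G), g₀⁻¹ * z ^ k * g₀ ∈ (P : Subgroup G) →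
      g₀⁻¹ * z ^ k * g₀ = z ^ k := by
    intro k g₀ _
    have hzk : z ^ k ∈ Subgroup.center G := Subgroup.pow_mem _ hzc k
    have := Subgroup.mem_center_iff.mp hzk g₀
    rw [mul_assoc, ← this, ← mul_assoc, inv_mul_cancel, one_mul]
  have h1 := MonoidHom.transfer_eq_pow (MonoidHom.id ↥(P : Subgroup G)) z key
  have h2 : MonoidHom.transfer (MonoidHom.id ↥(P : Subgroup G)) z = 1 := by
    have := Abelianization.commutator_subset_ker
      (MonoidHom.transfer (MonoidHom.id ↥(P : Subgroup G))) hz'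
    exact this
  rw [h2] at h1
  have h3 : z ^ (P : Subgroup G).index = 1 := by
    have := congrArg Subtype.val h1
    simpa using this.symm
  -- the order of `z` is a power of `p` dividing the index
  obtain ⟨j, hj⟩ := (IsPGroup.iff_orderOf.mp P.2) ⟨z, hzP⟩
  rw [Subgroup.orderOf_mk] at hj
  have h4 : orderOf z ∣ (P : Subgroup G).index := orderOf_dvd_of_pow_eq_one h3
  have hndvd : ¬ p ∣ (P : Subgroup G).index := P.not_dvd_index
  rcases Nat.eq_zero_or_pos j with h0 | hpos
  · rw [h0, pow_zero] at hj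
    exact orderOf_eq_one_iff.mp hj
  · exfalso
    apply hndvd
    rw [hj] at h4
    exact dvd_trans (dvd_pow_self p hpos.ne') h4

variable [Finite G]

/-- The splitting theorem, internal form. -/
theorem commutator_inf_eq_bot_of_central (Z : Subgroup G) [Z.Normal]
    (hZ : Z ≤ Subgroup.center G)
    (hcyc : ∀ p : ℕ, p.Prime → p ∣ Nat.card Z → ∀ Q : Subgroup (G ⧸ Z), IsPGroup p Q → IsCyclic Q) :
    commutator G ⊓ Z = ⊥ := by
  by_contra hne
  set W : Subgroup G := commutator G ⊓ Z with hW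
  have hcard : Nat.card W ≠ 1 := fun h => hne (Subgroup.card_eq_one.mp h)
  obtain ⟨p, hp, hpW⟩ := Nat.exists_prime_and_dvd hcard
  have : Fact p.Prime := ⟨hp⟩
  obtain ⟨w, hw⟩ := exists_prime_orderOf_dvd_card' (G := W) p hpW
  have hwG : orderOf (w : G) = p := by rw [Subgroup.orderOf_coe, hw]
  have hpZ : p ∣ Nat.card Z := by
    have h1 : Nat.card W ∣ Nat.card Z := Subgroup.card_dvd_of_le inf_le_right
    exact dvd_trans hpW h1
  have hzp : IsPGroup p (Subgroup.zpowers (w : G)) := by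
    rw [IsPGroup.iff_card]
    exact ⟨1, by rw [Nat.card_zpowers, hwG, pow_one]⟩
  obtain ⟨P, hP⟩ := hzp.exists_le_sylow
  have hwP : (w : G) ∈ (P : Subgroup G) := hP (Subgroup.mem_zpowers _)
  have hcomm := sylow_comm_of_cyclic_image Z hZ (P : Subgroup G)
    (hcyc p hp hpZ _ (P.2.map _))
  have h1 := eq_one_of_mem_center_commutator_sylow P hcomm (w : G) hwP (hZ w.2.2) w.2.1
  rw [h1, orderOf_one] at hwG
  exact hp.one_lt.ne hwG

omit [Finite G] in
theorem commutator_sup_eq_top_of_perfect_quotient (Z : Subgroup G) [Z.Normal]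
    (hperf : commutator (G ⧸ Z) = ⊤) : commutator G ⊔ Z = ⊤ := by
  rw [eq_top_iff]
  intro g _
  have h1 : Subgroup.map (QuotientGroup.mk' Z) (commutator G) = ⊤ := by
    rw [commutator_def, Subgroup.map_commutator,
      Subgroup.map_top_of_surjective _ (QuotientGroup.mk'_surjective Z), ← commutator_def, hperf]
  have h2 : (QuotientGroup.mk' Z) g ∈ Subgroup.map (QuotientGroup.mk' Z) (commutator G) := by
    rw [h1]; trivial
  obtain ⟨c, hc, hcg⟩ := h2
  have h3 : c⁻¹ * g ∈ Z := by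
    rw [← QuotientGroup.eq_one_iff, QuotientGroup.mk_mul, QuotientGroup.mk_inv]
    have : (c : G ⧸ Z) = (g : G ⧸ Z) := hcg
    rw [this, inv_mul_cancel]
  have : g = c * (c⁻¹ * g) := by group
  rw [this]
  exact Subgroup.mul_mem _ (Subgroup.mem_sup_left hc) (Subgroup.mem_sup_right h3)

omit [Finite G] in
/-- A group which is the internal direct product of a normal subgroup `L` and a central subgroup
`Z` is isomorphic to `(G ⧸ Z) × Z`. -/
theorem nonempty_mulEquiv_quotient_prod (L Z : Subgroup G) [Z.Normal]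
    (hZ : Z ≤ Subgroup.center G) (hinf : L ⊓ Z = ⊥) (hsup : L ⊔ Z = ⊤) :
    Nonempty (G ≃* (G ⧸ Z) × Z) := by
  -- `L ≃* G ⧸ Z`
  let f : ↥L →* G ⧸ Z := (QuotientGroup.mk' Z).comp L.subtype
  have hmul : ∀ g : G, ∃ l ∈ L, ∃ z ∈ Z, g = l * z := by
    intro g
    have hg : g ∈ ((L ⊔ Z : Subgroup G) : Set G) := by rw [hsup]; trivial
    rw [Subgroup.mul_normal] at hg
    obtain ⟨l, hl, z, hz, rfl⟩ := hg
    exact ⟨l, hl, z, hz, rfl⟩
  have hfinj : Function.Injective f := by
    rw [← MonoidHom.ker_eq_bot_iff, eq_bot_iff]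
    intro x hx
    rw [MonoidHom.mem_ker] at hx
    have hxZ : (x : G) ∈ Z := by rw [← QuotientGroup.eq_one_iff]; exact hx
    have : (x : G) ∈ L ⊓ Z := ⟨x.2, hxZ⟩
    rw [hinf, Subgroup.mem_bot] at this
    rw [Subgroup.mem_bot]
    exact Subtype.ext this
  have hfsurj : Function.Surjective f := by
    intro q
    obtain ⟨g, rfl⟩ := QuotientGroup.mk_surjective q
    obtain ⟨l, hl, z, hz, rfl⟩ := hmul g
    refine ⟨⟨l, hl⟩, ?_⟩
    show ((l : G) : G ⧸ Z) = ((l * z : G) : G ⧸ Z)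
    rw [QuotientGroup.mk_mul, (QuotientGroup.eq_one_iff z).mpr hz, mul_one]
  let e1 : ↥L ≃* G ⧸ Z := MulEquiv.ofBijective f ⟨hfinj, hfsurj⟩
  -- `L × Z ≃* G`
  have hcomm : ∀ (l : L) (z : Z), Commute (L.subtype l) (Z.subtype z) := by
    intro l z
    exact ((Subgroup.mem_center_iff.mp (hZ z.2)) (l : G))
  let φ : ↥L × ↥Z →* G := MonoidHom.noncommCoprod L.subtype Z.subtype hcomm
  have hφ : ∀ x : ↥L × ↥Z, φ x = (x.1 : G) * (x.2 : G) := fun x => rfl
  have hφinj : Function.Injective φ := by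
    intro x y hxy
    rw [hφ, hφ] at hxy
    have h1 : ((y.1 : G))⁻¹ * (x.1 : G) = (y.2 : G) * ((x.2 : G))⁻¹ := by
      have : (x.1 : G) = (y.1 : G) * (y.2 : G) * ((x.2 : G))⁻¹ := by
        rw [← hxy]; group
      rw [this]; group
    have h2 : ((y.1 : G))⁻¹ * (x.1 : G) ∈ L ⊓ Z := by
      refine ⟨L.mul_mem (L.inv_mem y.1.2) x.1.2, ?_⟩
      rw [h1]
      exact Z.mul_mem y.2.2 (Z.inv_mem x.2.2)
    rw [hinf, Subgroup.mem_bot] at h2
    have h3 : (x.1 : G) = (y.1 : G) := by
      have := congrArg (fun t => (y.1 : G) * t) h2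
      simpa using this
    have h4 : (x.2 : G) = (y.2 : G) := by
      rw [h3] at hxy
      exact mul_left_cancel hxy
    exact Prod.ext (Subtype.ext h3) (Subtype.ext h4)
  have hφsurj : Function.Surjective φ := by
    intro g
    obtain ⟨l, hl, z, hz, rfl⟩ := hmul g
    exact ⟨(⟨l, hl⟩, ⟨z, hz⟩), rfl⟩
  let e2 : ↥L × ↥Z ≃* G := MulEquiv.ofBijective φ ⟨hφinj, hφsurj⟩
  exact ⟨e2.symm.trans (MulEquiv.prodCongr e1 (MulEquiv.refl _))⟩

/-- The splitting theorem. -/
theorem nonempty_mulEquiv_of_central_of_cyclic (Z : Subgroup G) [Z.Normal]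
    (hZ : Z ≤ Subgroup.center G)
    (hcyc : ∀ p : ℕ, p.Prime → p ∣ Nat.card Z → ∀ Q : Subgroup (G ⧸ Z), IsPGroup p Q → IsCyclic Q)
    (hperf : commutator (G ⧸ Z) = ⊤) :
    Nonempty (G ≃* (G ⧸ Z) × Z) :=
  nonempty_mulEquiv_quotient_prod (commutator G) Z hZ
    (commutator_inf_eq_bot_of_central Z hZ hcyc)
    (commutator_sup_eq_top_of_perfect_quotient Z hperf)

end Cfsg.Agent.Helper3.AbInv
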