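import Mathlib
import Cfsg.Agent.Helper18.AIDefs
import Cfsg.Agent.Helper3.AbInvSplit

set_option autoImplicit false

/-!
# S2202 piece TRF: `G' ∩ N = 1` for a central `N` of odd order with cyclic odd Sylow images
-/

namespace Cfsg.Agent.Helper3.AI

open Cfsg Cfsg.Agent.Helper18.AI MulAction

variable {G : Type*} [Group G]

theorem commutator_inf_eq_bot [Finite G] (N : Subgroup G) [N.Normal]
    (hN : N ≤ Subgroup.center G) (hodd : Odd (Nat.card N))
    (hcyc : ∀ r : ℕ, r.Prime → r ≠ 2 → ∀ Q : Subgroup (G ⧸ N), IsPGroup r ↥Q → IsCyclic ↥Q) :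
    commutator G ⊓ N = ⊥ := by
  apply Cfsg.Agent.Helper3.AbInv.commutator_inf_eq_bot_of_central N hN
  intro p hp hpN Q hQ
  apply hcyc p hp _ Q hQ
  rintro rfl
  exact (Nat.not_even_iff_odd.mpr hodd) (even_iff_two_dvd.mpr hpN)

end Cfsg.Agent.Helper3.AI
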