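import Mathlib
import Cfsg.Prelude.Def_LieExceptional
import Cfsg.Agent.Helper18.CTDefs

set_option autoImplicit false

/-!
# S5748 piece LOCB: the centralizer of an involution in a simple CT-group contains an odd number
`≥ 3` of involutions (Burnside transfer).
-/

namespace Cfsg.Agent.Helper3.CT

open Cfsg Cfsg.Agent.Helper18.CT MulAction

variable {G : Type*} [Group G]

theorem orderOf_conj_eq₂ (g x : G) : orderOf (g * x * g⁻¹) = orderOf x := by
  rw [← MulAut.conj_apply, MulEquiv.orderOf_eq]

/-- In a CT-group the centralizer of a non-identity element is abelian. -/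
theorem ct_centralizer_comm (hct : IsCT G) {t : G} (ht : t ≠ 1) :
    ∀ x ∈ Subgroup.centralizer ({t} : Set G), ∀ y ∈ Subgroup.centralizer ({t} : Set G),
      x * y = y * x := by
  intro x hx y hy
  rw [Subgroup.mem_centralizer_singleton_iff] at hx hy
  by_cases hx1 : x = 1
  · rw [hx1]; simp
  by_cases hy1 : y = 1
  · rw [hy1]; simp
  have h1 : Commute x t := hx
  have h2 : Commute t y := hy.symm
  exact hct x t y hx1 ht hy1 h1 h2

/-- In a CT-group, an element commuting with a non-identity element of `C(t)` lies in `C(t)`. -/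
theorem ct_mem_centralizer_of_comm (hct : IsCT G) {t z x : G} (ht : t ≠ 1) (hz1 : z ≠ 1)
    (hz : z ∈ Subgroup.centralizer ({t} : Set G)) (hxz : x * z = z * x) :
    x ∈ Subgroup.centralizer ({t} : Set G) := by
  rw [Subgroup.mem_centralizer_singleton_iff] at hz ⊢
  by_cases hx1 : x = 1
  · rw [hx1]; simp
  have h1 : Commute x z := hxz
  have h2 : Commute z t := hz
  exact hct x z t hx1 hz1 ht h1 h2

/-- the subgroup of elements of `C(t)` of order dividing two -/
def invSub (hct : IsCT G) {t : G} (ht : t ≠ 1) : Subgroup G where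
  carrier := {a | a ∈ Subgroup.centralizer ({t} : Set G) ∧ a ^ 2 = 1}
  one_mem' := ⟨Subgroup.one_mem _, one_pow 2⟩
  mul_mem' := by
    intro a b ha hb
    refine ⟨Subgroup.mul_mem _ ha.1 hb.1, ?_⟩
    have hc := ct_centralizer_comm hct ht a ha.1 b hb.1
    have : (a * b) ^ 2 = a ^ 2 * b ^ 2 := by
      rw [pow_two, pow_two, pow_two]
      calc a * b * (a * b) = a * (b * a) * b := by group
        _ = a * (a * b) * b := by rw [hc]
        _ = a * a * (b * b) := by group
    rw [this, ha.2, hb.2, one_mul]
  inv_mem' := by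
    intro a ha
    refine ⟨Subgroup.inv_mem _ ha.1, ?_⟩
    rw [inv_pow, ha.2, inv_one]

theorem mem_invSub (hct : IsCT G) {t : G} (ht : t ≠ 1) (a : G) :
    a ∈ invSub hct ht ↔ a ∈ Subgroup.centralizer ({t} : Set G) ∧ a ^ 2 = 1 := Iff.rfl

theorem inv_card_centralizer [Finite G] [IsSimpleGroup G] (hct : IsCT G)
    (hna : ¬ ∀ a b : G, a * b = b * a) {t : G} (ht : orderOf t = 2) :
    Odd (Nat.card {a : G // a ∈ Subgroup.centralizer ({t} : Set G) ∧ orderOf a = 2}) ∧
      3 ≤ Nat.card {a : G // a ∈ Subgroup.centralizer ({t} : Set G) ∧ orderOf a = 2} := by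
  classical
  have ht1 : t ≠ 1 := by
    intro h; rw [h, orderOf_one] at ht; omega
  have htt : t ^ 2 = 1 := by rw [← ht]; exact pow_orderOf_eq_one t
  set C := Subgroup.centralizer ({t} : Set G) with hC
  have htC : t ∈ C := by
    rw [hC, Subgroup.mem_centralizer_singleton_iff]
  set E := invSub hct ht1 with hE
  have htE : t ∈ E := ⟨htC, htt⟩
  -- E is a 2-group
  haveI : Fact (Nat.Prime 2) := ⟨Nat.prime_two⟩
  have hEp : IsPGroup 2 E := by
    intro a
    refine ⟨1, ?_⟩
    apply Subtype.ext
    rw [pow_one, Subgroup.coe_pow, Subgroup.coe_one]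
    exact a.2.2
  obtain ⟨k, hk⟩ := (IsPGroup.iff_card (p := 2) (G := E)).mp hEp
  have hk1 : 1 ≤ k := by
    by_contra hcon
    have hk0 : k = 0 := by omega
    rw [hk0, pow_zero] at hk
    have hsub : Subsingleton E := (Nat.card_eq_one_iff_unique.mp hk).1
    have : (⟨t, htE⟩ : E) = 1 := Subsingleton.elim _ _
    exact ht1 (congrArg Subtype.val this)
  -- the set of involutions of C is E minus the identity
  let X := {a : G // a ∈ C ∧ orderOf a = 2}
  have hcardX : Nat.card X + 1 = Nat.card E := by
    rw [← Finite.card_option]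
    apply Nat.card_congr
    refine ⟨fun o => match o with
        | none => (1 : E)
        | some x => ⟨x.1, x.2.1, by
            have := pow_orderOf_eq_one x.1
            rw [x.2.2] at this
            exact this⟩,
      fun a => if h : (a : G) = 1 then none else some ⟨a.1, a.2.1, orderOf_eq_prime a.2.2 h⟩, ?_, ?_⟩
    · intro o
      cases o with
      | none => simp
      | some x =>
        have : (x.1 : G) ≠ 1 := by
          intro h
          have := x.2.2
          rw [h, orderOf_one] at this
          omega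
        simp [this]
    · intro a
      by_cases h : (a : G) = 1
      · simp only [h, dite_true]
        exact Subtype.ext h.symm
      · simp [h]
  have hX : Nat.card X = 2 ^ k - 1 := by omega
  have hpow : 2 ≤ 2 ^ k := by
    calc 2 = 2 ^ 1 := by norm_num
      _ ≤ 2 ^ k := Nat.pow_le_pow_right (by norm_num) hk1
  have hodd : Odd (Nat.card X) := by
    rw [hX]
    have heven : Even (2 ^ k) := (Nat.even_pow.mpr ⟨even_two, by omega⟩)
    obtain ⟨r, hr⟩ := heven
    exact ⟨r - 1, by omega⟩
  refine ⟨hodd, ?_⟩
  by_contra hlt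
  push Not at hlt
  -- X has exactly one element
  have hlt' : Nat.card X < 3 := hlt
  have hX1 : Nat.card X = 1 := by
    obtain ⟨r, hr⟩ := hodd
    omega
  have huniq : ∀ a ∈ C, orderOf a = 2 → a = t := by
    intro a haC ha2
    have hsub : Subsingleton X := (Nat.card_eq_one_iff_unique.mp hX1).1
    have : (⟨a, haC, ha2⟩ : X) = ⟨t, htC, ht⟩ := Subsingleton.elim _ _
    exact congrArg Subtype.val this
  -- a Sylow 2-subgroup containing t
  have hzp : IsPGroup 2 (Subgroup.zpowers t) := by
    rw [IsPGroup.iff_card (p := 2)]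
    refine ⟨1, ?_⟩
    rw [Nat.card_zpowers, ht, pow_one]
  obtain ⟨P, hP⟩ := hzp.exists_le_sylow
  have htP : t ∈ (P : Subgroup G) := hP (Subgroup.mem_zpowers t)
  -- the centre of P is nontrivial
  haveI : Nontrivial (P : Subgroup G) := ⟨⟨⟨t, htP⟩, 1, fun h => ht1 (congrArg Subtype.val h)⟩⟩
  haveI := IsPGroup.center_nontrivial (P.isPGroup')
  obtain ⟨z, hz⟩ := exists_ne (1 : Subgroup.center (P : Subgroup G))
  set zz : G := ((z : (P : Subgroup G)) : G) with hzz
  have hzz1 : zz ≠ 1 := by
    intro h
    apply hz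
    apply Subtype.ext
    apply Subtype.ext
    exact h
  have hzcomm : ∀ x ∈ (P : Subgroup G), x * zz = zz * x := by
    intro x hx
    have := Subgroup.mem_center_iff.mp z.2 ⟨x, hx⟩
    have h2 := congrArg (Subtype.val) this
    simpa [hzz] using h2
  have hzC : zz ∈ C := by
    rw [hC, Subgroup.mem_centralizer_singleton_iff]
    exact (hzcomm t htP).symm
  have hPC : (P : Subgroup G) ≤ C := by
    intro x hx
    exact ct_mem_centralizer_of_comm hct ht1 hzz1 hzC (hzcomm x hx)
  -- N(P) ≤ C
  have hNC : Subgroup.normalizer ((P : Subgroup G) : Set G) ≤ C := by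
    intro g hg
    have h1 : g * t * g⁻¹ ∈ (P : Subgroup G) := (Subgroup.mem_normalizer_iff.mp hg t).mp htP
    have h2 : g * t * g⁻¹ = t := huniq _ (hPC h1) (by rw [orderOf_conj_eq₂]; exact ht)
    rw [hC, Subgroup.mem_centralizer_singleton_iff]
    calc g * t = g * t * g⁻¹ * g := by group
      _ = t * g := by rw [h2]
  have hNcent : Subgroup.normalizer ((P : Subgroup G) : Set G) ≤
      Subgroup.centralizer ((P : Subgroup G) : Set G) := by
    intro g hg
    rw [Subgroup.mem_centralizer_iff]
    intro x hx
    exact ct_centralizer_comm hct ht1 x (hPC hx) g (hNC hg)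
  have hcompl := MonoidHom.ker_transferSylow_isComplement' P hNcent
  rcases (MonoidHom.normal_ker (MonoidHom.transferSylow P hNcent)).eq_bot_or_eq_top with hK | hK
  · rw [hK, Subgroup.isComplement'_bot_left] at hcompl
    apply hna
    intro a b
    have ha : a ∈ C := hPC (by rw [hcompl]; trivial)
    have hb : b ∈ C := hPC (by rw [hcompl]; trivial)
    exact ct_centralizer_comm hct ht1 a ha b hb
  · rw [hK, Subgroup.isComplement'_top_left] at hcompl
    rw [hcompl] at htP
    exact ht1 (Subgroup.mem_bot.mp htP)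

end Cfsg.Agent.Helper3.CT
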