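import Mathlib
import Cfsg.Prelude.Def_LieExceptional
import Cfsg.Agent.Helper18.CTDefs

set_option autoImplicit false

/-!
# S5748 piece LOCC: the normalizer of `A = C_G(t)` acting on `A`
-/

namespace Cfsg.Agent.Helper3.CT

open Cfsg Cfsg.Agent.Helper18.CT MulAction

variable {G : Type*} [Group G]

theorem orderOf_conj_eq (g x : G) : orderOf (g * x * g⁻¹) = orderOf x := by
  rw [← MulAut.conj_apply, MulEquiv.orderOf_eq]

/-- If `g` conjugates a non-identity element of `A` to an element of `A`, then `g` normalizes `A`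
(for `A` abelian containing the centralizers of its non-identity elements). -/
theorem mem_normalizer_of_conj_mem (A : Subgroup G)
    (hcomm : ∀ x ∈ A, ∀ y ∈ A, x * y = y * x)
    (hcent : ∀ a ∈ A, a ≠ 1 → ∀ x : G, x * a = a * x → x ∈ A)
    {g s : G} (hs : s ∈ A) (hs1 : s ≠ 1) (hgs : g * s * g⁻¹ ∈ A) :
    g ∈ Subgroup.normalizer (A : Set G) := by
  have hs1' : g * s * g⁻¹ ≠ 1 := by
    intro h
    apply hs1
    have : s = g⁻¹ * (g * s * g⁻¹) * g := by group
    rw [this, h]; group
  rw [Subgroup.mem_normalizer_iff]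
  intro h
  constructor
  · intro hh
    apply hcent _ hgs hs1'
    have := hcomm h hh s hs
    calc g * h * g⁻¹ * (g * s * g⁻¹) = g * (h * s) * g⁻¹ := by group
      _ = g * (s * h) * g⁻¹ := by rw [this]
      _ = g * s * g⁻¹ * (g * h * g⁻¹) := by group
  · intro hh
    apply hcent _ hs hs1
    have := hcomm _ hh _ hgs
    calc h * s = g⁻¹ * ((g * h * g⁻¹) * (g * s * g⁻¹)) * g := by group
      _ = g⁻¹ * ((g * s * g⁻¹) * (g * h * g⁻¹)) * g := by rw [this]
      _ = s * h := by group

/-- the normalizer has order `e * |A|` -/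
theorem card_normalizer [Finite G] (A : Subgroup G)
    (hcomm : ∀ x ∈ A, ∀ y ∈ A, x * y = y * x)
    (hcent : ∀ a ∈ A, a ≠ 1 → ∀ x : G, x * a = a * x → x ∈ A)
    (hconj : ∀ u v : G, orderOf u = 2 → orderOf v = 2 → ∃ g : G, g * u * g⁻¹ = v)
    (e : ℕ) (he : Nat.card {a : G // a ∈ A ∧ orderOf a = 2} = e) (hpos : 0 < e) :
    Nat.card (Subgroup.normalizer (A : Set G)) = e * Nat.card A := by
  classical
  set N := Subgroup.normalizer (A : Set G) with hN
  have hAN : A ≤ N := Subgroup.le_normalizer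
  -- a base involution
  have hne : Nonempty {a : G // a ∈ A ∧ orderOf a = 2} := by
    by_contra hcon
    rw [not_nonempty_iff] at hcon
    rw [Nat.card_of_isEmpty] at he
    omega
  obtain ⟨⟨s₀, hs₀A, hs₀2⟩⟩ := hne
  have hs₀1 : s₀ ≠ 1 := by
    intro h; rw [h, orderOf_one] at hs₀2; omega
  -- representatives
  have hrep : ∀ x : {a : G // a ∈ A ∧ orderOf a = 2}, ∃ g : G, g ∈ N ∧ g * s₀ * g⁻¹ = x.1 := by
    intro x
    obtain ⟨g, hg⟩ := hconj s₀ x.1 hs₀2 x.2.2
    exact ⟨g, mem_normalizer_of_conj_mem A hcomm hcent hs₀A hs₀1 (by rw [hg]; exact x.2.1), hg⟩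
  choose rep hrepN hrepc using hrep
  -- the bijection
  let f : {a : G // a ∈ A ∧ orderOf a = 2} × A → N := fun p =>
    ⟨rep p.1 * (p.2 : G), N.mul_mem (hrepN p.1) (hAN p.2.2)⟩
  have hconjA : ∀ a ∈ A, a * s₀ * a⁻¹ = s₀ := by
    intro a ha
    rw [hcomm a ha s₀ hs₀A]; group
  have hconjf : ∀ p : {a : G // a ∈ A ∧ orderOf a = 2} × A,
      (rep p.1 * (p.2 : G)) * s₀ * (rep p.1 * (p.2 : G))⁻¹ = p.1.1 := by
    intro p
    have := hconjA _ p.2.2
    calc (rep p.1 * (p.2 : G)) * s₀ * (rep p.1 * (p.2 : G))⁻¹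
        = rep p.1 * ((p.2 : G) * s₀ * (p.2 : G)⁻¹) * (rep p.1)⁻¹ := by group
      _ = rep p.1 * s₀ * (rep p.1)⁻¹ := by rw [this]
      _ = p.1.1 := hrepc p.1
  have hfinj : Function.Injective f := by
    intro p p' h
    have h1 : rep p.1 * (p.2 : G) = rep p'.1 * (p'.2 : G) := congrArg Subtype.val h
    have h2 : p.1 = p'.1 := by
      apply Subtype.ext
      rw [← hconjf p, ← hconjf p', h1]
    have h3 : p.2 = p'.2 := by
      apply Subtype.ext
      rw [h2] at h1
      exact mul_left_cancel h1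
    exact Prod.ext h2 h3
  have hfsurj : Function.Surjective f := by
    intro n
    have hx : (n : G) * s₀ * (n : G)⁻¹ ∈ A :=
      (Subgroup.mem_normalizer_iff.mp n.2 s₀).mp hs₀A
    have hx2 : orderOf ((n : G) * s₀ * (n : G)⁻¹) = 2 := by
      rw [orderOf_conj_eq]; exact hs₀2
    set x : {a : G // a ∈ A ∧ orderOf a = 2} := ⟨(n : G) * s₀ * (n : G)⁻¹, hx, hx2⟩ with hxdef
    have hc : (rep x)⁻¹ * (n : G) ∈ A := by
      apply hcent s₀ hs₀A hs₀1
      have h1 : rep x * s₀ * (rep x)⁻¹ = (n : G) * s₀ * (n : G)⁻¹ := hrepc x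
      have h2 : s₀ = (rep x)⁻¹ * ((n : G) * s₀ * (n : G)⁻¹) * rep x := by
        rw [← h1]; group
      calc (rep x)⁻¹ * (n : G) * s₀ = (rep x)⁻¹ * ((n : G) * s₀ * (n : G)⁻¹) * rep x *
            ((rep x)⁻¹ * (n : G)) := by group
        _ = s₀ * ((rep x)⁻¹ * (n : G)) := by rw [← h2]
    refine ⟨(x, ⟨(rep x)⁻¹ * (n : G), hc⟩), ?_⟩
    apply Subtype.ext
    show rep x * ((rep x)⁻¹ * (n : G)) = (n : G)
    group
  have hcard := Nat.card_congr (Equiv.ofBijective f ⟨hfinj, hfsurj⟩)
  rw [Nat.card_prod, he] at hcard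
  exact hcard.symm

theorem relIndex_mul_card [Finite G] (A : Subgroup G) :
    A.relIndex (Subgroup.normalizer (A : Set G)) * Nat.card A =
      Nat.card (Subgroup.normalizer (A : Set G)) := by
  have h := Subgroup.relIndex_mul_relIndex (⊥ : Subgroup G) A (Subgroup.normalizer (A : Set G))
    bot_le Subgroup.le_normalizer
  rw [Subgroup.relIndex_bot_left, Subgroup.relIndex_bot_left] at h
  rw [mul_comm]; exact h

theorem normalizer_index [Finite G] (A : Subgroup G)
    (hcomm : ∀ x ∈ A, ∀ y ∈ A, x * y = y * x)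
    (hcent : ∀ a ∈ A, a ≠ 1 → ∀ x : G, x * a = a * x → x ∈ A)
    (hconj : ∀ u v : G, orderOf u = 2 → orderOf v = 2 → ∃ g : G, g * u * g⁻¹ = v)
    (e : ℕ) (he : Nat.card {a : G // a ∈ A ∧ orderOf a = 2} = e) (hpos : 0 < e) :
    A.relIndex (Subgroup.normalizer (A : Set G)) = e := by
  have h1 := card_normalizer A hcomm hcent hconj e he hpos
  have h2 := relIndex_mul_card A
  rw [h1] at h2
  exact Nat.eq_of_mul_eq_mul_right Nat.card_pos h2

/-- If all orbits of an action on a finite type have `k` elements, then `k` divides the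
cardinality of the type. -/
theorem dvd_card_of_orbit_card {M Y : Type*} [Group M] [MulAction M Y] [Finite Y] (k : ℕ)
    (h : ∀ y : Y, Nat.card (orbit M y) = k) : k ∣ Nat.card Y := by
  classical
  haveI : Fintype (orbitRel.Quotient M Y) := Fintype.ofFinite _
  rw [Nat.card_congr (selfEquivSigmaOrbits' M Y), Nat.card_sigma]
  have : ∀ ω : orbitRel.Quotient M Y, Nat.card ω.orbit = k := by
    intro ω
    induction ω using Quotient.inductionOn' with
    | _ y =>
      rw [orbitRel.Quotient.orbit_mk]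
      exact h y
  simp_rw [this]
  rw [Finset.sum_const, smul_eq_mul]
  exact dvd_mul_left _ _

theorem normalizer_dvd [Finite G] (A : Subgroup G)
    (hcomm : ∀ x ∈ A, ∀ y ∈ A, x * y = y * x)
    (hcent : ∀ a ∈ A, a ≠ 1 → ∀ x : G, x * a = a * x → x ∈ A) :
    A.relIndex (Subgroup.normalizer (A : Set G)) ∣ Nat.card A - 1 := by
  classical
  set N := Subgroup.normalizer (A : Set G) with hN
  have hAN : A ≤ N := Subgroup.le_normalizer
  -- the punctured subgroup
  let Y := {a : G // a ∈ A ∧ a ≠ 1}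
  have hcardY : Nat.card Y + 1 = Nat.card A := by
    rw [← Finite.card_option]
    apply Nat.card_congr
    refine ⟨fun o => match o with
        | none => (1 : A)
        | some y => ⟨y.1, y.2.1⟩,
      fun a => if h : (a : G) = 1 then none else some ⟨a.1, a.2, h⟩, ?_, ?_⟩
    · intro o
      cases o with
      | none => simp
      | some y =>
        have : (y.1 : G) ≠ 1 := y.2.2
        simp [this]
    · intro a
      by_cases h : (a : G) = 1
      · simp only [h, dite_true]
        exact Subtype.ext h.symm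
      · simp [h]
  have hY : Nat.card Y = Nat.card A - 1 := by omega
  rw [← hY]
  -- the action by conjugation
  letI : MulAction N Y :=
    { smul := fun n y => ⟨(n : G) * y.1 * (n : G)⁻¹,
        (Subgroup.mem_normalizer_iff.mp n.2 y.1).mp y.2.1, by
          intro h
          apply y.2.2
          have : y.1 = (n : G)⁻¹ * ((n : G) * y.1 * (n : G)⁻¹) * (n : G) := by group
          rw [this, h]; group⟩
      one_smul := by
        intro y
        apply Subtype.ext
        show ((1 : N) : G) * y.1 * ((1 : N) : G)⁻¹ = y.1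
        simp
      mul_smul := by
        intro n n' y
        apply Subtype.ext
        show ((n * n' : N) : G) * y.1 * ((n * n' : N) : G)⁻¹ =
          (n : G) * ((n' : G) * y.1 * (n' : G)⁻¹) * (n : G)⁻¹
        rw [Subgroup.coe_mul]; group }
  have hsmul : ∀ (n : N) (y : Y), ((n • y : Y) : G) = (n : G) * y.1 * (n : G)⁻¹ := fun _ _ => rfl
  apply dvd_card_of_orbit_card (M := N) (Y := Y)
  intro y
  rw [Nat.card_coe_set_eq, ← MulAction.index_stabilizer]
  have hstab : stabilizer N y = A.subgroupOf N := by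
    ext n
    rw [mem_stabilizer_iff, Subgroup.mem_subgroupOf]
    constructor
    · intro h
      have h1 : (n : G) * y.1 * (n : G)⁻¹ = y.1 := by rw [← hsmul, h]
      apply hcent y.1 y.2.1 y.2.2
      calc (n : G) * y.1 = (n : G) * y.1 * (n : G)⁻¹ * (n : G) := by group
        _ = y.1 * (n : G) := by rw [h1]
    · intro h
      apply Subtype.ext
      rw [hsmul, hcomm _ h _ y.2.1]
      group
  rw [hstab]
  rfl

theorem normalizer_inv [Finite G] (A : Subgroup G)
    (hcomm : ∀ x ∈ A, ∀ y ∈ A, x * y = y * x)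
    (hcent : ∀ a ∈ A, a ≠ 1 → ∀ x : G, x * a = a * x → x ∈ A)
    (hodd : Odd (Nat.card {a : G // a ∈ A ∧ orderOf a = 2})) :
    ∀ u ∈ Subgroup.normalizer (A : Set G), orderOf u = 2 → u ∈ A := by
  classical
  intro u huN hu2
  let X := {a : G // a ∈ A ∧ orderOf a = 2}
  haveI : Fintype X := Fintype.ofFinite X
  have huu : u * u = 1 := by
    have := pow_orderOf_eq_one u
    rw [hu2, pow_two] at this
    exact this
  have huinv : u⁻¹ = u := inv_eq_of_mul_eq_one_right huu
  let σf : X → X := fun x => ⟨u * x.1 * u⁻¹, (Subgroup.mem_normalizer_iff.mp huN x.1).mp x.2.1, by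
    rw [orderOf_conj_eq]; exact x.2.2⟩
  have hσσ : ∀ x : X, σf (σf x) = x := by
    intro x
    apply Subtype.ext
    show u * (u * x.1 * u⁻¹) * u⁻¹ = x.1
    calc u * (u * x.1 * u⁻¹) * u⁻¹ = (u * u) * x.1 * (u * u)⁻¹ := by group
      _ = x.1 := by rw [huu]; group
  let σ : Equiv.Perm X := ⟨σf, σf, hσσ, hσσ⟩
  have hσ2 : σ ^ 2 ^ 1 = 1 := by
    ext x
    rw [pow_one, pow_two]
    show ((σf (σf x) : X) : G) = x.1
    rw [hσσ]
  have hnd : ¬ 2 ∣ Fintype.card X := by
    rw [← Nat.card_eq_fintype_card]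
    intro h
    exact (Nat.not_even_iff_odd.mpr hodd) (even_iff_two_dvd.mpr h)
  haveI : Fact (Nat.Prime 2) := ⟨Nat.prime_two⟩
  obtain ⟨s, hs⟩ := Equiv.Perm.exists_fixed_point_of_prime (p := 2) (n := 1) hnd hσ2
  have hs' : u * s.1 * u⁻¹ = s.1 := congrArg Subtype.val hs
  have hs1 : s.1 ≠ 1 := by
    intro h
    have := s.2.2
    rw [h, orderOf_one] at this
    omega
  apply hcent s.1 s.2.1 hs1
  calc u * s.1 = u * s.1 * u⁻¹ * u := by group
    _ = s.1 * u := by rw [hs']

end Cfsg.Agent.Helper3.CT
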