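import Mathlib
import Cfsg.Agent.Helper18.S3265Defs
import Cfsg.Agent.Helper18.S3265Basic

/-!
# S3265, piece INS: inserting two fixed points into a cycle keeps the order odd
-/

set_option autoImplicit false

namespace Cfsg.Agent.S3265P

open Equiv

/-- a permutation all of whose points have an odd period has odd order -/
theorem ins_odd_of_pointwise {Ω : Type*} [Fintype Ω] [DecidableEq Ω] (S : Perm Ω)
    (h : ∀ ω, ∃ m, Odd m ∧ (S ^ m) ω = ω) : Odd (orderOf S) := by
  choose m hm1 hm2 using h
  have hM : Odd (∏ ω, m ω) :=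
    Finset.prod_induction _ Odd (fun a b ha hb => ha.mul hb) odd_one (fun ω _ => hm1 ω)
  have hS : S ^ (∏ ω, m ω) = 1 := by
    ext ω
    obtain ⟨k, hk⟩ := Finset.dvd_prod_of_mem m (Finset.mem_univ ω)
    rw [hk, pow_mul]
    have : ∀ k, ((S ^ m ω) ^ k) ω = ω := by
      intro k
      induction k with
      | zero => simp
      | succ k ih => rw [pow_succ, Perm.mul_apply, hm2, ih]
    simpa using this k
  exact odd_orderOf_of_pow_eq_one hM hS

theorem ins_pow_fix {Ω : Type*} (T : Perm Ω) (u : Ω) (hu : T u = u) (j : ℕ) : (T ^ j) u = u := by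
  induction j with
  | zero => simp
  | succ j ih => rw [pow_succ, Perm.mul_apply, hu, ih]

theorem ins_pow_ne_fix {Ω : Type*} (T : Perm Ω) (u ω : Ω) (hu : T u = u) (h : ω ≠ u) (j : ℕ) :
    (T ^ j) ω ≠ u := by
  intro h2
  apply h
  have := ins_pow_fix T u hu j
  exact (T ^ j).injective (h2.trans this.symm)

theorem odd_orderOf_ins {Ω : Type*} [Fintype Ω] [DecidableEq Ω] (T : Perm Ω) (q u v : Ω)
    (hqu : q ≠ u) (hqv : q ≠ v) (huv : u ≠ v) (hu : T u = u) (hv : T v = v)
    (hT : Odd (orderOf T)) : Odd (orderOf (swap q v * swap q u * T)) := by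
  set S : Perm Ω := swap q v * swap q u * T with hS
  -- the three cycle
  have hcq : (swap q v * swap q u) q = u := by
    rw [Perm.mul_apply, swap_apply_left, swap_apply_of_ne_of_ne hqu.symm huv]
  have hcu : (swap q v * swap q u) u = v := by
    rw [Perm.mul_apply, swap_apply_right, swap_apply_left]
  have hcv : (swap q v * swap q u) v = q := by
    rw [Perm.mul_apply, swap_apply_of_ne_of_ne hqv.symm huv.symm, swap_apply_right]
  have hco : ∀ ω, ω ≠ q → ω ≠ u → ω ≠ v → (swap q v * swap q u) ω = ω := by
    intro ω h1 h2 h3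
    rw [Perm.mul_apply, swap_apply_of_ne_of_ne h1 h2, swap_apply_of_ne_of_ne h1 h3]
  have hSapp : ∀ ω, S ω = (swap q v * swap q u) (T ω) := fun ω => rfl
  have hSu : S u = v := by rw [hSapp, hu, hcu]
  have hSv : S v = q := by rw [hSapp, hv, hcv]
  have hSq : ∀ ω, T ω = q → S ω = u := by
    intro ω h; rw [hSapp, h, hcq]
  have hSo : ∀ ω, T ω ≠ q → ω ≠ u → ω ≠ v → S ω = T ω := by
    intro ω h1 h2 h3
    rw [hSapp]
    apply hco _ h1
    · intro h; apply h2; exact T.injective (h.trans hu.symm)
    · intro h; apply h3; exact T.injective (h.trans hv.symm)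
  -- periods
  set N := orderOf T with hN
  set L := Function.minimalPeriod T q with hL
  have hper : Function.IsPeriodicPt T N q := by
    have : (T ^ N) q = q := by rw [hN, pow_orderOf_eq_one]; rfl
    unfold Function.IsPeriodicPt Function.IsFixedPt
    rw [← Perm.coe_pow (n := N)] at *
    exact this
  have hNpos : 0 < N := orderOf_pos T
  have hLdvd : L ∣ N := hper.minimalPeriod_dvd
  have hLodd : Odd L := Odd.of_dvd_nat hT hLdvd
  have hLpos : 0 < L := Function.IsPeriodicPt.minimalPeriod_pos hNpos hper
  have hTL : (T ^ L) q = q := by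
    have := Function.isPeriodicPt_minimalPeriod T q
    unfold Function.IsPeriodicPt Function.IsFixedPt at this
    rw [Perm.coe_pow]
    exact this
  have hTj : ∀ j, 0 < j → j < L → (T ^ j) q ≠ q := by
    intro j h1 h2 h3
    have := Function.not_isPeriodicPt_of_pos_of_lt_minimalPeriod (f := T) (x := q) h1.ne' h2
    apply this
    unfold Function.IsPeriodicPt Function.IsFixedPt
    rw [← Perm.coe_pow]
    exact h3
  -- the S-orbit of q
  have h1 : ∀ j, j < L → (S ^ j) q = (T ^ j) q := by
    intro j
    induction j with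
    | zero => intro _; simp
    | succ j ih =>
      intro hj
      rw [pow_succ', Perm.mul_apply, ih (by omega), pow_succ', Perm.mul_apply]
      apply hSo
      · have := hTj (j + 1) (by omega) hj
        rwa [pow_succ', Perm.mul_apply] at this
      · exact ins_pow_ne_fix T u q hu hqu j
      · exact ins_pow_ne_fix T v q hv hqv j
  have h2 : (S ^ L) q = u := by
    obtain ⟨L', hL'⟩ : ∃ L', L = L' + 1 := ⟨L - 1, by omega⟩
    rw [hL', pow_succ', Perm.mul_apply, h1 L' (by omega)]
    apply hSq
    rw [← Perm.mul_apply, ← pow_succ', ← hL', hTL]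
  have h3 : (S ^ (L + 1)) q = v := by
    rw [pow_succ', Perm.mul_apply, h2, hSu]
  have h4 : (S ^ (L + 2)) q = q := by
    rw [pow_succ', Perm.mul_apply, h3, hSv]
  have hodd2 : Odd (L + 2) := by
    obtain ⟨k, hk⟩ := hLodd
    exact ⟨k + 1, by omega⟩
  have horb : ∀ ω, S.SameCycle q ω → (S ^ (L + 2)) ω = ω := by
    rintro ω ⟨i, rfl⟩
    have hc : Commute (S ^ (L + 2)) (S ^ i) := ((Commute.refl S).pow_left _).zpow_right _
    rw [← Perm.mul_apply, hc.eq, Perm.mul_apply, h4]
  have hqu' : S.SameCycle q u := ⟨(L : ℤ), by rw [zpow_natCast]; exact h2⟩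
  have hqv' : S.SameCycle q v := ⟨((L + 1 : ℕ) : ℤ), by rw [zpow_natCast]; exact h3⟩
  apply ins_odd_of_pointwise
  intro ω
  by_cases hω : S.SameCycle q ω
  · exact ⟨L + 2, hodd2, horb ω hω⟩
  · refine ⟨N, hT, ?_⟩
    have h5 : ∀ i, (S ^ i) ω = (T ^ i) ω := by
      intro i
      induction i with
      | zero => simp
      | succ i ih =>
        have hsc : S.SameCycle ω ((S ^ i) ω) := ⟨(i : ℤ), by rw [zpow_natCast]⟩
        rw [pow_succ', Perm.mul_apply, ih, pow_succ', Perm.mul_apply]
        apply hSo
        · intro h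
          apply hω
          have h6 : S ((T ^ i) ω) = u := hSq _ h
          rw [← ih] at h6
          have h7 : S.SameCycle ((S ^ i) ω) u := ⟨1, by rw [zpow_one]; exact h6⟩
          exact hqu'.trans (hsc.trans h7).symm
        · intro h
          apply hω
          rw [← ih] at h
          rw [h] at hsc
          exact hqu'.trans hsc.symm
        · intro h
          apply hω
          rw [← ih] at h
          rw [h] at hsc
          exact hqv'.trans hsc.symm
    rw [h5, hN, pow_orderOf_eq_one]
    rfl

end Cfsg.Agent.S3265P
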