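import Mathlib
import Cfsg.Agent.Helper18.S3265Defs
import Cfsg.Agent.Helper18.S3265Basic
import Cfsg.Agent.Helper3.S3265INS

/-!
# S3265, piece CLIFT: lifting a common odd neighbour through a contraction
-/

set_option autoImplicit false

namespace Cfsg.Agent.S3265P

open Equiv

set_option linter.unusedSimpArgs false in
/-- the product of the six transpositions is the product of two 3-cycles -/
theorem clift_pi {Ω : Type*} [DecidableEq Ω] (a b c d e f : Ω)
    (hab : a ≠ b) (hac : a ≠ c) (had : a ≠ d) (hae : a ≠ e) (haf : a ≠ f)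
    (hbc : b ≠ c) (hbd : b ≠ d) (hbe : b ≠ e) (hbf : b ≠ f)
    (hcd : c ≠ d) (hce : c ≠ e) (hcf : c ≠ f) (hde : d ≠ e) (hdf : d ≠ f) (hef : e ≠ f) :
    swap e f * swap c d * swap a b * swap a f * (swap b c * swap d e) =
      swap a c * swap a e * (swap f d * swap f b) := by
  ext ω
  simp only [Perm.mul_apply]
  by_cases h1 : ω = a
  · subst h1
    simp [swap_apply_of_ne_of_ne, hab, hac, had, hae, haf, hbc, hbd, hbe, hbf, hcd, hce, hcf,
      hde, hdf, hef, hab.symm, hac.symm, had.symm, hae.symm, haf.symm, hbc.symm, hbd.symm,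
      hbe.symm, hbf.symm, hcd.symm, hce.symm, hcf.symm, hde.symm, hdf.symm, hef.symm]
  by_cases h2 : ω = b
  · subst h2
    simp [swap_apply_of_ne_of_ne, hab, hac, had, hae, haf, hbc, hbd, hbe, hbf, hcd, hce, hcf,
      hde, hdf, hef, hab.symm, hac.symm, had.symm, hae.symm, haf.symm, hbc.symm, hbd.symm,
      hbe.symm, hbf.symm, hcd.symm, hce.symm, hcf.symm, hde.symm, hdf.symm, hef.symm]
  by_cases h3 : ω = c
  · subst h3
    simp [swap_apply_of_ne_of_ne, hab, hac, had, hae, haf, hbc, hbd, hbe, hbf, hcd, hce, hcf,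
      hde, hdf, hef, hab.symm, hac.symm, had.symm, hae.symm, haf.symm, hbc.symm, hbd.symm,
      hbe.symm, hbf.symm, hcd.symm, hce.symm, hcf.symm, hde.symm, hdf.symm, hef.symm]
  by_cases h4 : ω = d
  · subst h4
    simp [swap_apply_of_ne_of_ne, hab, hac, had, hae, haf, hbc, hbd, hbe, hbf, hcd, hce, hcf,
      hde, hdf, hef, hab.symm, hac.symm, had.symm, hae.symm, haf.symm, hbc.symm, hbd.symm,
      hbe.symm, hbf.symm, hcd.symm, hce.symm, hcf.symm, hde.symm, hdf.symm, hef.symm]
  by_cases h5 : ω = e
  · subst h5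
    simp [swap_apply_of_ne_of_ne, hab, hac, had, hae, haf, hbc, hbd, hbe, hbf, hcd, hce, hcf,
      hde, hdf, hef, hab.symm, hac.symm, had.symm, hae.symm, haf.symm, hbc.symm, hbd.symm,
      hbe.symm, hbf.symm, hcd.symm, hce.symm, hcf.symm, hde.symm, hdf.symm, hef.symm]
  by_cases h6 : ω = f
  · subst h6
    simp [swap_apply_of_ne_of_ne, hab, hac, had, hae, haf, hbc, hbd, hbe, hbf, hcd, hce, hcf,
      hde, hdf, hef, hab.symm, hac.symm, had.symm, hae.symm, haf.symm, hbc.symm, hbd.symm,
      hbe.symm, hbf.symm, hcd.symm, hce.symm, hcf.symm, hde.symm, hdf.symm, hef.symm]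
  simp [swap_apply_of_ne_of_ne, h1, h2, h3, h4, h5, h6]

theorem clift_disjoint_swap {Ω : Type*} [DecidableEq Ω] (T : Perm Ω) (b c : Ω) (hb : T b = b)
    (hc : T c = c) : T.Disjoint (swap b c) := by
  intro ω
  by_cases h1 : ω = b
  · left; rw [h1, hb]
  by_cases h2 : ω = c
  · left; rw [h2, hc]
  right
  exact swap_apply_of_ne_of_ne h1 h2

theorem contract_lift {Ω : Type*} [Fintype Ω] [DecidableEq Ω] (x y : Perm Ω) (hA : Adm x y)
    (a b c d e f : Ω) (hab : x a = b) (hbc : y b = c) (hcd : x c = d) (hde : y d = e)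
    (hef : x e = f) (hnd : [a, b, c, d, e, f].Nodup)
    (hx' : ∀ ω, Rem b c d e (xt x a b c d e f ω) ↔ Rem b c d e ω)
    (hy' : ∀ ω, Rem b c d e (y ω) ↔ Rem b c d e ω)
    (h : Q (res (xt x a b c d e f) (Rem b c d e) hx') (res y (Rem b c d e) hy')) : Q x y := by
  obtain ⟨z', hz2, hzc, hxz, hzy⟩ := h
  simp only [List.nodup_cons, List.mem_cons, List.not_mem_nil, or_false, not_or,
    List.nodup_nil, and_true, not_false_eq_true] at hnd
  obtain ⟨⟨(nab : a ≠ b), (nac : a ≠ c), (nad : a ≠ d), (nae : a ≠ e), (naf : a ≠ f)⟩,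
    ⟨(nbc : b ≠ c), (nbd : b ≠ d), (nbe : b ≠ e), (nbf : b ≠ f)⟩,
    ⟨(ncd : c ≠ d), (nce : c ≠ e), (ncf : c ≠ f)⟩, ⟨(nde : d ≠ e), (ndf : d ≠ f)⟩,
    (nef : e ≠ f)⟩ := hnd
  have hx2 := hA.x2
  have hy2 := hA.y2
  have hxx : ∀ ω, x (x ω) = ω := fun ω => by rw [← Perm.mul_apply, hx2]; rfl
  have hyy : ∀ ω, y (y ω) = ω := fun ω => by rw [← Perm.mul_apply, hy2]; rfl
  have hba : x b = a := by rw [← hab, hxx]
  have hdc : x d = c := by rw [← hcd, hxx]
  have hfe : x f = e := by rw [← hef, hxx]
  have hcb : y c = b := by rw [← hbc, hyy]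
  have hed : y e = d := by rw [← hde, hyy]
  -- the rest of x
  set xr : Perm Ω := swap a b * swap c d * swap e f * x with hxr
  have hra : xr a = a := by
    simp only [hxr, Perm.mul_apply, hab]
    rw [swap_apply_of_ne_of_ne nbe nbf, swap_apply_of_ne_of_ne nbc nbd, swap_apply_right]
  have hrb : xr b = b := by
    simp only [hxr, Perm.mul_apply, hba]
    rw [swap_apply_of_ne_of_ne nae naf, swap_apply_of_ne_of_ne nac nad, swap_apply_left]
  have hrc : xr c = c := by
    simp only [hxr, Perm.mul_apply, hcd]
    rw [swap_apply_of_ne_of_ne nde ndf, swap_apply_right,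
      swap_apply_of_ne_of_ne nac.symm nbc.symm]
  have hrd : xr d = d := by
    simp only [hxr, Perm.mul_apply, hdc]
    rw [swap_apply_of_ne_of_ne nce ncf, swap_apply_left,
      swap_apply_of_ne_of_ne nad.symm nbd.symm]
  have hre : xr e = e := by
    simp only [hxr, Perm.mul_apply, hef]
    rw [swap_apply_right, swap_apply_of_ne_of_ne nce.symm nde.symm,
      swap_apply_of_ne_of_ne nae.symm nbe.symm]
  have hrf : xr f = f := by
    simp only [hxr, Perm.mul_apply, hfe]
    rw [swap_apply_left, swap_apply_of_ne_of_ne ncf.symm ndf.symm,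
      swap_apply_of_ne_of_ne naf.symm nbf.symm]
  set X : Perm Ω := xt x a b c d e f with hX
  have hXr : X = swap a f * xr := by
    rw [hX, hxr]; unfold xt; simp only [mul_assoc]
  have hxXr : x = swap e f * swap c d * swap a b * xr := by
    rw [hxr]; simp only [mul_assoc, swap_mul_self_mul]
  have hxPX : x = swap e f * swap c d * swap a b * swap a f * X := by
    rw [hXr]; simp only [mul_assoc, swap_mul_self_mul]; rw [hxXr]; simp only [mul_assoc]
  have hXb : X b = b := by
    rw [hXr, Perm.mul_apply, hrb, swap_apply_of_ne_of_ne nab.symm nbf]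
  have hXc : X c = c := by
    rw [hXr, Perm.mul_apply, hrc, swap_apply_of_ne_of_ne nac.symm ncf]
  have hXd : X d = d := by
    rw [hXr, Perm.mul_apply, hrd, swap_apply_of_ne_of_ne nad.symm ndf]
  have hXe : X e = e := by
    rw [hXr, Perm.mul_apply, hre, swap_apply_of_ne_of_ne nae.symm nef]
  -- non-Rem points
  have hnR : ∀ ω, ¬ Rem b c d e ω → ω = b ∨ ω = c ∨ ω = d ∨ ω = e := by
    intro ω h
    unfold Rem at h
    tauto
  have hRb : ¬ Rem b c d e b := fun h => h.1 rfl
  have hRc : ¬ Rem b c d e c := fun h => h.2.1 rfl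
  have hRd : ¬ Rem b c d e d := fun h => h.2.2.1 rfl
  have hRe : ¬ Rem b c d e e := fun h => h.2.2.2 rfl
  have hXsub : Perm.ofSubtype (res X (Rem b c d e) hx') = X := by
    apply Perm.ofSubtype_subtypePerm
    intro ω hω
    by_contra hR
    rcases hnR ω hR with rfl | rfl | rfl | rfl
    · exact hω hXb
    · exact hω hXc
    · exact hω hXd
    · exact hω hXe
  set Z' : Perm Ω := Perm.ofSubtype z' with hZ'
  have hZb : Z' b = b := Perm.ofSubtype_apply_of_not_mem z' hRb
  have hZc : Z' c = c := Perm.ofSubtype_apply_of_not_mem z' hRc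
  have hZd : Z' d = d := Perm.ofSubtype_apply_of_not_mem z' hRd
  have hZe : Z' e = e := Perm.ofSubtype_apply_of_not_mem z' hRe
  have hZ2 : Z' * Z' = 1 := by
    rw [hZ', ← map_mul, hz2, map_one]
  -- disjointness
  have dZB : Z'.Disjoint (swap b c) := clift_disjoint_swap Z' b c hZb hZc
  have dZD : Z'.Disjoint (swap d e) := clift_disjoint_swap Z' d e hZd hZe
  have dXB : X.Disjoint (swap b c) := clift_disjoint_swap X b c hXb hXc
  have dXD : X.Disjoint (swap d e) := clift_disjoint_swap X d e hXd hXe
  have dBD : (swap b c).Disjoint (swap d e) :=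
    clift_disjoint_swap _ d e (swap_apply_of_ne_of_ne nbd.symm ncd.symm)
      (swap_apply_of_ne_of_ne nbe.symm nce.symm)
  have dZBD : Z'.Disjoint (swap b c * swap d e) := dZB.mul_right dZD
  have dXBD : X.Disjoint (swap b c * swap d e) := dXB.mul_right dXD
  have hBD2 : (swap b c * swap d e) * (swap b c * swap d e) = 1 := by
    have := dBD.commute.mul_pow 2
    rw [pow_two, pow_two, pow_two, swap_mul_self, swap_mul_self, one_mul] at this
    exact this
  refine ⟨Z' * (swap b c * swap d e), ?_, ?_, ?_, ?_⟩
  · -- involution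
    have := dZBD.commute.mul_pow 2
    rw [pow_two, pow_two, pow_two, hZ2, hBD2, one_mul] at this
    exact this
  · -- support
    rw [dZBD.card_support_mul, dBD.card_support_mul, Perm.card_support_swap nbc,
      Perm.card_support_swap nde]
    have h1 : Z'.support.card = X.support.card := by
      rw [hZ', Perm.support_ofSubtype, Finset.card_map, hzc, ← hXsub, Perm.support_ofSubtype,
        Finset.card_map]
    have dra : xr.Disjoint (swap a b) := clift_disjoint_swap xr a b hra hrb
    have drc : xr.Disjoint (swap c d) := clift_disjoint_swap xr c d hrc hrd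
    have dre : xr.Disjoint (swap e f) := clift_disjoint_swap xr e f hre hrf
    have draf : xr.Disjoint (swap a f) := clift_disjoint_swap xr a f hra hrf
    have h2 : X.support.card = xr.support.card + 2 := by
      rw [hXr, draf.symm.card_support_mul, Perm.card_support_swap naf, add_comm]
    have h3 : x.support.card = xr.support.card + 6 := by
      have dcd : (swap c d).Disjoint (swap a b) :=
        clift_disjoint_swap _ a b (swap_apply_of_ne_of_ne nac nad)
          (swap_apply_of_ne_of_ne nbc nbd)
      have def1 : (swap e f).Disjoint (swap c d) :=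
        clift_disjoint_swap _ c d (swap_apply_of_ne_of_ne nce ncf)
          (swap_apply_of_ne_of_ne nde ndf)
      have def2 : (swap e f).Disjoint (swap a b) :=
        clift_disjoint_swap _ a b (swap_apply_of_ne_of_ne nae naf)
          (swap_apply_of_ne_of_ne nbe nbf)
      have e1 : x = xr * (swap e f * (swap c d * swap a b)) := by
        have hd : xr.Disjoint (swap e f * (swap c d * swap a b)) :=
          dre.mul_right (drc.mul_right dra)
        rw [hd.commute.eq, hxXr]; simp only [mul_assoc]
      have hd : xr.Disjoint (swap e f * (swap c d * swap a b)) :=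
        dre.mul_right (drc.mul_right dra)
      rw [e1, hd.card_support_mul, (def1.mul_right def2).card_support_mul,
        dcd.card_support_mul, Perm.card_support_swap nef, Perm.card_support_swap ncd,
        Perm.card_support_swap nab]
    omega
  · -- x * z
    set W : Perm Ω := Perm.ofSubtype (res X (Rem b c d e) hx' * z') with hW
    have hWXZ : W = X * Z' := by
      rw [hW, map_mul, hXsub]
    have hWodd : Odd (orderOf W) := by
      rw [hW, orderOf_injective _ Perm.ofSubtype_injective]
      exact hxz
    have hWb : W b = b := Perm.ofSubtype_apply_of_not_mem _ hRb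
    have hWc : W c = c := Perm.ofSubtype_apply_of_not_mem _ hRc
    have hWd : W d = d := Perm.ofSubtype_apply_of_not_mem _ hRd
    have hWe : W e = e := Perm.ofSubtype_apply_of_not_mem _ hRe
    have key : x * (Z' * (swap b c * swap d e)) =
        swap a c * swap a e * (swap f d * swap f b * W) := by
      have hc : Commute (X * Z') (swap b c * swap d e) :=
        dXBD.commute.mul_left dZBD.commute
      calc x * (Z' * (swap b c * swap d e))
          = swap e f * swap c d * swap a b * swap a f * ((X * Z') * (swap b c * swap d e)) := by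
            conv_lhs => rw [hxPX]
            simp only [mul_assoc]
        _ = swap e f * swap c d * swap a b * swap a f * (swap b c * swap d e) * (X * Z') := by
            rw [hc.eq]; simp only [mul_assoc]
        _ = swap a c * swap a e * (swap f d * swap f b * W) := by
            rw [clift_pi a b c d e f nab nac nad nae naf nbc nbd nbe nbf ncd nce ncf nde ndf nef,
              hWXZ]
            simp only [mul_assoc]
    rw [key]
    have s1 : Odd (orderOf (swap f d * swap f b * W)) :=
      odd_orderOf_ins W f b d nbf.symm ndf.symm nbd hWb hWd hWodd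
    apply odd_orderOf_ins _ a e c nae nac nce.symm _ _ s1
    · rw [Perm.mul_apply, Perm.mul_apply, hWe, swap_apply_of_ne_of_ne nef nbe.symm,
        swap_apply_of_ne_of_ne nef nde.symm]
    · rw [Perm.mul_apply, Perm.mul_apply, hWc, swap_apply_of_ne_of_ne ncf nbc.symm,
        swap_apply_of_ne_of_ne ncf ncd]
  · -- z * y
    have hY : swap b c * swap d e * y = Perm.ofSubtype (res y (Rem b c d e) hy') := by
      ext ω
      by_cases hR : Rem b c d e ω
      · rw [Perm.ofSubtype_apply_of_mem _ hR]
        simp only [Perm.mul_apply, Perm.subtypePerm_apply]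
        have hR' := (hy' ω).2 hR
        rw [swap_apply_of_ne_of_ne hR'.2.2.1 hR'.2.2.2, swap_apply_of_ne_of_ne hR'.1 hR'.2.1]
      · rw [Perm.ofSubtype_apply_of_not_mem _ hR]
        simp only [Perm.mul_apply]
        rcases hnR ω hR with rfl | rfl | rfl | rfl
        · rw [hbc, swap_apply_of_ne_of_ne ncd nce, swap_apply_right]
        · rw [hcb, swap_apply_of_ne_of_ne nbd nbe, swap_apply_left]
        · rw [hde, swap_apply_right, swap_apply_of_ne_of_ne nbd.symm ncd.symm]
        · rw [hed, swap_apply_left, swap_apply_of_ne_of_ne nbe.symm nce.symm]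
    have : Z' * (swap b c * swap d e) * y = Perm.ofSubtype (z' * res y (Rem b c d e) hy') := by
      rw [map_mul, ← hY, hZ']; simp only [mul_assoc]
    rw [this, orderOf_injective _ Perm.ofSubtype_injective]
    exact hzy

end Cfsg.Agent.S3265P
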