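import Mathlib
import Cfsg.Prelude.Def_GeometricClasses
import Cfsg.Agent.Helper18.S5707.Defs
import Cfsg.Agent.Helper21.S5980GFORM

/-! # S5707 piece GRAM4 (driver helper18): a symplectic basis in dimension 4 (characteristic 2). -/

set_option autoImplicit false

namespace Cfsg.Agent.S5707P

open Matrix

variable {F : Type*} [Field F] {k t : ℕ}

namespace GRAM4

/-- the Gram matrix in a new basis -/
theorem gram_change (f₁ : (Fin 4 → F) → (Fin 4 → F) → F) (hb : Cfsg.Geo.IsBilinearForm f₁)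
    (v : Fin 4 → Fin 4 → F) (a b : Fin 4) :
    ((Matrix.of fun i c => v c i : Matrix (Fin 4) (Fin 4) F)ᵀ * Cfsg.Geo.gramMatrix f₁ *
      (Matrix.of fun i c => v c i : Matrix (Fin 4) (Fin 4) F)) a b = f₁ (v a) (v b) := by
  rw [Cfsg.Agent.S5980P.GFORM.apply_eq f₁ hb]
  simp only [Matrix.mul_apply, Matrix.transpose_apply, Matrix.of_apply, dotProduct, Matrix.mulVec,
    Finset.sum_mul, Finset.mul_sum]
  rw [Finset.sum_comm]
  refine Finset.sum_congr rfl fun i _ => Finset.sum_congr rfl fun j _ => ?_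
  ring

end GRAM4

/-- piece GRAM4 (M-L): symplectic basis in dimension 4 (characteristic 2). -/
theorem GRAM4.basis [CharP F 2] (f₁ : (Fin 4 → F) → (Fin 4 → F) → F) (hf₁ : Cfsg.Geo.IsSymplecticForm f₁) :
    ∃ A : GL (Fin 4) F, (A : Matrix (Fin 4) (Fin 4) F)ᵀ * Cfsg.Geo.gramMatrix f₁ *
      (A : Matrix (Fin 4) (Fin 4) F) = (J4 : Matrix (Fin 4) (Fin 4) F) := by
  classical
  have hb := hf₁.bilinear
  have hneg : ∀ x : F, -x = x := fun x => CharTwo.neg_eq x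
  have hsym : ∀ v w, f₁ v w = f₁ w v := fun v w => by rw [hf₁.skew v w, hneg]
  -- first hyperbolic pair
  have hne0 : (Pi.single 0 1 : Fin 4 → F) ≠ 0 := by
    intro h
    have := congrFun h 0
    simp at this
  set v₀ : Fin 4 → F := Pi.single 0 1 with hv₀
  obtain ⟨-, ⟨x, hx⟩⟩ := hf₁.nondegenerate v₀ hne0
  set v₃ : Fin 4 → F := (f₁ v₀ x)⁻¹ • x with hv₃
  have h03 : f₁ v₀ v₃ = 1 := by
    rw [hv₃, hb.smul_right, inv_mul_cancel₀ hx]
  have h30 : f₁ v₃ v₀ = 1 := by rw [hsym, h03]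
  -- a non-zero vector orthogonal to both
  set B := Cfsg.Agent.S5980P.GFORM.toBilin f₁ hb with hB
  set φ : (Fin 4 → F) →ₗ[F] F × F := (B v₀).prod (B v₃) with hφ
  have hker : LinearMap.ker φ ≠ ⊥ := by
    apply LinearMap.ker_ne_bot_of_finrank_lt
    rw [Module.finrank_prod, Module.finrank_self, Module.finrank_fintype_fun_eq_card, Fintype.card_fin]
    norm_num
  obtain ⟨v₁, hv₁ker, hv₁ne⟩ := Submodule.exists_mem_ne_zero_of_ne_bot hker
  have hφv₁ : φ v₁ = 0 := LinearMap.mem_ker.1 hv₁ker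
  have h01 : f₁ v₀ v₁ = 0 := by
    have := congrArg Prod.fst hφv₁
    exact this
  have h31 : f₁ v₃ v₁ = 0 := by
    have := congrArg Prod.snd hφv₁
    exact this
  have h10 : f₁ v₁ v₀ = 0 := by rw [hsym, h01]
  have h13 : f₁ v₁ v₃ = 0 := by rw [hsym, h31]
  -- its partner
  obtain ⟨-, ⟨y, hy⟩⟩ := hf₁.nondegenerate v₁ hv₁ne
  set py : Fin 4 → F := y + (f₁ v₃ y) • v₀ + (f₁ v₀ y) • v₃ with hpy
  have h0p : f₁ v₀ py = 0 := by
    rw [hpy, hb.add_right, hb.add_right, hb.smul_right, hb.smul_right, hf₁.alternating, h03]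
    have := CharTwo.add_self_eq_zero (f₁ v₀ y)
    linear_combination this
  have h3p : f₁ v₃ py = 0 := by
    rw [hpy, hb.add_right, hb.add_right, hb.smul_right, hb.smul_right, hf₁.alternating, h30]
    have := CharTwo.add_self_eq_zero (f₁ v₃ y)
    linear_combination this
  have h1p : f₁ v₁ py = f₁ v₁ y := by
    rw [hpy, hb.add_right, hb.add_right, hb.smul_right, hb.smul_right, h10, h13]
    ring
  set v₂ : Fin 4 → F := (f₁ v₁ y)⁻¹ • py with hv₂
  have h12 : f₁ v₁ v₂ = 1 := by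
    rw [hv₂, hb.smul_right, h1p, inv_mul_cancel₀ hy]
  have h21 : f₁ v₂ v₁ = 1 := by rw [hsym, h12]
  have h02 : f₁ v₀ v₂ = 0 := by rw [hv₂, hb.smul_right, h0p, mul_zero]
  have h32 : f₁ v₃ v₂ = 0 := by rw [hv₂, hb.smul_right, h3p, mul_zero]
  have h20 : f₁ v₂ v₀ = 0 := by rw [hsym, h02]
  have h23 : f₁ v₂ v₃ = 0 := by rw [hsym, h32]
  -- the matrix
  set v : Fin 4 → Fin 4 → F := ![v₀, v₁, v₂, v₃] with hv
  set A : Matrix (Fin 4) (Fin 4) F := Matrix.of fun i c => v c i with hA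
  have hAG : Aᵀ * Cfsg.Geo.gramMatrix f₁ * A = (J4 : Matrix (Fin 4) (Fin 4) F) := by
    ext a b
    rw [hA, GRAM4.gram_change f₁ hb v a b]
    fin_cases a <;> fin_cases b <;>
      simp [hv, J4, hf₁.alternating, h01, h02, h03, h10, h12, h13, h20, h21, h23, h30, h31, h32]
  have hJ : (J4 : Matrix (Fin 4) (Fin 4) F) * J4 = 1 := by
    ext a b
    fin_cases a <;> fin_cases b <;> simp [J4, Matrix.mul_apply, Fin.sum_univ_four]
  have hleft : (J4 * Aᵀ * Cfsg.Geo.gramMatrix f₁) * A = 1 := by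
    rw [Matrix.mul_assoc, Matrix.mul_assoc, ← Matrix.mul_assoc Aᵀ, hAG, hJ]
  exact ⟨⟨A, J4 * Aᵀ * Cfsg.Geo.gramMatrix f₁, mul_eq_one_comm.1 hleft, hleft⟩, hAG⟩

end Cfsg.Agent.S5707P
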