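import Mathlib
import Cfsg.Agent.Helper29.AutAlt

/-!
Permutation-group lemmas for S2929: a Sylow 3-subgroup of `S_n` contains a 3-cycle; a group
generated by 3-cycles contains the alternating group of each of its nontrivial orbits.
-/

set_option autoImplicit false

namespace Cfsg.Agent.Helper3.Syl3Alt

open Equiv Equiv.Perm Subgroup
open Cfsg.Agent.Helper29.AutAlt (three_apply three_support alternatingGroup_le_closure)

/-- A Sylow 3-subgroup of `Perm (Fin n)`, `3 ≤ n`, contains a 3-cycle. -/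
theorem exists_threeCycle_mem_sylow {n : ℕ} (hn : 3 ≤ n) (P : Sylow 3 (Perm (Fin n))) :
    ∃ c ∈ (P : Subgroup (Perm (Fin n))), c.IsThreeCycle := by
  set a : Fin n := ⟨0, by omega⟩ with ha
  set b : Fin n := ⟨1, by omega⟩ with hb
  set d : Fin n := ⟨2, by omega⟩ with hd
  have hab : a ≠ b := by simp [ha, hb, Fin.ext_iff]
  have had : a ≠ d := by simp [ha, hd, Fin.ext_iff]
  have hbd : b ≠ d := by simp [hb, hd, Fin.ext_iff]
  set c₀ : Perm (Fin n) := swap a b * swap a d with hc₀def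
  have hc₀ : c₀.IsThreeCycle := isThreeCycle_swap_mul_swap_same hab had hbd
  have hcard : Nat.card (zpowers c₀) = 3 ^ 1 := by
    rw [Nat.card_zpowers, hc₀.orderOf, pow_one]
  have : Fact (Nat.Prime 3) := ⟨Nat.prime_three⟩
  have hp : IsPGroup 3 (zpowers c₀) := IsPGroup.of_card hcard
  obtain ⟨Q, hQ⟩ := hp.exists_le_sylow
  obtain ⟨g, hg⟩ := MulAction.exists_smul_eq (Perm (Fin n)) Q P
  refine ⟨g * c₀ * g⁻¹, ?_, ?_⟩
  · have h1 : c₀ ∈ (Q : Subgroup _) := hQ (mem_zpowers c₀)
    rw [← hg, Sylow.coe_subgroup_smul, Subgroup.mem_smul_pointwise_iff_exists]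
    exact ⟨c₀, h1, by rw [MulAut.smul_def, MulAut.conj_apply]⟩
  · unfold IsThreeCycle
    rw [cycleType_conj]
    exact hc₀

variable {α : Type*} [Fintype α] [DecidableEq α]

/-- A group generated by 3-cycles contains the alternating group on the orbit of a moved point. -/
theorem alt_le_closure (S : Set (Perm α)) (hS : ∀ s ∈ S, s.IsThreeCycle) (x : α)
    (O : Finset α) (hO : ∀ y, y ∈ O ↔ ∃ k ∈ closure S, k x = y)
    (hx : ∃ s ∈ S, s x ≠ x) :
    (alternatingGroup ↥O).map (ofSubtype : Perm ↥O →* Perm α) ≤ closure S := by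
  have hinv : ∀ k ∈ closure S, ∀ y, y ∈ O → k y ∈ O := by
    intro k hk y hy
    obtain ⟨k', hk', rfl⟩ := (hO y).1 hy
    exact (hO _).2 ⟨k * k', mul_mem hk hk', rfl⟩
  have hxO : x ∈ O := (hO x).2 ⟨1, one_mem _, rfl⟩
  have hsupp : ∀ s ∈ S, ∀ z ∈ O, s z ≠ z → ∀ w, s w ≠ w → w ∈ O := by
    intro s hs z hz hsz w hw
    have hsK := subset_closure hs
    rcases three_support (hS s hs) hsz w hw with rfl | rfl | rfl
    · exact hz
    · exact hinv s hsK _ hz
    · exact hinv s hsK _ (hinv s hsK _ hz)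
  set S' : Set (Perm ↥O) := {t | t.IsThreeCycle ∧ ofSubtype t ∈ S} with hS'
  have hgen : ∀ s ∈ S, ∀ z ∈ O, s z ≠ z → ∃ t ∈ S', ofSubtype t = s := by
    intro s hs z hz hsz
    have h1 : ∀ y, s y ∈ O ↔ y ∈ O := by
      intro y
      constructor
      · intro hy
        by_contra hyO
        have : s y = y := by
          by_contra hne
          exact hyO (hsupp s hs z hz hsz y hne)
        rw [this] at hy
        exact hyO hy
      · intro hy
        exact hinv s (subset_closure hs) y hy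
    have h2 : ∀ y, s y ≠ y → y ∈ O := hsupp s hs z hz hsz
    have h3 : ofSubtype (subtypePerm s h1) = s := ofSubtype_subtypePerm h1 h2
    refine ⟨subtypePerm s h1, ⟨?_, ?_⟩, h3⟩
    · unfold IsThreeCycle
      rw [← cycleType_ofSubtype, h3]
      exact hS s hs
    · rw [h3]
      exact hs
  -- restriction of `closure S` to `O` lies in `closure S'`
  have hres : ∀ k ∈ closure S, ∃ g ∈ closure S', ∀ z : ↥O, ((g z : ↥O) : α) = k z := by
    intro k hk
    induction hk using Subgroup.closure_induction with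
    | mem s hs =>
      by_cases h : ∃ z ∈ O, s z ≠ z
      · obtain ⟨z, hz, hsz⟩ := h
        obtain ⟨t, ht, hts⟩ := hgen s hs z hz hsz
        refine ⟨t, subset_closure ht, fun w => ?_⟩
        rw [← hts, ofSubtype_apply_coe]
      · push Not at h
        refine ⟨1, one_mem _, fun w => ?_⟩
        rw [h w.1 w.2]
        rfl
    | one => exact ⟨1, one_mem _, fun w => rfl⟩
    | mul k₁ k₂ _ _ ih₁ ih₂ =>
      obtain ⟨g₁, hg₁, e₁⟩ := ih₁
      obtain ⟨g₂, hg₂, e₂⟩ := ih₂
      refine ⟨g₁ * g₂, mul_mem hg₁ hg₂, fun w => ?_⟩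
      rw [Perm.mul_apply, e₁, e₂, Perm.mul_apply]
    | inv k _ ih =>
      obtain ⟨g, hg, e⟩ := ih
      refine ⟨g⁻¹, inv_mem hg, fun w => ?_⟩
      have h1 := e (g⁻¹ w)
      have h2 : g (g⁻¹ w) = w := by simp
      rw [h2] at h1
      rw [Perm.eq_inv_iff_eq, ← h1]
  have hne : S'.Nonempty := by
    obtain ⟨s, hs, hsx⟩ := hx
    obtain ⟨t, ht, _⟩ := hgen s hs x hxO hsx
    exact ⟨t, ht⟩
  have htr : ∀ y z : ↥O, ∃ g ∈ closure S', g y = z := by
    intro y z
    obtain ⟨k₁, hk₁, e₁⟩ := (hO y.1).1 y.2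
    obtain ⟨k₂, hk₂, e₂⟩ := (hO z.1).1 z.2
    obtain ⟨g, hg, e⟩ := hres (k₂ * k₁⁻¹) (mul_mem hk₂ (inv_mem hk₁))
    refine ⟨g, hg, Subtype.ext ?_⟩
    have h2 : k₁⁻¹ (k₁ x) = x := by simp
    rw [e y, Perm.mul_apply, ← e₁, h2, e₂]
  have hle := alternatingGroup_le_closure S' (fun t ht => ht.1) hne htr
  calc (alternatingGroup ↥O).map (ofSubtype : Perm ↥O →* Perm α)
      ≤ (closure S').map (ofSubtype : Perm ↥O →* Perm α) := Subgroup.map_mono hle
    _ ≤ closure S := by
        rw [MonoidHom.map_closure]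
        apply Subgroup.closure_mono
        rintro _ ⟨t, ht, rfl⟩
        exact ht.2

end Cfsg.Agent.Helper3.Syl3Alt
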