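import Mathlib
import Cfsg.Prelude.Def_GeometricClasses
import Cfsg.Agent.Helper19.Mono.Defs
import Cfsg.Agent.Helper11.S5634BLOCKEMB

/-! S5634 piece FIVE (driver helper19): over `F_5` a harmonic `{a,b}`-block gives an elementary transvection. -/

set_option autoImplicit false
set_option linter.unusedSectionVars false

namespace Cfsg.Agent.MonoP

open Matrix

variable {ι : Type} [Fintype ι] [DecidableEq ι] {K : Type*} [Field K] [Fintype K]

namespace FIVE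

/-- the harmonic block -/
def h0 : GL (Fin 3) (ZMod 5) :=
  ⟨!![1, 1, 0; 1, -1, 0; 0, 0, 1], !![3, 3, 0; 3, 2, 0; 0, 0, 1], by decide, by decide⟩

def pp : GL (Fin 3) (ZMod 5) :=
  ⟨!![1, 0, 0; 0, 0, 1; 0, 1, 0], !![1, 0, 0; 0, 0, 1; 0, 1, 0], by decide, by decide⟩

def mu : GL (Fin 3) (ZMod 5) :=
  ⟨!![1, 0, 0; 0, 0, 2; 0, 1, 0], !![1, 0, 0; 0, 0, 1; 0, 3, 0], by decide, by decide⟩

def mm : GL (Fin 3) (ZMod 5) :=
  ⟨!![0, 0, 4; 0, 4, 0; 4, 0, 0], !![0, 0, 4; 0, 4, 0; 4, 0, 0], by decide, by decide⟩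

def tt : GL (Fin 3) (ZMod 5) :=
  ⟨!![1, 0, 2; 0, 1, 0; 0, 0, 1], !![1, 0, 3; 0, 1, 0; 0, 0, 1], by decide, by decide⟩

set_option maxRecDepth 100000 in
theorem word_eq : h0 * (pp * h0) * (mu * h0) * (mu * h0) * (mu * h0) * (pp * h0) * (pp * h0) * mm = tt := by
  apply Units.ext
  simp only [Units.val_mul]
  show (!![1, 1, 0; 1, -1, 0; 0, 0, 1] : Matrix (Fin 3) (Fin 3) (ZMod 5)) *
      (!![1, 0, 0; 0, 0, 1; 0, 1, 0] * !![1, 1, 0; 1, -1, 0; 0, 0, 1]) *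
      (!![1, 0, 0; 0, 0, 2; 0, 1, 0] * !![1, 1, 0; 1, -1, 0; 0, 0, 1]) *
      (!![1, 0, 0; 0, 0, 2; 0, 1, 0] * !![1, 1, 0; 1, -1, 0; 0, 0, 1]) *
      (!![1, 0, 0; 0, 0, 2; 0, 1, 0] * !![1, 1, 0; 1, -1, 0; 0, 0, 1]) *
      (!![1, 0, 0; 0, 0, 1; 0, 1, 0] * !![1, 1, 0; 1, -1, 0; 0, 0, 1]) *
      (!![1, 0, 0; 0, 0, 1; 0, 1, 0] * !![1, 1, 0; 1, -1, 0; 0, 0, 1]) *
      !![0, 0, 4; 0, 4, 0; 4, 0, 0] = !![1, 0, 2; 0, 1, 0; 0, 0, 1]
  decide

theorem pp_mono : ∀ i j : Fin 3, i ≠ Equiv.swap (1 : Fin 3) 2 j → (pp : Matrix (Fin 3) (Fin 3) (ZMod 5)) i j = 0 := by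
  intro i j
  fin_cases i <;> fin_cases j <;> decide

theorem mu_mono : ∀ i j : Fin 3, i ≠ Equiv.swap (1 : Fin 3) 2 j → (mu : Matrix (Fin 3) (Fin 3) (ZMod 5)) i j = 0 := by
  intro i j
  fin_cases i <;> fin_cases j <;> decide

theorem mm_mono : ∀ i j : Fin 3, i ≠ Equiv.swap (0 : Fin 3) 2 j → (mm : Matrix (Fin 3) (Fin 3) (ZMod 5)) i j = 0 := by
  intro i j
  fin_cases i <;> fin_cases j <;> decide

/-- a matrix which is a monomial `3 × 3` block along `f` and the identity elsewhere is monomial -/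
theorem isMono_emb (f : Fin 3 ↪ ι) (N : Matrix ι ι K) (M : Matrix (Fin 3) (Fin 3) K)
    (σ : Equiv.Perm (Fin 3)) (hM : ∀ i j, i ≠ σ j → M i j = 0)
    (h1 : ∀ i j, N (f i) (f j) = M i j)
    (h2 : ∀ x y, (x ∉ Set.range f ∨ y ∉ Set.range f) → N x y = (1 : Matrix ι ι K) x y) : IsMono N := by
  refine ⟨σ.viaEmbedding f, ?_⟩
  intro x y hxy
  by_cases hy : y ∈ Set.range f
  · obtain ⟨j, rfl⟩ := hy
    rw [Equiv.Perm.viaEmbedding_apply] at hxy
    by_cases hx : x ∈ Set.range f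
    · obtain ⟨i, rfl⟩ := hx
      rw [h1]
      apply hM
      intro h
      exact hxy (by rw [h])
    · rw [h2 _ _ (Or.inl hx), Matrix.one_apply_ne]
      rintro rfl
      exact hx ⟨j, rfl⟩
  · rw [Equiv.Perm.viaEmbedding_apply_of_notMem _ _ _ hy] at hxy
    rw [h2 _ _ (Or.inr hy), Matrix.one_apply_ne hxy]

end FIVE

/-- FIVE (L; uses BLOCKEMB): `K = F_5`, `|ι| ≥ 3`.  A harmonic `{a,b}`-block in `H` gives an elementary transvection. -/
theorem FIVE.hasE (hK : Fintype.card K = 5) (hι : 3 ≤ Fintype.card ι) (H : Subgroup (GL ι K)) (hmon : MonoLE H)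
    (a b : ι) (hab : a ≠ b) (g : GL ι K) (hg : g ∈ H) (hA : SuppOn {a, b} (g : Matrix ι ι K))
    (hnz : (g : Matrix ι ι K) a a ≠ 0 ∧ (g : Matrix ι ι K) a b ≠ 0 ∧ (g : Matrix ι ι K) b a ≠ 0 ∧
      (g : Matrix ι ι K) b b ≠ 0)
    (hh : (g : Matrix ι ι K) a a * (g : Matrix ι ι K) b b =
      -((g : Matrix ι ι K) a b * (g : Matrix ι ι K) b a)) : HasE H := by
  classical
  obtain ⟨hnaa, hnab, hnba, hnbb⟩ := hnz
  -- a third index
  obtain ⟨c, hca, hcb⟩ : ∃ c : ι, c ≠ a ∧ c ≠ b := by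
    by_contra hcon
    push Not at hcon
    have h1 : (Finset.univ : Finset ι) ⊆ {a, b} := by
      intro x _
      by_cases h : x = a
      · simp [h]
      · simp [hcon x h]
    have h2 := Finset.card_le_card h1
    have h3 : ({a, b} : Finset ι).card ≤ 2 := Finset.card_le_two
    rw [Finset.card_univ] at h2
    omega
  have hba : b ≠ a := hab.symm
  have hac : a ≠ c := hca.symm
  have hbc : b ≠ c := hcb.symm
  let f : Fin 3 ↪ ι := ⟨![a, b, c], by
    intro i j hij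
    fin_cases i <;> fin_cases j <;> simp_all⟩
  have f0 : f 0 = a := rfl
  have f1 : f 1 = b := rfl
  have f2 : f 2 = c := rfl
  have harange : a ∈ Set.range f := ⟨0, rfl⟩
  have hbrange : b ∈ Set.range f := ⟨1, rfl⟩
  have hcrange : c ∈ Set.range f := ⟨2, rfl⟩
  let ψ : ZMod 5 ≃+* K := ZMod.ringEquivOfPrime K (by norm_num) hK
  obtain ⟨Φ, hΦ1, hΦ2⟩ := BLOCKEMB.exists_hom (K := K) f
  let Ψ : GL (Fin 3) (ZMod 5) →* GL ι K :=
    Φ.comp (Matrix.GeneralLinearGroup.map (ψ : ZMod 5 →+* K))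
  have hΨ1 : ∀ (M : GL (Fin 3) (ZMod 5)) (i j : Fin 3),
      ((Ψ M : GL ι K) : Matrix ι ι K) (f i) (f j) = ψ ((M : Matrix _ _ (ZMod 5)) i j) := by
    intro M i j
    show ((Φ (Matrix.GeneralLinearGroup.map (ψ : ZMod 5 →+* K) M) : GL ι K) : Matrix ι ι K) (f i) (f j) = _
    rw [hΦ1, Matrix.GeneralLinearGroup.map_apply]
    rfl
  have hΨ2 : ∀ (M : GL (Fin 3) (ZMod 5)) (x y : ι), (x ∉ Set.range f ∨ y ∉ Set.range f) →
      ((Ψ M : GL ι K) : Matrix ι ι K) x y = (1 : Matrix ι ι K) x y := by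
    intro M x y hxy
    exact hΦ2 _ x y hxy
  -- monomial images
  have hmono : ∀ (M : GL (Fin 3) (ZMod 5)) (σ : Equiv.Perm (Fin 3)),
      (∀ i j : Fin 3, i ≠ σ j → (M : Matrix (Fin 3) (Fin 3) (ZMod 5)) i j = 0) → Ψ M ∈ H := by
    intro M σ hM
    apply hmon
    refine FIVE.isMono_emb f _ (fun i j => ψ ((M : Matrix _ _ (ZMod 5)) i j)) σ ?_ (hΨ1 M) (hΨ2 M)
    intro i j hij
    show ψ _ = 0
    rw [hM i j hij, map_zero]
  have hpp : Ψ FIVE.pp ∈ H := hmono _ _ FIVE.pp_mono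
  have hmu : Ψ FIVE.mu ∈ H := hmono _ _ FIVE.mu_mono
  have hmm : Ψ FIVE.mm ∈ H := hmono _ _ FIVE.mm_mono
  -- the block `h0`
  have hsupp : ∀ x y : ι, ((x ≠ a ∧ x ≠ b) ∨ (y ≠ a ∧ y ≠ b)) →
      ((Ψ FIVE.h0 : GL ι K) : Matrix ι ι K) x y = (1 : Matrix ι ι K) x y := by
    intro x y hxy
    by_cases hx : x ∈ Set.range f
    · by_cases hy : y ∈ Set.range f
      · obtain ⟨i, rfl⟩ := hx
        obtain ⟨j, rfl⟩ := hy
        rw [hΨ1]
        fin_cases i <;> fin_cases j <;>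
          simp [FIVE.h0, f0, f1, f2, hab, hba, hac, hbc, hca, hcb] at hxy ⊢
      · exact hΨ2 _ x y (Or.inr hy)
    · exact hΨ2 _ x y (Or.inl hx)
  have e_aa : ((Ψ FIVE.h0 : GL ι K) : Matrix ι ι K) a a = 1 := by
    have := hΨ1 FIVE.h0 0 0
    simpa [FIVE.h0, f0] using this
  have e_ab : ((Ψ FIVE.h0 : GL ι K) : Matrix ι ι K) a b = 1 := by
    have := hΨ1 FIVE.h0 0 1
    simpa [FIVE.h0, f0, f1] using this
  have e_ba : ((Ψ FIVE.h0 : GL ι K) : Matrix ι ι K) b a = 1 := by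
    have := hΨ1 FIVE.h0 1 0
    simpa [FIVE.h0, f0, f1] using this
  have e_bb : ((Ψ FIVE.h0 : GL ι K) : Matrix ι ι K) b b = -1 := by
    have := hΨ1 FIVE.h0 1 1
    simpa [FIVE.h0, f1] using this
  have hdiag : ∀ d : ι → Kˣ, dg d ∈ H := by
    intro d
    apply hmon
    refine ⟨1, fun i j hij => ?_⟩
    rw [dg_val]
    exact Matrix.diagonal_apply_ne _ hij
  have hquot : (g : Matrix ι ι K) a b / (g : Matrix ι ι K) a a ≠ 0 := div_ne_zero hnab hnaa
  let d₁ : ι → Kˣ := fun i => if i = a then Units.mk0 _ hnaa else if i = b then Units.mk0 _ hnba else 1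
  let d₂ : ι → Kˣ := fun i => if i = b then Units.mk0 _ hquot else 1
  have hgeq : g = dg d₁ * Ψ FIVE.h0 * dg d₂ := by
    apply Units.ext
    ext x y
    rw [Units.val_mul, Units.val_mul, dg_val, dg_val, Matrix.mul_diagonal, Matrix.diagonal_mul]
    by_cases hxa : x = a
    · subst hxa
      by_cases hya : y = x
      · subst hya
        simp [d₁, d₂, e_aa, hab]
      · by_cases hyb : y = b
        · subst hyb
          simp [d₁, d₂, e_ab]
          field_simp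
        · rw [hsupp x y (Or.inr ⟨hya, hyb⟩), hA x y (Or.inr (by simp [hya, hyb])),
            Matrix.one_apply_ne (fun h => hya h.symm)]
          simp
    · by_cases hxb : x = b
      · subst hxb
        by_cases hya : y = a
        · subst hya
          simp [d₁, d₂, e_ba, hab, hba]
        · by_cases hyb : y = x
          · subst hyb
            simp [d₁, d₂, e_bb, hba]
            field_simp
            linear_combination hh
          · rw [hsupp x y (Or.inr ⟨hya, hyb⟩), hA x y (Or.inr (by simp [hya, hyb])),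
              Matrix.one_apply_ne (fun h => hyb h.symm)]
            simp
      · rw [hsupp x y (Or.inl ⟨hxa, hxb⟩), hA x y (Or.inl (by simp [hxa, hxb]))]
        by_cases hxy : x = y
        · subst hxy
          simp [d₁, d₂, hxa, hxb]
        · rw [Matrix.one_apply_ne hxy]
          simp
  have hh0 : Ψ FIVE.h0 ∈ H := by
    have h1 : Ψ FIVE.h0 = (dg d₁)⁻¹ * g * (dg d₂)⁻¹ := by
      rw [hgeq]
      group
    rw [h1]
    exact H.mul_mem (H.mul_mem (H.inv_mem (hdiag d₁)) hg) (H.inv_mem (hdiag d₂))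
  -- the transvection
  have htt : Ψ FIVE.tt ∈ H := by
    rw [← FIVE.word_eq]
    simp only [map_mul]
    exact H.mul_mem (H.mul_mem (H.mul_mem (H.mul_mem (H.mul_mem (H.mul_mem (H.mul_mem hh0
      (H.mul_mem hpp hh0)) (H.mul_mem hmu hh0)) (H.mul_mem hmu hh0)) (H.mul_mem hmu hh0))
      (H.mul_mem hpp hh0)) (H.mul_mem hpp hh0)) hmm
  have hψ2 : ψ 2 ≠ 0 := by
    intro h
    have h1 : (2 : ZMod 5) = 0 := ψ.injective (by rw [h, map_zero])
    exact absurd h1 (by decide)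
  refine ⟨a, c, hac, ψ 2, hψ2, Ψ FIVE.tt, htt, ?_⟩
  ext x y
  by_cases hx : x ∈ Set.range f
  · by_cases hy : y ∈ Set.range f
    · obtain ⟨i, rfl⟩ := hx
      obtain ⟨j, rfl⟩ := hy
      rw [hΨ1]
      fin_cases i <;> fin_cases j <;>
        simp [FIVE.tt, f0, f1, f2, Matrix.transvection, hab, hba, hac, hbc, hca, hcb]
    · rw [hΨ2 _ x y (Or.inr hy)]
      have hyc : c ≠ y := fun h => hy (h ▸ hcrange)
      simp [Matrix.transvection, hyc]
  · rw [hΨ2 _ x y (Or.inl hx)]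
    have hxa : a ≠ x := fun h => hx (h ▸ harange)
    simp [Matrix.transvection, hxa]

end Cfsg.Agent.MonoP
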