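import Mathlib
import Cfsg.Agent.Helper29.S5965Defs
import Cfsg.Agent.Helper21.S5958FREE

set_option autoImplicit false

/-! S5965 piece RATIRR: an endomorphism annihilated by an irreducible monic polynomial with
coefficients in the subfield `F₀` is rational over `F₀` (block companion matrices). -/

namespace Cfsg.Agent.S5965P

open Polynomial

/-- RATIRR -/
theorem isRat_of_irreducible {F V : Type*} [Field F] [AddCommGroup V] [Module F V]
    [FiniteDimensional F V] (F₀ : Subfield F) (x : Module.End F V) (g₀ : F₀[X])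
    (hgm : (g₀.map F₀.subtype).Monic)
    (hg : Irreducible (g₀.map F₀.subtype)) (hgx : aeval x (g₀.map F₀.subtype) = 0) :
    IsRat F₀ x := by
  classical
  set g := g₀.map F₀.subtype with hgdef
  obtain ⟨s, b, w, hb⟩ := Cfsg.Agent.S5958P.free_of_irreducible x g hg hgx
  have hcoeff : ∀ k, g.coeff k = ((g₀.coeff k : F₀) : F) := fun k => by
    rw [hgdef, coeff_map]; rfl
  -- `x ^ d = - ∑_{k<d} g_k x^k`
  have hxd : ∀ v, (x ^ g.natDegree) v = - ∑ k : Fin g.natDegree, (g.coeff k) • (x ^ (k : ℕ)) v := by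
    intro v
    have h1 : g = X ^ g.natDegree + ∑ k ∈ Finset.range g.natDegree, C (g.coeff k) * X ^ k := hgm.as_sum
    have h2 : (aeval x g) v = 0 := by rw [hgx]; rfl
    rw [h1] at h2
    simp only [map_add, map_pow, aeval_X, map_sum, map_mul, aeval_C, LinearMap.add_apply,
      LinearMap.sum_apply, Module.algebraMap_end_apply, Module.End.mul_apply] at h2
    rw [Finset.sum_range] at h2
    have h3 := eq_neg_of_add_eq_zero_left h2
    rw [h3]
  let M₀ : Matrix (Fin g.natDegree × Fin s) (Fin g.natDegree × Fin s) F₀ := fun p' p =>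
    if p'.2 = p.2 then
      (if (p.1 : ℕ) + 1 < g.natDegree then (if (p'.1 : ℕ) = (p.1 : ℕ) + 1 then 1 else 0)
        else - g₀.coeff (p'.1 : ℕ))
    else 0
  refine ⟨Fin g.natDegree × Fin s, inferInstance, inferInstance, b, M₀, ?_⟩
  ext ⟨i', j'⟩ ⟨i, j⟩
  rw [LinearMap.toMatrix_apply, Matrix.map_apply]
  show _ = F₀.subtype (M₀ (i', j') (i, j))
  simp only [M₀]
  by_cases hlt : (i : ℕ) + 1 < g.natDegree
  · have h1 : x (b (i, j)) = b (⟨(i : ℕ) + 1, hlt⟩, j) := by
      rw [hb, hb]
      show x ((x ^ (i : ℕ)) (w j)) = (x ^ ((i : ℕ) + 1)) (w j)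
      rw [pow_succ', Module.End.mul_apply]
    rw [h1, Module.Basis.repr_self, Finsupp.single_apply]
    by_cases hj : j' = j
    · subst hj
      by_cases hi : (i' : ℕ) = (i : ℕ) + 1
      · have : ((⟨(i : ℕ) + 1, hlt⟩ : Fin g.natDegree), j') = (i', j') := by
          rw [Prod.mk.injEq]; exact ⟨Fin.ext hi.symm, rfl⟩
        simp [this, hlt, hi]
      · have : ¬ ((⟨(i : ℕ) + 1, hlt⟩ : Fin g.natDegree), j') = (i', j') := by
          rw [Prod.mk.injEq]
          rintro ⟨h, -⟩
          exact hi (by rw [← h])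
        simp [this, hlt, hi]
    · have : ¬ ((⟨(i : ℕ) + 1, hlt⟩ : Fin g.natDegree), j) = (i', j') := by
        rw [Prod.mk.injEq]
        rintro ⟨-, h⟩
        exact hj h.symm
      simp [this, hj]
  · have hid : (i : ℕ) + 1 = g.natDegree := by have := i.2; omega
    have h1 : x (b (i, j)) = - ∑ k : Fin g.natDegree, (g.coeff k) • b (k, j) := by
      rw [hb]
      show x ((x ^ (i : ℕ)) (w j)) = _
      rw [← Module.End.mul_apply, ← pow_succ', hid, hxd]
      congr 1
      refine Finset.sum_congr rfl fun k _ => ?_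
      rw [hb]
    rw [h1]
    simp only [map_neg, map_sum, map_smul, Module.Basis.repr_self, Finsupp.coe_neg,
      Finsupp.coe_finsetSum, Finsupp.coe_smul, Pi.neg_apply, Finset.sum_apply, Pi.smul_apply,
      Finsupp.single_apply, smul_eq_mul, Prod.mk.injEq]
    by_cases hj : j' = j
    · subst hj
      simp only [and_true, mul_ite, mul_one, mul_zero, Finset.sum_ite_eq', Finset.mem_univ,
        if_true, hlt, if_false]
      rw [hcoeff]
      simp
    · have : ∀ k : Fin g.natDegree, ¬ (k = i' ∧ j = j') := fun k h => hj h.2.symm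
      simp [this, hj]

end Cfsg.Agent.S5965P
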