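import Mathlib
import Cfsg.Agent.S4416
import Cfsg.Agent.S5420
import Cfsg.Agent.Lead.GenCent
import Cfsg.Agent.Helper14.PCore
import Cfsg.Agent.Helper3.KleinFour

set_option autoImplicit false
set_option linter.style.haveILetI false
open Cfsg

/-! Large extraspecial 2-subgroups: criteria for largeness (Aschbacher, Sporadic Groups, §8). -/

namespace Cfsg.Agent.Helper3.LargeES

open Cfsg.Agent.Helper3 Cfsg.Agent.Helper3.ES2

variable {G : Type*} [Group G]

/-- an extraspecial 2-subgroup `Q` has the elementwise structure, with centre `{1, z}` -/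
theorem exists_es2_sub [Finite G] {Q : Subgroup G} (hex : IsExtraspecial 2 Q) :
    ∃ zq : Q, ES2 Q zq ∧
      ∀ g : G, g ∈ (Subgroup.center Q).map Q.subtype ↔ g = 1 ∨ g = (zq : G) := by
  haveI : Fact (Nat.Prime 2) := ⟨Nat.prime_two⟩
  obtain ⟨zq, hzq⟩ := Cfsg.Agent.S4416.exists_es2 Q hex
  refine ⟨zq, hzq, ?_⟩
  intro g
  constructor
  · rintro ⟨q, hq, rfl⟩
    rcases hzq.center_sub q (fun r => (Subgroup.mem_center_iff.mp hq r).symm) with h1 | h1
    · left; rw [h1]; rfl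
    · right; rw [h1]; rfl
  · rintro (rfl | rfl)
    · exact one_mem _
    · exact ⟨zq, Subgroup.mem_center_iff.mpr (fun r => hzq.central r), rfl⟩

/-- elementwise form of `C_G(Q) = Z(Q)` -/
theorem centralizer_elts {Q : Subgroup G} {zq : Q}
    (hZs : ∀ g : G, g ∈ (Subgroup.center Q).map Q.subtype ↔ g = 1 ∨ g = (zq : G))
    (hL2 : Subgroup.centralizer (Q : Set G) = (Subgroup.center Q).map Q.subtype) :
    ∀ x : G, (∀ q ∈ Q, x * q = q * x) → x = 1 ∨ x = (zq : G) := by
  intro x hx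
  apply (hZs x).mp
  rw [← hL2, Subgroup.mem_centralizer_iff]
  intro q hq
  exact (hx q hq).symm

/-- elementwise form of `C_G(Z(Q)) ≤ N_G(Q)` -/
theorem normalizer_elts {Q : Subgroup G} {zq : Q}
    (hZs : ∀ g : G, g ∈ (Subgroup.center Q).map Q.subtype ↔ g = 1 ∨ g = (zq : G))
    (hL3 : Subgroup.centralizer (((Subgroup.center Q).map Q.subtype : Subgroup G) : Set G) ≤
      Subgroup.normalizer (Q : Set G)) :
    ∀ x : G, x * (zq : G) = zq * x → ∀ q ∈ Q, x * q * x⁻¹ ∈ Q := by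
  intro x hx q hq
  have hxN : x ∈ Subgroup.normalizer (Q : Set G) := by
    apply hL3
    rw [Subgroup.mem_centralizer_iff]
    intro w hw
    rcases (hZs w).mp hw with rfl | rfl
    · simp
    · exact hx.symm
  exact (Subgroup.mem_normalizer_iff.mp hxN q).mp hq

section Sub

variable {Q : Subgroup G} {zq : Q}

theorem sub_zz (h : ES2 Q zq) : (zq : G) * zq = 1 := congrArg Subtype.val h.zz

theorem sub_ne_one (h : ES2 Q zq) : (zq : G) ≠ 1 := fun hh => h.ne_one (Subtype.ext hh)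

theorem sub_inv (h : ES2 Q zq) : (zq : G)⁻¹ = zq := inv_eq_of_mul_eq_one_left (sub_zz h)

theorem sub_central (h : ES2 Q zq) {q : G} (hq : q ∈ Q) : q * zq = zq * q :=
  congrArg Subtype.val (h.central ⟨q, hq⟩)

theorem sub_comm (h : ES2 Q zq) {q r : G} (hq : q ∈ Q) (hr : r ∈ Q) :
    q * r = r * q ∨ q * r = r * q * zq := by
  rcases h.comm ⟨q, hq⟩ ⟨r, hr⟩ with h1 | h1
  · exact Or.inl (congrArg Subtype.val h1)
  · exact Or.inr (congrArg Subtype.val h1)

theorem sub_center (h : ES2 Q zq) {q : G} (hq : q ∈ Q) (hc : ∀ r ∈ Q, q * r = r * q) :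
    q = 1 ∨ q = zq := by
  rcases h.center_sub ⟨q, hq⟩ (fun r => Subtype.ext (hc r.1 r.2)) with h1 | h1
  · exact Or.inl (congrArg Subtype.val h1)
  · exact Or.inr (congrArg Subtype.val h1)

theorem sub_sq (h : ES2 Q zq) {q : G} (hq : q ∈ Q) : q * q = 1 ∨ q * q = zq := by
  rcases h.sq ⟨q, hq⟩ with h1 | h1
  · left
    have := congrArg Subtype.val h1
    simpa [pow_two] using this
  · right
    have := congrArg Subtype.val h1
    simpa [pow_two] using this

theorem sub_isPGroup (h : ES2 Q zq) : IsPGroup 2 Q := by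
  intro q
  refine ⟨2, ?_⟩
  have h4 : q ^ 4 = 1 := by
    rcases h.sq q with h1 | h1
    · calc q ^ 4 = (q ^ 2) ^ 2 := by rw [← pow_mul]
        _ = 1 := by rw [h1, one_pow]
    · calc q ^ 4 = (q ^ 2) ^ 2 := by rw [← pow_mul]
        _ = zq * zq := by rw [h1, pow_two]
        _ = 1 := h.zz
  simpa using h4

/-- conjugating by an element of `Q` multiplies by `1` or `z` -/
theorem sub_conj (h : ES2 Q zq) {q a : G} (hq : q ∈ Q) (ha : a ∈ Q) :
    q * a * q⁻¹ = a ∨ q * a * q⁻¹ = a * zq := by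
  rcases sub_comm h hq ha with h1 | h1
  · left; rw [h1]; group
  · right
    rw [h1]
    have := sub_central h (Q.inv_mem hq)
    calc a * q * zq * q⁻¹ = a * q * (zq * q⁻¹) := by group
      _ = a * q * (q⁻¹ * zq) := by rw [this]
      _ = a * zq := by group

/-- a noncentral element of `Q` is conjugate in `Q` to its `z`-multiple -/
theorem sub_exists_conj (h : ES2 Q zq) {a : G} (ha : a ∈ Q) (ha1 : a ≠ 1) (haz : a ≠ zq) :
    ∃ y ∈ Q, y * a * y⁻¹ = a * zq := by
  by_contra hcon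
  push Not at hcon
  have hc : ∀ r ∈ Q, a * r = r * a := by
    intro r hr
    rcases sub_conj h hr ha with h1 | h1
    · calc a * r = (r * a * r⁻¹) * r := by rw [h1]
        _ = r * a := by group
    · exact absurd h1 (hcon r hr)
  rcases sub_center h ha hc with h1 | h1
  · exact ha1 h1
  · exact haz h1

/-- `C_Q(a)` has index at most 2: two elements not commuting with `a` differ by an element
commuting with `a` -/
theorem sub_index_two (h : ES2 Q zq) {a y q : G} (ha : a ∈ Q) (hy : y ∈ Q) (hq : q ∈ Q)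
    (hya : y * a ≠ a * y) (hqa : q * a ≠ a * q) : (y⁻¹ * q) * a = a * (y⁻¹ * q) := by
  have h1 : y * a = a * y * zq := by
    rcases sub_comm h hy ha with h1 | h1
    · exact absurd h1 hya
    · exact h1
  have h2 : q * a = a * q * zq := by
    rcases sub_comm h hq ha with h1 | h1
    · exact absurd h1 hqa
    · exact h1
  have hzy := sub_central h (Q.inv_mem hy)
  have hza := sub_central h ha
  have hzq' := sub_central h hq
  have hzz := sub_zz h
  -- y⁻¹ * a = a * y⁻¹ * z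
  have h3 : y⁻¹ * a = a * y⁻¹ * zq := by
    have : a = y⁻¹ * (a * y * zq) := by rw [← h1]; group
    calc y⁻¹ * a = y⁻¹ * a * (zq * zq) := by rw [hzz, mul_one]
      _ = y⁻¹ * (a * zq) * zq := by group
      _ = y⁻¹ * (a * y * y⁻¹ * zq) * zq := by group
      _ = y⁻¹ * (a * y * (y⁻¹ * zq)) * zq := by group
      _ = y⁻¹ * (a * y * (zq * y⁻¹)) * zq := by rw [hzy]
      _ = (y⁻¹ * (a * y * zq)) * y⁻¹ * zq := by group
      _ = a * y⁻¹ * zq := by rw [← this]
  calc y⁻¹ * q * a = y⁻¹ * (q * a) := by group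
    _ = y⁻¹ * (a * q * zq) := by rw [h2]
    _ = (y⁻¹ * a) * q * zq := by group
    _ = a * y⁻¹ * zq * q * zq := by rw [h3]
    _ = a * y⁻¹ * (zq * q) * zq := by group
    _ = a * y⁻¹ * (q * zq) * zq := by rw [hzq']
    _ = a * y⁻¹ * q * (zq * zq) := by group
    _ = a * (y⁻¹ * q) := by rw [hzz]; group

/-- Criterion for largeness: an involution `b ∈ Q - Z` such that `z` lies in a 2-subgroup `T`
normalized by `C_G(b)` forces every `Q`-invariant subgroup of odd order to be trivial. -/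
theorem odd_normalized_eq_bot [Finite G] {Q : Subgroup G} {zq : Q} (h : ES2 Q zq)
    (hC : ∀ x : G, (∀ q ∈ Q, x * q = q * x) → x = 1 ∨ x = (zq : G))
    (hN : ∀ x : G, x * (zq : G) = zq * x → ∀ q ∈ Q, x * q * x⁻¹ ∈ Q)
    {b : G} (hbQ : b ∈ Q) (hb1 : b ≠ 1) (hbz : b ≠ zq) (hbb : b * b = 1)
    (T : Subgroup G) (hT2 : IsPGroup 2 T) (hzT : (zq : G) ∈ T)
    (hTn : ∀ x : G, x * b = b * x → ∀ t ∈ T, x * t * x⁻¹ ∈ T)
    (K : Subgroup G) (hK : Odd (Nat.card K)) (hQK : Q ≤ Subgroup.normalizer (K : Set G)) :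
    K = ⊥ := by
  set z : G := (zq : G) with hz
  have hzz : z * z = 1 := sub_zz h
  have hzQ : z ∈ Q := zq.2
  have hbzc : b * z = z * b := sub_central h hbQ
  -- Step A: K ⊓ C(z) = ⊥
  have hA : ∀ k ∈ K, k * z = z * k → k = 1 := by
    intro k hk hkz
    have hkQ := hN k hkz
    have hcent : ∀ q ∈ Q, k * q = q * k := by
      intro q hq
      have hqN := hQK hq
      have hcK : q * k * q⁻¹ * k⁻¹ ∈ K :=
        K.mul_mem ((Subgroup.mem_normalizer_iff.mp hqN k).mp hk) (K.inv_mem hk)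
      have hcQ : q * k * q⁻¹ * k⁻¹ ∈ Q := by
        have : q * k * q⁻¹ * k⁻¹ = q * (k * q⁻¹ * k⁻¹) := by group
        rw [this]
        exact Q.mul_mem hq (hkQ q⁻¹ (Q.inv_mem hq))
      obtain ⟨n, hn⟩ := (sub_isPGroup h) ⟨_, hcQ⟩
      have hn' : (q * k * q⁻¹ * k⁻¹) ^ (2 ^ n) = 1 := by
        have := congrArg Subtype.val hn
        simpa using this
      have := Cfsg.Agent.S5420.eq_one_of_odd_of_pow_two K hK _ hcK n hn'
      calc k * q = (q * k * q⁻¹ * k⁻¹)⁻¹ * (q * k) := by group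
        _ = q * k := by rw [this, inv_one, one_mul]
    rcases hC k hcent with h1 | h1
    · exact h1
    · apply Cfsg.Agent.S5420.eq_one_of_odd_of_pow_two K hK k hk 1
      rw [h1, pow_one, pow_two]; exact hzz
  -- Step B: K ⊓ C(b) = ⊥
  have hB : ∀ k ∈ K, k * b = b * k → k = 1 := by
    intro k hk hkb
    apply hA k hk
    have hzN := hQK hzQ
    have hcK : z * k * z⁻¹ * k⁻¹ ∈ K :=
      K.mul_mem ((Subgroup.mem_normalizer_iff.mp hzN k).mp hk) (K.inv_mem hk)
    have hcT : z * k * z⁻¹ * k⁻¹ ∈ T := by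
      have : z * k * z⁻¹ * k⁻¹ = z * (k * z⁻¹ * k⁻¹) := by group
      rw [this]
      exact T.mul_mem hzT (hTn k hkb z⁻¹ (T.inv_mem hzT))
    obtain ⟨n, hn⟩ := hT2 ⟨_, hcT⟩
    have hn' : (z * k * z⁻¹ * k⁻¹) ^ (2 ^ n) = 1 := by
      have := congrArg Subtype.val hn
      simpa using this
    have := Cfsg.Agent.S5420.eq_one_of_odd_of_pow_two K hK _ hcK n hn'
    calc k * z = (z * k * z⁻¹ * k⁻¹)⁻¹ * (z * k) := by group
      _ = z * k := by rw [this, inv_one, one_mul]
  -- Step C: K ⊓ C(bz) = ⊥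
  obtain ⟨y, hyQ, hy⟩ := sub_exists_conj h hbQ hb1 hbz
  have hCc : ∀ k ∈ K, k * (b * z) = (b * z) * k → k = 1 := by
    intro k hk hkbz
    have hyN := hQK (Q.inv_mem hyQ)
    have hk' : y⁻¹ * k * y⁻¹⁻¹ ∈ K := (Subgroup.mem_normalizer_iff.mp hyN k).mp hk
    have hb' : b = y⁻¹ * (b * z) * y := by rw [← hy]; group
    have h1 : y⁻¹ * k * y⁻¹⁻¹ = 1 := by
      apply hB _ hk'
      calc y⁻¹ * k * y⁻¹⁻¹ * b = y⁻¹ * k * y * b := by group
        _ = y⁻¹ * k * y * (y⁻¹ * (b * z) * y) := by rw [← hb']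
        _ = y⁻¹ * (k * (b * z)) * y := by group
        _ = y⁻¹ * ((b * z) * k) * y := by rw [hkbz]
        _ = (y⁻¹ * (b * z) * y) * (y⁻¹ * k * y⁻¹⁻¹) := by group
        _ = b * (y⁻¹ * k * y⁻¹⁻¹) := by rw [← hb']
    have h2 : k = y * (y⁻¹ * k * y⁻¹⁻¹) * y⁻¹ := by group
    rw [h2, h1]; group
  -- generation by centralizers of the four-group `⟨b, z⟩`
  let A := kleinOf b z hbb hzz hbzc
  have hAQ : A ≤ Q := kleinOf_le hbQ hzQ
  have hAcard : Nat.card A = 4 := card_kleinOf hb1 (sub_ne_one h) hbz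
  have hcb : ∀ x ∈ A, Commute x b := fun x hx =>
    (commute_of_mem_kleinOf (Commute.refl b) hbzc hx).symm
  have hcz : ∀ x ∈ A, Commute x z := fun x hx =>
    (commute_of_mem_kleinOf (c := z) hbzc.symm (Commute.refl z) hx).symm
  haveI : IsMulCommutative A :=
    ⟨⟨fun x y => Subtype.ext (commute_of_mem_kleinOf (hcb x x.2) (hcz x x.2) y.2)⟩⟩
  have hAnc : ¬ IsCyclic A := by
    intro hcyc
    haveI := hcyc
    obtain ⟨t, ht⟩ := IsCyclic.exists_generator (α := A)
    have h1 : orderOf t = Nat.card A := orderOf_eq_card_of_forall_mem_zpowers ht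
    have h2 : t ^ 2 = 1 := by
      apply Subtype.ext
      have := sq_eq_one_of_mem_kleinOf t.2
      simpa [pow_two] using this
    have h3 : orderOf t ∣ 2 := orderOf_dvd_of_pow_eq_one h2
    rw [h1, hAcard] at h3
    exact absurd (Nat.le_of_dvd (by norm_num) h3) (by norm_num)
  have hcop : (Nat.card A).Coprime (Nat.card K) := by
    rw [hAcard]
    exact (Nat.Coprime.pow_left 2 (Nat.coprime_two_left.mpr hK) : Nat.Coprime (2 ^ 2) _)
  have hgen := Cfsg.Agent.Lead.generated_by_centralizers A K hAnc (hAQ.trans hQK) hcop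
  rw [← hgen]
  simp only [iSup_eq_bot]
  rintro e ⟨heA, he1⟩
  rw [eq_bot_iff]
  rintro k ⟨hkK, hkC⟩
  have hke : k * e = e * k := (Subgroup.mem_centralizer_iff.mp hkC e rfl).symm
  rw [Subgroup.mem_bot]
  rcases heA with rfl | rfl | rfl | rfl
  · exact absurd rfl he1
  · exact hB k hkK hke
  · exact hA k hkK hke
  · exact hCc k hkK hke

end Sub

end Cfsg.Agent.Helper3.LargeES
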