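import Mathlib
import Cfsg.Agent.Helper3.LargeES

set_option autoImplicit false
set_option linter.style.haveILetI false
open Cfsg

/-! Large extraspecial 2-subgroups: a conjugate of the centre inside `Q` (Aschbacher 8.7). -/

namespace Cfsg.Agent.Helper3.LargeES

open Cfsg.Agent.Helper3 Cfsg.Agent.Helper3.ES2

variable {G : Type*} [Group G]

/-- conjugation action of a subgroup on a conjugation-stable set -/
@[reducible] def conjActOn (R : Subgroup G) (O : Set G)
    (hO : ∀ r ∈ R, ∀ y ∈ O, r * y * r⁻¹ ∈ O) : MulAction R O where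
  smul r y := ⟨(r : G) * (y : G) * (r : G)⁻¹, hO r r.2 y y.2⟩
  one_smul y := Subtype.ext (by
    show ((1 : R) : G) * (y : G) * ((1 : R) : G)⁻¹ = y
    simp)
  mul_smul r s y := Subtype.ext (by
    show ((r * s : R) : G) * (y : G) * ((r * s : R) : G)⁻¹ =
      (r : G) * ((s : G) * (y : G) * (s : G)⁻¹) * (r : G)⁻¹
    simp [mul_assoc])

/-- a 2-group `R` normalizing a 2-group `P` and centralizing `z` centralizes a second
`P`-conjugate of `z`, unless `P` centralizes `z` -/
theorem exists_fixed_conj [Finite G] {P R : Subgroup G} (hP : IsPGroup 2 P) (hR : IsPGroup 2 R)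
    (hRP : ∀ r ∈ R, ∀ p ∈ P, r * p * r⁻¹ ∈ P) {z : G} (hRz : ∀ r ∈ R, r * z = z * r)
    (hnc : ∃ x ∈ P, x * z ≠ z * x) :
    ∃ x ∈ P, x * z * x⁻¹ ≠ z ∧ ∀ r ∈ R, r * (x * z * x⁻¹) = (x * z * x⁻¹) * r := by
  haveI : Fact (Nat.Prime 2) := ⟨Nat.prime_two⟩
  let O : Set G := {y | ∃ x ∈ P, y = x * z * x⁻¹}
  have hPO : ∀ p ∈ P, ∀ y ∈ O, p * y * p⁻¹ ∈ O := by
    rintro p hp y ⟨x, hx, rfl⟩
    exact ⟨p * x, P.mul_mem hp hx, by group⟩
  have hRO : ∀ r ∈ R, ∀ y ∈ O, r * y * r⁻¹ ∈ O := by
    rintro r hr y ⟨x, hx, rfl⟩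
    refine ⟨r * x * r⁻¹, hRP r hr x hx, ?_⟩
    have := hRz r hr
    calc r * (x * z * x⁻¹) * r⁻¹ = r * x * r⁻¹ * (r * z) * r⁻¹ * r * x⁻¹ * r⁻¹ := by group
      _ = r * x * r⁻¹ * (z * r) * r⁻¹ * r * x⁻¹ * r⁻¹ := by rw [this]
      _ = r * x * r⁻¹ * z * (r * x * r⁻¹)⁻¹ := by group
  let z0 : O := ⟨z, 1, P.one_mem, by group⟩
  have hcard : 2 ∣ Nat.card O := by
    letI := conjActOn P O hPO
    obtain ⟨n, hn⟩ := hP.card_orbit z0
    have huniv : MulAction.orbit P z0 = Set.univ := by
      ext ⟨y, x, hx, rfl⟩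
      simp only [Set.mem_univ, iff_true]
      exact ⟨⟨x, hx⟩, Subtype.ext rfl⟩
    rw [huniv, Nat.card_congr (Equiv.Set.univ _)] at hn
    rw [hn]
    cases n with
    | zero =>
      exfalso
      rw [pow_zero] at hn
      obtain ⟨x0, hx0, hx0z⟩ := hnc
      have hsub : Subsingleton O := (Nat.card_eq_one_iff_unique.mp hn).1
      have : x0 * z * x0⁻¹ = z :=
        congrArg Subtype.val (Subsingleton.elim (⟨x0 * z * x0⁻¹, x0, hx0, rfl⟩ : O) z0)
      apply hx0z
      calc x0 * z = (x0 * z * x0⁻¹) * x0 := by group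
        _ = z * x0 := by rw [this]
    | succ m => exact dvd_pow_self 2 (Nat.succ_ne_zero m)
  letI := conjActOn R O hRO
  have hfix : z0 ∈ MulAction.fixedPoints R O := by
    intro r
    apply Subtype.ext
    show (r : G) * z * (r : G)⁻¹ = z
    rw [hRz r r.2]; group
  obtain ⟨⟨y, x, hx, rfl⟩, hbfix, hne⟩ :=
    hR.exists_fixed_point_of_prime_dvd_card_of_fixed_point O hcard hfix
  refine ⟨x, hx, fun hh => hne (Subtype.ext hh.symm), ?_⟩
  intro r hr
  have h1 : r * (x * z * x⁻¹) * r⁻¹ = x * z * x⁻¹ := congrArg Subtype.val (hbfix ⟨r, hr⟩)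
  calc r * (x * z * x⁻¹) = (r * (x * z * x⁻¹) * r⁻¹) * r := by group
    _ = x * z * x⁻¹ * r := by rw [h1]

/-- an element of `Q` commuting with the whole centralizer `C_Q(a)` lies in `{1, z, a, a z}` -/
theorem sub_double_centralizer {Q : Subgroup G} {zq : Q} (h : ES2 Q zq) {a r : G} (ha : a ∈ Q)
    (hr : r ∈ Q) (hra : ∀ y ∈ Q, y * a = a * y → r * y = y * r) :
    r = 1 ∨ r = zq ∨ r = a ∨ r = a * zq := by
  by_cases hc : ∀ y ∈ Q, r * y = y * r
  · rcases sub_center h hr hc with h1 | h1
    · exact Or.inl h1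
    · exact Or.inr (Or.inl h1)
  · push Not at hc
    obtain ⟨y0, hy0, hry0⟩ := hc
    have hy0a : y0 * a ≠ a * y0 := fun hh => hry0 (hra y0 hy0 hh)
    have ht : ∀ y ∈ Q, (a⁻¹ * r) * y = y * (a⁻¹ * r) := by
      intro y hy
      by_cases hya : y * a = a * y
      · have h1 := hra y hy hya
        have h2 : a⁻¹ * y = y * a⁻¹ := by
          calc a⁻¹ * y = a⁻¹ * (y * a) * a⁻¹ := by group
            _ = a⁻¹ * (a * y) * a⁻¹ := by rw [hya]
            _ = y * a⁻¹ := by group
        calc a⁻¹ * r * y = a⁻¹ * (r * y) := by group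
          _ = a⁻¹ * (y * r) := by rw [h1]
          _ = (a⁻¹ * y) * r := by group
          _ = y * a⁻¹ * r := by rw [h2]
          _ = y * (a⁻¹ * r) := by group
      · have hry : r * y ≠ y * r := by
          intro hh
          have hc1 := sub_index_two h ha hy0 hy hy0a hya
          have hc2 := hra (y0⁻¹ * y) (Q.mul_mem (Q.inv_mem hy0) hy) hc1
          apply hry0
          have h3 : r * y0⁻¹ = y0⁻¹ * r := by
            calc r * y0⁻¹ = r * (y0⁻¹ * y) * y⁻¹ := by group
              _ = y0⁻¹ * y * r * y⁻¹ := by rw [hc2]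
              _ = y0⁻¹ * (y * r) * y⁻¹ := by group
              _ = y0⁻¹ * (r * y) * y⁻¹ := by rw [hh]
              _ = y0⁻¹ * r := by group
          calc r * y0 = y0 * (y0⁻¹ * r) * y0 := by group
            _ = y0 * (r * y0⁻¹) * y0 := by rw [h3]
            _ = y0 * r := by group
        have h1 : a * y = y * a * zq := by
          rcases sub_comm h ha hy with h1 | h1
          · exact absurd h1.symm hya
          · exact h1
        have h2 : r * y = y * r * zq := by
          rcases sub_comm h hr hy with h2 | h2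
          · exact absurd h2 hry
          · exact h2
        have := inv_mul_comm (x := (⟨y, hy⟩ : Q)) (t := ⟨a, ha⟩) (e := ⟨r, hr⟩) (w := zq)
          h.central (Subtype.ext h1) (Subtype.ext h2)
        exact (congrArg Subtype.val this).symm
    rcases sub_center h (Q.mul_mem (Q.inv_mem ha) hr) ht with h1 | h1
    · right; right; left
      calc r = a * (a⁻¹ * r) := by group
        _ = a := by rw [h1, mul_one]
    · right; right; right
      calc r = a * (a⁻¹ * r) := by group
        _ = a * zq := by rw [h1]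

/-- Aschbacher 8.7(1): if a conjugate `g z g⁻¹ ≠ z` of the central involution lies in `Q`,
then `z` lies in `g Q g⁻¹`. -/
theorem mem_conj_of_conj_mem [Finite G] {Q : Subgroup G} {zq : Q} (h : ES2 Q zq)
    (hC : ∀ x : G, (∀ q ∈ Q, x * q = q * x) → x = 1 ∨ x = (zq : G))
    (hN : ∀ x : G, x * (zq : G) = zq * x → ∀ q ∈ Q, x * q * x⁻¹ ∈ Q)
    (g : G) (hgz : g * zq * g⁻¹ ≠ zq) (haQ : g * zq * g⁻¹ ∈ Q) :
    ∃ q ∈ Q, g * q * g⁻¹ = zq := by
  obtain ⟨z, hz⟩ : ∃ z : G, z = (zq : G) := ⟨_, rfl⟩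
  obtain ⟨a, ha⟩ : ∃ a : G, a = g * z * g⁻¹ := ⟨_, rfl⟩
  rw [← hz] at hC hN hgz haQ ⊢
  rw [← ha] at hgz haQ
  have hzz : z * z = 1 := by rw [hz]; exact sub_zz h
  have hz1 : z ≠ 1 := by rw [hz]; exact sub_ne_one h
  have hzQ : z ∈ Q := by rw [hz]; exact zq.2
  have hzinv : z⁻¹ = z := inv_eq_of_mul_eq_one_left hzz
  have hzc : ∀ q ∈ Q, q * z = z * q := by
    intro q hq; rw [hz]; exact sub_central h hq
  have haa : a * a = 1 := by
    calc a * a = g * (z * z) * g⁻¹ := by rw [ha]; group
      _ = 1 := by rw [hzz]; group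
  have hainv : a⁻¹ = a := inv_eq_of_mul_eq_one_left haa
  have ha1 : a ≠ 1 := by
    intro h1
    apply hz1
    calc z = g⁻¹ * a * g := by rw [ha]; group
      _ = 1 := by rw [h1]; group
  have haz : a * z = z * a := hzc a haQ
  let P : Subgroup G := Q.map (MulAut.conj g).toMonoidHom
  have hmemP : ∀ x, x ∈ P ↔ ∃ q ∈ Q, g * q * g⁻¹ = x := by
    intro x
    simp [P, Subgroup.mem_map, MulAut.conj_apply]
  -- elements of P commute with a
  have hPa : ∀ x ∈ P, x * a = a * x := by
    intro x hx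
    obtain ⟨q, hq, rfl⟩ := (hmemP x).mp hx
    have := hzc q hq
    calc g * q * g⁻¹ * a = g * (q * z) * g⁻¹ := by rw [ha]; group
      _ = g * (z * q) * g⁻¹ := by rw [this]
      _ = a * (g * q * g⁻¹) := by rw [ha]; group
  -- elements commuting with a normalize P
  have hNP : ∀ x : G, x * a = a * x → ∀ p ∈ P, x * p * x⁻¹ ∈ P := by
    intro x hx p hp
    obtain ⟨q, hq, rfl⟩ := (hmemP p).mp hp
    have hx' : (g⁻¹ * x * g) * z = z * (g⁻¹ * x * g) := by
      calc g⁻¹ * x * g * z = g⁻¹ * (x * a) * g := by rw [ha]; group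
        _ = g⁻¹ * (a * x) * g := by rw [hx]
        _ = z * (g⁻¹ * x * g) := by rw [ha]; group
    have := hN _ hx' q hq
    exact (hmemP _).mpr ⟨_, this, by group⟩
  -- P does not centralize z
  have hnc : ∃ x ∈ P, x * z ≠ z * x := by
    by_contra hcon
    push Not at hcon
    have hu : ∀ q ∈ Q, (g⁻¹ * z * g) * q = q * (g⁻¹ * z * g) := by
      intro q hq
      have := hcon (g * q * g⁻¹) ((hmemP _).mpr ⟨q, hq, rfl⟩)
      calc g⁻¹ * z * g * q = g⁻¹ * (z * (g * q * g⁻¹)) * g := by group
        _ = g⁻¹ * ((g * q * g⁻¹) * z) * g := by rw [this]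
        _ = q * (g⁻¹ * z * g) := by group
    rcases hC _ hu with h1 | h1
    · apply hz1
      calc z = g * (g⁻¹ * z * g) * g⁻¹ := by group
        _ = 1 := by rw [h1]; group
    · apply hgz
      calc a = g * z * g⁻¹ := ha
        _ = g * (g⁻¹ * z * g) * g⁻¹ := by rw [h1]
        _ = z := by group
  -- R = C_Q(a)
  let R : Subgroup G := Q ⊓ Subgroup.centralizer {a}
  have hmemR : ∀ r, r ∈ R ↔ r ∈ Q ∧ r * a = a * r := by
    intro r
    simp only [R, Subgroup.mem_inf, Subgroup.mem_centralizer_singleton_iff]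
  have hP2 : IsPGroup 2 P := (sub_isPGroup h).map _
  have hR2 : IsPGroup 2 R := (sub_isPGroup h).to_le inf_le_left
  have hRP : ∀ r ∈ R, ∀ p ∈ P, r * p * r⁻¹ ∈ P :=
    fun r hr p hp => hNP r ((hmemR r).mp hr).2 p hp
  have hRz : ∀ r ∈ R, r * z = z * r := fun r hr => hzc r ((hmemR r).mp hr).1
  obtain ⟨x, hxP, hxz, hxR⟩ := exists_fixed_conj hP2 hR2 hRP hRz hnc
  obtain ⟨z', hz'⟩ : ∃ z' : G, z' = x * z * x⁻¹ := ⟨_, rfl⟩
  rw [← hz'] at hxz hxR
  obtain ⟨c, hc⟩ : ∃ c : G, c = z * z' := ⟨_, rfl⟩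
  have hcP : c ∈ P := by
    have h1 : z * x * z⁻¹ ∈ P := hNP z haz.symm x hxP
    have : c = (z * x * z⁻¹) * x⁻¹ := by rw [hc, hz', hzinv]; group
    rw [this]; exact P.mul_mem h1 (P.inv_mem hxP)
  have hc1 : c ≠ 1 := by
    intro h1
    apply hxz
    calc z' = z⁻¹ * (z * z') := by group
      _ = z := by rw [← hc, h1, mul_one, hzinv]
  have hcR : ∀ r ∈ R, c * r = r * c := by
    intro r hr
    have h1 := hRz r hr
    have h2 := hxR r hr
    calc c * r = z * (z' * r) := by rw [hc]; group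
      _ = z * (r * z') := by rw [h2]
      _ = (z * r) * z' := by group
      _ = (r * z) * z' := by rw [h1]
      _ = r * c := by rw [hc]; group
  have hconj_c : ∀ r ∈ R, c * r * c⁻¹ = r := by
    intro r hr
    rw [hcR r hr]; group
  have hzR : z ∈ R := (hmemR z).mpr ⟨hzQ, haz.symm⟩
  have hcz : c * z = z * c := hcR z hzR
  have hcQ : ∀ q ∈ Q, c * q * c⁻¹ ∈ Q := hN c hcz
  obtain ⟨y, hyQ, hy⟩ : ∃ y ∈ Q, y * a * y⁻¹ = a * z := by
    have := sub_exists_conj h haQ ha1 (by rw [← hz]; exact hgz)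
    rwa [← hz] at this
  have hzy : z * y = y * z := (hzc y hyQ).symm
  have hya : y * a ≠ a * y := by
    intro hh
    have : a * z = a := by rw [← hy, hh]; group
    exact hz1 (mul_left_cancel (a := a) (by rw [this, mul_one]))
  have hay : a * y * a⁻¹ = y * z := by
    have h1 : y * a = a * z * y := by rw [← hy]; group
    calc a * y * a⁻¹ = a * y * a := by rw [hainv]
      _ = a * (y * a) := by group
      _ = a * (a * z * y) := by rw [h1]
      _ = (a * a) * (z * y) := by group
      _ = y * z := by rw [haa, one_mul, hzy]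
  have hyay : y⁻¹ * a * y = a * z := by
    have : a = y⁻¹ * (a * z) * y := by rw [← hy]; group
    calc y⁻¹ * a * y = y⁻¹ * a * y * (z * z) := by rw [hzz, mul_one]
      _ = y⁻¹ * a * (y * z) * z := by group
      _ = y⁻¹ * a * (z * y) * z := by rw [hzy]
      _ = (y⁻¹ * (a * z) * y) * z := by group
      _ = a * z := by rw [← this]
  obtain ⟨d, hd⟩ : ∃ d : G, d = y⁻¹ * (c * y * c⁻¹) := ⟨_, rfl⟩
  have hdQ : d ∈ Q := by rw [hd]; exact Q.mul_mem (Q.inv_mem hyQ) (hcQ y hyQ)
  have hcy : c * y * c⁻¹ = y * d := by rw [hd]; group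
  -- R is normalized by y
  have hRnorm : ∀ r ∈ R, y * r * y⁻¹ ∈ R := by
    intro r hr
    obtain ⟨hrQ, hra⟩ := (hmemR r).mp hr
    refine (hmemR _).mpr ⟨Q.mul_mem (Q.mul_mem hyQ hrQ) (Q.inv_mem hyQ), ?_⟩
    have hrz := hRz r hr
    calc y * r * y⁻¹ * a = y * r * (y⁻¹ * a * y) * y⁻¹ := by group
      _ = y * r * (a * z) * y⁻¹ := by rw [hyay]
      _ = y * (r * a) * z * y⁻¹ := by group
      _ = y * (a * r) * z * y⁻¹ := by rw [hra]
      _ = y * a * (r * z) * y⁻¹ := by group
      _ = y * a * (z * r) * y⁻¹ := by rw [hrz]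
      _ = y * (a * z) * r * y⁻¹ := by group
      _ = y * (y⁻¹ * a * y) * r * y⁻¹ := by rw [hyay]
      _ = a * (y * r * y⁻¹) := by group
  -- d centralizes R
  have hdR : ∀ r ∈ Q, r * a = a * r → d * r = r * d := by
    intro r hrQ hra
    have hr : r ∈ R := (hmemR r).mpr ⟨hrQ, hra⟩
    have e1 : c * (y * r * y⁻¹) * c⁻¹ = (c * y * c⁻¹) * (c * r * c⁻¹) * (c * y * c⁻¹)⁻¹ := by group
    rw [hconj_c r hr, hcy, hconj_c _ (hRnorm r hr)] at e1
    calc d * r = y⁻¹ * (y * d * r * (y * d)⁻¹) * y * d := by group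
      _ = y⁻¹ * (y * r * y⁻¹) * y * d := by rw [← e1]
      _ = r * d := by group
  -- squares
  have hyd : (y * d) * (y * d) = y * y := by
    have hyy : y * y ∈ R := by
      rcases sub_sq h hyQ with h1 | h1
      · rw [h1]; exact R.one_mem
      · rw [h1, ← hz]; exact hzR
    have e1 : c * (y * y) * c⁻¹ = (c * y * c⁻¹) * (c * y * c⁻¹) := by group
    rw [hconj_c _ hyy, hcy] at e1
    exact e1.symm
  -- a criterion for centrality
  have hcentral : ∀ w : G, (∀ r ∈ R, w * r = r * w) → w * y = y * w → ∀ q ∈ Q, w * q = q * w := by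
    intro w hwR hwy q hq
    by_cases hqa : q * a = a * q
    · exact hwR q ((hmemR q).mpr ⟨hq, hqa⟩)
    · have h1 := sub_index_two h haQ hyQ hq hya hqa
      have h2 := hwR (y⁻¹ * q) ((hmemR _).mpr ⟨Q.mul_mem (Q.inv_mem hyQ) hq, h1⟩)
      calc w * q = (w * y) * (y⁻¹ * q) := by group
        _ = y * w * (y⁻¹ * q) := by rw [hwy]
        _ = y * (w * (y⁻¹ * q)) := by group
        _ = y * ((y⁻¹ * q) * w) := by rw [h2]
        _ = q * w := by group
  rcases sub_double_centralizer h haQ hdQ hdR with h1 | h1 | h1 | h1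
  · -- d = 1
    exfalso
    rw [h1, mul_one] at hcy
    have hwy : c * y = y * c := by
      calc c * y = (c * y * c⁻¹) * c := by group
        _ = y * c := by rw [hcy]
    rcases hC c (hcentral c hcR hwy) with h2 | h2
    · exact hc1 h2
    · -- c = z ⇒ z' = 1
      apply hz1
      have h3 : z' = 1 := by
        calc z' = z⁻¹ * (z * z') := by group
          _ = 1 := by rw [← hc, h2]; group
      calc z = x⁻¹ * (x * z * x⁻¹) * x := by group
        _ = 1 := by rw [← hz', h3]; group
  · -- d = z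
    rw [h1, ← hz] at hcy
    have hwR : ∀ r ∈ R, (a * c) * r = r * (a * c) := by
      intro r hr
      have h2 := hcR r hr
      have h3 := ((hmemR r).mp hr).2
      calc a * c * r = a * (c * r) := by group
        _ = a * (r * c) := by rw [h2]
        _ = (a * r) * c := by group
        _ = (r * a) * c := by rw [h3]
        _ = r * (a * c) := by group
    have hwy : (a * c) * y = y * (a * c) := by
      have : (a * c) * y * (a * c)⁻¹ = y := by
        calc (a * c) * y * (a * c)⁻¹ = a * (c * y * c⁻¹) * a⁻¹ := by group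
          _ = a * (y * z) * a⁻¹ := by rw [hcy]
          _ = (a * y * a⁻¹) * (a * z) * a⁻¹ := by group
          _ = (y * z) * (z * a) * a⁻¹ := by rw [hay, haz]
          _ = y * (z * z) := by group
          _ = y := by rw [hzz, mul_one]
      calc (a * c) * y = ((a * c) * y * (a * c)⁻¹) * (a * c) := by group
        _ = y * (a * c) := by rw [this]
    rcases hC _ (hcentral _ hwR hwy) with h2 | h2
    · -- a c = 1 ⇒ c = a
      have hca : c = a := by
        calc c = a⁻¹ * (a * c) := by group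
          _ = a := by rw [h2, mul_one, hainv]
      -- z' = z a
      have hz'a : x * z * x⁻¹ = z * a := by
        calc x * z * x⁻¹ = z' := hz'.symm
          _ = z⁻¹ * (z * z') := by group
          _ = z * a := by rw [← hc, hca, hzinv]
      have hxa : x * a * x⁻¹ = a := by
        rw [hPa x hxP]; group
      -- h' = (y g)⁻¹ x commutes with z
      have hh' : ((y * g)⁻¹ * x) * z = z * ((y * g)⁻¹ * x) := by
        have e1 : x * z = (z * a) * x := by
          calc x * z = (x * z * x⁻¹) * x := by group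
            _ = (z * a) * x := by rw [hz'a]
        have e2 : y * g * z = (z * a) * (y * g) := by
          calc y * g * z = (y * (g * z * g⁻¹) * y⁻¹) * (y * g) := by group
            _ = (y * a * y⁻¹) * (y * g) := by rw [← ha]
            _ = (z * a) * (y * g) := by rw [hy, haz]
        calc (y * g)⁻¹ * x * z = (y * g)⁻¹ * (x * z) := by group
          _ = (y * g)⁻¹ * ((z * a) * x) := by rw [e1]
          _ = (y * g)⁻¹ * ((z * a) * (y * g)) * ((y * g)⁻¹ * x) := by group
          _ = (y * g)⁻¹ * (y * g * z) * ((y * g)⁻¹ * x) := by rw [← e2]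
          _ = z * ((y * g)⁻¹ * x) := by group
      have hq1 := hN _ hh' (z * a) (Q.mul_mem hzQ haQ)
      refine ⟨_, hq1, ?_⟩
      calc g * ((y * g)⁻¹ * x * (z * a) * ((y * g)⁻¹ * x)⁻¹) * g⁻¹
          = y⁻¹ * ((x * z * x⁻¹) * (x * a * x⁻¹)) * y := by group
        _ = y⁻¹ * ((z * a) * a) * y := by rw [hz'a, hxa]
        _ = y⁻¹ * z * y := by rw [mul_assoc z, haa, mul_one]
        _ = y⁻¹ * (z * y) := by group
        _ = z := by rw [hzy]; group
    · -- a c = z ⇒ c = a z, so z = a c' ∈ P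
      have hca : c = a * z := by
        calc c = a⁻¹ * (a * c) := by group
          _ = a * z := by rw [h2, hainv]
      have haP : a ∈ P := (hmemP a).mpr ⟨z, hzQ, ha.symm⟩
      have : z = a⁻¹ * c := by rw [hca]; group
      have hzP : z ∈ P := by rw [this]; exact P.mul_mem (P.inv_mem haP) hcP
      exact (hmemP z).mp hzP
  · -- d = a
    exfalso
    rw [h1] at hyd
    apply hz1
    have e1 : a * y * a = y := by
      have : y * (a * y * a) = y * y := by rw [← hyd]; group
      exact mul_left_cancel this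
    have e2 : y * z = y := by
      rw [← hay, hainv, e1]
    exact mul_left_cancel (a := y) (by rw [e2, mul_one])
  · -- d = a z
    exfalso
    rw [h1, ← hz] at hyd
    apply hz1
    have e1 : a * z * y * a * z = y := by
      have : y * (a * z * y * a * z) = y * y := by rw [← hyd]; group
      exact mul_left_cancel this
    have e2 : y * z = y := by
      calc y * z = a * y * a⁻¹ := hay.symm
        _ = a * y * a * (z * z) := by rw [hainv, hzz, mul_one]
        _ = a * y * (a * z) * z := by group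
        _ = a * y * (z * a) * z := by rw [haz]
        _ = a * (y * z) * a * z := by group
        _ = a * (z * y) * a * z := by rw [hzy]
        _ = a * z * y * a * z := by group
        _ = y := e1
    exact mul_left_cancel (a := y) (by rw [e2, mul_one])

/-- conjugation into a finite subgroup is normalization -/
theorem mem_normalizer_of_conj_mem' [Finite G] (H : Subgroup G) (g : G)
    (h : ∀ x ∈ H, g * x * g⁻¹ ∈ H) : g ∈ Subgroup.normalizer (H : Set G) := by
  have heq : H.map (MulAut.conj g).toMonoidHom = H := by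
    apply Subgroup.eq_of_le_of_card_ge
    · rintro _ ⟨x, hx, rfl⟩; exact h x hx
    · rw [Subgroup.card_map_of_injective (MulAut.conj g).injective]
  rw [Subgroup.mem_normalizer_iff]
  intro x
  constructor
  · exact h x
  · intro hx
    rw [← heq] at hx
    obtain ⟨w, hw, hwx⟩ := hx
    have : w = x := by simpa [MulAut.conj_apply] using hwx
    rwa [← this]

/-- pairs of elements, on which subgroups act by simultaneous conjugation -/
@[ext] structure CP (G : Type*) where
  fst : G
  snd : G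

instance conjPairAction (M : Subgroup G) : MulAction M (CP G) where
  smul n p := ⟨(n : G) * p.fst * (n : G)⁻¹, (n : G) * p.snd * (n : G)⁻¹⟩
  one_smul p := by
    show (⟨((1 : M) : G) * p.fst * ((1 : M) : G)⁻¹, ((1 : M) : G) * p.snd * ((1 : M) : G)⁻¹⟩ : CP G) = p
    ext <;> simp
  mul_smul m n p := by
    show (⟨((m * n : M) : G) * p.fst * ((m * n : M) : G)⁻¹,
      ((m * n : M) : G) * p.snd * ((m * n : M) : G)⁻¹⟩ : CP G) =
      ⟨(m : G) * ((n : G) * p.fst * (n : G)⁻¹) * (m : G)⁻¹,
        (m : G) * ((n : G) * p.snd * (n : G)⁻¹) * (m : G)⁻¹⟩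
    ext <;> simp [mul_assoc]

theorem smul_cp (M : Subgroup G) (n : M) (u v : G) :
    n • (⟨u, v⟩ : CP G) = ⟨(n : G) * u * (n : G)⁻¹, (n : G) * v * (n : G)⁻¹⟩ := rfl

/-- the normalizer of a four-group `V = {1, z, a, za}` induces `S₃` on it as soon as it contains
two suitable "transpositions" -/
theorem relIndex_eq_six [Finite G] {z a : G} (hzz : z * z = 1) (haa : a * a = 1)
    (hza : z * a = a * z) (hz1 : z ≠ 1) (ha1 : a ≠ 1) (hne : z ≠ a)
    (V : Subgroup G) (hV : ∀ v, v ∈ V ↔ v = 1 ∨ v = z ∨ v = a ∨ v = z * a)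
    {y x : G} (hyz : y * z * y⁻¹ = z) (hya : y * a * y⁻¹ = z * a)
    (hxa : x * a * x⁻¹ = a) (hxz : x * z * x⁻¹ = z * a) :
    (Subgroup.centralizer (V : Set G)).relIndex (Subgroup.normalizer (V : Set G)) = 6 := by
  classical
  have hyza : y * (z * a) * y⁻¹ = a := by
    calc y * (z * a) * y⁻¹ = (y * z * y⁻¹) * (y * a * y⁻¹) := by group
      _ = z * (z * a) := by rw [hyz, hya]
      _ = a := by rw [← mul_assoc, hzz, one_mul]
  have hxza : x * (z * a) * x⁻¹ = z := by
    calc x * (z * a) * x⁻¹ = (x * z * x⁻¹) * (x * a * x⁻¹) := by group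
      _ = (z * a) * a := by rw [hxz, hxa]
      _ = z := by rw [mul_assoc, haa, mul_one]
  have hyM : y ∈ Subgroup.normalizer (V : Set G) := by
    apply mem_normalizer_of_conj_mem'
    intro v hv
    rcases (hV v).mp hv with rfl | rfl | rfl | rfl
    · simp [V.one_mem]
    · rw [hyz]; exact (hV _).mpr (Or.inr (Or.inl rfl))
    · rw [hya]; exact (hV _).mpr (Or.inr (Or.inr (Or.inr rfl)))
    · rw [hyza]; exact (hV _).mpr (Or.inr (Or.inr (Or.inl rfl)))
  have hxM : x ∈ Subgroup.normalizer (V : Set G) := by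
    apply mem_normalizer_of_conj_mem'
    intro v hv
    rcases (hV v).mp hv with rfl | rfl | rfl | rfl
    · simp [V.one_mem]
    · rw [hxz]; exact (hV _).mpr (Or.inr (Or.inr (Or.inr rfl)))
    · rw [hxa]; exact (hV _).mpr (Or.inr (Or.inr (Or.inl rfl)))
    · rw [hxza]; exact (hV _).mpr (Or.inr (Or.inl rfl))
  have hstab : MulAction.stabilizer (Subgroup.normalizer (V : Set G)) (⟨z, a⟩ : CP G) =
      (Subgroup.centralizer (V : Set G)).subgroupOf (Subgroup.normalizer (V : Set G)) := by
    ext n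
    rw [MulAction.mem_stabilizer_iff, Subgroup.mem_subgroupOf, Subgroup.mem_centralizer_iff,
      smul_cp]
    constructor
    · intro hn
      have h1 : (n : G) * z * (n : G)⁻¹ = z := congrArg CP.fst hn
      have h2 : (n : G) * a * (n : G)⁻¹ = a := congrArg CP.snd hn
      have hcz : z * n = n * z := by
        calc z * n = ((n : G) * z * (n : G)⁻¹) * n := by rw [h1]
          _ = n * z := by group
      have hca : a * n = n * a := by
        calc a * n = ((n : G) * a * (n : G)⁻¹) * n := by rw [h2]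
          _ = n * a := by group
      intro v hv
      rcases (hV v).mp hv with rfl | rfl | rfl | rfl
      · simp
      · exact hcz
      · exact hca
      · calc z * a * n = z * (a * n) := by group
          _ = z * (n * a) := by rw [hca]
          _ = (z * n) * a := by group
          _ = n * z * a := by rw [hcz]
          _ = n * (z * a) := by group
    · intro hn
      have hcz := hn z ((hV z).mpr (Or.inr (Or.inl rfl)))
      have hca := hn a ((hV a).mpr (Or.inr (Or.inr (Or.inl rfl))))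
      have h1 : (n : G) * z * (n : G)⁻¹ = z := by rw [← hcz]; group
      have h2 : (n : G) * a * (n : G)⁻¹ = a := by rw [← hca]; group
      rw [h1, h2]
  rw [Subgroup.relIndex, ← hstab, MulAction.index_stabilizer]
  have e1 : z * a ≠ z := fun hh => ha1 (by simpa using hh)
  have e2 : z * a ≠ a := fun hh => hz1 (by simpa using hh)
  have horb : MulAction.orbit (Subgroup.normalizer (V : Set G)) (⟨z, a⟩ : CP G) =
      ({⟨z, a⟩, ⟨z, z * a⟩, ⟨z * a, a⟩, ⟨z * a, z⟩, ⟨a, z * a⟩, ⟨a, z⟩} : Set (CP G)) := by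
    apply Set.Subset.antisymm
    · rintro _ ⟨n, rfl⟩
      beta_reduce
      rw [smul_cp]
      have hnz : (n : G) * z * (n : G)⁻¹ ∈ V :=
        (Subgroup.mem_normalizer_iff.mp n.2 z).mp ((hV z).mpr (Or.inr (Or.inl rfl)))
      have hna : (n : G) * a * (n : G)⁻¹ ∈ V :=
        (Subgroup.mem_normalizer_iff.mp n.2 a).mp ((hV a).mpr (Or.inr (Or.inr (Or.inl rfl))))
      have hnz1 : (n : G) * z * (n : G)⁻¹ ≠ 1 := by
        intro hh
        apply hz1
        calc z = (n : G)⁻¹ * ((n : G) * z * (n : G)⁻¹) * n := by group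
          _ = 1 := by rw [hh]; group
      have hna1 : (n : G) * a * (n : G)⁻¹ ≠ 1 := by
        intro hh
        apply ha1
        calc a = (n : G)⁻¹ * ((n : G) * a * (n : G)⁻¹) * n := by group
          _ = 1 := by rw [hh]; group
      have hnne : (n : G) * z * (n : G)⁻¹ ≠ (n : G) * a * (n : G)⁻¹ := by
        intro hh
        apply hne
        calc z = (n : G)⁻¹ * ((n : G) * z * (n : G)⁻¹) * n := by group
          _ = (n : G)⁻¹ * ((n : G) * a * (n : G)⁻¹) * n := by rw [hh]
          _ = a := by group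
      rcases (hV _).mp hnz with h1 | h1 | h1 | h1 <;>
        rcases (hV _).mp hna with h2 | h2 | h2 | h2 <;>
        simp only [h1, h2] at hnz1 hna1 hnne ⊢ <;>
        simp_all
    · rintro p hp
      simp only [Set.mem_insert_iff, Set.mem_singleton_iff] at hp
      rcases hp with rfl | rfl | rfl | rfl | rfl | rfl
      · exact ⟨1, one_smul _ _⟩
      · exact ⟨⟨y, hyM⟩, by beta_reduce; rw [smul_cp]; simp only [hyz, hya]⟩
      · exact ⟨⟨x, hxM⟩, by beta_reduce; rw [smul_cp]; simp only [hxz, hxa]⟩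
      · refine ⟨⟨x, hxM⟩ * ⟨y, hyM⟩, ?_⟩
        beta_reduce
        rw [mul_smul, smul_cp, smul_cp]
        simp only [hyz, hya, hxz, hxza]
      · refine ⟨⟨y, hyM⟩ * ⟨x, hxM⟩, ?_⟩
        beta_reduce
        rw [mul_smul, smul_cp, smul_cp]
        simp only [hxz, hxa, hyza, hya]
      · refine ⟨⟨x, hxM⟩ * ⟨y, hyM⟩ * ⟨x, hxM⟩, ?_⟩
        beta_reduce
        rw [mul_smul, mul_smul, smul_cp, smul_cp, smul_cp]
        simp only [hxz, hxa, hyza, hya, hxza]
  rw [horb]
  rw [Set.ncard_insert_of_notMem, Set.ncard_insert_of_notMem, Set.ncard_insert_of_notMem,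
    Set.ncard_insert_of_notMem, Set.ncard_insert_of_notMem, Set.ncard_singleton]
  all_goals
    simp only [Set.mem_insert_iff, Set.mem_singleton_iff, CP.mk.injEq, not_or, not_and]
    simp [hne, hne.symm, e1, e2, e1.symm, e2.symm]

end Cfsg.Agent.Helper3.LargeES
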