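import Mathlib
import Cfsg.Agent.Helper3.ES2Iso
import Cfsg.Agent.Helper9.HomCount
import Cfsg.Agent.Helper17.Basic

/-!
# Elementary abelian subgroups of extraspecial 2-groups
-/

set_option autoImplicit false
set_option linter.style.haveILetI false

namespace Cfsg.Agent.Helper3

namespace ES2

universe u

open scoped commutatorElement

variable {G : Type*} [Group G] {z : G}

theorem card_center [Finite G] (h : ES2 G z) : Nat.card (Subgroup.center G) = 2 := by
  have hcenter : ∀ w ∈ Subgroup.center G, w = 1 ∨ w = z := by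
    intro w hw
    apply h.center_sub
    intro k
    exact (Subgroup.mem_center_iff.mp hw k).symm
  apply le_antisymm
  · apply card_le_two_of_dichotomy (1 : Subgroup.center G)
      ⟨z, Subgroup.mem_center_iff.mpr (fun g => h.central g)⟩
    intro e
    rcases hcenter e.1 e.2 with h1 | h1
    · exact Or.inl (Subtype.ext h1)
    · exact Or.inr (Subtype.ext h1)
  · have : 1 < Nat.card (Subgroup.center G) := by
      rw [Subgroup.one_lt_card_iff_ne_bot]
      intro hbot
      have : z ∈ Subgroup.center G := Subgroup.mem_center_iff.mpr (fun g => h.central g)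
      rw [hbot, Subgroup.mem_bot] at this
      exact h.ne_one this
    omega

theorem commutator_mem_center (h : ES2 G z) (a b : G) : ⁅a, b⁆ ∈ Subgroup.center G := by
  rw [commutatorElement_def]
  rcases h.comm a b with h1 | h1
  · have : a * b * a⁻¹ * b⁻¹ = 1 := by rw [h1]; group
    rw [this]; exact one_mem _
  · have : a * b * a⁻¹ * b⁻¹ = z := by
      rw [h1]
      calc b * a * z * a⁻¹ * b⁻¹ = b * a * (z * a⁻¹) * b⁻¹ := by group
        _ = b * a * (a⁻¹ * z) * b⁻¹ := by rw [h.central a⁻¹]
        _ = b * (z * b⁻¹) := by group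
        _ = b * (b⁻¹ * z) := by rw [h.central b⁻¹]
        _ = z := by group
    rw [this]
    exact Subgroup.mem_center_iff.mpr (fun g => h.central g)

/-- abelian subgroups are small -/
theorem abelian_card_sq_le [Finite G] (h : ES2 G z) (B : Subgroup G)
    (hB : ∀ a ∈ B, ∀ b ∈ B, a * b = b * a) : Nat.card B * Nat.card B ≤ 2 * Nat.card G := by
  haveI : Fact (Nat.Prime 2) := ⟨Nat.prime_two⟩
  have key := Cfsg.Agent.Helper9.relIndex_centralizer_eq (Subgroup.center G) ⊤ B (card_center h)
    (fun x _ w hw => (Subgroup.mem_center_iff.mp hw x).symm)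
    (fun x _ w hw => (Subgroup.mem_center_iff.mp hw x).symm)
    (fun a _ b _ => commutator_mem_center h a b)
  rw [Subgroup.relIndex_top_right, Subgroup.coe_top, Subgroup.centralizer_univ] at key
  have h1 := Cfsg.Agent.Helper17.relIndex_mul_card_inf (Subgroup.center G) B
  have h2 := Subgroup.card_mul_index (Subgroup.centralizer (B : Set G))
  have h3 : Nat.card B ≤ Nat.card (Subgroup.centralizer (B : Set G)) := by
    apply Subgroup.card_le_of_le
    intro b hb
    rw [Subgroup.mem_centralizer_iff]
    intro a ha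
    exact hB a ha b hb
  have h4 : Nat.card (Subgroup.center G ⊓ B : Subgroup G) ≤ 2 := by
    rw [← card_center h]
    exact Subgroup.card_le_of_le inf_le_left
  rw [key] at h2
  calc Nat.card B * Nat.card B
      = Nat.card B * ((Subgroup.center G).relIndex B * Nat.card (Subgroup.center G ⊓ B : Subgroup G)) := by
        rw [h1]
    _ ≤ Nat.card (Subgroup.centralizer (B : Set G)) * ((Subgroup.center G).relIndex B * 2) :=
        Nat.mul_le_mul h3 (Nat.mul_le_mul_left _ h4)
    _ = 2 * Nat.card G := by rw [← h2]; ring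

/-- elementary abelian 2-subgroup, elementwise -/
def EA (B : Subgroup G) : Prop := (∀ a ∈ B, ∀ b ∈ B, a * b = b * a) ∧ ∀ a ∈ B, a * a = 1

theorem mem_zpowers_invol {x g : G} (hx : x * x = 1) : g ∈ Subgroup.zpowers x ↔ g = 1 ∨ g = x := by
  constructor
  · intro hg
    obtain ⟨k, rfl⟩ := Subgroup.mem_zpowers_iff.mp hg
    have hx2 : x ^ (2 : ℤ) = 1 := by
      have : x ^ (2 : ℤ) = x ^ (2 : ℕ) := by norm_cast
      rw [this, pow_two, hx]
    rcases Int.even_or_odd' k with ⟨m, rfl | rfl⟩
    · left
      rw [zpow_mul, hx2, one_zpow]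
    · right
      rw [zpow_add, zpow_mul, hx2, one_zpow, one_mul, zpow_one]
  · rintro (rfl | rfl)
    · exact one_mem _
    · exact Subgroup.mem_zpowers _

theorem card_zpowers_invol {x : G} (hx : x * x = 1) (hx1 : x ≠ 1) :
    Nat.card (Subgroup.zpowers x) = 2 := by
  haveI : Fact (Nat.Prime 2) := ⟨Nat.prime_two⟩
  rw [Nat.card_zpowers]
  exact orderOf_eq_prime (by rw [pow_two, hx]) hx1

theorem EA_zpowers {x : G} (hx : x * x = 1) : EA (Subgroup.zpowers x) := by
  constructor
  · intro a ha b hb
    rcases (mem_zpowers_invol hx).mp ha with rfl | rfl <;>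
      rcases (mem_zpowers_invol hx).mp hb with rfl | rfl <;> simp
  · intro a ha
    rcases (mem_zpowers_invol hx).mp ha with rfl | rfl
    · simp
    · exact hx

/-- adjoin a commuting involution to an elementary abelian subgroup -/
theorem exists_adjoin [Finite G] (B0 : Subgroup G) (hB0 : EA B0) (x : G) (hx : x * x = 1)
    (hxB : x ∉ B0) (hxc : ∀ b ∈ B0, x * b = b * x) :
    ∃ B : Subgroup G, B0 ≤ B ∧ x ∈ B ∧ EA B ∧ Nat.card B = 2 * Nat.card B0 := by
  have hx1 : x ≠ 1 := fun hh => hxB (hh ▸ one_mem _)
  have hpair : ∀ a ∈ ((B0 : Set G) ∪ {x}), ∀ b ∈ ((B0 : Set G) ∪ {x}), a * b = b * a := by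
    rintro a (ha | ha) b (hb | hb)
    · exact hB0.1 a ha b hb
    · rw [Set.mem_singleton_iff] at hb; subst hb; exact (hxc a ha).symm
    · rw [Set.mem_singleton_iff] at ha; subst ha; exact hxc b hb
    · rw [Set.mem_singleton_iff] at ha hb; subst ha hb; rfl
  have hcomm := Subgroup.isMulCommutative_closure hpair
  have hcl : Subgroup.closure ((B0 : Set G) ∪ {x}) = B0 ⊔ Subgroup.zpowers x := by
    rw [Subgroup.closure_union, Subgroup.closure_eq, ← Subgroup.zpowers_eq_closure]
  refine ⟨Subgroup.closure ((B0 : Set G) ∪ {x}), ?_, ?_, ⟨?_, ?_⟩, ?_⟩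
  · exact fun b hb => Subgroup.subset_closure (Or.inl hb)
  · exact Subgroup.subset_closure (Or.inr rfl)
  · intro a ha b hb
    exact congrArg Subtype.val (hcomm.is_comm.comm ⟨a, ha⟩ ⟨b, hb⟩)
  · intro a ha
    induction ha using Subgroup.closure_induction with
    | mem a ha =>
      rcases ha with ha | ha
      · exact hB0.2 a ha
      · rw [Set.mem_singleton_iff] at ha; subst ha; exact hx
    | one => simp
    | mul a b ha hb iha ihb =>
      have hab : a * b = b * a := congrArg Subtype.val (hcomm.is_comm.comm ⟨a, ha⟩ ⟨b, hb⟩)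
      calc a * b * (a * b) = a * (b * a) * b := by group
        _ = a * (a * b) * b := by rw [hab]
        _ = (a * a) * (b * b) := by group
        _ = 1 := by rw [iha, ihb, one_mul]
    | inv a ha iha =>
      have : a⁻¹ = a := inv_eq_of_mul_eq_one_left iha
      rw [this, iha]
  · rw [hcl]
    have hnorm : Subgroup.zpowers x ≤ Subgroup.normalizer (B0 : Set G) := by
      rw [Subgroup.zpowers_le]
      apply Subgroup.centralizer_le_normalizer
      rw [Subgroup.mem_centralizer_iff]
      intro b hb
      exact (hxc b hb).symm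
    have h1 := Cfsg.Agent.Helper17.card_sup_mul_card_inf B0 (Subgroup.zpowers x) hnorm
    have h2 : B0 ⊓ Subgroup.zpowers x = ⊥ := by
      rw [eq_bot_iff]
      rintro g ⟨hg1, hg2⟩
      rcases (mem_zpowers_invol hx).mp hg2 with rfl | rfl
      · exact Subgroup.mem_bot.mpr rfl
      · exact absurd hg1 hxB
    rw [h2, Subgroup.card_bot, mul_one, card_zpowers_invol hx hx1] at h1
    rw [h1, mul_comm]

/-- existence of large elementary abelian subgroups -/
theorem exists_ea_aux (n : ℕ) : ∀ (G : Type u) [Group G] [Finite G] (z : G), ES2 G z →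
    Nat.card G = 2 ^ (2 * n + 1) →
    (∃ B : Subgroup G, z ∈ B ∧ EA B ∧ Nat.card B = 2 ^ n) ∧
    (jj G = 2 ^ (2 * n) + 2 ^ n → ∃ B : Subgroup G, z ∈ B ∧ EA B ∧ Nat.card B = 2 ^ (n + 1)) := by
  induction n with
  | zero =>
    intro G _ _ z h hc
    exfalso
    have := three_le_card h
    rw [hc] at this
    norm_num at this
  | succ n ih =>
    intro G _ _ z h hc
    rcases Nat.eq_zero_or_pos n with hn | hn
    · subst hn
      have hz : z * z = 1 := h.zz
      refine ⟨⟨Subgroup.zpowers z, Subgroup.mem_zpowers z, EA_zpowers hz, by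
        rw [card_zpowers_invol hz h.ne_one]; norm_num⟩, ?_⟩
      intro hj
      have hj2 : 2 < jj G := by rw [hj]; norm_num
      obtain ⟨x, hx, hx1, hxz⟩ := (two_lt_jj_iff h).mp hj2
      obtain ⟨B, hB0, hxB, hEA, hcard⟩ := exists_adjoin (Subgroup.zpowers z) (EA_zpowers hz) x hx
        (by rw [mem_zpowers_invol hz]; push Not; exact ⟨hx1, hxz⟩)
        (by
          intro b hb
          rcases (mem_zpowers_invol hz).mp hb with rfl | rfl
          · simp
          · exact h.central x)
      exact ⟨B, hB0 (Subgroup.mem_zpowers z), hEA, by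
        rw [hcard, card_zpowers_invol hz h.ne_one]; norm_num⟩
    · have hj2 : 2 < jj G := by
        by_contra hcon
        have := card_eq_eight_of_jj_le h (by omega)
        rw [hc] at this
        have h8 : (2 : ℕ) ^ (2 * (n + 1) + 1) = 2 ^ 3 := by rw [this]; norm_num
        have := Nat.pow_right_injective (le_refl 2) h8
        omega
      obtain ⟨x, y, hx, hy, hxy⟩ := exists_pair h hj2
      have hc4 := card_eq_four_mul h hy hxy
      have hje := jj_eq h hx hy hxy
      have hcC : Nat.card (cent x y) = 2 ^ (2 * n + 1) := by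
        have : (2 : ℕ) ^ (2 * (n + 1) + 1) = 4 * 2 ^ (2 * n + 1) := by ring
        omega
      have hC2 : 2 < Nat.card (cent x y) := by
        rw [hcC]
        have : 2 ^ 3 ≤ 2 ^ (2 * n + 1) := Nat.pow_le_pow_right (by norm_num) (by omega)
        omega
      have hES := cent_es2 h hy hxy hC2
      obtain ⟨⟨B1, hzB1, hEA1, hcard1⟩, ih2⟩ := ih (cent x y) _ hES hcC
      have hxC : x ∉ cent x y := by
        intro hh
        exact hxy ((mem_cent.mp hh).2).symm
      have lift : ∀ (B1 : Subgroup (cent x y)), (⟨z, z_mem_cent h x y⟩ : cent x y) ∈ B1 → EA B1 →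
          ∃ B : Subgroup G, z ∈ B ∧ EA B ∧ Nat.card B = 2 * Nat.card B1 := by
        intro B1 hzB1 hEA1
        have hEA0 : EA (B1.map (cent x y).subtype) := by
          constructor
          · rintro _ ⟨a, ha, rfl⟩ _ ⟨b, hb, rfl⟩
            exact congrArg Subtype.val (hEA1.1 a ha b hb)
          · rintro _ ⟨a, ha, rfl⟩
            exact congrArg Subtype.val (hEA1.2 a ha)
        have hle : B1.map (cent x y).subtype ≤ cent x y := by
          rintro _ ⟨a, -, rfl⟩
          exact a.2
        obtain ⟨B, hB0, -, hEA, hcard⟩ := exists_adjoin _ hEA0 x hx (fun hh => hxC (hle hh))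
          (fun b hb => (mem_cent.mp (hle hb)).1)
        refine ⟨B, hB0 ⟨_, hzB1, rfl⟩, hEA, ?_⟩
        rw [hcard, Subgroup.card_map_of_injective (Subgroup.subtype_injective _)]
      constructor
      · obtain ⟨B, hzB, hEA, hcard⟩ := lift B1 hzB1 hEA1
        exact ⟨B, hzB, hEA, by rw [hcard, hcard1]; ring⟩
      · intro hj
        have hjC : jj (cent x y) = 2 ^ (2 * n) + 2 ^ n := by
          have e1 : (2 : ℕ) ^ (2 * (n + 1)) = 4 * 2 ^ (2 * n) := by ring
          have e2 : (2 : ℕ) ^ (n + 1) = 2 * 2 ^ n := by ring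
          have e3 : (2 : ℕ) ^ (2 * n + 1) = 2 * 2 ^ (2 * n) := by ring
          omega
        obtain ⟨B2, hzB2, hEA2, hcard2⟩ := ih2 hjC
        obtain ⟨B, hzB, hEA, hcard⟩ := lift B2 hzB2 hEA2
        exact ⟨B, hzB, hEA, by rw [hcard, hcard2]; ring⟩

open Cfsg.Agent.Helper1.QuadCount in
/-- an elementary abelian subgroup of the largest conceivable order forces the plus type -/
theorem jj_of_large_ea [Finite G] (h : ES2 G z) (B : Subgroup G) (hB : EA B)
    (hcard : Nat.card B * Nat.card B = 2 * Nat.card G) :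
    2 * (jj G : ℤ) - Nat.card G = Nat.card B := by
  classical
  haveI := Fintype.ofFinite G
  have ha : ∀ g : G, g ∉ B → ∃ b0 ∈ B, g * b0 ≠ b0 * g := by
    intro g hg
    by_contra hcon
    push Not at hcon
    have hpair : ∀ a ∈ ((B : Set G) ∪ {g}), ∀ b ∈ ((B : Set G) ∪ {g}), a * b = b * a := by
      rintro a (ha | ha) b (hb | hb)
      · exact hB.1 a ha b hb
      · rw [Set.mem_singleton_iff] at hb; subst hb; exact (hcon a ha).symm
      · rw [Set.mem_singleton_iff] at ha; subst ha; exact hcon b hb
      · rw [Set.mem_singleton_iff] at ha hb; subst ha hb; rfl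
    have hcomm := Subgroup.isMulCommutative_closure hpair
    have hle : B ≤ Subgroup.closure ((B : Set G) ∪ {g}) :=
      fun b hb => Subgroup.subset_closure (Or.inl hb)
    have hb' := abelian_card_sq_le h (Subgroup.closure ((B : Set G) ∪ {g}))
      (fun a ha b hb => congrArg Subtype.val (hcomm.is_comm.comm ⟨a, ha⟩ ⟨b, hb⟩))
    have hlt : Nat.card B < Nat.card (Subgroup.closure ((B : Set G) ∪ {g})) := by
      by_contra hge
      push Not at hge
      have := Subgroup.eq_of_le_of_card_ge hle hge
      apply hg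
      rw [this]
      exact Subgroup.subset_closure (Or.inr rfl)
    nlinarith
  have hb : ∀ g : G, ∑ b : B, chi (g * (b : G)) = if g ∈ B then (Nat.card B : ℤ) else 0 := by
    intro g
    split_ifs with hg
    · have : ∀ b : B, chi (g * (b : G)) = 1 := by
        intro b
        have h1 : (g * (b : G)) ^ 2 = 1 := by
          rw [pow_two]; exact hB.2 _ (B.mul_mem hg b.2)
        show sgn ((g * (b : G)) ^ 2) = 1
        rw [h1, sgn_one]
      rw [Finset.sum_congr rfl (fun b _ => this b), Finset.sum_const, Finset.card_univ,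
        Nat.card_eq_fintype_card]
      simp
    · obtain ⟨b0, hb0, hgb0⟩ := ha g hg
      apply sum_eq_zero_of_translate (fun b : B => chi (g * (b : G))) ⟨b0, hb0⟩
      intro b
      have h1 : b0 * g = g * b0 * z := h.eq_mul_z (fun hh => hgb0 hh.symm)
      have h2 : b0 * (b : G) = b * b0 := hB.1 b0 hb0 b b.2
      set w := g * (b : G) with hw
      have h3 : g * ((⟨b0, hb0⟩ * b : B) : G) = w * b0 := by
        show g * (b0 * (b : G)) = g * b * b0
        rw [h2]; group
      have h4 : b0 * w = w * b0 * z := by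
        calc b0 * w = (b0 * g) * b := by rw [hw]; group
          _ = g * b0 * z * b := by rw [h1]
          _ = g * b0 * (z * b) := by group
          _ = g * b0 * (b * z) := by rw [h.central (b : G)]
          _ = g * (b0 * b) * z := by group
          _ = g * (b * b0) * z := by rw [h2]
          _ = w * b0 * z := by rw [hw]; group
      have h5 : (w * b0) ^ 2 = w ^ 2 * z := by
        calc (w * b0) ^ 2 = w * (b0 * w) * b0 := by rw [pow_two]; group
          _ = w * (w * b0 * z) * b0 := by rw [h4]
          _ = w * w * b0 * (z * b0) := by group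
          _ = w * w * b0 * (b0 * z) := by rw [h.central b0]
          _ = w * w * (b0 * b0) * z := by group
          _ = w ^ 2 * z := by rw [hB.2 b0 hb0, mul_one, pow_two]
      show sgn ((g * ((⟨b0, hb0⟩ * b : B) : G)) ^ 2) = - sgn (w ^ 2)
      rw [h3, h5]
      rcases h.sq w with h6 | h6
      · rw [h6, one_mul, sgn_one, sgn_of_ne h.ne_one]
      · rw [h6, h.zz, sgn_one, sgn_of_ne h.ne_one]; norm_num
  have hS : ∑ g : G, chi g = 2 * (jj G : ℤ) - Nat.card G := sum_chi_eq
  have hc1 : ∑ g : G, ∑ b : B, chi (g * (b : G)) = (Nat.card B : ℤ) * ∑ g : G, chi g := by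
    rw [Finset.sum_comm]
    have : ∀ b : B, ∑ g : G, chi (g * (b : G)) = ∑ g : G, chi g := by
      intro b
      exact Fintype.sum_equiv (Equiv.mulRight (b : G)) _ _ (fun g => rfl)
    rw [Finset.sum_congr rfl (fun b _ => this b), Finset.sum_const, Finset.card_univ,
      Nat.card_eq_fintype_card]
    simp
  have hc2 : ∑ g : G, ∑ b : B, chi (g * (b : G)) = (Nat.card B : ℤ) * Nat.card B := by
    rw [Finset.sum_congr rfl (fun g _ => hb g), Finset.sum_ite, Finset.sum_const_zero, add_zero,
      Finset.sum_const]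
    have : (Finset.univ.filter (fun g : G => g ∈ B)).card = Nat.card B := by
      rw [Nat.card_eq_fintype_card, Fintype.card_subtype]
    rw [this]
    simp
  have hpos : (Nat.card B : ℤ) ≠ 0 := by
    have : 0 < Nat.card B := Nat.card_pos
    exact_mod_cast this.ne'
  rw [← hS]
  have := hc1.symm.trans hc2
  exact mul_left_cancel₀ hpos this

end ES2




end Cfsg.Agent.Helper3
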