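import Mathlib
import Cfsg.Agent.Helper18.K2P.Defs
import Cfsg.Agent.Helper18.K2P.Defs2

set_option autoImplicit false
set_option linter.unusedSectionVars false
set_option linter.unusedVariables false

/-! # K2P (S5692, `k = 2`, hyperbolic blocks; driver helper18), piece CD-ISO (helper3): a rotation-invariant additive subgroup of the
binary space containing a nonzero vector contains `F e` or `F f`. Self-contained (own proof of the coordinates `CD.ISO.aux_eq`). -/

namespace Cfsg.Agent.K2P

open Matrix Cfsg.Agent.OC2P Cfsg.Agent.Helper28.Sg Cfsg.Agent.Helper28.Spin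
  Cfsg.Agent.Helper12.OrthGen Cfsg.Agent.K2M

variable {F : Type*} [Field F] [Fintype F] {t : ℕ} {Q : QuadraticForm F (Fin t × Fin 2 → F)}
  {q : QuadraticForm F (Fin 2 → F)} {e f : Fin 2 → F} {M : Subgroup (OG Q)}

omit [Fintype F] in
theorem CD.ISO.aux_ee (bp : BP Q q e f) : QuadraticMap.polar ⇑q e e = 0 := by
  rw [QuadraticMap.polar_self, bp.qe, smul_zero]

omit [Fintype F] in
theorem CD.ISO.aux_ff (bp : BP Q q e f) : QuadraticMap.polar ⇑q f f = 0 := by
  rw [QuadraticMap.polar_self, bp.qf, smul_zero]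

omit [Fintype F] in
theorem CD.ISO.aux_fe (bp : BP Q q e f) : QuadraticMap.polar ⇑q f e = 1 := by
  rw [QuadraticMap.polar_comm]; exact bp.ef

omit [Fintype F] in
/-- a vector perpendicular to `e` and `f` vanishes -/
theorem CD.ISO.aux_zero (bp : BP Q q e f) {d : Fin 2 → F} (hde : QuadraticMap.polar ⇑q d e = 0)
    (hdf : QuadraticMap.polar ⇑q d f = 0) : d = 0 := by
  have hli : LinearIndependent F ![e, f] := by
    rw [LinearIndependent.pair_iff]
    intro s r h
    have h1 : QuadraticMap.polar ⇑q (s • e + r • f) f = 0 := by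
      rw [h]; exact QuadraticMap.polar_zero_left _ _
    have h2 : QuadraticMap.polar ⇑q (s • e + r • f) e = 0 := by
      rw [h]; exact QuadraticMap.polar_zero_left _ _
    rw [QuadraticMap.polar_add_left, QuadraticMap.polar_smul_left, QuadraticMap.polar_smul_left,
      bp.ef, CD.ISO.aux_ff bp, smul_zero, add_zero, smul_eq_mul, mul_one] at h1
    rw [QuadraticMap.polar_add_left, QuadraticMap.polar_smul_left, QuadraticMap.polar_smul_left,
      CD.ISO.aux_ee bp, CD.ISO.aux_fe bp, smul_zero, zero_add, smul_eq_mul, mul_one] at h2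
    exact ⟨h1, h2⟩
  have hspan : Submodule.span F (Set.range ![e, f]) = ⊤ :=
    hli.span_eq_top_of_card_eq_finrank' (by simp)
  apply bp.ndq.1
  intro z
  have hz : z ∈ Submodule.span F (Set.range ![e, f]) := by rw [hspan]; exact Submodule.mem_top
  have hr : Set.range ![e, f] = {e, f} := by
    ext x
    simp only [Set.mem_range, Set.mem_insert_iff, Set.mem_singleton_iff]
    constructor
    · rintro ⟨i, rfl⟩
      fin_cases i
      · left; rfl
      · right; rfl
    · rintro (rfl | rfl)
      · exact ⟨0, rfl⟩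
      · exact ⟨1, rfl⟩
  rw [hr, Submodule.mem_span_pair] at hz
  obtain ⟨a, b, rfl⟩ := hz
  show QuadraticMap.polar ⇑q d (a • e + b • f) = 0
  rw [QuadraticMap.polar_add_right, QuadraticMap.polar_smul_right, QuadraticMap.polar_smul_right,
    hde, hdf, smul_zero, smul_zero, add_zero]

omit [Fintype F] in
/-- coordinates in the hyperbolic basis -/
theorem CD.ISO.aux_eq (bp : BP Q q e f) (y : Fin 2 → F) :
    y = (QuadraticMap.polar ⇑q y f) • e + (QuadraticMap.polar ⇑q y e) • f := by
  have h : y - ((QuadraticMap.polar ⇑q y f) • e + (QuadraticMap.polar ⇑q y e) • f) = 0 := by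
    apply CD.ISO.aux_zero bp
    · rw [QuadraticMap.polar_sub_left, QuadraticMap.polar_add_left, QuadraticMap.polar_smul_left,
        QuadraticMap.polar_smul_left, CD.ISO.aux_ee bp, CD.ISO.aux_fe bp, smul_zero, zero_add,
        smul_eq_mul, mul_one, sub_self]
    · rw [QuadraticMap.polar_sub_left, QuadraticMap.polar_add_left, QuadraticMap.polar_smul_left,
        QuadraticMap.polar_smul_left, bp.ef, CD.ISO.aux_ff bp, smul_zero, add_zero,
        smul_eq_mul, mul_one, sub_self]
  exact sub_eq_zero.mp h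

omit [Fintype F] in
/-- a nonzero multiple of `e` in `A` gives all multiples -/
theorem CD.ISO.aux_e (bp : BP Q q e f) (A : AddSubgroup (Fin 2 → F))
    (hinv : ∀ ν : F, ν ≠ 0 → ∀ y ∈ A, rotV q e f ν y ∈ A) {γ : F} (hγ : γ ≠ 0) (h : γ • e ∈ A) :
    ∀ c : F, c • e ∈ A := by
  intro c
  by_cases hc : c = 0
  · rw [hc, zero_smul]; exact A.zero_mem
  · have hν : c / γ ≠ 0 := div_ne_zero hc hγ
    have h1 := hinv (c / γ) hν _ h
    unfold rotV at h1
    rw [QuadraticMap.polar_smul_left, QuadraticMap.polar_smul_left, bp.ef, CD.ISO.aux_ee bp,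
      smul_zero, mul_zero, zero_smul, add_zero, smul_eq_mul, mul_one, div_mul_cancel₀ c hγ] at h1
    exact h1

omit [Fintype F] in
/-- a nonzero multiple of `f` in `A` gives all multiples -/
theorem CD.ISO.aux_f (bp : BP Q q e f) (A : AddSubgroup (Fin 2 → F))
    (hinv : ∀ ν : F, ν ≠ 0 → ∀ y ∈ A, rotV q e f ν y ∈ A) {γ : F} (hγ : γ ≠ 0) (h : γ • f ∈ A) :
    ∀ c : F, c • f ∈ A := by
  intro c
  by_cases hc : c = 0
  · rw [hc, zero_smul]; exact A.zero_mem
  · have hν : γ / c ≠ 0 := div_ne_zero hγ hc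
    have h1 := hinv (γ / c) hν _ h
    unfold rotV at h1
    rw [QuadraticMap.polar_smul_left, QuadraticMap.polar_smul_left, CD.ISO.aux_fe bp,
      CD.ISO.aux_ff bp, smul_zero, mul_zero, zero_smul, zero_add, smul_eq_mul, mul_one, inv_div,
      div_mul_cancel₀ c hγ] at h1
    exact h1

/-- a scalar `s ∉ {0, -1}` with `s² + s + 1 ≠ 0` -/
theorem CD.ISO.aux_s (hq : 7 ≤ Fintype.card F) :
    ∃ s : F, s ≠ 0 ∧ 1 + s ≠ 0 ∧ s * s + s + 1 ≠ 0 := by
  classical
  by_cases hroot : ∃ s₁ : F, s₁ * s₁ + s₁ + 1 = 0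
  · obtain ⟨s₁, hs₁⟩ := hroot
    obtain ⟨s, -, hs⟩ := Finset.exists_mem_notMem_of_card_lt_card
      (s := ({0, -1, s₁, -1 - s₁} : Finset F)) (t := Finset.univ)
      (by rw [Finset.card_univ]; exact lt_of_le_of_lt Finset.card_le_four (by omega))
    simp only [Finset.mem_insert, Finset.mem_singleton, not_or] at hs
    obtain ⟨h0, h1, h2, h3⟩ := hs
    refine ⟨s, h0, ?_, ?_⟩
    · intro h
      apply h1
      linear_combination h
    · intro h
      have hprod : (s - s₁) * (s - (-1 - s₁)) = 0 := by linear_combination h - hs₁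
      rcases mul_eq_zero.mp hprod with h' | h'
      · exact h2 (sub_eq_zero.mp h')
      · exact h3 (sub_eq_zero.mp h')
  · obtain ⟨s, -, hs⟩ := Finset.exists_mem_notMem_of_card_lt_card
      (s := ({0, -1} : Finset F)) (t := Finset.univ)
      (by rw [Finset.card_univ]; exact lt_of_le_of_lt Finset.card_le_two (by omega))
    simp only [Finset.mem_insert, Finset.mem_singleton, not_or] at hs
    obtain ⟨h0, h1⟩ := hs
    refine ⟨s, h0, ?_, ?_⟩
    · intro h
      apply h1
      linear_combination h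
    · intro h
      exact hroot ⟨s, h⟩

theorem CD.ISO (bp : BP Q q e f) (hq : 7 ≤ Fintype.card F) (A : AddSubgroup (Fin 2 → F))
    (hinv : ∀ ν : F, ν ≠ 0 → ∀ y ∈ A, rotV q e f ν y ∈ A) {y : Fin 2 → F} (hy : y ∈ A) (hy0 : y ≠ 0) :
    (∀ c : F, c • e ∈ A) ∨ (∀ c : F, c • f ∈ A) := by
  set α : F := QuadraticMap.polar ⇑q y f with hα
  set β : F := QuadraticMap.polar ⇑q y e with hβ
  have hyeq : y = α • e + β • f := CD.ISO.aux_eq bp y
  have hrot : ∀ ν : F, ν ≠ 0 → (ν * α) • e + (ν⁻¹ * β) • f ∈ A := by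
    intro ν hν
    exact hinv ν hν y hy
  by_cases hβ0 : β = 0
  · left
    have hα0 : α ≠ 0 := by
      intro h0
      apply hy0
      rw [hyeq, h0, hβ0, zero_smul, zero_smul, add_zero]
    apply CD.ISO.aux_e bp A hinv hα0
    have := hrot 1 one_ne_zero
    rw [hβ0, mul_zero, zero_smul, add_zero, one_mul] at this
    exact this
  · by_cases hα0 : α = 0
    · right
      apply CD.ISO.aux_f bp A hinv hβ0
      have := hrot 1 one_ne_zero
      rw [hα0, mul_zero, zero_smul, zero_add, inv_one, one_mul] at this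
      exact this
    · left
      obtain ⟨s, hs0, hs1, hs2⟩ := CD.ISO.aux_s hq
      have hr0 : s / (1 + s) ≠ 0 := div_ne_zero hs0 hs1
      have h1 := hrot 1 one_ne_zero
      have h2 := hrot s hs0
      have h3 := hrot (s / (1 + s)) hr0
      have h4 := A.sub_mem (A.add_mem h1 h2) h3
      have hcomb : (1 * α) • e + ((1 : F)⁻¹ * β) • f + ((s * α) • e + (s⁻¹ * β) • f)
          - ((s / (1 + s) * α) • e + ((s / (1 + s))⁻¹ * β) • f)
          = (((s * s + s + 1) / (1 + s)) * α) • e := by
        have e1 : (1 : F)⁻¹ * β + s⁻¹ * β - (s / (1 + s))⁻¹ * β = 0 := by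
          field_simp
          ring
        have e2 : 1 * α + s * α - s / (1 + s) * α = ((s * s + s + 1) / (1 + s)) * α := by
          field_simp
          ring
        have : (1 * α) • e + ((1 : F)⁻¹ * β) • f + ((s * α) • e + (s⁻¹ * β) • f)
            - ((s / (1 + s) * α) • e + ((s / (1 + s))⁻¹ * β) • f)
            = (1 * α + s * α - s / (1 + s) * α) • e
              + ((1 : F)⁻¹ * β + s⁻¹ * β - (s / (1 + s))⁻¹ * β) • f := by
          simp only [add_smul, sub_smul]
          abel
        rw [this, e1, e2, zero_smul, add_zero]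
      rw [hcomb] at h4
      exact CD.ISO.aux_e bp A hinv (mul_ne_zero (div_ne_zero hs2 hs1) hα0) h4

end Cfsg.Agent.K2P
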