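import Mathlib
import Cfsg.Agent.Helper2.S4130Defs
import Cfsg.Agent.Helper2.S4130C2a

/-!
# S4130 piece C2 (helper3): C2a transported by conjugation to every non-central `p`-element.
-/

set_option autoImplicit false

namespace Cfsg.Agent.S4130P

open Subgroup

/-- conjugation preserves `IsPpEl`. -/
theorem C2_aux_ppel {G : Type*} [Group G] (p : ℕ) (g y : G) (hy : IsPpEl p y) :
    IsPpEl p (g * y * g⁻¹) := by
  unfold IsPpEl at *
  have h : orderOf (g * y * g⁻¹) = orderOf y := by
    have := MulEquiv.orderOf_eq (MulAut.conj g) y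
    rwa [MulAut.conj_apply] at this
  rw [h]
  exact hy

/-- the conjugation bijection on the counted sets. -/
theorem C2_aux_card {G : Type*} [Group G] (p : ℕ) (g x : G) :
    Nat.card {y : G // IsPpEl p y ∧ (g * x * g⁻¹) * y = y * (g * x * g⁻¹)} =
      Nat.card {y : G // IsPpEl p y ∧ x * y = y * x} := by
  apply Nat.card_congr
  refine ⟨fun y => ⟨g⁻¹ * y.1 * g, ?_, ?_⟩, fun y => ⟨g * y.1 * g⁻¹, ?_, ?_⟩, ?_, ?_⟩
  · have := C2_aux_ppel p g⁻¹ y.1 y.2.1
    rwa [inv_inv] at this
  · have h := y.2.2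
    have : x * (g⁻¹ * y.1 * g) = g⁻¹ * ((g * x * g⁻¹) * y.1) * g := by group
    rw [this, h]; group
  · exact C2_aux_ppel p g y.1 y.2.1
  · have h := y.2.2
    have : g * x * g⁻¹ * (g * y.1 * g⁻¹) = g * (x * y.1) * g⁻¹ := by group
    rw [this, h]; group
  · intro y; apply Subtype.ext; simp only; group
  · intro y; apply Subtype.ext; simp only; group

/-- centralizers of conjugate elements have the same cardinality. -/
theorem C2_aux_cent {G : Type*} [Group G] (g x : G) :
    Nat.card (centralizer ({g * x * g⁻¹} : Set G)) = Nat.card (centralizer ({x} : Set G)) := by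
  apply Nat.card_congr
  refine ⟨fun y => ⟨g⁻¹ * y.1 * g, ?_⟩, fun y => ⟨g * y.1 * g⁻¹, ?_⟩, ?_, ?_⟩
  · have h := mem_centralizer_singleton_iff.mp y.2
    rw [mem_centralizer_singleton_iff]
    have : g⁻¹ * y.1 * g * x = g⁻¹ * (y.1 * (g * x * g⁻¹)) * g := by group
    rw [this, h]; group
  · have h := mem_centralizer_singleton_iff.mp y.2
    rw [mem_centralizer_singleton_iff]
    have : g * y.1 * g⁻¹ * (g * x * g⁻¹) = g * (y.1 * x) * g⁻¹ := by group
    rw [this, h]; group
  · intro y; apply Subtype.ext; simp only; group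
  · intro y; apply Subtype.ext; simp only; group

/-- C2: the same for every non-central p-element z (conjugate into P). -/
theorem C2 {G : Type*} [Group G] [Finite G] {p : ℕ} [Fact p.Prime] (P : Sylow p G)
    (hc : Core G p P) (hb : HypB P) (z : G) (hz : IsPEl p z) (hzc : z ∉ center G) :
    Nat.card {y : G // IsPpEl p y ∧ z * y = y * z} * Nat.card (P : Subgroup G) =
      Nat.card (centralizer ({z} : Set G)) := by
  classical
  -- z lies in a conjugate of P
  have hzp : IsPGroup p (Subgroup.zpowers z) := by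
    obtain ⟨k, hk⟩ := hz
    rw [IsPGroup.iff_card]
    exact ⟨k, by rw [Nat.card_zpowers, hk]⟩
  obtain ⟨Q, hQ⟩ := hzp.exists_le_sylow
  obtain ⟨g, hg⟩ := MulAction.exists_smul_eq G P Q
  have hzQ : z ∈ (Q : Subgroup G) := hQ (Subgroup.mem_zpowers z)
  rw [← hg, Sylow.smul_def] at hzQ
  -- z ∈ g • P, i.e. g⁻¹ z g ∈ P
  have hx : g⁻¹ * z * g ∈ (P : Subgroup G) := by
    have := (Subgroup.mem_pointwise_smul_iff_inv_smul_mem).mp hzQ
    simpa [MulAut.smul_def, MulAut.conj_apply] using this
  set x : G := g⁻¹ * z * g with hxdef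
  have hzx : z = g * x * g⁻¹ := by rw [hxdef]; group
  have hxc : x ∉ center G := by
    intro hxc
    apply hzc
    rw [hzx]
    have h1 := (Subgroup.mem_center_iff.mp hxc) g
    have : g * x * g⁻¹ = x := by
      rw [h1]; group
    rw [this]; exact hxc
  have h := C2a P hc hb x hx hxc
  rw [hzx, C2_aux_card, C2_aux_cent]
  exact h

end Cfsg.Agent.S4130P
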