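import Mathlib
import Cfsg.Prelude.Def_Transfer
import Cfsg.Prelude.Def_Solvable
import Cfsg.Agent.Helper11.S4409Defs
import Cfsg.Agent.Helper9.S4415Defs
import Cfsg.Agent.Lead.Coprime3
import Cfsg.Agent.Lead.CoprimeAbelian
import Cfsg.Agent.Lead.HallCount2

/-! Board `s4415pieces`, row TV1 (`tv_T`). -/

set_option autoImplicit false
set_option linter.unusedVariables false

namespace Cfsg.Agent.S4415P

open Subgroup
open Cfsg.Agent.S4409P (Zc Fr Der IsV4 IsQ8 SpecialInt IsAb)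

variable {S : Type*} [Group S] [Finite S] {E : Type*} [AddCommGroup E] [Module (ZMod 3) E] [Finite E]

omit [Finite S] in
/-- a subgroup of exponent `2` is commutative -/
theorem TV1_aux_comm (A : Subgroup S) (hea : ∀ x ∈ A, x * x = 1) : IsMulCommutative ↥A := by
  refine ⟨⟨?_⟩⟩
  intro x y
  apply Subtype.ext
  have hx := hea x x.2
  have hy := hea y y.2
  have hxy := hea (x * y : S) (A.mul_mem x.2 y.2)
  show (x : S) * y = y * x
  have e1 : (x : S)⁻¹ = x := inv_eq_of_mul_eq_one_left hx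
  have e2 : (y : S)⁻¹ = y := inv_eq_of_mul_eq_one_left hy
  have e3 : ((x : S) * y)⁻¹ = x * y := inv_eq_of_mul_eq_one_left hxy
  rw [mul_inv_rev, e1, e2] at e3
  exact e3.symm

/-- `|T| ≡ 1` mod `3` for a `B`-invariant `3'`-group `T` with `C_T(B) = 1`. -/
theorem TV1_aux_mod (B T : Subgroup S) (hB : Nat.card ↥B = 3) (hN : B ≤ normalizer (T : Set S))
    (hcop : ¬ 3 ∣ Nat.card ↥T) (hfix : T ⊓ centralizer (B : Set S) = ⊥) : Nat.card ↥T ≡ 1 [MOD 3] := by
  have : Fact (Nat.Prime 3) := ⟨Nat.prime_three⟩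
  have h := Cfsg.Agent.Lead.relIndex_centralizer_modEq_one (q := 3) B ⊥ T bot_le
    (by intro b _; rw [mem_normalizer_iff]; intro x; simp [mem_bot])
    (by rw [relIndex_bot_left, hB]) hN hcop
  have e1 : (centralizer (((⊥ : Subgroup S) : Subgroup S) : Set S)) = ⊤ := by
    rw [eq_top_iff]
    intro x _
    rw [mem_centralizer_iff]
    intro y hy
    have : y = 1 := by simpa using hy
    rw [this, one_mul, mul_one]
  rw [e1, top_inf_eq] at h
  have e2 : (centralizer (B : Set S)).relIndex T = Nat.card ↥T := by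
    rw [← inf_relIndex_right, inf_comm, hfix, relIndex_bot_left]
  rw [e2] at h
  exact h

/-- TV1 : `T = [A,B]` is a four-group in `𝒴` and `A = Z(R) × T`. -/
theorem tv_T (B R A : Subgroup S) (hB : Nat.card ↥B = 3) (hZ : Nat.card ↥(Zc R) = 2)
    (hBZ : B ≤ centralizer ((Zc R : Subgroup S) : Set S)) (hA : InA B R A) (hea : ∀ x ∈ A, x * x = 1) :
    IsV4 ⁅A, B⁆ ∧ YC B ⁅A, B⁆ ∧ ⁅A, B⁆ ≤ A ∧ ⁅A, B⁆ ⊓ Zc R = ⊥ := by
  have hAc : IsMulCommutative ↥A := TV1_aux_comm A hea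
  have hTA : ⁅A, B⁆ ≤ A := Cfsg.Agent.Lead.commutator_le_of_le_normalizer hA.norm
  have hcop : (Nat.card ↥B).Coprime (Nat.card ↥A) := by rw [hB, hA.card]; decide
  have hinf := Cfsg.Agent.Lead.coprime_abelian_inf B A hA.norm hcop
  -- `C_T(B) = 1`
  have hfix : ⁅A, B⁆ ⊓ centralizer (B : Set S) = ⊥ := by
    rw [eq_bot_iff]
    intro x hx
    rw [← hinf]
    exact ⟨⟨hTA hx.1, hx.2⟩, hx.1⟩
  -- `T ≠ 1`
  have hTne : ⁅A, B⁆ ≠ ⊥ := by
    intro h
    apply hA.nontriv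
    rw [Subgroup.commutator_eq_bot_iff_le_centralizer] at h
    intro b hb
    rw [mem_centralizer_iff]
    intro a ha
    exact ((mem_centralizer_iff.mp (h ha)) b hb).symm
  -- `|T|` divides `8`
  have hdvd : Nat.card ↥(⁅A, B⁆ : Subgroup S) ∣ 8 := by
    rw [← hA.card]; exact Subgroup.card_dvd_of_le hTA
  have hNT : B ≤ normalizer ((⁅A, B⁆ : Subgroup S) : Set S) := Cfsg.Agent.Lead.le_normalizer_commutator_right A B
  have h3 : ¬ 3 ∣ Nat.card ↥(⁅A, B⁆ : Subgroup S) := by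
    intro h
    have := h.trans hdvd
    omega
  have hmod := TV1_aux_mod B ⁅A, B⁆ hB hNT h3 hfix
  have hne1 : Nat.card ↥(⁅A, B⁆ : Subgroup S) ≠ 1 := by
    intro h
    exact hTne (Subgroup.card_eq_one.mp h)
  have hcard : Nat.card ↥(⁅A, B⁆ : Subgroup S) = 4 := by
    have hle : Nat.card ↥(⁅A, B⁆ : Subgroup S) ≤ 8 := Nat.le_of_dvd (by norm_num) hdvd
    have hm : Nat.card ↥(⁅A, B⁆ : Subgroup S) % 3 = 1 := hmod
    generalize Nat.card ↥(⁅A, B⁆ : Subgroup S) = n at *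
    interval_cases n <;> simp_all
  have hV4 : IsV4 ⁅A, B⁆ := ⟨hcard, fun x hx => hea x (hTA hx)⟩
  refine ⟨hV4, ⟨hNT, ?_, ?_⟩, hTA, ?_⟩
  · rw [hcard]; decide
  · exact Cfsg.Agent.Lead.coprime_commutator_commutator B A hA.norm hcop
      (Or.inr (Group.isSolvable_of_comm (fun a b => hAc.is_comm.comm a b)))
  · rw [eq_bot_iff]
    intro x hx
    rw [← hfix]
    refine ⟨hx.1, ?_⟩
    show x ∈ centralizer (B : Set S)
    rw [mem_centralizer_iff]
    intro b hb
    exact ((mem_centralizer_iff.mp (hBZ hb)) x hx.2).symm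

end Cfsg.Agent.S4415P
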