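import Mathlib
import Cfsg.Prelude.Def_GeometricClasses
import Cfsg.Agent.Helper2.S5886.Defs

/-! # S5886, piece FTVDET: `F`-transvections have determinant one. -/

set_option autoImplicit false

namespace Cfsg.Agent.S5886P

variable {F K V : Type*} [Field F] [Field K] [Algebra F K]
  [AddCommGroup V] [Module F V] [Module K V] [IsScalarTower F K V]

/-- FTVDET : `F`-transvections have determinant one. -/
theorem FTVDET [Finite V] (g : V ≃ₗ[F] V) (hg : IsFTv g) : g ∈ DetIn (⊥ : Subgroup Fˣ) := by
  obtain ⟨f, u, hfu, hgx⟩ := hg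
  have hgt : g = LinearEquiv.transvection (f := f) (v := u) hfu := by
    ext x
    rw [hgx x, LinearEquiv.transvection.apply]
  unfold DetIn
  rw [Subgroup.mem_comap, Subgroup.mem_bot, hgt]
  exact LinearEquiv.transvection.det_eq_one hfu

end Cfsg.Agent.S5886P
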