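import Mathlib
import Cfsg.Agent.Helper25.QPDefs2
import Cfsg.Agent.Helper25.QPAct
import Cfsg.Agent.Helper25.UnipAlg
import Cfsg.Agent.Helper4.QPROOT
import Cfsg.Agent.Helper15.QPFIXC
import Cfsg.Agent.Helper18.QP2RS

set_option autoImplicit false

/-! Board `s5068pieces`, piece GEOM: pure linear algebra for a pair `x, y` with
`x² = y² = xyx = yxy = 0` and `rank x = rank y = rank (xy - yx) = d`. -/

noncomputable section

universe u v

namespace Cfsg.Agent.QP68

open Cfsg Cfsg.Agent.Helper25.QP Cfsg.Agent.Helper25.QuadPair Cfsg.Agent.QPP Cfsg.Agent.Helper25.Unip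

variable {k : Type u} [Field k] {M : Type v} [AddCommGroup M] [Module k M]

local notation "GLkM" => LinearMap.GeneralLinearGroup k M

theorem GEOM_rank [FiniteDimensional k M] (x y : Module.End k M) :
    Module.finrank k (LinearMap.range (x * y)) + Module.finrank k ↥(LinearMap.range y ⊓ LinearMap.ker x)
      = Module.finrank k (LinearMap.range y) := by
  have h1 := finrank_map_add_finrank_inf_ker x (LinearMap.range y)
  rw [← range_mul] at h1
  exact h1

theorem GEOM_aux_range_le {x y : Module.End k M} (h2 : y * x * y = 0) :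
    LinearMap.range (x * y) ≤ LinearMap.range x ⊓ LinearMap.ker y := by
  rintro _ ⟨m, rfl⟩
  refine ⟨⟨y m, rfl⟩, ?_⟩
  show (x * y) m ∈ LinearMap.ker y
  rw [LinearMap.mem_ker]
  have := LinearMap.congr_fun h2 m
  simpa [mul_assoc] using this

theorem GEOM [FiniteDimensional k M] {x y : Module.End k M} {d : ℕ} (hx : x * x = 0) (hy : y * y = 0)
    (h1 : x * y * x = 0) (h2 : y * x * y = 0)
    (hrx : Module.finrank k (LinearMap.range x) = d) (hry : Module.finrank k (LinearMap.range y) = d)
    (hr : Module.finrank k (LinearMap.range (x * y - y * x)) = d) :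
    LinearMap.range (x * y) = LinearMap.range x ⊓ LinearMap.ker y ∧
    LinearMap.range (y * x) = LinearMap.range y ⊓ LinearMap.ker x ∧
    Disjoint (LinearMap.range x ⊓ LinearMap.ker y) (LinearMap.range y ⊓ LinearMap.ker x) ∧
    Module.finrank k ↥(LinearMap.range x ⊓ LinearMap.ker y)
      + Module.finrank k ↥(LinearMap.range y ⊓ LinearMap.ker x) = d ∧
    LinearMap.range (x * y - y * x)
      = (LinearMap.range x ⊓ LinearMap.ker y) ⊔ (LinearMap.range y ⊓ LinearMap.ker x) ∧
    LinearMap.ker (x * y - y * x)
      = (LinearMap.range x ⊔ LinearMap.ker y) ⊓ (LinearMap.range y ⊔ LinearMap.ker x) := by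
  -- notation
  set A := LinearMap.range x with hA
  set B := LinearMap.range y with hB
  set C := LinearMap.ker x with hC
  set D := LinearMap.ker y with hD
  set P := LinearMap.range (x * y) with hP
  set Q := LinearMap.range (y * x) with hQ
  have hPle : P ≤ A ⊓ D := GEOM_aux_range_le h2
  have hQle : Q ≤ B ⊓ C := GEOM_aux_range_le h1
  -- ranks
  have hsum_le : Module.finrank k P + Module.finrank k Q ≤ d := by
    have := rank_mul_add_le (k := k) (a := x) (b := y) h1
    rw [hry] at this
    exact this
  have hsub_le : LinearMap.range (x * y - y * x) ≤ P ⊔ Q := range_sub_le (x * y) (y * x)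
  have hd_le : d ≤ Module.finrank k ↥(P ⊔ Q) := by
    rw [← hr]
    exact Submodule.finrank_mono hsub_le
  have hsupinf := Submodule.finrank_sup_add_finrank_inf_eq P Q
  have hsup_le : Module.finrank k ↥(P ⊔ Q) ≤ Module.finrank k P + Module.finrank k Q :=
    Submodule.finrank_add_le_finrank_add_finrank P Q
  have hsup : Module.finrank k ↥(P ⊔ Q) = d := by omega
  have hPQsum : Module.finrank k P + Module.finrank k Q = d := by omega
  have hinf0 : Module.finrank k ↥(P ⊓ Q) = 0 := by omega
  have hPQdisj : P ⊓ Q = ⊥ := Submodule.finrank_eq_zero.mp hinf0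
  -- the two intersections
  have hr1 := GEOM_rank (k := k) x y
  have hr2 := GEOM_rank (k := k) y x
  rw [hry] at hr1
  rw [hrx] at hr2
  have hPle' : Module.finrank k P ≤ Module.finrank k ↥(A ⊓ D) := Submodule.finrank_mono hPle
  have hQle' : Module.finrank k Q ≤ Module.finrank k ↥(B ⊓ C) := Submodule.finrank_mono hQle
  have hsumAD : Module.finrank k ↥(A ⊓ D) + Module.finrank k ↥(B ⊓ C) = d := by
    change Module.finrank k P + Module.finrank k ↥(B ⊓ C) = d at hr1
    change Module.finrank k Q + Module.finrank k ↥(A ⊓ D) = d at hr2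
    omega
  have hPeq : P = A ⊓ D := by
    apply Submodule.eq_of_le_of_finrank_eq hPle
    omega
  have hQeq : Q = B ⊓ C := by
    apply Submodule.eq_of_le_of_finrank_eq hQle
    omega
  have hrange : LinearMap.range (x * y - y * x) = P ⊔ Q := by
    apply Submodule.eq_of_le_of_finrank_eq hsub_le
    rw [hr, hsup]
  refine ⟨hPeq, hQeq, ?_, hsumAD, ?_, ?_⟩
  · rw [← hPeq, ← hQeq, disjoint_iff]
    exact hPQdisj
  · rw [← hPeq, ← hQeq]
    exact hrange
  · -- the kernel
    have hle : (A ⊔ D) ⊓ (B ⊔ C) ≤ LinearMap.ker (x * y - y * x) := by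
      rintro m ⟨hm1, hm2⟩
      obtain ⟨α, hα, δ, hδ, rfl⟩ := Submodule.mem_sup.mp hm1
      obtain ⟨β, hβ, γ, hγ, hβγ⟩ := Submodule.mem_sup.mp hm2
      obtain ⟨m', rfl⟩ := hα
      obtain ⟨m'', rfl⟩ := hβ
      rw [LinearMap.mem_ker, LinearMap.sub_apply]
      have e1 : (x * y) (x m' + δ) = 0 := by
        have hδ' : y δ = 0 := hδ
        have := LinearMap.congr_fun h1 m'
        rw [map_add, Module.End.mul_apply, Module.End.mul_apply, hδ', map_zero, add_zero]
        simpa [mul_assoc] using this
      have e2 : (y * x) (x m' + δ) = 0 := by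
        rw [← hβγ]
        have hγ' : x γ = 0 := hγ
        have := LinearMap.congr_fun h2 m''
        rw [map_add, Module.End.mul_apply, Module.End.mul_apply, hγ', map_zero, add_zero]
        simpa [mul_assoc] using this
      rw [e1, e2, sub_zero]
    apply (Submodule.eq_of_le_of_finrank_eq hle ?_).symm
    -- dimensions
    have hn1 := LinearMap.finrank_range_add_finrank_ker x
    have hn2 := LinearMap.finrank_range_add_finrank_ker y
    have hn3 := LinearMap.finrank_range_add_finrank_ker (x * y - y * x)
    have hAD := Submodule.finrank_sup_add_finrank_inf_eq A D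
    have hBC := Submodule.finrank_sup_add_finrank_inf_eq B C
    have hbig := Submodule.finrank_sup_add_finrank_inf_eq (A ⊔ D) (B ⊔ C)
    have htop : Module.finrank k ↥((A ⊔ D) ⊔ (B ⊔ C)) ≤ Module.finrank k M := Submodule.finrank_le _
    have hle' : Module.finrank k ↥((A ⊔ D) ⊓ (B ⊔ C)) ≤
        Module.finrank k ↥(LinearMap.ker (x * y - y * x)) := Submodule.finrank_mono hle
    change Module.finrank k A + Module.finrank k C = Module.finrank k M at hn1
    change Module.finrank k B + Module.finrank k D = Module.finrank k M at hn2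
    rw [hr] at hn3
    rw [hrx] at hn1 hAD
    rw [hry] at hn2 hBC
    omega

end Cfsg.Agent.QP68

end
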