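import Cfsg.Agent.Helper19.S2287TORUS
import Cfsg.Agent.Helper19.S2287WEYL3
import Cfsg.Agent.Helper25.S2287ROOTS

/-! S2287 piece NACT (helper3): `t` and `n2 = c t c⁻¹` permute the root groups. -/

set_option autoImplicit false

namespace Cfsg.Agent.Helper21.S2287

open Multiplicative Cfsg.Agent.Helper21.S2286

variable {F : Type*} [Field F] {P : Type*} [Group P] (D : A2Data F P)

namespace A2Data

/-! ### explicit values of `xr` -/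

theorem nact_xr01 (a : F) : D.xr 0 1 a = 1 * D.φ (ofAdd a) * (1 : P)⁻¹ := by
  simp [xr]

theorem nact_xr12 (a : F) : D.xr 1 2 a = D.c * D.φ (ofAdd a) * D.c⁻¹ := by
  have h : (2 : Fin 3) = 1 + 1 := by decide
  simp [xr, h]

theorem nact_xr20 (a : F) : D.xr 2 0 a = (D.c * D.c) * D.φ (ofAdd a) * (D.c * D.c)⁻¹ := by
  have h : (0 : Fin 3) = 2 + 1 := by decide
  rw [xr, if_pos h]
  simp [pow_two]

theorem nact_xr10 (a : F) : D.xr 1 0 a = D.t * D.φ (ofAdd (-a)) * D.t⁻¹ := by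
  have h : ¬ ((0 : Fin 3) = 1 + 1) := by decide
  have h' : (1 : Fin 3) = 0 + 1 := by decide
  rw [xr, if_neg h, if_pos h']
  simp

theorem nact_xr21 (a : F) :
    D.xr 2 1 a = (D.c * D.t) * D.φ (ofAdd (-a)) * (D.c * D.t)⁻¹ := by
  have h : ¬ ((1 : Fin 3) = 2 + 1) := by decide
  have h' : (2 : Fin 3) = 1 + 1 := by decide
  rw [xr, if_neg h, if_pos h']
  simp [mul_assoc]

theorem nact_xr02 (a : F) :
    D.xr 0 2 a = (D.c * D.c * D.t) * D.φ (ofAdd (-a)) * (D.c * D.c * D.t)⁻¹ := by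
  have h : ¬ ((2 : Fin 3) = 0 + 1) := by decide
  have h' : (0 : Fin 3) = 2 + 1 := by decide
  rw [xr, if_neg h, if_pos h']
  simp [pow_two, mul_assoc]

/-! ### torus membership -/

/-- `z` is a torus element. -/
def NactT (z : P) : Prop := ∃ i j : ℤ, z = D.tor i j

theorem nactT_one : D.NactT 1 := ⟨0, 0, D.tor_zero.symm⟩

theorem nactT_mul {x y : P} (hx : D.NactT x) (hy : D.NactT y) : D.NactT (x * y) := by
  obtain ⟨i, j, rfl⟩ := hx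
  obtain ⟨i', j', rfl⟩ := hy
  exact ⟨_, _, D.tor_mul i j i' j'⟩

theorem nactT_inv {x : P} (hx : D.NactT x) : D.NactT x⁻¹ := by
  obtain ⟨i, j, rfl⟩ := hx
  exact ⟨_, _, D.tor_inv i j⟩

theorem nactT_c {x : P} (hx : D.NactT x) : D.NactT (D.c * x * D.c⁻¹) := by
  obtain ⟨i, j, rfl⟩ := hx
  exact ⟨_, _, D.c_tor i j⟩

theorem nact_cc : D.c * D.c = D.c⁻¹ := by
  have := D.c3
  exact eq_inv_of_mul_eq_one_left this

theorem nact_cinv2 : D.c⁻¹ * D.c⁻¹ = D.c := by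
  rw [← mul_inv_rev, D.nact_cc, inv_inv]

theorem nactT_cinv {x : P} (hx : D.NactT x) : D.NactT (D.c⁻¹ * x * D.c) := by
  have h := D.nactT_c (D.nactT_c hx)
  have e : D.c * (D.c * x * D.c⁻¹) * D.c⁻¹ = D.c⁻¹ * x * D.c := by
    calc D.c * (D.c * x * D.c⁻¹) * D.c⁻¹ = (D.c * D.c) * x * (D.c⁻¹ * D.c⁻¹) := by group
      _ = D.c⁻¹ * x * D.c := by rw [D.nact_cc, D.nact_cinv2]
  rwa [e] at h

theorem nact_exists_M : ∃ M : ℤ, D.ω ^ M = -1 := by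
  have := D.hω (-1)
  rw [Subgroup.mem_zpowers_iff] at this
  exact this

theorem nactT_tt : D.NactT (D.t * D.t) := by
  obtain ⟨M, hM⟩ := D.nact_exists_M
  exact ⟨_, _, D.t_sq M hM⟩

/-- `t c⁻¹ t = c`. -/
theorem nact_tct : D.t * D.c⁻¹ * D.t = D.c := mul_inv_eq_one.mp D.tc

/-! ### the key conjugation lemma -/

theorem nact_conj (n Pm Q : P) (hz : D.NactT (Q⁻¹ * n * Pm)) (a : F) :
    ∃ a' : F, n * (Pm * D.φ (ofAdd a) * Pm⁻¹) * n⁻¹ = Q * D.φ (ofAdd a') * Q⁻¹ := by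
  obtain ⟨i, j, hz⟩ := hz
  refine ⟨(D.ω : F) ^ (2 * i + j) * a, ?_⟩
  rw [← D.tor_phi i j a, ← hz]
  group

/-- variant with sign on both sides -/
theorem nact_conj_neg (n Pm Q : P) (hz : D.NactT (Q⁻¹ * n * Pm)) (a : F) :
    ∃ a' : F, n * (Pm * D.φ (ofAdd a) * Pm⁻¹) * n⁻¹ = Q * D.φ (ofAdd (-a')) * Q⁻¹ := by
  obtain ⟨a', ha'⟩ := D.nact_conj n Pm Q hz a
  exact ⟨-a', by rw [neg_neg]; exact ha'⟩

/-! ### the six torus words for `t` -/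

theorem nact_z1 : D.NactT (D.t⁻¹ * D.t * 1) := by
  have : D.t⁻¹ * D.t * 1 = 1 := by group
  rw [this]; exact D.nactT_one

theorem nact_z2 : D.NactT ((1 : P)⁻¹ * D.t * D.t) := by
  have : (1 : P)⁻¹ * D.t * D.t = D.t * D.t := by group
  rw [this]; exact D.nactT_tt

/-- `c⁻¹ t c⁻¹ = t⁻¹`. -/
theorem nact_ctc : D.c⁻¹ * D.t * D.c⁻¹ = D.t⁻¹ := by
  calc D.c⁻¹ * D.t * D.c⁻¹ = D.t⁻¹ * (D.t * D.c⁻¹ * D.t * D.c⁻¹) := by group
    _ = D.t⁻¹ := by rw [D.tc, mul_one]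

theorem nact_z3 : D.NactT ((D.c * D.c * D.t)⁻¹ * D.t * D.c) := by
  have : (D.c * D.c * D.t)⁻¹ * D.t * D.c = D.c⁻¹ * (D.t * D.t) * D.c := by
    calc (D.c * D.c * D.t)⁻¹ * D.t * D.c
        = D.t⁻¹ * (D.c⁻¹ * D.c⁻¹) * D.t * D.c := by group
      _ = D.t⁻¹ * D.c * D.t * D.c := by rw [D.nact_cinv2]
      _ = D.t⁻¹ * (D.t * D.c⁻¹ * D.t) * D.t * D.c := by rw [D.nact_tct]
      _ = D.c⁻¹ * (D.t * D.t) * D.c := by group
  rw [this]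
  exact D.nactT_cinv D.nactT_tt

theorem nact_z4 : D.NactT ((D.c * D.c)⁻¹ * D.t * (D.c * D.t)) := by
  have : (D.c * D.c)⁻¹ * D.t * (D.c * D.t)
      = (D.c * (D.t * D.t) * D.c⁻¹) * (D.t * D.t) := by
    calc (D.c * D.c)⁻¹ * D.t * (D.c * D.t)
        = (D.c⁻¹ * D.c⁻¹) * D.t * D.c * D.t := by group
      _ = (D.c⁻¹ * D.c⁻¹) * D.t * (D.t * D.c⁻¹ * D.t) * D.t := by rw [D.nact_tct]
      _ = (D.c⁻¹ * D.c⁻¹) * (D.t * D.t) * D.c⁻¹ * (D.t * D.t) := by group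
      _ = (D.c * (D.t * D.t) * D.c⁻¹) * (D.t * D.t) := by rw [D.nact_cinv2]
  rw [this]
  exact D.nactT_mul (D.nactT_c D.nactT_tt) D.nactT_tt

theorem nact_z5 : D.NactT ((D.c * D.t)⁻¹ * D.t * (D.c * D.c)) := by
  have : (D.c * D.t)⁻¹ * D.t * (D.c * D.c) = (D.t * D.t)⁻¹ := by
    calc (D.c * D.t)⁻¹ * D.t * (D.c * D.c)
        = D.t⁻¹ * D.c⁻¹ * D.t * (D.c * D.c) := by group
      _ = D.t⁻¹ * D.c⁻¹ * D.t * D.c⁻¹ := by rw [D.nact_cc]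
      _ = D.t⁻¹ * (D.c⁻¹ * D.t * D.c⁻¹) := by group
      _ = D.t⁻¹ * D.t⁻¹ := by rw [D.nact_ctc]
      _ = (D.t * D.t)⁻¹ := by group
  rw [this]
  exact D.nactT_inv D.nactT_tt

theorem nact_z6 : D.NactT (D.c⁻¹ * D.t * (D.c * D.c * D.t)) := by
  have : D.c⁻¹ * D.t * (D.c * D.c * D.t) = 1 := by
    calc D.c⁻¹ * D.t * (D.c * D.c * D.t)
        = D.c⁻¹ * D.t * (D.c * D.c) * D.t := by group
      _ = D.c⁻¹ * D.t * D.c⁻¹ * D.t := by rw [D.nact_cc]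
      _ = D.t⁻¹ * D.t := by rw [D.nact_ctc]
      _ = 1 := by group
  rw [this]
  exact D.nactT_one

/-! ### the six root cases for `t` -/

theorem nact_t01 (a : F) : ∃ a' : F, D.t * D.xr 0 1 a * D.t⁻¹ = D.xr 1 0 a' := by
  obtain ⟨a', h⟩ := D.nact_conj_neg D.t 1 D.t D.nact_z1 a
  exact ⟨a', by rw [D.nact_xr01, D.nact_xr10]; exact h⟩

theorem nact_t10 (a : F) : ∃ a' : F, D.t * D.xr 1 0 a * D.t⁻¹ = D.xr 0 1 a' := by
  obtain ⟨a', h⟩ := D.nact_conj D.t D.t 1 D.nact_z2 (-a)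
  exact ⟨a', by rw [D.nact_xr01, D.nact_xr10]; exact h⟩

theorem nact_t12 (a : F) : ∃ a' : F, D.t * D.xr 1 2 a * D.t⁻¹ = D.xr 0 2 a' := by
  obtain ⟨a', h⟩ := D.nact_conj_neg D.t D.c (D.c * D.c * D.t) D.nact_z3 a
  exact ⟨a', by rw [D.nact_xr12, D.nact_xr02]; exact h⟩

theorem nact_t21 (a : F) : ∃ a' : F, D.t * D.xr 2 1 a * D.t⁻¹ = D.xr 2 0 a' := by
  obtain ⟨a', h⟩ := D.nact_conj D.t (D.c * D.t) (D.c * D.c) D.nact_z4 (-a)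
  exact ⟨a', by rw [D.nact_xr21, D.nact_xr20]; exact h⟩

theorem nact_t20 (a : F) : ∃ a' : F, D.t * D.xr 2 0 a * D.t⁻¹ = D.xr 2 1 a' := by
  obtain ⟨a', h⟩ := D.nact_conj_neg D.t (D.c * D.c) (D.c * D.t) D.nact_z5 a
  exact ⟨a', by rw [D.nact_xr20, D.nact_xr21]; exact h⟩

theorem nact_t02 (a : F) : ∃ a' : F, D.t * D.xr 0 2 a * D.t⁻¹ = D.xr 1 2 a' := by
  obtain ⟨a', h⟩ := D.nact_conj D.t (D.c * D.c * D.t) D.c D.nact_z6 (-a)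
  exact ⟨a', by rw [D.nact_xr02, D.nact_xr12]; exact h⟩

/-! ### the statements of the piece -/

theorem t_xr (k l : Fin 3) (a : F) :
    ∃ a' : F, D.t * D.xr k l a * D.t⁻¹ = D.xr (Equiv.swap 0 1 k) (Equiv.swap 0 1 l) a' := by
  have s0 : Equiv.swap (0 : Fin 3) 1 0 = 1 := by decide
  have s1 : Equiv.swap (0 : Fin 3) 1 1 = 0 := by decide
  have s2 : Equiv.swap (0 : Fin 3) 1 2 = 2 := by decide
  by_cases hkl : k = l
  · subst hkl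
    refine ⟨0, ?_⟩
    rw [D.xr_self, D.xr_self]
    group
  · fin_cases k <;> fin_cases l
    · exact absurd rfl hkl
    · show ∃ a' : F, D.t * D.xr 0 1 a * D.t⁻¹ = D.xr (Equiv.swap 0 1 0) (Equiv.swap 0 1 1) a'
      rw [s0, s1]; exact D.nact_t01 a
    · show ∃ a' : F, D.t * D.xr 0 2 a * D.t⁻¹ = D.xr (Equiv.swap 0 1 0) (Equiv.swap 0 1 2) a'
      rw [s0, s2]; exact D.nact_t02 a
    · show ∃ a' : F, D.t * D.xr 1 0 a * D.t⁻¹ = D.xr (Equiv.swap 0 1 1) (Equiv.swap 0 1 0) a'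
      rw [s0, s1]; exact D.nact_t10 a
    · exact absurd rfl hkl
    · show ∃ a' : F, D.t * D.xr 1 2 a * D.t⁻¹ = D.xr (Equiv.swap 0 1 1) (Equiv.swap 0 1 2) a'
      rw [s1, s2]; exact D.nact_t12 a
    · show ∃ a' : F, D.t * D.xr 2 0 a * D.t⁻¹ = D.xr (Equiv.swap 0 1 2) (Equiv.swap 0 1 0) a'
      rw [s0, s2]; exact D.nact_t20 a
    · show ∃ a' : F, D.t * D.xr 2 1 a * D.t⁻¹ = D.xr (Equiv.swap 0 1 2) (Equiv.swap 0 1 1) a'
      rw [s1, s2]; exact D.nact_t21 a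
    · exact absurd rfl hkl

theorem t_xr_inv (k l : Fin 3) (a : F) :
    ∃ a' : F, D.t⁻¹ * D.xr k l a * D.t = D.xr (Equiv.swap 0 1 k) (Equiv.swap 0 1 l) a' := by
  obtain ⟨i, j, hij⟩ := D.nactT_inv D.nactT_tt
  have h1 := D.tor_xr i j k l a
  obtain ⟨a', ha'⟩ := D.t_xr k l ((D.ω : F) ^ (ee i j k - ee i j l) * a)
  refine ⟨a', ?_⟩
  rw [← ha', ← h1, ← hij]
  group

/-- `c⁻¹` shifts the root groups backwards. -/
theorem nact_cinv_xr (k l : Fin 3) (a : F) :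
    D.c⁻¹ * D.xr k l a * D.c = D.xr (k + 2) (l + 2) a := by
  have h1 := D.c_xr k l a
  have h2 := D.c_xr (k + 1) (l + 1) a
  have e : k + 1 + 1 = k + 2 := by
    rw [add_assoc]; rfl
  have e' : l + 1 + 1 = l + 2 := by
    rw [add_assoc]; rfl
  rw [e, e', ← h1] at h2
  rw [← h2]
  calc D.c⁻¹ * D.xr k l a * D.c = (D.c * D.c) * D.xr k l a * (D.c⁻¹ * D.c⁻¹) := by
        rw [D.nact_cc, D.nact_cinv2]
    _ = D.c * (D.c * D.xr k l a * D.c⁻¹) * D.c⁻¹ := by group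

theorem n2_xr (k l : Fin 3) (a : F) :
    ∃ a' : F, D.n2 * D.xr k l a * D.n2⁻¹ = D.xr (Equiv.swap 1 2 k) (Equiv.swap 1 2 l) a' := by
  have hs : ∀ m : Fin 3, Equiv.swap (1 : Fin 3) 2 m = Equiv.swap (0 : Fin 3) 1 (m + 2) + 1 := by
    decide
  obtain ⟨a', ha'⟩ := D.t_xr (k + 2) (l + 2) a
  refine ⟨a', ?_⟩
  rw [hs k, hs l, ← D.c_xr, ← ha', ← D.nact_cinv_xr, n2]
  group

theorem n2_xr_inv (k l : Fin 3) (a : F) :
    ∃ a' : F, D.n2⁻¹ * D.xr k l a * D.n2 = D.xr (Equiv.swap 1 2 k) (Equiv.swap 1 2 l) a' := by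
  have hs : ∀ m : Fin 3, Equiv.swap (1 : Fin 3) 2 m = Equiv.swap (0 : Fin 3) 1 (m + 2) + 1 := by
    decide
  obtain ⟨a', ha'⟩ := D.t_xr_inv (k + 2) (l + 2) a
  refine ⟨a', ?_⟩
  rw [hs k, hs l, ← D.c_xr, ← ha', ← D.nact_cinv_xr, n2]
  group

theorem c_eq (M : ℤ) (hM : D.ω ^ M = -1) : ∃ i j : ℤ, D.c = D.t * D.n2 * D.tor i j := by
  refine ⟨-M, 0, ?_⟩
  rw [← D.t_sq M hM, n2]
  calc D.c = D.t * D.c⁻¹ * D.t := D.nact_tct.symm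
    _ = D.t * (D.c * D.c) * D.t := by rw [D.nact_cc]
    _ = D.t * D.c * (D.t * D.c⁻¹ * D.t) * D.t := by rw [D.nact_tct]; group
    _ = D.t * (D.c * D.t * D.c⁻¹) * (D.t * D.t) := by group

end A2Data

end Cfsg.Agent.Helper21.S2287
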