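import Mathlib
import Cfsg.Prelude.Def_Classical
import Cfsg.Agent.Helper23.S5953Defs

set_option autoImplicit false
open scoped MatrixGroups Matrix

/-!
# S5953 piece RTHROOT (helper3): if `r ∤ q + 1` every norm-one element of `GF(q²)` has a norm-one
`r`-th root.
-/

universe u

namespace Cfsg.Agent.S5953P

open Polynomial

/-- RTHROOT -/
theorem exists_rth_root_norm_one {F : Type*} [Field F] [Fintype F] {q : ℕ}
    (hF : Fintype.card F = q ^ 2) (r : ℕ) [Fact r.Prime] (hrq : ¬ r ∣ q + 1) (z : F)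
    (hz : z ^ (q + 1) = 1) : ∃ μ : F, μ ^ (q + 1) = 1 ∧ μ ^ r * z = 1 := by
  have hr : r.Prime := Fact.out
  have hz0 : z ≠ 0 := by
    rintro rfl
    rw [zero_pow (by omega)] at hz
    exact zero_ne_one hz
  have hq1 : 1 < q + 1 := by
    rcases Nat.eq_zero_or_pos q with h | h
    · exfalso
      rw [h] at hF
      have := Fintype.one_lt_card (α := F)
      omega
    · omega
  have hcop : Nat.Coprime r (q + 1) := (Nat.Prime.coprime_iff_not_dvd hr).2 hrq
  obtain ⟨u, -, hu⟩ := Nat.exists_mul_mod_eq_one_of_coprime hcop hq1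
  have hdm := Nat.div_add_mod (r * u) (q + 1)
  rw [hu] at hdm
  have hzru : z ^ (r * u) = z := by
    rw [← hdm, pow_add, pow_mul, hz, one_pow, one_mul, pow_one]
  refine ⟨(z⁻¹) ^ u, ?_, ?_⟩
  · rw [← pow_mul, mul_comm, pow_mul, inv_pow, hz, inv_one, one_pow]
  · rw [← pow_mul, inv_pow, mul_comm u r, hzru, inv_mul_cancel₀ hz0]

end Cfsg.Agent.S5953P
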