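import Mathlib
import Cfsg.Prelude.Def_Classical
import Cfsg.Agent.Helper23.S5953Defs

set_option autoImplicit false
open scoped MatrixGroups Matrix

/-!
# S5953 piece NOROOTEX (helper3): a norm-one element of `GF(q²)` of order `r ^ v_r(q + 1)` without
norm-one `r`-th root.
-/

universe u

namespace Cfsg.Agent.S5953P

open Polynomial

/-- NOROOTEX -/
theorem exists_no_root {F : Type*} [Field F] [Fintype F] {q : ℕ}
    (hF : Fintype.card F = q ^ 2) (r : ℕ) [Fact r.Prime] (hr2 : r ≠ 2) (hrq : r ∣ q + 1) :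
    ∃ z : F, z ^ (q + 1) = 1 ∧ z ^ (r ^ padicValNat r (q + 1)) = 1 ∧
      ¬ ∃ μ : F, μ ^ (q + 1) = 1 ∧ μ ^ r * z = 1 := by
  classical
  have hr : r.Prime := Fact.out
  set v := padicValNat r (q + 1) with hv
  have hv1 : 1 ≤ v := one_le_padicValNat_of_dvd (by omega) hrq
  have hq2 : 2 ≤ q := by
    by_contra h
    have hq : q = 0 ∨ q = 1 := by omega
    have := Fintype.one_lt_card (α := F)
    rcases hq with h | h <;> rw [h] at hF <;> omega
  obtain ⟨m, hm⟩ : r ^ v ∣ q + 1 := pow_padicValNat_dvd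
  have hm0 : 0 < m := by
    rcases Nat.eq_zero_or_pos m with h | h
    · rw [h, mul_zero] at hm; omega
    · exact h
  have hrm : ¬ r ∣ m := by
    rintro ⟨m', rfl⟩
    have : r ^ (v + 1) ∣ q + 1 := ⟨m', by rw [hm, pow_succ]; ring⟩
    exact pow_succ_padicValNat_not_dvd (by omega) this
  have hN : q ^ 2 - 1 = (q - 1) * (q + 1) := by
    obtain ⟨q', rfl⟩ : ∃ q', q = q' + 1 := ⟨q - 1, by omega⟩
    rw [Nat.add_sub_cancel]
    have : (q' + 1) ^ 2 = q' * (q' + 1 + 1) + 1 := by ring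
    rw [this, Nat.add_sub_cancel]
  obtain ⟨g, hg⟩ := IsCyclic.exists_monoid_generator (α := Fˣ)
  have hord : orderOf g = q ^ 2 - 1 := by
    rw [orderOf_eq_card_of_forall_mem_powers hg, Nat.card_eq_fintype_card, Fintype.card_units, hF]
  have hgN : g ^ ((q - 1) * (q + 1)) = 1 := by
    rw [← hN, ← hord, pow_orderOf_eq_one]
  set zu : Fˣ := g ^ ((q - 1) * m) with hzu
  have hz1 : zu ^ (q + 1) = 1 := by
    rw [hzu, ← pow_mul]
    have : (q - 1) * m * (q + 1) = (q - 1) * (q + 1) * m := by ring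
    rw [this, pow_mul, hgN, one_pow]
  have hz2 : zu ^ (r ^ v) = 1 := by
    rw [hzu, ← pow_mul]
    have : (q - 1) * m * r ^ v = (q - 1) * (q + 1) := by rw [hm]; ring
    rw [this, hgN]
  refine ⟨(zu : F), ?_, ?_, ?_⟩
  · rw [← Units.val_pow_eq_pow_val, hz1, Units.val_one]
  · rw [← Units.val_pow_eq_pow_val, hz2, Units.val_one]
  · rintro ⟨μ, hμ1, hμz⟩
    -- `zu ^ ((q + 1) / r) = 1`
    have hs : q + 1 = r * (r ^ (v - 1) * m) := by
      rw [hm, ← mul_assoc, ← pow_succ', Nat.sub_add_cancel hv1]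
    have hzs : (zu : F) ^ (r ^ (v - 1) * m) = 1 := by
      have h1 : (μ ^ r * (zu : F)) ^ (r ^ (v - 1) * m) = 1 := by rw [hμz, one_pow]
      rw [mul_pow, ← pow_mul, ← hs, hμ1, one_mul] at h1
      exact h1
    have hzs' : zu ^ (r ^ (v - 1) * m) = 1 := by
      apply Units.ext
      rw [Units.val_pow_eq_pow_val, hzs, Units.val_one]
    rw [hzu, ← pow_mul] at hzs'
    have hdvd : orderOf g ∣ (q - 1) * m * (r ^ (v - 1) * m) := orderOf_dvd_of_pow_eq_one hzs'
    rw [hord, hN, hs] at hdvd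
    -- cancel `(q - 1) * r ^ (v - 1) * m`
    have hpos : 0 < (q - 1) * (r ^ (v - 1) * m) :=
      Nat.mul_pos (by omega) (Nat.mul_pos (pow_pos hr.pos _) hm0)
    have hdvd' : (q - 1) * (r ^ (v - 1) * m) * r ∣ (q - 1) * (r ^ (v - 1) * m) * m := by
      have e1 : (q - 1) * (r * (r ^ (v - 1) * m)) = (q - 1) * (r ^ (v - 1) * m) * r := by ring
      have e2 : (q - 1) * m * (r ^ (v - 1) * m) = (q - 1) * (r ^ (v - 1) * m) * m := by ring
      rw [← e1, ← e2]
      exact hdvd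
    exact hrm (Nat.dvd_of_mul_dvd_mul_left hpos hdvd')

end Cfsg.Agent.S5953P
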