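import Mathlib
import Cfsg.Agent.Helper23.S5961Defs
import Cfsg.Agent.Helper2.SpCard
import Cfsg.Agent.Helper18.S5961ARITH

set_option autoImplicit false

/-! S5961 piece NTSP: `r ∣ |Sp_{2d}(q)|` forces `cc ≤ 2d`. -/

namespace Cfsg.Agent.S5961P

/-- NTSP (uses ARITH, Helper2.Sp.card_symplectic_fin) -/
theorem cc_le_of_dvd_card_Sp {F : Type*} [Field F] [Fintype F] {p : ℕ} [Fact p.Prime]
    [CharP F p] (r : ℕ) [Fact r.Prime] (hr2 : r ≠ 2) (hrp : r ≠ p) (d : ℕ)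
    (h : r ∣ Nat.card (Matrix.symplecticGroup (Fin d) F)) : cc F r ≤ 2 * d := by
  have hr : r.Prime := Fact.out
  have hp : p.Prime := Fact.out
  rw [Cfsg.Agent.Helper2.Sp.card_symplectic_fin] at h
  obtain ⟨-, -, -, -, -, -, hcc, -⟩ := cc_arith (F := F) r hr2 hrp
  rcases (Nat.Prime.dvd_mul hr).mp h with h1 | h1
  · exfalso
    have h2 : r ∣ Fintype.card F := hr.dvd_of_dvd_pow h1
    obtain ⟨n, -, hn⟩ := FiniteField.card F p
    rw [hn] at h2
    have h3 : r ∣ p := hr.dvd_of_dvd_pow h2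
    exact hrp ((Nat.prime_dvd_prime_iff_eq hr hp).mp h3)
  · obtain ⟨i, hi, hdvd⟩ := (Prime.dvd_finsetProd_iff (Nat.Prime.prime hr) _).mp h1
    have h2 := hcc (i + 1) hdvd
    have h3 : cc F r ≤ 2 * (i + 1) := Nat.le_of_dvd (by omega) h2
    have h4 : i < d := Finset.mem_range.mp hi
    omega

end Cfsg.Agent.S5961P
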