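import Mathlib
import Cfsg.Prelude.Def_GeometricClasses
import Cfsg.Prelude.Def_Classical
import Cfsg.Prelude.Def_LieClassical
import Cfsg.Agent.Helper20.S6000Defs
import Cfsg.Agent.Helper28.S6001Defs

set_option autoImplicit false
open scoped MatrixGroups Matrix

/-!
# S6001 pieces NT3U, NT3S (helper3): primitive cube roots of unity in `F_{p²}`.
-/

namespace Cfsg.Agent.S6001P

open Cfsg.Agent.S6000P

namespace NT3

/-- a primitive cube root of unity in `F_{p²}`, `p ≠ 3` -/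
theorem exists_omega {F : Type*} [Field F] [Fintype F] {p : ℕ} [Fact p.Prime] [CharP F p]
    (hF : Fintype.card F = p ^ 2) (hp3 : p % 3 ≠ 0) :
    (3 : F) ≠ 0 ∧ ∃ ω : F, ω * ω + ω + 1 = 0 ∧ ω ^ 3 = 1 := by
  classical
  have hp : p.Prime := Fact.out
  have h3 : (3 : F) ≠ 0 := by
    intro h
    have h' : ((3 : ℕ) : F) = 0 := by exact_mod_cast h
    rw [CharP.cast_eq_zero_iff F p] at h'
    have := (Nat.prime_dvd_prime_iff_eq hp Nat.prime_three).1 h'
    rw [this] at hp3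
    exact hp3 rfl
  refine ⟨h3, ?_⟩
  have hcard : Fintype.card Fˣ = p ^ 2 - 1 := by rw [Fintype.card_units, hF]
  have hdvd : 3 ∣ Fintype.card Fˣ := by
    rw [hcard]
    have h1 : p ^ 2 % 3 = 1 := by
      rw [Nat.pow_mod]
      have : p % 3 = 1 ∨ p % 3 = 2 := by omega
      rcases this with h | h <;> rw [h]
    have h2 : 1 ≤ p ^ 2 := Nat.one_le_pow _ _ hp.pos
    omega
  have : Fact (Nat.Prime 3) := ⟨Nat.prime_three⟩
  obtain ⟨x, hx⟩ := exists_prime_orderOf_dvd_card 3 hdvd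
  refine ⟨(x : F), ?_, ?_⟩
  · have hx3 : (x : F) ^ 3 = 1 := by
      have := pow_orderOf_eq_one x
      rw [hx] at this
      have h' := congrArg (fun u : Fˣ => (u : F)) this
      simpa using h'
    have hx1 : (x : F) ≠ 1 := by
      intro h
      have : x = 1 := Units.ext h
      rw [this, orderOf_one] at hx
      omega
    have hfac : ((x : F) - 1) * ((x : F) * (x : F) + (x : F) + 1) = 0 := by
      linear_combination hx3
    rcases mul_eq_zero.1 hfac with h | h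
    · exact absurd (sub_eq_zero.1 h) hx1
    · exact h
  · have := pow_orderOf_eq_one x
    rw [hx] at this
    have h' := congrArg (fun u : Fˣ => (u : F)) this
    simpa using h'

end NT3

/-- NT3U -/
theorem exists_omega_u {F : Type*} [Field F] [Fintype F] {p : ℕ} [Fact p.Prime] [CharP F p]
    (hF : Fintype.card F = p ^ 2) (hp3 : p % 3 = 2) :
    (3 : F) ≠ 0 ∧ ∃ ω : F, ω * ω + ω + 1 = 0 ∧ ω ^ (p + 1) = 1 := by
  obtain ⟨h3, ω, hω, hω3⟩ := NT3.exists_omega (F := F) hF (by omega)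
  refine ⟨h3, ω, hω, ?_⟩
  obtain ⟨k, hk⟩ : 3 ∣ p + 1 := by omega
  rw [hk, pow_mul, hω3, one_pow]

/-- NT3S -/
theorem exists_omega_s {F : Type*} [Field F] [Fintype F] {p : ℕ} [Fact p.Prime] [CharP F p]
    (hF : Fintype.card F = p ^ 2) (hp3 : p % 3 = 1) :
    (3 : F) ≠ 0 ∧ ∃ ω : F, ω * ω + ω + 1 = 0 ∧ ω ^ p = ω := by
  obtain ⟨h3, ω, hω, hω3⟩ := NT3.exists_omega (F := F) hF (by omega)
  refine ⟨h3, ω, hω, ?_⟩
  obtain ⟨k, hk⟩ : ∃ k, p = 3 * k + 1 := ⟨p / 3, by omega⟩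
  rw [hk, pow_succ, pow_mul, hω3, one_pow, one_mul]

end Cfsg.Agent.S6001P
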