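import Cfsg.Agent.Helper22.S1572Defs

/-! S1572 piece MODTRICK (driver helper22): if `g⁻¹` maps the 88 vectors of `YA` to vectors of
shape `(±4, ±4, 0^22)`, then `g` preserves the standard cross. -/

set_option autoImplicit false

namespace Cfsg.Agent.S1572P

open Cfsg Cfsg.Agent.Helper27 Cfsg.Agent.Helper22.Co0Mono Cfsg.Agent.Helper22.CrossStab
  Cfsg.Agent.Helper22.Co0Center Cfsg.Agent.Helper22.MinTrans Cfsg.Agent.Helper22.Co0Order
  Cfsg.Agent.Helper22.Census
open scoped Pointwise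

namespace MODTRICK

/-- `s₁ e_a + s₂ e_k` with `s₁, s₂ = ±4` is a lattice vector -/
theorem pair_mem {a k : GolayPt} (hak : a ≠ k) {s₁ s₂ : ℤ} (h1 : s₁ = 4 ∨ s₁ = -4)
    (h2 : s₂ = 4 ∨ s₂ = -4) : (Pi.single a s₁ + Pi.single k s₂ : GolayPt → ℤ) ∈ leechLattice := by
  rw [mem_leechLattice_iff]
  refine ⟨0, Pi.single a (s₁ / 2) + Pi.single k (s₂ / 2), ?_, ?_, ?_⟩
  · intro q
    simp only [Pi.add_apply, Pi.single_apply]
    rcases h1 with rfl | rfl <;> rcases h2 with rfl | rfl <;> split_ifs <;> norm_num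
  · simp only [Pi.add_apply, Finset.sum_add_distrib, Finset.sum_pi_single', Finset.mem_univ, if_true]
    rcases h1 with rfl | rfl <;> rcases h2 with rfl | rfl <;> decide
  · have : redW (Pi.single a (s₁ / 2) + Pi.single k (s₂ / 2)) = 0 := by
      funext q
      simp only [redW, Pi.add_apply, Pi.single_apply, Pi.zero_apply]
      rw [ZMod.intCast_zmod_eq_zero_iff_dvd]
      rcases h1 with rfl | rfl <;> rcases h2 with rfl | rfl <;> split_ifs <;> norm_num
    rw [this]
    exact golayCode.zero_mem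

/-- the vector `-4 e_a + t e_k` of `YA` -/
def yv {a k : GolayPt} (hak : a ≠ k) {t : ℤ} (ht : t = 4 ∨ t = -4) : ↥leechLattice :=
  ⟨Pi.single a (-4) + Pi.single k t, pair_mem hak (Or.inr rfl) ht⟩

theorem yv_mem {a k : GolayPt} (ha : a = pt 0 ∨ a = pt 1) (hk0 : k ≠ pt 0) (hk1 : k ≠ pt 1)
    (hak : a ≠ k) {t : ℤ} (ht : t = 4 ∨ t = -4) : yv hak ht ∈ YA := by
  constructor
  · refine ⟨a, k, hak, Or.inr ?_, ?_, ?_⟩
    · show (Pi.single a (-4) + Pi.single k t : GolayPt → ℤ) a = -4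
      rw [Pi.add_apply, Pi.single_eq_same, Pi.single_eq_of_ne hak, add_zero]
    · show (Pi.single a (-4) + Pi.single k t : GolayPt → ℤ) k = 4 ∨
        (Pi.single a (-4) + Pi.single k t : GolayPt → ℤ) k = -4
      rw [Pi.add_apply, Pi.single_eq_same, Pi.single_eq_of_ne hak.symm, zero_add]
      exact ht
    · intro p hpa hpk
      show (Pi.single a (-4) + Pi.single k t : GolayPt → ℤ) p = 0
      rw [Pi.add_apply, Pi.single_eq_of_ne hpa, Pi.single_eq_of_ne hpk, add_zero]
  · rw [dot_v0]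
    show 4 * (Pi.single a (-4) + Pi.single k t : GolayPt → ℤ) (pt 0) +
      4 * (Pi.single a (-4) + Pi.single k t : GolayPt → ℤ) (pt 1) = -16
    have h01 : (pt 0 : GolayPt) ≠ pt 1 := by decide
    rw [Pi.add_apply, Pi.add_apply, Pi.single_eq_of_ne hk0.symm, Pi.single_eq_of_ne hk1.symm]
    rcases ha with rfl | rfl
    · rw [Pi.single_eq_same, Pi.single_eq_of_ne h01.symm]
      norm_num
    · rw [Pi.single_eq_same, Pi.single_eq_of_ne h01]
      norm_num

theorem dot_comm (x y : GolayPt → ℤ) : dotInt x y = dotInt y x := by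
  unfold dotInt
  exact Finset.sum_congr rfl (fun i _ => mul_comm _ _)

theorem dot_add (x y z : GolayPt → ℤ) : dotInt x (y + z) = dotInt x y + dotInt x z := by
  unfold dotInt
  rw [← Finset.sum_add_distrib]
  exact Finset.sum_congr rfl (fun i _ => by rw [Pi.add_apply, mul_add])

/-- the key divisibility: `32 ∣ u · w` for `w ∈ YA`, `u = g • (s e_i)` -/
theorem dot_dvd (g : ↥Co0)
    (h : ∀ w ∈ YA, ShapeA ((g⁻¹ • w : ↥leechLattice) : GolayPt → ℤ)) (V : ↥leechLattice)
    (i : GolayPt) (s : ℤ) (hs : s = 8 ∨ s = -8) (hV : (V : GolayPt → ℤ) = Pi.single i s)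
    (w : ↥leechLattice) (hw : w ∈ YA) :
    (32 : ℤ) ∣ dotInt ((g • V : ↥leechLattice) : GolayPt → ℤ) (w : GolayPt → ℤ) := by
  have e1 : g • (g⁻¹ • w) = w := smul_inv_smul g w
  have e2 := co0_dot g V (g⁻¹ • w)
  rw [e1] at e2
  rw [e2, hV, dot_comm, dot_single]
  rcases Cfsg.Agent.Helper22.Co2Trans.shapeA_entry (h w hw) i with h0 | h0 | h0 <;> rcases hs with rfl | rfl <;> rw [h0] <;>
    norm_num

theorem dot_yv (u : GolayPt → ℤ) {a k : GolayPt} (hak : a ≠ k) {t : ℤ} (ht : t = 4 ∨ t = -4) :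
    dotInt u ((yv hak ht : ↥leechLattice) : GolayPt → ℤ) = u a * (-4) + u k * t := by
  show dotInt u (Pi.single a (-4) + Pi.single k t) = _
  rw [dot_add, dot_single, dot_single]

end MODTRICK

open MODTRICK

/-- MODTRICK: if `g⁻¹` maps the 88 vectors of `YA` to vectors of shape `(±4, ±4, 0^22)`, then `g`
preserves the standard cross -/
theorem mem_NN_of_shapeA (g : ↥Co0)
    (h : ∀ w ∈ YA, ShapeA ((g⁻¹ • w : ↥leechLattice) : GolayPt → ℤ)) : g ∈ NN := by
  rw [mem_NN]
  rintro V ⟨i, s, hs, hV⟩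
  set u : GolayPt → ℤ := ((g • V : ↥leechLattice) : GolayPt → ℤ) with hu
  have hnorm : sqNorm u = 64 := by
    rw [hu, co0_norm, hV, sqNorm_single]
    rcases hs with rfl | rfl <;> norm_num
  -- congruences
  have key : ∀ a k : GolayPt, (a = pt 0 ∨ a = pt 1) → k ≠ pt 0 → k ≠ pt 1 →
      (8 : ℤ) ∣ u k - u a ∧ (8 : ℤ) ∣ u k + u a := by
    intro a k ha hk0 hk1
    have hak : a ≠ k := by
      rcases ha with rfl | rfl
      · exact hk0.symm
      · exact hk1.symm
    have d1 := dot_dvd g h V i s hs hV (yv hak (Or.inl rfl)) (yv_mem ha hk0 hk1 hak (Or.inl rfl))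
    have d2 := dot_dvd g h V i s hs hV (yv hak (Or.inr rfl)) (yv_mem ha hk0 hk1 hak (Or.inr rfl))
    rw [← hu, dot_yv] at d1 d2
    constructor
    · obtain ⟨c, hc⟩ := d1
      exact ⟨c, by linarith⟩
    · obtain ⟨c, hc⟩ := d2
      exact ⟨-c, by linarith⟩
  have h20 : (pt 2 : GolayPt) ≠ pt 0 := by decide
  have h21 : (pt 2 : GolayPt) ≠ pt 1 := by decide
  have hmod : ∀ q : GolayPt, (8 : ℤ) ∣ u q - u (pt 0) := by
    intro q
    by_cases hq0 : q = pt 0
    · rw [hq0, sub_self]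
      exact dvd_zero _
    · by_cases hq1 : q = pt 1
      · rw [hq1]
        have a1 := (key (pt 1) (pt 2) (Or.inr rfl) h20 h21).1
        have a2 := (key (pt 0) (pt 2) (Or.inl rfl) h20 h21).1
        have : u (pt 1) - u (pt 0) = (u (pt 2) - u (pt 0)) - (u (pt 2) - u (pt 1)) := by ring
        rw [this]
        exact dvd_sub a2 a1
      · exact (key (pt 0) q (Or.inl rfl) hq0 hq1).1
  have h4 : (4 : ℤ) ∣ u (pt 0) := by
    obtain ⟨c1, hc1⟩ := (key (pt 0) (pt 2) (Or.inl rfl) h20 h21).1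
    obtain ⟨c2, hc2⟩ := (key (pt 0) (pt 2) (Or.inl rfl) h20 h21).2
    exact ⟨c2 - c1, by linarith⟩
  -- all entries divisible by 8
  have h8 : ∀ q : GolayPt, (8 : ℤ) ∣ u q := by
    by_contra hcon
    push Not at hcon
    obtain ⟨q0, hq0⟩ := hcon
    have h0 : ¬ (8 : ℤ) ∣ u (pt 0) := by
      intro hd
      apply hq0
      have := dvd_add (hmod q0) hd
      rwa [sub_add_cancel] at this
    have hge : ∀ q : GolayPt, (16 : ℤ) ≤ u q ^ 2 := by
      intro q
      obtain ⟨c, hc⟩ := hmod q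
      obtain ⟨d, hd⟩ := h4
      have hodd : ¬ (2 : ℤ) ∣ d := by
        rintro ⟨e, he⟩
        apply h0
        exact ⟨e, by rw [hd, he]; ring⟩
      have huq : u q = 4 * (2 * c + d) := by linarith
      have hne : 2 * c + d ≠ 0 := by
        intro hz
        apply hodd
        exact ⟨-c, by linarith⟩
      have hsq : (1 : ℤ) ≤ (2 * c + d) ^ 2 := by
        have := sq_nonneg (2 * c + d)
        rcases (sq_eq_zero_iff (a := 2 * c + d)).not.mpr hne |> lt_or_gt_of_ne with h' | h'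
        · linarith
        · linarith
      rw [huq]
      nlinarith
    have hsum : (24 : ℤ) * 16 ≤ sqNorm u := by
      unfold sqNorm
      calc (24 : ℤ) * 16 = ∑ _q : GolayPt, (16 : ℤ) := by
            rw [Finset.sum_const, card_golayPt]
            norm_num
        _ ≤ ∑ q : GolayPt, u q ^ 2 := Finset.sum_le_sum (fun q _ => hge q)
    rw [hnorm] at hsum
    norm_num at hsum
  -- some entry is nonzero
  have hex : ∃ q0 : GolayPt, u q0 ≠ 0 := by
    by_contra hcon
    push Not at hcon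
    have : sqNorm u = 0 := by
      unfold sqNorm
      apply Finset.sum_eq_zero
      intro q _
      rw [hcon q]
      norm_num
    rw [hnorm] at this
    norm_num at this
  obtain ⟨q0, hq0⟩ := hex
  obtain ⟨c, hc⟩ := h8 q0
  have hc0 : c ≠ 0 := by
    intro hz
    apply hq0
    rw [hc, hz, mul_zero]
  have hsplit : sqNorm u = u q0 ^ 2 + ∑ q ∈ Finset.univ.erase q0, u q ^ 2 := by
    unfold sqNorm
    exact (Finset.add_sum_erase Finset.univ (fun q => u q ^ 2) (Finset.mem_univ q0)).symm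
  have hrest_nonneg : (0 : ℤ) ≤ ∑ q ∈ Finset.univ.erase q0, u q ^ 2 :=
    Finset.sum_nonneg (fun q _ => sq_nonneg _)
  have hcsq : (1 : ℤ) ≤ c ^ 2 := by
    rcases lt_or_gt_of_ne hc0 with h' | h'
    · nlinarith
    · nlinarith
  have hc1 : c ^ 2 = 1 := by
    rw [hnorm, hc] at hsplit
    nlinarith
  have hrest : ∑ q ∈ Finset.univ.erase q0, u q ^ 2 = 0 := by
    rw [hnorm, hc] at hsplit
    nlinarith
  have hzero : ∀ q, q ≠ q0 → u q = 0 := by
    intro q hq
    have := (Finset.sum_eq_zero_iff_of_nonneg (fun q _ => sq_nonneg (u q))).mp hrest q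
      (Finset.mem_erase.mpr ⟨hq, Finset.mem_univ q⟩)
    exact pow_eq_zero_iff (two_ne_zero) |>.mp this
  refine ⟨q0, u q0, ?_, ?_⟩
  · rcases mul_eq_zero.mp (show (c - 1) * (c + 1) = 0 by linear_combination hc1) with h' | h'
    · left
      rw [hc]
      linarith
    · right
      rw [hc]
      linarith
  · funext q
    by_cases hq : q = q0
    · rw [hq, Pi.single_eq_same]
    · rw [Pi.single_eq_of_ne hq, hzero q hq]

end Cfsg.Agent.S1572P
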