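import Mathlib
import Cfsg.Prelude.Def_Characters
import Cfsg.Agent.Helper23.AVDefs

/-!
# S4560, piece O22: a 4-transitive group has exactly 3 orbits on pairs of 2-subsets
-/

set_option autoImplicit false

namespace Cfsg.Agent.Helper23.AV

open MulAction
open scoped Pointwise

universe u v

variable {G : Type u} [Group G] {Ω : Type v} [MulAction G Ω]

theorem o22_smul_pair [DecidableEq Ω] (g : G) (a b : Ω) :
    g • ({a, b} : Finset Ω) = {g • a, g • b} := by
  rw [Finset.smul_finset_insert, Finset.smul_finset_singleton]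

theorem o22_exists_four [Finite Ω] (h : 4 ≤ Nat.card Ω) :
    ∃ a b c d : Ω, a ≠ b ∧ a ≠ c ∧ a ≠ d ∧ b ≠ c ∧ b ≠ d ∧ c ≠ d := by
  classical
  have : Fintype Ω := Fintype.ofFinite Ω
  rw [Nat.card_eq_fintype_card] at h
  obtain ⟨f⟩ : Nonempty (Fin 4 ↪ Ω) :=
    Function.Embedding.nonempty_of_card_le (by simpa using h)
  refine ⟨f 0, f 1, f 2, f 3, ?_, ?_, ?_, ?_, ?_, ?_⟩ <;>
    exact f.injective.ne (by decide)

theorem o22_eq_pair_of_mem [DecidableEq Ω] {s : Finset Ω} (hs : s.card = 2) {a : Ω} (ha : a ∈ s) :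
    ∃ b, b ≠ a ∧ s = {a, b} := by
  have h1 : (s.erase a).card = 1 := by
    rw [Finset.card_erase_of_mem ha, hs]
  obtain ⟨b, hb⟩ := Finset.card_eq_one.mp h1
  have hbm : b ∈ s.erase a := by rw [hb]; exact Finset.mem_singleton_self b
  refine ⟨b, (Finset.mem_erase.mp hbm).1, ?_⟩
  rw [← Finset.insert_erase ha, hb]

/-- the classifier: `0` equal, `1` meeting in one point, `2` disjoint -/
noncomputable def o22_cls [DecidableEq Ω]
    (x : Set.powersetCard Ω 2 × Set.powersetCard Ω 2) : Fin 3 :=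
  open Classical in
  if x.1 = x.2 then 0
  else if ((x.1 : Finset Ω) ∩ (x.2 : Finset Ω)).Nonempty then 1 else 2

theorem o22_cases [DecidableEq Ω] (x : Set.powersetCard Ω 2 × Set.powersetCard Ω 2) :
    (o22_cls x = 0 ∧ ∃ a b : Ω, a ≠ b ∧ (x.1 : Finset Ω) = {a, b} ∧ (x.2 : Finset Ω) = {a, b}) ∨
    (o22_cls x = 1 ∧ ∃ a b c : Ω, a ≠ b ∧ a ≠ c ∧ b ≠ c ∧
      (x.1 : Finset Ω) = {a, b} ∧ (x.2 : Finset Ω) = {a, c}) ∨
    (o22_cls x = 2 ∧ ∃ a b c d : Ω, a ≠ b ∧ a ≠ c ∧ a ≠ d ∧ b ≠ c ∧ b ≠ d ∧ c ≠ d ∧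
      (x.1 : Finset Ω) = {a, b} ∧ (x.2 : Finset Ω) = {c, d}) := by
  classical
  obtain ⟨s, t⟩ := x
  have hs : (s : Finset Ω).card = 2 := s.2
  have ht : (t : Finset Ω).card = 2 := t.2
  by_cases hst : s = t
  · left
    refine ⟨by simp [o22_cls, hst], ?_⟩
    obtain ⟨a, b, hab, hsab⟩ := Finset.card_eq_two.mp hs
    exact ⟨a, b, hab, hsab, by rw [← hst]; exact hsab⟩
  · right
    by_cases hne : ((s : Finset Ω) ∩ (t : Finset Ω)).Nonempty
    · left
      refine ⟨by simp [o22_cls, hst, hne], ?_⟩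
      obtain ⟨a, ha⟩ := hne
      rw [Finset.mem_inter] at ha
      obtain ⟨b, hba, hsb⟩ := o22_eq_pair_of_mem hs ha.1
      obtain ⟨c, hca, htc⟩ := o22_eq_pair_of_mem ht ha.2
      refine ⟨a, b, c, hba.symm, hca.symm, ?_, hsb, htc⟩
      intro hbc
      apply hst
      apply Subtype.ext
      rw [hsb, htc, hbc]
    · right
      refine ⟨by simp [o22_cls, hst, hne], ?_⟩
      rw [Finset.not_nonempty_iff_eq_empty] at hne
      obtain ⟨a, b, hab, hsab⟩ := Finset.card_eq_two.mp hs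
      obtain ⟨c, d, hcd, htcd⟩ := Finset.card_eq_two.mp ht
      have hdisj : ∀ z : Ω, z ∈ (s : Finset Ω) → z ∈ (t : Finset Ω) → False := by
        intro z hz1 hz2
        have : z ∈ (s : Finset Ω) ∩ (t : Finset Ω) := Finset.mem_inter.mpr ⟨hz1, hz2⟩
        rw [hne] at this
        exact absurd this (Finset.notMem_empty z)
      have has : a ∈ (s : Finset Ω) := by rw [hsab]; simp
      have hbs : b ∈ (s : Finset Ω) := by rw [hsab]; simp
      have hct : c ∈ (t : Finset Ω) := by rw [htcd]; simp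
      have hdt : d ∈ (t : Finset Ω) := by rw [htcd]; simp
      refine ⟨a, b, c, d, hab, ?_, ?_, ?_, ?_, hcd, hsab, htcd⟩
      · intro h; exact hdisj a has (h ▸ hct)
      · intro h; exact hdisj a has (h ▸ hdt)
      · intro h; exact hdisj b hbs (h ▸ hct)
      · intro h; exact hdisj b hbs (h ▸ hdt)

theorem o22_cls_smul [DecidableEq Ω] (g : G)
    (x : Set.powersetCard Ω 2 × Set.powersetCard Ω 2) : o22_cls (g • x) = o22_cls x := by
  classical
  obtain ⟨s, t⟩ := x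
  have h1 : (g • s = g • t) ↔ s = t := smul_left_cancel_iff g
  have h2 : (((g • s : Set.powersetCard Ω 2) : Finset Ω) ∩
      ((g • t : Set.powersetCard Ω 2) : Finset Ω)).Nonempty ↔
      ((s : Finset Ω) ∩ (t : Finset Ω)).Nonempty := by
    rw [Set.powersetCard.coe_smul, Set.powersetCard.coe_smul, ← Finset.smul_finset_inter,
      Finset.smul_finset_nonempty]
  show o22_cls (g • s, g • t) = o22_cls (s, t)
  unfold o22_cls
  simp only [h1, h2]

/-! ### O22 -/
theorem card_orbits_22 [Finite Ω] [DecidableEq Ω] (T : Trans4 G Ω) :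
    Nat.card (orbitRel.Quotient G (Set.powersetCard Ω 2 × Set.powersetCard Ω 2)) = 3 := by
  classical
  obtain ⟨a, b, c, d, hab, hac, had, hbc, hbd, hcd⟩ := o22_exists_four (Ω := Ω) T.card_le
  refine card_orbits_eq_of_classifier (G := G) o22_cls o22_cls_smul ?_ ?_
  · -- surjectivity
    have mk : ∀ p q : Ω, p ≠ q → ({p, q} : Finset Ω) ∈ Set.powersetCard Ω 2 := by
      intro p q hpq
      rw [Set.powersetCard.mem_iff]
      exact Finset.card_pair hpq
    intro i
    fin_cases i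
    · refine ⟨(⟨{a, b}, mk a b hab⟩, ⟨{a, b}, mk a b hab⟩), ?_⟩
      simp [o22_cls]
    · refine ⟨(⟨{a, b}, mk a b hab⟩, ⟨{a, c}, mk a c hac⟩), ?_⟩
      have hne : (⟨{a, b}, mk a b hab⟩ : Set.powersetCard Ω 2) ≠ ⟨{a, c}, mk a c hac⟩ := by
        intro h
        have h' : ({a, b} : Finset Ω) = {a, c} := congrArg Subtype.val h
        have hb : b ∈ ({a, c} : Finset Ω) := by rw [← h']; simp
        rw [Finset.mem_insert, Finset.mem_singleton] at hb
        rcases hb with hb | hb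
        · exact hab hb.symm
        · exact hbc hb
      have hint : (({a, b} : Finset Ω) ∩ {a, c}).Nonempty :=
        ⟨a, Finset.mem_inter.mpr ⟨by simp, by simp⟩⟩
      simp only [o22_cls, hne, if_false]
      rw [if_pos hint]
      rfl
    · refine ⟨(⟨{a, b}, mk a b hab⟩, ⟨{c, d}, mk c d hcd⟩), ?_⟩
      have hne : (⟨{a, b}, mk a b hab⟩ : Set.powersetCard Ω 2) ≠ ⟨{c, d}, mk c d hcd⟩ := by
        intro h
        have h' : ({a, b} : Finset Ω) = {c, d} := congrArg Subtype.val h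
        have ha : a ∈ ({c, d} : Finset Ω) := by rw [← h']; simp
        rw [Finset.mem_insert, Finset.mem_singleton] at ha
        rcases ha with ha | ha
        · exact hac ha
        · exact had ha
      have hint : ¬ (({a, b} : Finset Ω) ∩ {c, d}).Nonempty := by
        rintro ⟨z, hz⟩
        rw [Finset.mem_inter, Finset.mem_insert, Finset.mem_singleton, Finset.mem_insert,
          Finset.mem_singleton] at hz
        rcases hz with ⟨h1 | h1, h2 | h2⟩
        · exact hac (h1 ▸ h2)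
        · exact had (h1 ▸ h2)
        · exact hbc (h1 ▸ h2)
        · exact hbd (h1 ▸ h2)
      simp only [o22_cls, hne, if_false]
      rw [if_neg hint]
      rfl
  · -- transitivity on the fibres
    intro x y hxy
    have key : ∀ (g : G) (p q p' q' : Ω) (s s' : Set.powersetCard Ω 2),
        (s : Finset Ω) = {p, q} → (s' : Finset Ω) = {p', q'} → g • p = p' → g • q = q' →
        g • s = s' := by
      intro g p q p' q' s s' hs hs' hp hq
      apply Subtype.ext
      rw [Set.powersetCard.coe_smul, hs, hs', o22_smul_pair, hp, hq]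
    rcases o22_cases x with ⟨hx, a₁, b₁, h1, hxs, hxt⟩ | ⟨hx, a₁, b₁, c₁, h1, h2, h3, hxs, hxt⟩ |
        ⟨hx, a₁, b₁, c₁, d₁, h1, h2, h3, h4, h5, h6, hxs, hxt⟩ <;>
      rcases o22_cases y with ⟨hy, a₂, b₂, k1, hys, hyt⟩ | ⟨hy, a₂, b₂, c₂, k1, k2, k3, hys, hyt⟩ |
        ⟨hy, a₂, b₂, c₂, d₂, k1, k2, k3, k4, k5, k6, hys, hyt⟩
    · obtain ⟨g, hg1, hg2⟩ := T.t2 a₁ b₁ a₂ b₂ h1 k1
      exact ⟨g, Prod.ext (key g _ _ _ _ _ _ hxs hys hg1 hg2) (key g _ _ _ _ _ _ hxt hyt hg1 hg2)⟩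
    · rw [hx, hy] at hxy; exact absurd hxy (by decide)
    · rw [hx, hy] at hxy; exact absurd hxy (by decide)
    · rw [hx, hy] at hxy; exact absurd hxy (by decide)
    · obtain ⟨g, hg1, hg2, hg3⟩ := T.t3 a₁ b₁ c₁ a₂ b₂ c₂ h1 h2 h3 k1 k2 k3
      exact ⟨g, Prod.ext (key g _ _ _ _ _ _ hxs hys hg1 hg2) (key g _ _ _ _ _ _ hxt hyt hg1 hg3)⟩
    · rw [hx, hy] at hxy; exact absurd hxy (by decide)
    · rw [hx, hy] at hxy; exact absurd hxy (by decide)
    · rw [hx, hy] at hxy; exact absurd hxy (by decide)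
    · obtain ⟨g, hg1, hg2, hg3, hg4⟩ :=
        T.t4 a₁ b₁ c₁ d₁ a₂ b₂ c₂ d₂ h1 h2 h3 h4 h5 h6 k1 k2 k3 k4 k5 k6
      exact ⟨g, Prod.ext (key g _ _ _ _ _ _ hxs hys hg1 hg2) (key g _ _ _ _ _ _ hxt hyt hg3 hg4)⟩

end Cfsg.Agent.Helper23.AV
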