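import Mathlib
import Cfsg.Agent.Helper23.CMDefs
import Cfsg.Agent.Helper24.Abelian
import Cfsg.Agent.S0058

set_option autoImplicit false

/-!
# S4756 piece CYC: an abelian `p'`-group acting fixed-point-freely on the non-trivial `p`-group `G'`
is cyclic (via S0058)
-/

namespace Cfsg.Agent.Helper23.CM

open Cfsg Cfsg.Agent.Helper24

universe u

variable {G : Type u} [Group G] [Finite G]

/-- FW9b -/
theorem isCyclic_of_fpf (p : ℕ) (hp : p.Prime) (A : Subgroup G)
    (hAab : ∀ a ∈ A, ∀ b ∈ A, a * b = b * a) (hcop : (Nat.card ↥A).Coprime p)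
    (hP : IsPGroup p ↥(commutator G)) (hne : commutator G ≠ ⊥)
    (hfpf : ∀ a ∈ A, a ≠ 1 → ∀ n ∈ commutator G, a * n = n * a → n = 1) :
    IsCyclic ↥A := by
  by_contra hcyc
  have : Fact p.Prime := ⟨hp⟩
  have inst : IsMulCommutative ↥A := ⟨⟨fun a b => Subtype.ext (hAab a a.2 b b.2)⟩⟩
  have hAK : A ≤ Subgroup.normalizer ((commutator G : Subgroup G) : Set G) := by
    rw [Subgroup.normalizer_eq_top]; exact le_top
  have hcop' : (Nat.card ↥A).Coprime (Nat.card ↥(commutator G)) := by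
    obtain ⟨k, hk⟩ := IsPGroup.iff_card.1 hP
    rw [hk]
    exact Nat.Coprime.pow_right k hcop
  have key := Cfsg.Agent.S0058.result A (commutator G) hcyc hAK hcop'
  apply hne
  rw [← key, eq_bot_iff]
  apply iSup₂_le
  intro a ha
  rintro n ⟨hn1, hn2⟩
  rw [Subgroup.mem_bot]
  apply hfpf a ha.1 ha.2 n hn1
  have hn2' : n ∈ Subgroup.centralizer ({a} : Set G) := hn2
  rw [Subgroup.mem_centralizer_iff] at hn2'
  exact hn2' a (Set.mem_singleton a)

end Cfsg.Agent.Helper23.CM
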