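import Mathlib
import Cfsg.Prelude.Def_GeometricClasses
import Cfsg.Agent.Helper21.S5949IRR

set_option autoImplicit false
set_option linter.style.haveILetI false

/-! S5976 piece EVENDIM: subspaces invariant under a quadratic field subalgebra have even
dimension. -/

namespace Cfsg.Agent.S5976P

open Polynomial

/-- EVENDIM -/
theorem even_finrank_of_invariant {F : Type*} [Field F] (d : ℕ)
    (K : Subalgebra F (Matrix (Fin d ⊕ Fin d) (Fin d ⊕ Fin d) F)) (hK : Cfsg.Geo.IsFieldSubalgebra 2 K)
    (W : Submodule F (Fin d ⊕ Fin d → F)) (hW : ∀ k ∈ K, ∀ w ∈ W, k.mulVec w ∈ W) :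
    Even (Module.finrank F W) := by
  classical
  have hfin : Module.finrank F K = 2 := hK.finrank_eq
  haveI : Module.Finite F K := Module.finite_of_finrank_pos (by rw [hfin]; norm_num)
  haveI : Nontrivial K := Module.nontrivial_of_finrank_pos (R := F) (by rw [hfin]; norm_num)
  -- `K` is a domain
  haveI : NoZeroDivisors K := ⟨by
    intro x y hxy
    by_cases hx : x = 0
    · exact Or.inl hx
    · right
      have hx' : (x : Matrix (Fin d ⊕ Fin d) (Fin d ⊕ Fin d) F) ≠ 0 := fun h => hx (Subtype.ext h)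
      obtain ⟨x', hx'K, hxx'⟩ := hK.inv x x.2 hx'
      have hcomm := hK.comm x x.2 x' hx'K
      have h1 : (⟨x', hx'K⟩ : K) * x = 1 := by
        apply Subtype.ext
        show x' * (x : Matrix (Fin d ⊕ Fin d) (Fin d ⊕ Fin d) F) = 1
        rw [← hcomm]; exact hxx'
      calc y = (⟨x', hx'K⟩ : K) * x * y := by rw [h1, one_mul]
        _ = 0 := by rw [mul_assoc, hxy, mul_zero]⟩
  haveI : IsDomain K := NoZeroDivisors.to_isDomain K
  -- a non-scalar element
  obtain ⟨ι, hι⟩ : ∃ ι : K, ι ∉ (algebraMap F K).range := by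
    by_contra hall
    push Not at hall
    have hsurj : Function.Surjective (Algebra.linearMap F K) := fun x => by
      obtain ⟨a, ha⟩ := hall x
      exact ⟨a, ha⟩
    have := LinearMap.finrank_le_finrank_of_surjective hsurj  -- hmm direction
    rw [hfin, Module.finrank_self] at this
    omega
  have hint : IsIntegral F ι := IsIntegral.of_finite F ι
  set g := minpoly F ι with hg
  have hirr : Irreducible g := minpoly.irreducible hint
  have hmon : g.Monic := minpoly.monic hint
  have hdeg : g.natDegree = 2 := by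
    have h1 : 2 ≤ g.natDegree := (minpoly.two_le_natDegree_iff hint).mpr hι
    have h2 : g.natDegree ≤ 2 := by rw [← hfin]; exact minpoly.natDegree_le ι
    omega
  -- `g (toLin' ι) = 0`
  have hgι : aeval (ι : Matrix (Fin d ⊕ Fin d) (Fin d ⊕ Fin d) F) g = 0 := by
    have h1 : aeval ι g = 0 := minpoly.aeval F ι
    have h2 := congrArg K.val h1
    rwa [← aeval_algHom_apply, map_zero] at h2
  have hgT : aeval (Matrix.toLin' (ι : Matrix (Fin d ⊕ Fin d) (Fin d ⊕ Fin d) F)) g = 0 := by
    have h2 := congrArg (Matrix.toLinAlgEquiv' (R := F) (n := Fin d ⊕ Fin d)) hgι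
    rw [← aeval_algHom_apply, map_zero] at h2
    exact h2
  obtain ⟨-, hinv, -, -⟩ := Cfsg.Agent.S5949P.irr_module
    (Matrix.toLin' (ι : Matrix (Fin d ⊕ Fin d) (Fin d ⊕ Fin d) F)) g hirr hmon hgT
  have hWinv : W.map (Matrix.toLin' (ι : Matrix (Fin d ⊕ Fin d) (Fin d ⊕ Fin d) F)) ≤ W := by
    rintro _ ⟨w, hw, rfl⟩
    rw [Matrix.toLin'_apply]
    exact hW ι ι.2 w hw
  have := hinv W hWinv
  rw [hdeg] at this
  exact even_iff_two_dvd.mpr this

end Cfsg.Agent.S5976P
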