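import Mathlib
import Cfsg.Prelude.Def_GeometricClasses
import Cfsg.Prelude.Def_Classical
import Cfsg.Prelude.Def_LieClassical
import Cfsg.Agent.Helper6.S5992Defs
import Cfsg.Agent.Helper8.S5992DVDC
import Cfsg.Agent.Helper15.S5992NT
import Cfsg.Agent.Helper3.SingCount

/-!
# S5992 piece NTYPEEVEN (helper3): the Witt type of a nondegenerate `y`-invariant subspace without
nonzero fixed vectors, when `i = ord_r(q)` is even.
-/

set_option autoImplicit false
open scoped MatrixGroups
universe u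

namespace Cfsg.Agent.S5992P

open Cfsg.Agent.Helper2.SympInvol Cfsg.Agent.Helper2.SympUnits Cfsg.Agent.S5961P Cfsg.Agent.S2614
  Cfsg.Agent.S5955P

namespace NTYPEEVEN

/-- `y` permutes the nonzero singular vectors of an invariant subspace `M` without nonzero fixed
vectors in orbits of length `r` -/
theorem r_dvd_card_singular_sub {F V : Type*} [Field F] [Fintype F] [AddCommGroup V] [Module F V]
    [FiniteDimensional F V] (r : ℕ) [Fact r.Prime] (Q : QuadraticForm F V) (y : Module.End F V)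
    (h : IsYO Q y r) (M : Submodule F V) (hM : M.map y ≤ M)
    (hfix : M ⊓ LinearMap.ker (y - 1) = ⊥) :
    r ∣ Nat.card {w : M // w ≠ 0 ∧ Q (w : V) = 0} := by
  classical
  have hr : r.Prime := Fact.out
  have : Finite V := Module.finite_of_finite F
  have : Fintype {w : M // w ≠ 0 ∧ Q (w : V) = 0} := Fintype.ofFinite _
  have hr1 : r - 1 + 1 = r := Nat.sub_add_cancel hr.one_le
  have hleft : ∀ v : V, (y ^ (r - 1)) (y v) = v := by
    intro v
    rw [← Module.End.mul_apply, ← pow_succ, hr1, h.pow, Module.End.one_apply]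
  have hinj : Function.Injective y := by
    intro v w hvw
    rw [← hleft v, ← hleft w, hvw]
  have hMy : ∀ v ∈ M, y v ∈ M := fun v hv => hM (Submodule.mem_map_of_mem hv)
  let f : {w : M // w ≠ 0 ∧ Q (w : V) = 0} → {w : M // w ≠ 0 ∧ Q (w : V) = 0} := fun v =>
    ⟨⟨y (v.1 : V), hMy _ v.1.2⟩, fun h0 => v.2.1 (by
      have h1 : y (v.1 : V) = 0 := congrArg Subtype.val h0
      have h2 : (v.1 : V) = 0 := hinj (by rw [h1, map_zero])
      exact Subtype.ext h2), by
      show Q (y (v.1 : V)) = 0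
      rw [h.isom]; exact v.2.2⟩
  let σ : Function.End {w : M // w ≠ 0 ∧ Q (w : V) = 0} := f
  have hσk : ∀ (k : ℕ) (v : {w : M // w ≠ 0 ∧ Q (w : V) = 0}),
      (((σ ^ k) v).1 : V) = (y ^ k) (v.1 : V) := by
    intro k
    induction k with
    | zero => intro v; rfl
    | succ k ih =>
      intro v
      rw [pow_succ', pow_succ', Module.End.mul_apply, ← ih v]
      rfl
  have hσr : σ ^ r ^ 1 = 1 := by
    rw [pow_one]
    funext v
    apply Subtype.ext
    apply Subtype.ext
    rw [hσk, h.pow, Module.End.one_apply]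
    rfl
  have hmod := Equiv.Perm.card_fixedPoints_modEq (p := r) (n := 1) hσr
  have hfixempty : Fintype.card (Function.fixedPoints σ) = 0 := by
    rw [Fintype.card_eq_zero_iff]
    constructor
    rintro ⟨v, hv⟩
    have hv' : σ v = v := hv
    have hyv : y (v.1 : V) = (v.1 : V) := congrArg (fun t => ((t.1 : M) : V)) hv'
    have hker : (v.1 : V) ∈ M ⊓ LinearMap.ker (y - 1) := by
      refine ⟨v.1.2, ?_⟩
      show (v.1 : V) ∈ LinearMap.ker (y - 1)
      rw [LinearMap.mem_ker, LinearMap.sub_apply, hyv, Module.End.one_apply, sub_self]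
    rw [hfix, Submodule.mem_bot] at hker
    exact v.2.1 (Subtype.ext hker)
  rw [hfixempty] at hmod
  rw [Nat.card_eq_fintype_card]
  exact (Nat.modEq_zero_iff_dvd).1 hmod

end NTYPEEVEN

/-- NTYPEEVEN -/
theorem plus_iff_even_of_fpf {F V : Type*} [Field F] [Fintype F] [AddCommGroup V] [Module F V]
    [FiniteDimensional F V] {p : ℕ} [Fact p.Prime] [CharP F p] (r : ℕ) [Fact r.Prime]
    (hr2 : r ≠ 2) (hrp : r ≠ p) (h2 : (2 : F) ≠ 0) (Q : QuadraticForm F V)
    (y : Module.End F V) (hY : IsYO Q y r)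
    (hi : Even (orderOf ((Fintype.card F : ℕ) : ZMod r))) (M : Submodule F V)
    (hM : M.map y ≤ M) (hMnd : Nondeg (PB Q) M) (hfix : M ⊓ LinearMap.ker (y - 1) = ⊥) :
    Plus Q M ↔ Even (Module.finrank F M / orderOf ((Fintype.card F : ℕ) : ZMod r)) := by
  classical
  have hr : r.Prime := Fact.out
  have hp : p.Prime := Fact.out
  set i := orderOf ((Fintype.card F : ℕ) : ZMod r) with hidef
  have hcc : cc F r = i := by
    rw [cc_def, if_pos hi]
  have hdvd := cc_dvd_of_fpf r hr2 hrp h2 Q y hY M hM hMnd hfix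
  rw [hcc] at hdvd
  -- `r ∤ q`
  have hrq : ¬ r ∣ Fintype.card F := by
    obtain ⟨⟨f, hf0⟩, _, hcard⟩ := FiniteField.card F p
    rw [hcard]
    intro hdv
    have := (Nat.prime_dvd_prime_iff_eq hr hp).1 (hr.dvd_of_dvd_pow hdv)
    exact hrp this
  -- `i > 0`
  have hi0 : 0 < i := by
    have hunit : ((Fintype.card F : ℕ) : ZMod r) ≠ 0 := by
      intro h0
      exact hrq ((ZMod.natCast_eq_zero_iff _ _).1 h0)
    have hpow := ZMod.pow_card_sub_one_eq_one hunit
    have hd : i ∣ r - 1 := orderOf_dvd_of_pow_eq_one hpow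
    have hr1 : 0 < r - 1 := by have := hr.two_le; omega
    exact Nat.pos_of_dvd_of_pos hd hr1
  have hq2 : 2 ≤ Fintype.card F := Fintype.one_lt_card
  obtain ⟨a, ha⟩ := hdvd
  have hdiv : Module.finrank F M / i = a := by
    rw [ha, Nat.mul_div_cancel_left _ hi0]
  rw [hdiv]
  by_cases ha0 : a = 0
  · -- `M = ⊥`
    subst ha0
    rw [mul_zero] at ha
    have hMbot : M = ⊥ := Submodule.finrank_eq_zero.1 ha
    rw [hMbot]
    exact ⟨fun _ => ⟨0, rfl⟩, fun _ => plus_bot Q⟩
  · have ha1 : 1 ≤ a := Nat.one_le_iff_ne_zero.2 ha0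
    obtain ⟨i₂, hi₂⟩ := hi
    have hi₂0 : 0 < i₂ := by omega
    have hD1 : 1 ≤ i₂ * a := Nat.mul_pos hi₂0 ha1
    have hfr : Module.finrank F M = 2 * (i₂ * a) := by rw [ha, hi₂]; ring
    have hhalf : i * a / 2 = i₂ * a := by
      rw [hi₂]
      have : (i₂ + i₂) * a = 2 * (i₂ * a) := by ring
      rw [this, Nat.mul_div_cancel_left _ (by norm_num : 0 < 2)]
    obtain ⟨hplus, hminus⟩ := Cfsg.Agent.Helper3.SingCount.card_nonzero_singular_sub Q M hMnd
      (i₂ * a) hfr
    have horb := NTYPEEVEN.r_dvd_card_singular_sub r Q y hY M hM hfix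
    obtain ⟨hev, hodd⟩ := nt_sing_even (q := Fintype.card F) (r := r) hr2 hq2 i hidef hi0
      ⟨i₂, hi₂⟩ a ha1
    rw [hhalf] at hev hodd
    constructor
    · intro hP
      rw [hplus hP] at horb
      by_contra hne
      exact hodd (Nat.not_even_iff_odd.1 hne) horb
    · intro hE
      by_contra hP
      rw [hminus hP] at horb
      exact hev hE horb

end Cfsg.Agent.S5992P
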