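import Mathlib
import Cfsg.Prelude.Def_GeometricClasses
import Cfsg.Prelude.Def_Classical
import Cfsg.Prelude.Def_LieClassical
import Cfsg.Agent.Helper27.S5989Defs

/-!
# S5989 piece NTCOUNTODD (helper3): pure number theory, from `r ∣ X`, `X * S = |O^ε_{2d}(q)|`
and `|O_{2l+1}(q)| ∣ S` to `r ∣ wk ε q d m`.
-/

set_option autoImplicit false
open scoped MatrixGroups
universe u

namespace Cfsg.Agent.S5989P

namespace NTCOUNTODD

/-- splitting the product over `range (d - 1)` at `l` -/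
theorem prod_split (f : ℕ → ℕ) (l d : ℕ) (hld : l + 1 ≤ d) :
    ∏ j ∈ Finset.range (d - 1), f (j + 1) =
      (∏ j ∈ Finset.range l, f (j + 1)) * ∏ j ∈ Finset.Ico (l + 1) d, f j := by
  have h1 : ∏ j ∈ Finset.range (d - 1), f (j + 1) = ∏ j ∈ Finset.Ico 1 d, f j := by
    rw [Finset.prod_Ico_eq_prod_range]
    apply Finset.prod_congr rfl
    intro j _
    rw [add_comm]
  have h2 : ∏ j ∈ Finset.range l, f (j + 1) = ∏ j ∈ Finset.Ico 1 (l + 1), f j := by
    rw [Finset.prod_Ico_eq_prod_range]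
    apply Finset.prod_congr rfl
    intro j _
    rw [add_comm]
  rw [h1, h2]
  exact (Finset.prod_Ico_consecutive f (by omega) hld).symm

end NTCOUNTODD

/-- NTCOUNTODD (pure number theory) -/
theorem nt_count_odd {q r : ℕ} [Fact r.Prime] (hr2 : r ≠ 2) (hrq : ¬ r ∣ q) (hq : 2 ≤ q)
    (ε : Bool) (d m l X S : ℕ) (hm : Odd m) (hmd : m < d) (hl : m + (2 * l + 1) = 2 * d)
    (hXS : X * S = ordO ε q d)
    (hS : (2 * q ^ (l ^ 2) * ∏ j ∈ Finset.range l, (q ^ (2 * (j + 1)) - 1)) ∣ S)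
    (hrX : r ∣ X) : r ∣ wk ε q d m := by
  have hr : r.Prime := Fact.out
  obtain ⟨k, hk⟩ := hm
  have hk' : (m - 1) / 2 = k := by omega
  have hdl : d - (m - 1) / 2 = l + 1 := by omega
  have hld : l + 1 ≤ d := by omega
  unfold wk
  rw [hdl]
  unfold ordO at hXS
  rw [NTCOUNTODD.prod_split (fun j => q ^ (2 * j) - 1) l d hld] at hXS
  set P := ∏ j ∈ Finset.range l, (q ^ (2 * (j + 1)) - 1) with hP
  set T := ∏ j ∈ Finset.Ico (l + 1) d, (q ^ (2 * j) - 1) with hT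
  have hPpos : 0 < P := by
    apply Finset.prod_pos
    intro j _
    have : 1 < q ^ (2 * (j + 1)) := Nat.one_lt_pow (by omega) (by omega)
    omega
  obtain ⟨S', hS'⟩ := hS
  rw [hS'] at hXS
  have h1 : (2 * P) * (X * q ^ (l ^ 2) * S') =
      (2 * P) * (q ^ (d * (d - 1)) * (epsFac ε q d * T)) := by
    calc (2 * P) * (X * q ^ (l ^ 2) * S') = X * (2 * q ^ l ^ 2 * P * S') := by ring
      _ = 2 * q ^ (d * (d - 1)) * epsFac ε q d * (P * T) := hXS
      _ = (2 * P) * (q ^ (d * (d - 1)) * (epsFac ε q d * T)) := by ring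
  have h2 : X * q ^ (l ^ 2) * S' = q ^ (d * (d - 1)) * (epsFac ε q d * T) :=
    Nat.eq_of_mul_eq_mul_left (by positivity) h1
  have h3 : r ∣ q ^ (d * (d - 1)) * (epsFac ε q d * T) := by
    rw [← h2]
    exact Dvd.dvd.mul_right (Dvd.dvd.mul_right hrX _) _
  rcases hr.dvd_mul.1 h3 with h4 | h4
  · exact absurd (hr.dvd_of_dvd_pow h4) hrq
  · exact h4

end Cfsg.Agent.S5989P
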