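import Mathlib
import Cfsg.Agent.Helper26.S1237Defs
import Cfsg.Agent.Helper15.S2933Defs
import Cfsg.Agent.Helper15.S2933IND

/-! S1237 board, piece ABEL: the abelian case, via S2933 `IND` with `τ` = inversion. -/

set_option autoImplicit false

namespace Cfsg.Agent.S1237P

open Cfsg.Agent.S1237P

/-- inversion as an automorphism of a commutative group -/
def ABEL_aux_inv {T : Type*} [Group T] (hab : ∀ x y : T, x * y = y * x) : MulAut T where
  toFun x := x⁻¹
  invFun x := x⁻¹
  left_inv x := inv_inv x
  right_inv x := inv_inv x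
  map_mul' x y := by rw [mul_inv_rev, hab]

theorem ABEL_aux_inv_apply {T : Type*} [Group T] (hab : ∀ x y : T, x * y = y * x) (x : T) :
    ABEL_aux_inv hab x = x⁻¹ := rfl

/-- ABEL: the abelian case (S2933 `IND` with `τ` = inversion). -/
theorem ABEL {T : Type*} [Group T] [Finite T] (hT : IsPGroup 2 T) {V : Subgroup T} {ρ : MulAut T}
    (c : Ctx V ρ) (hρ : orderOf ρ = 3) (hab : ∀ x y : T, x * y = y * x) :
    ∃ n : ℕ, 1 ≤ n ∧ Nonempty (T ≃* Multiplicative (ZMod (2 ^ n) × ZMod (2 ^ n))) := by
  have hρ3 : ρ ^ 3 = 1 := by rw [← hρ]; exact pow_orderOf_eq_one ρ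
  have hcube : ∀ x, ρ (ρ (ρ x)) = x := by
    intro x
    have := congrArg (fun f : MulAut T => f x) hρ3
    simpa [pow_succ, MulAut.mul_apply] using this
  have hfix : ∀ k : ℕ, ∀ v : T, ρ v = v → (ρ ^ k) v = v := by
    intro k v hv
    induction k with
    | zero => simp
    | succ k ih => rw [pow_succ, MulAut.mul_apply, hv, ih]
  have hP : Cfsg.Agent.S2933P.PData (ABEL_aux_inv hab) ρ V := by
    refine ⟨?_, hcube, ?_, c.central, c.card, ?_, ?_, ?_, ?_⟩
    · intro x
      rw [ABEL_aux_inv_apply, ABEL_aux_inv_apply, inv_inv]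
    · intro x
      rw [ABEL_aux_inv_apply, ABEL_aux_inv_apply, map_inv]
    · intro v hv
      exact (c.mem v).mp hv
    · intro x
      rw [ABEL_aux_inv_apply, c.mem x]
      constructor
      · intro h
        calc x * x = x⁻¹ * x := by rw [h]
          _ = 1 := inv_mul_cancel x
      · intro h
        exact inv_eq_of_mul_eq_one_left h
    · intro v hv
      rw [c.mem] at hv ⊢
      rw [← map_mul, hv, map_one]
    · intro v hv hρv
      by_contra hv1
      -- a third element of `V`
      have hex : ∃ t ∈ V, t ≠ 1 ∧ t ≠ v := by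
        by_contra hcon
        push Not at hcon
        have hsub : (V : Set T) ⊆ {1, v} := by
          intro t ht
          by_cases h1 : t = 1
          · left; exact h1
          · right; exact hcon t ht h1
        have hcard : Nat.card V ≤ 2 := by
          have hfin : ({1, v} : Set T).Finite := Set.toFinite _
          calc Nat.card V = (V : Set T).ncard := by
                rw [← Nat.card_coe_set_eq]; rfl
            _ ≤ ({1, v} : Set T).ncard := Set.ncard_le_ncard hsub hfin
            _ ≤ ({v} : Set T).ncard + 1 := Set.ncard_insert_le 1 {v}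
            _ = 2 := by rw [Set.ncard_singleton]
        rw [c.card] at hcard
        omega
      obtain ⟨t, ht, ht1, htv⟩ := hex
      obtain ⟨k, hk⟩ := c.trans v hv t ht hv1 ht1
      rw [hfix k v hρv] at hk
      exact htv hk.symm
  rcases Cfsg.Agent.S2933P.IND hT hP with h | h | h
  · exfalso
    -- every element is in `V`, so `|T| = 4`
    have htop : V = ⊤ := by
      rw [eq_top_iff]
      intro x _
      exact (c.mem x).mpr (h.2 x)
    have : Nat.card T = 4 := by
      rw [← c.card, htop]
      exact (Nat.card_congr Subgroup.topEquiv.toEquiv).symm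
    omega
  · obtain ⟨n, hn, ⟨e⟩⟩ := h
    exact ⟨n, hn, ⟨e.trans (MulEquiv.prodMultiplicative (G := ZMod (2 ^ n)) (H := ZMod (2 ^ n))).symm⟩⟩
  · exfalso
    exact h.2 ⟨⟨fun x y => hab x y⟩⟩

end Cfsg.Agent.S1237P
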