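import Mathlib
import Cfsg.Agent.Helper26.S4395Defs
import Cfsg.Agent.Helper29.S4394GSa
import Cfsg.Agent.S0132

/-!
# S4395 piece NF1 (helper3): Ito (S0132) + Schmidt (via GSa): a minimal non-`p`-nilpotent group of
order `p^t q^r` is `P ⋊ ⟨y⟩` with `SchData p P y`, `|y| = q^r`, `y^q` centralizing `P`.
-/

set_option autoImplicit false

namespace Cfsg.Agent.S4395P

open Cfsg Subgroup Cfsg.Agent.S4394P Cfsg.Agent.Helper29

/-- arithmetic: `p^n * q₀^k = p^t * q^r` with `p ≠ q`, `p ≠ q₀`, `k ≥ 1` forces `q₀ = q`, `k = r`. -/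
theorem NF1_aux_arith {p q q₀ n k t r : ℕ} (hp : p.Prime) (hq : q.Prime) (hq₀ : q₀.Prime)
    (hpq : p ≠ q) (hpq₀ : q₀ ≠ p) (hk : k ≠ 0) (h : p ^ n * q₀ ^ k = p ^ t * q ^ r) :
    q₀ = q ∧ k = r := by
  have h1 : q₀ ∣ p ^ t * q ^ r := by
    rw [← h]; exact Dvd.dvd.mul_left (dvd_pow_self q₀ hk) _
  have hq₀q : q₀ = q := by
    rcases (Nat.Prime.dvd_mul hq₀).mp h1 with h2 | h2
    · exact absurd ((Nat.prime_dvd_prime_iff_eq hq₀ hp).mp (hq₀.dvd_of_dvd_pow h2)) hpq₀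
    · exact (Nat.prime_dvd_prime_iff_eq hq₀ hq).mp (hq₀.dvd_of_dvd_pow h2)
  subst hq₀q
  refine ⟨rfl, ?_⟩
  have hcop : ∀ a b : ℕ, Nat.Coprime (p ^ a) (q₀ ^ b) := fun a b =>
    Nat.Coprime.pow a b ((Nat.coprime_primes hp hq₀).mpr hpq)
  -- q₀^k ∣ q₀^r and q₀^r ∣ q₀^k
  have d1 : q₀ ^ k ∣ q₀ ^ r := by
    have : q₀ ^ k ∣ p ^ t * q₀ ^ r := by rw [← h]; exact dvd_mul_left _ _
    exact (hcop t k).symm.dvd_of_dvd_mul_left this
  have d2 : q₀ ^ r ∣ q₀ ^ k := by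
    have : q₀ ^ r ∣ p ^ n * q₀ ^ k := by rw [h]; exact dvd_mul_left _ _
    exact (hcop n r).symm.dvd_of_dvd_mul_left this
  have e := Nat.dvd_antisymm d1 d2
  exact Nat.pow_right_injective hq₀.two_le e

/-- NF1 (M/L): Ito (S0132) + Schmidt: adapt `Cfsg/Agent/Helper29/S4394GSa.lean`. -/
theorem NF1 (p q r : ℕ) [Fact p.Prime] [Fact q.Prime] (hpq : p ≠ q)
    {X : Type*} [Group X] [Finite X] (hX : MNP p X) (t : ℕ) (hcard : Nat.card X = p ^ t * q ^ r) :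
    ∃ (P : Subgroup X) (y : X), Cfsg.IsMinimalNonNilpotent X ∧ P.Normal ∧ SchData p P y ∧
      Nat.card X = Nat.card P * q ^ r ∧ orderOf y = q ^ r ∧
      (∀ x : X, ∃ u ∈ P, ∃ i : ℕ, x = u * y ^ i) ∧ (∀ u ∈ P, y ^ q * u = u * y ^ q) := by
  classical
  have hpp : p.Prime := Fact.out
  have hqp : q.Prime := Fact.out
  obtain ⟨hprop, hnn, hsyl⟩ := Cfsg.Agent.S0132.result (p := p) hX.1 hX.2
  have hmnn : Cfsg.IsMinimalNonNilpotent X := ⟨hnn, hprop⟩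
  obtain ⟨P⟩ : Nonempty (Sylow p X) := inferInstance
  have hPn : (P : Subgroup X).Normal := hsyl P
  -- P ≠ ⊥: otherwise ⊤ is a normal p-complement
  have hP1 : (P : Subgroup X) ≠ ⊥ := by
    intro hbot
    apply hX.1
    refine ⟨P, ⊤, inferInstance, ?_⟩
    rw [hbot]
    exact Subgroup.isComplement'_top_bot
  obtain ⟨y, q₀, hq₀, hq₀p, ⟨k, hordy⟩, hyq, hs⟩ := GSa p hmnn P hPn hP1
  have : Fact q₀.Prime := ⟨hq₀⟩
  -- y ≠ 1, so k ≠ 0
  have hk0 : k ≠ 0 := by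
    rintro rfl
    rw [pow_zero, orderOf_eq_one_iff] at hordy
    obtain ⟨u, _, hu⟩ := hs.nc
    rw [hordy] at hu
    simp at hu
  have hYpg : IsPGroup q₀ (Subgroup.zpowers y) := by
    rw [IsPGroup.iff_card]
    exact ⟨k, by rw [Nat.card_zpowers, hordy]⟩
  -- P ⊔ ⟨y⟩ = ⊤
  have htop : (P : Subgroup X) ⊔ Subgroup.zpowers y = ⊤ := by
    by_contra hne
    have hnil : Group.IsNilpotent ↥((P : Subgroup X) ⊔ Subgroup.zpowers y) := hprop _ hne
    obtain ⟨u, hu, hne'⟩ := hs.nc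
    have := commute_of_nilpotent_of_pgroups hnil (le_sup_left : (P : Subgroup X) ≤ _)
      (le_sup_right : Subgroup.zpowers y ≤ _) (Ne.symm hq₀p) P.isPGroup' hYpg u hu y
      (Subgroup.mem_zpowers y)
    exact hne' this.symm
  have hdis : Disjoint (Subgroup.zpowers y) (P : Subgroup X) :=
    IsPGroup.disjoint_of_ne q₀ p hq₀p _ _ hYpg P.isPGroup'
  have hcard2 : Nat.card (Subgroup.zpowers y) * Nat.card (P : Subgroup X) = Nat.card X := by
    haveI : (P : Subgroup X).Normal := hPn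
    exact card_mul_card_of_sup_eq_top hdis (by rw [sup_comm]; exact htop)
  obtain ⟨n, hn⟩ := IsPGroup.iff_card.mp P.isPGroup'
  have harith : p ^ n * q₀ ^ k = p ^ t * q ^ r := by
    rw [← hcard, ← hcard2, Nat.card_zpowers, hordy, hn, mul_comm]
  obtain ⟨hqq, hkr⟩ := NF1_aux_arith hpp hqp hq₀ hpq hq₀p hk0 harith
  subst hqq
  subst hkr
  refine ⟨(P : Subgroup X), y, hmnn, hPn, hs, ?_, hordy, ?_, hyq⟩
  · rw [← hcard2, Nat.card_zpowers, hordy, mul_comm]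
  · intro x
    have hx : x ∈ (P : Subgroup X) ⊔ Subgroup.zpowers y := htop ▸ Subgroup.mem_top x
    haveI : (P : Subgroup X).Normal := hPn
    obtain ⟨u, hu, s, hs', hus⟩ := Subgroup.mem_sup_of_normal_left.mp hx
    have hfin : IsOfFinOrder y := isOfFinOrder_of_finite y
    have hs'' : s ∈ Submonoid.powers y := (hfin.mem_powers_iff_mem_zpowers).mpr hs'
    obtain ⟨i, hi⟩ := Submonoid.mem_powers_iff _ _ |>.mp hs''
    exact ⟨u, hu, i, by rw [hi, hus]⟩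

end Cfsg.Agent.S4395P
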