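import Mathlib
import Cfsg.Prelude.Def_Classical
import Cfsg.Prelude.Def_FusionComponents
import Cfsg.Agent.Helper26.S5320.Defs
import Cfsg.Agent.Helper22.S5320CENTQ
import Cfsg.Agent.Helper20.S5320QUATB
import Cfsg.Agent.S0261
import Cfsg.Agent.Helper2.SL2Sylow

/-! S5320 piece NORMQ (helper3): a Sylow 2-subgroup of order at least 16 of `SL₂(F)` is self-normalizing. -/

set_option autoImplicit false
set_option linter.unusedSectionVars false
set_option linter.unusedVariables false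

namespace Cfsg.Agent.S5320P

open Matrix

variable {F : Type*} [Field F]

namespace NORMQ

theorem two_ne_zero_of_odd [Fintype F] (hodd : Fintype.card F % 2 = 1) : (2 : F) ≠ 0 := by
  intro h
  have h1 : ringChar F = 2 := CharP.ringChar_of_prime_eq_zero Nat.prime_two (by exact_mod_cast h)
  have := FiniteField.even_card_of_char_two h1
  omega

theorem neg_one_ne_one [Fintype F] (hodd : Fintype.card F % 2 = 1) : (-1 : L F) ≠ 1 := by
  intro h
  have h2 := two_ne_zero_of_odd hodd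
  have := congrArg (fun g : L F => (g : Matrix (Fin 2) (Fin 2) F) 0 0) h
  simp only [Matrix.SpecialLinearGroup.coe_neg, Matrix.SpecialLinearGroup.coe_one, Matrix.neg_apply,
    Matrix.one_apply_eq] at this
  apply h2
  linear_combination -this

end NORMQ

/-- NORMQ -/
theorem NORMQ.le [Fintype F] (hodd : Fintype.card F % 2 = 1) (h16 : 16 ∣ Fintype.card F ^ 2 - 1)
    (Q : Sylow 2 (L F)) :
    Subgroup.normalizer ((Q : Subgroup (L F)) : Set (L F)) ≤ (Q : Subgroup (L F)) := by
  classical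
  have : Fact (Nat.Prime 2) := ⟨Nat.prime_two⟩
  intro u hu
  obtain ⟨k, hk1, ⟨φ⟩⟩ := Cfsg.Agent.S0261.result (Nat.odd_iff.mpr hodd) Q
  -- `k ≥ 2`
  have hk : 2 ≤ k := by
    have hcardL : (2 : ℕ) ^ 4 ∣ Nat.card (L F) := by
      rw [Cfsg.Agent.Helper2.SL2.card_SL2]
      exact Dvd.dvd.mul_left (by simpa using h16) _
    have hQ := Q.pow_dvd_card_of_pow_dvd_card hcardL
    have hcardQ : Nat.card (Q : Subgroup (L F)) = 4 * 2 ^ k := by
      rw [Nat.card_congr φ.toEquiv, Nat.card_eq_fintype_card, QuaternionGroup.card]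
    rw [hcardQ] at hQ
    by_contra hlt
    have : k = 0 ∨ k = 1 := by omega
    rcases this with rfl | rfl <;> norm_num at hQ
  -- the odd part of `u`
  obtain ⟨e, m, hm, ho⟩ : ∃ e m : ℕ, Odd m ∧ orderOf u = 2 ^ e * m :=
    Nat.exists_eq_two_pow_mul_odd (orderOf_pos u).ne'
  have hbN : u ^ 2 ^ e ∈ Subgroup.normalizer ((Q : Subgroup (L F)) : Set (L F)) :=
    Subgroup.pow_mem _ hu _
  have hbm : (u ^ 2 ^ e) ^ m = 1 := by rw [← pow_mul, ← ho, pow_orderOf_eq_one]
  set α : MulAut (Q : Subgroup (L F)) := (Q : Subgroup (L F)).normalizerMonoidHom ⟨u ^ 2 ^ e, hbN⟩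
    with hα
  have hαm : α ^ m = 1 := by
    rw [hα, ← map_pow]
    have : (⟨u ^ 2 ^ e, hbN⟩ : Subgroup.normalizer ((Q : Subgroup (L F)) : Set (L F))) ^ m = 1 :=
      Subtype.ext hbm
    rw [this, map_one]
  have hα1 : α = 1 := by
    have h1 : (MulAut.congr φ α) ^ m = 1 := by rw [← map_pow, hαm, map_one]
    have h2 := QUATB.odd_aut hk (MulAut.congr φ α) m hm h1
    exact (EmbeddingLike.map_eq_one_iff (f := MulAut.congr φ)).mp h2
  -- `u ^ 2 ^ e` centralizes `Q`
  have hbc : ∀ c ∈ (Q : Subgroup (L F)), u ^ 2 ^ e * c = c * u ^ 2 ^ e := by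
    intro c hc
    have h1 : α ⟨c, hc⟩ = ⟨c, hc⟩ := by rw [hα1]; rfl
    have h2 := congrArg Subtype.val h1
    rw [hα, Subgroup.normalizerMonoidHom_apply_apply_coe] at h2
    exact mul_inv_eq_iff_eq_mul.mp h2
  have hb1 : u ^ 2 ^ e = 1 := by
    rcases CENTQ.eq hodd Q (u ^ 2 ^ e) hbc with h | h
    · exact h
    · exfalso
      rw [h, Odd.neg_one_pow hm] at hbm
      exact NORMQ.neg_one_ne_one hodd hbm
  -- `u` is a `2`-element normalizing `Q`
  have hzp : IsPGroup 2 (Subgroup.zpowers u) := by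
    obtain ⟨j, -, hj⟩ := (Nat.dvd_prime_pow Nat.prime_two).mp (orderOf_dvd_of_pow_eq_one hb1)
    exact IsPGroup.of_card (n := j) (by rw [Nat.card_zpowers, hj])
  have hle : Subgroup.zpowers u ≤ Subgroup.normalizer ((Q : Subgroup (L F)) : Set (L F)) :=
    (Subgroup.zpowers_le).mpr hu
  have hsup : IsPGroup 2 (Subgroup.zpowers u ⊔ (Q : Subgroup (L F)) : Subgroup (L F)) :=
    hzp.to_sup_of_normal_right' Q.isPGroup' hle
  have := Q.is_maximal' hsup le_sup_right
  rw [← this]
  exact Subgroup.mem_sup_left (Subgroup.mem_zpowers u)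

end Cfsg.Agent.S5320P
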