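import Mathlib
import Cfsg.Prelude.Def_Classical
import Cfsg.Prelude.Def_FusionComponents
import Cfsg.Agent.Helper26.S5320.Defs
import Cfsg.Agent.Helper22.S5320SYLQ
import Cfsg.Agent.Helper23.S5320SWMEM
import Cfsg.Agent.Helper24.S5320CENTER
import Cfsg.Agent.Helper23.S5320EMB
import Cfsg.Agent.Helper24.S5320INVOL
import Cfsg.Agent.S0261

/-! S5320 piece SC1 (helper3): a normal subgroup of `Q ≀ 2` properly containing the centre contains `t1`. -/

set_option autoImplicit false
set_option linter.unusedSectionVars false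
set_option linter.unusedVariables false

namespace Cfsg.Agent.S5320P

open Matrix

variable {F : Type*} [Field F]

namespace SC1

theorem two_ne_zero_of_odd [Fintype F] (hodd : Fintype.card F % 2 = 1) : (2 : F) ≠ 0 := by
  intro h
  have h1 : ringChar F = 2 := CharP.ringChar_of_prime_eq_zero Nat.prime_two (by exact_mod_cast h)
  have := FiniteField.even_card_of_char_two h1
  omega

theorem neg_one_inv : ((-1 : L F))⁻¹ = -1 :=
  inv_eq_of_mul_eq_one_right (by rw [neg_mul_neg, one_mul])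

/-- a nontrivial element `emb (n, 1)` of `T` with `n ∈ Q` forces `t1 ∈ T` -/
theorem of_left [Fintype F] (hodd : Fintype.card F % 2 = 1) (Q : Sylow 2 (L F))
    (T : Subgroup (Gt F)) {n : L F} (hnQ : n ∈ (Q : Subgroup (L F))) (hn1 : n ≠ 1)
    (hnT : emb (n, 1) ∈ T) : t1 ∈ T := by
  classical
  have : Fact (Nat.Prime 2) := ⟨Nat.prime_two⟩
  set N : Subgroup (L F) :=
    (Q : Subgroup (L F)) ⊓ T.comap ((emb : L F × L F →* Gt F).comp (MonoidHom.inl (L F) (L F))) with hN
  have hnN : n ∈ N := ⟨hnQ, hnT⟩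
  have hNp : IsPGroup 2 N := Q.isPGroup'.to_le inf_le_left
  have hcard : 2 ∣ Nat.card N := by
    rcases hNp.card_eq_or_dvd with h | h
    · exfalso
      have : N = ⊥ := Subgroup.eq_bot_of_card_eq N h
      rw [this, Subgroup.mem_bot] at hnN
      exact hn1 hnN
    · exact h
  obtain ⟨x, hx⟩ := exists_prime_orderOf_dvd_card' 2 hcard
  have hx2 : (x : L F) * (x : L F) = 1 := by
    have : x ^ 2 = 1 := by
      have h0 := pow_orderOf_eq_one x
      rwa [hx] at h0
    have h2 := congrArg Subtype.val this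
    rw [Subgroup.coe_pow, Subgroup.coe_one, pow_two] at h2
    exact h2
  have hx1 : (x : L F) ≠ 1 := by
    intro h
    have : x = 1 := Subtype.ext h
    rw [this, orderOf_one] at hx
    omega
  rcases INVOL.eq (two_ne_zero_of_odd hodd) (x : L F) hx2 with h | h
  · exact absurd h hx1
  · have hxT : emb ((x : L F), 1) ∈ T := x.2.2
    rw [h] at hxT
    exact hxT

/-- an element `emb (a, b)` of `T` with `a ∈ Q` non-central forces `t1 ∈ T` -/
theorem of_noncentral [Fintype F] (hodd : Fintype.card F % 2 = 1) (Q : Sylow 2 (L F))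
    (T : Subgroup (Gt F))
    (hn : ∀ t ∈ T, ∀ s ∈ SW (Q : Subgroup (L F)), s * t * s⁻¹ ∈ T)
    {a b : L F} (ha : a ∈ (Q : Subgroup (L F))) (hb : b ∈ (Q : Subgroup (L F)))
    (ha1 : a ≠ 1) (ha2 : a ≠ -1) (ht : emb (a, b) ∈ T) : t1 ∈ T := by
  have hnc : ¬ ∀ c ∈ (Q : Subgroup (L F)), a * c = c * a := fun h => by
    rcases SYLQ.center_eq hodd Q ha h with h1 | h1
    · exact ha1 h1
    · exact ha2 h1
  push Not at hnc
  obtain ⟨c, hc, hac⟩ := hnc
  have hsW : emb (c, 1) ∈ SW (Q : Subgroup (L F)) :=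
    (mem_SW_iff _ _).mpr ⟨c, hc, 1, Subgroup.one_mem _, Or.inl rfl⟩
  have h1 : emb (c, 1) * (emb (a, b))⁻¹ * (emb (c, 1))⁻¹ ∈ T := hn _ (T.inv_mem ht) _ hsW
  have h2 : emb (a, b) * (emb (c, 1) * (emb (a, b))⁻¹ * (emb (c, 1))⁻¹) ∈ T := T.mul_mem ht h1
  have e : emb (a, b) * (emb (c, 1) * (emb (a, b))⁻¹ * (emb (c, 1))⁻¹) =
      emb (a * c * a⁻¹ * c⁻¹, (1 : L F)) := by
    rw [← map_inv, ← map_inv, ← map_mul, ← map_mul, ← map_mul]
    congr 1
    ext1
    · simp [mul_assoc]
    · simp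
  rw [e] at h2
  refine of_left hodd Q T (n := a * c * a⁻¹ * c⁻¹) ?_ ?_ h2
  · exact Subgroup.mul_mem _ (Subgroup.mul_mem _ (Subgroup.mul_mem _ ha hc) (Subgroup.inv_mem _ ha))
      (Subgroup.inv_mem _ hc)
  · intro h
    apply hac
    have := congrArg (fun z => z * c * a) h
    simpa [mul_assoc] using this

/-- an element of `Q` other than `±1` -/
theorem exists_nonscalar [Fintype F] (hodd : Fintype.card F % 2 = 1) (Q : Sylow 2 (L F)) :
    ∃ c ∈ (Q : Subgroup (L F)), c ≠ 1 ∧ c ≠ -1 := by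
  classical
  obtain ⟨k, hk1, ⟨φ⟩⟩ := Cfsg.Agent.S0261.result (Nat.odd_iff.mpr hodd) Q
  have hcardQ : Nat.card (Q : Subgroup (L F)) = 4 * 2 ^ k := by
    rw [Nat.card_congr φ.toEquiv, Nat.card_eq_fintype_card, QuaternionGroup.card]
  by_contra hcon
  push Not at hcon
  have hsub : ((Q : Subgroup (L F)) : Set (L F)) ⊆ {1, -1} := by
    intro c hc
    by_cases h1 : c = 1
    · exact Or.inl h1
    · exact Or.inr (hcon c hc h1)
  have h2 : Nat.card (Q : Subgroup (L F)) ≤ 2 := by
    have : Nat.card (Q : Subgroup (L F)) = ((Q : Subgroup (L F)) : Set (L F)).ncard := rfl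
    rw [this]
    calc ((Q : Subgroup (L F)) : Set (L F)).ncard ≤ ({1, -1} : Set (L F)).ncard :=
          Set.ncard_le_ncard hsub (Set.toFinite _)
      _ ≤ 2 := by
          refine (Set.ncard_insert_le _ _).trans ?_
          rw [Set.ncard_singleton]
  have : 1 ≤ 2 ^ k := Nat.one_le_two_pow
  omega

end SC1

/-- SC1 -/
theorem SC1.t1_mem [Fintype F] (hodd : Fintype.card F % 2 = 1) (Q : Sylow 2 (L F))
    (T : Subgroup (Gt F)) (hZT : Subgroup.center (Gt F) ≤ T) (hT : T ≤ SW (Q : Subgroup (L F)))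
    (hn : ∀ t ∈ T, ∀ s ∈ SW (Q : Subgroup (L F)), s * t * s⁻¹ ∈ T)
    (hne : T ≠ Subgroup.center (Gt F)) : t1 ∈ T := by
  have hnle : ¬ T ≤ Subgroup.center (Gt F) := fun h => hne (le_antisymm h hZT)
  obtain ⟨t, htT, htZ⟩ := SetLike.not_le_iff_exists.mp hnle
  have hzG : (zG : Gt F) ∈ T := hZT ((mem_center_iff _).mpr (Or.inr rfl))
  have hsigW : (sig : Gt F) ∈ SW (Q : Subgroup (L F)) :=
    (mem_SW_iff _ _).mpr ⟨1, Subgroup.one_mem _, 1, Subgroup.one_mem _, Or.inr (by rw [show ((1 : L F), (1 : L F)) = 1 from rfl, map_one, one_mul])⟩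
  obtain ⟨a, ha, b, hb, hab | hab⟩ := (mem_SW_iff _ _).mp (hT htT)
  · -- `t = emb (a, b)`
    by_cases ha' : a = 1 ∨ a = -1
    · by_cases hb' : b = 1 ∨ b = -1
      · rcases ha' with rfl | rfl <;> rcases hb' with rfl | rfl
        · exfalso
          apply htZ
          rw [hab, show ((1 : L F), (1 : L F)) = 1 from rfl, map_one]
          exact Subgroup.one_mem _
        · -- `t = emb (1, -1) = zG * t1`
          have e : (t1 : Gt F) = zG * t := by
            rw [hab, ← emb_neg_one, ← map_mul]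
            show emb (-1, 1) = _
            congr 1
            ext1
            · simp
            · simp
          rw [e]
          exact T.mul_mem hzG htT
        · -- `t = t1`
          rw [hab] at htT
          exact htT
        · exfalso
          apply htZ
          rw [hab, emb_neg_one]
          exact (mem_center_iff _).mpr (Or.inr rfl)
      · -- conjugate by `sig`
        push Not at hb'
        have h1 : sig * t * sig⁻¹ ∈ T := hn t htT sig hsigW
        rw [hab, sig_conj] at h1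
        exact SC1.of_noncentral hodd Q T hn hb ha hb'.1 hb'.2 h1
    · push Not at ha'
      rw [hab] at htT
      exact SC1.of_noncentral hodd Q T hn ha hb ha'.1 ha'.2 htT
  · -- `t = emb (a, b) * sig`
    obtain ⟨c, hc, hc1, hc2⟩ := SC1.exists_nonscalar hodd Q
    have hsW : emb (c, 1) ∈ SW (Q : Subgroup (L F)) :=
      (mem_SW_iff _ _).mpr ⟨c, hc, 1, Subgroup.one_mem _, Or.inl rfl⟩
    have h1 : emb (c, 1) * t⁻¹ * (emb (c, 1))⁻¹ ∈ T := hn _ (T.inv_mem htT) _ hsW
    have h2 : t * (emb (c, 1) * t⁻¹ * (emb (c, 1))⁻¹) ∈ T := T.mul_mem htT h1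
    have e : t * (emb (c, 1) * t⁻¹ * (emb (c, 1))⁻¹) = emb (c⁻¹, b * c * b⁻¹) := by
      have e1 : t * emb (c, 1) * t⁻¹ = emb (1, b * c * b⁻¹) := by
        rw [hab]
        have : emb (a, b) * sig * emb (c, 1) * (emb (a, b) * sig)⁻¹ =
            emb (a, b) * (sig * emb (c, 1) * sig⁻¹) * (emb (a, b))⁻¹ := by group
        rw [this, sig_conj, ← map_inv, ← map_mul, ← map_mul]
        congr 1
        ext1
        · simp
        · simp
      have : t * (emb (c, 1) * t⁻¹ * (emb (c, 1))⁻¹) = (t * emb (c, 1) * t⁻¹) * (emb (c, 1))⁻¹ := by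
        group
      rw [this, e1, ← map_inv, ← map_mul]
      congr 1
      ext1
      · simp
      · simp
    rw [e] at h2
    refine SC1.of_noncentral hodd Q T hn (Subgroup.inv_mem _ hc)
      (Subgroup.mul_mem _ (Subgroup.mul_mem _ hb hc) (Subgroup.inv_mem _ hb)) ?_ ?_ h2
    · intro h
      exact hc1 (inv_eq_one.mp h)
    · intro h
      apply hc2
      rw [← inv_inv c, h, SC1.neg_one_inv]

end Cfsg.Agent.S5320P
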