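import Mathlib
import Cfsg.Agent.Helper3.ES2Rank

/-!
# Construction of extraspecial 2-groups of both types: `D₈ ∘ H`
-/

set_option autoImplicit false
set_option linter.style.haveILetI false

namespace Cfsg.Agent.Helper3

namespace ES2

theorem es2_dihedral : ES2 (DihedralGroup 4) (DihedralGroup.r 2) := by
  refine ⟨by decide, by decide, by decide, by decide, by decide,
    ⟨DihedralGroup.sr 0, DihedralGroup.sr 1, by decide⟩⟩

theorem jj_dihedral : jj (DihedralGroup 4) = 6 := by
  unfold jj
  rw [Nat.card_eq_fintype_card, Fintype.card_subtype]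
  decide

theorem es2_quaternion : ES2 (QuaternionGroup 2) (QuaternionGroup.a 2) := by
  refine ⟨by decide, by decide, by decide, by decide, by decide,
    ⟨QuaternionGroup.a 1, QuaternionGroup.xa 0, by decide⟩⟩

theorem jj_quaternion : jj (QuaternionGroup 2) = 2 := by
  unfold jj
  rw [Nat.card_eq_fintype_card, Fintype.card_subtype]
  decide

theorem jj_congr {A B : Type*} [Group A] [Group B] (e : A ≃* B) : jj A = jj B := by
  unfold jj
  apply Nat.card_congr
  refine Equiv.subtypeEquiv e.toEquiv ?_
  intro a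
  constructor
  · intro h
    show (e a) ^ 2 = 1
    rw [← map_pow, h, map_one]
  · intro h
    have h' : (e a) ^ 2 = 1 := h
    rw [← map_pow] at h'
    exact e.injective (by rw [h', map_one])

theorem normal_of_le_center {K : Type*} [Group K] {N : Subgroup K}
    (h : N ≤ Subgroup.center K) : N.Normal := by
  constructor
  intro n hn g
  have := Subgroup.mem_center_iff.mp (h hn) g
  have e : g * n * g⁻¹ = n := by rw [this]; group
  rw [e]; exact hn

section quot

variable {K : Type*} [Group K] {c : K}

theorem zpowers_le_center (hc : ∀ g : K, g * c = c * g) :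
    Subgroup.zpowers c ≤ Subgroup.center K := by
  rw [Subgroup.zpowers_le]
  exact Subgroup.mem_center_iff.mpr hc

/-- equality in the quotient by a central involution -/
theorem mk_eq_mk_iff (hcc : c * c = 1) [(Subgroup.zpowers c).Normal] (a b : K) :
    (QuotientGroup.mk a : K ⧸ Subgroup.zpowers c) = QuotientGroup.mk b ↔ b = a ∨ b = a * c := by
  rw [QuotientGroup.eq, mem_zpowers_invol hcc]
  constructor
  · rintro (h | h)
    · left
      have : b = a * (a⁻¹ * b) := by group
      rw [this, h, mul_one]
    · right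
      have : b = a * (a⁻¹ * b) := by group
      rw [this, h]
  · rintro (h | h)
    · left; rw [h]; group
    · right; rw [h]; group

theorem mk_eq_one_iff (hcc : c * c = 1) [(Subgroup.zpowers c).Normal] (a : K) :
    (QuotientGroup.mk a : K ⧸ Subgroup.zpowers c) = 1 ↔ a = 1 ∨ a = c := by
  rw [QuotientGroup.eq_one_iff, mem_zpowers_invol hcc]

end quot

section build

variable {H : Type*} [Group H] {w : H}

/-- the central involution of `D₈ × H` to be factored out -/
def cc (w : H) : DihedralGroup 4 × H := (DihedralGroup.r 2, w)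

theorem cc_mul_self (hw : ES2 H w) : cc w * cc w = 1 := by
  unfold cc
  apply Prod.ext
  · show DihedralGroup.r 2 * DihedralGroup.r 2 = (1 : DihedralGroup 4)
    decide
  · exact hw.zz

theorem cc_central (hw : ES2 H w) (g : DihedralGroup 4 × H) : g * cc w = cc w * g := by
  unfold cc
  apply Prod.ext
  · exact es2_dihedral.central g.1
  · exact hw.central g.2

theorem cc_normal (hw : ES2 H w) : (Subgroup.zpowers (cc w)).Normal :=
  normal_of_le_center (zpowers_le_center (cc_central hw))

theorem r2_ne_one : (DihedralGroup.r 2 : DihedralGroup 4) ≠ 1 := by decide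

theorem es2_quot (hw : ES2 H w) [(Subgroup.zpowers (cc w)).Normal] :
    ES2 ((DihedralGroup 4 × H) ⧸ Subgroup.zpowers (cc w))
      (QuotientGroup.mk ((1 : DihedralGroup 4), w)) := by
  have hcc := cc_mul_self hw
  have e3 : (QuotientGroup.mk ((DihedralGroup.r 2 : DihedralGroup 4), (1 : H)) :
      (DihedralGroup 4 × H) ⧸ Subgroup.zpowers (cc w)) =
      QuotientGroup.mk ((1 : DihedralGroup 4), w) := by
    rw [mk_eq_mk_iff hcc]
    right
    apply Prod.ext
    · show (1 : DihedralGroup 4) = DihedralGroup.r 2 * DihedralGroup.r 2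
      decide
    · show w = 1 * w
      rw [one_mul]
  have e4 : (QuotientGroup.mk ((DihedralGroup.r 2 : DihedralGroup 4), w) :
      (DihedralGroup 4 × H) ⧸ Subgroup.zpowers (cc w)) = 1 := by
    rw [mk_eq_one_iff hcc]
    right
    rfl
  refine ⟨?_, ?_, ?_, ?_, ?_, ?_⟩
  · intro h1
    rw [mk_eq_one_iff hcc] at h1
    rcases h1 with h1 | h1
    · exact hw.ne_one (congrArg Prod.snd h1)
    · exact r2_ne_one (congrArg Prod.fst h1).symm
  · intro e
    obtain ⟨p, rfl⟩ := QuotientGroup.mk_surjective e
    rw [← QuotientGroup.mk_mul, ← QuotientGroup.mk_mul]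
    congr 1
    apply Prod.ext
    · simp
    · exact hw.central p.2
  · intro e he
    obtain ⟨⟨d, h⟩, rfl⟩ := QuotientGroup.mk_surjective e
    have hd : ∀ d' : DihedralGroup 4, d * d' = d' * d := by
      intro d'
      have := he (QuotientGroup.mk (d', 1))
      rw [← QuotientGroup.mk_mul, ← QuotientGroup.mk_mul, mk_eq_mk_iff hcc] at this
      rcases this with h1 | h1
      · exact (congrArg Prod.fst h1).symm
      · exfalso
        have h2 := congrArg Prod.snd h1
        have h3 : 1 * h = h * 1 * w := h2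
        rw [one_mul, mul_one] at h3
        exact hw.mul_z_ne h h3.symm
    have hh : ∀ h' : H, h * h' = h' * h := by
      intro h'
      have := he (QuotientGroup.mk (1, h'))
      rw [← QuotientGroup.mk_mul, ← QuotientGroup.mk_mul, mk_eq_mk_iff hcc] at this
      rcases this with h1 | h1
      · exact (congrArg Prod.snd h1).symm
      · exfalso
        have h2 := congrArg Prod.fst h1
        have h3 : 1 * d = d * 1 * DihedralGroup.r 2 := h2
        rw [one_mul, mul_one] at h3
        exact es2_dihedral.mul_z_ne d h3.symm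
    rcases es2_dihedral.center_sub d hd with rfl | rfl <;>
      rcases hw.center_sub h hh with rfl | rfl
    · left; rfl
    · right; rfl
    · right; exact e3
    · left; exact e4
  · intro e
    obtain ⟨⟨d, h⟩, rfl⟩ := QuotientGroup.mk_surjective e
    rw [← QuotientGroup.mk_pow]
    have : ((d, h) : DihedralGroup 4 × H) ^ 2 = (d ^ 2, h ^ 2) := rfl
    rw [this]
    rcases es2_dihedral.sq d with h1 | h1 <;> rcases hw.sq h with h2 | h2 <;> rw [h1, h2]
    · left; rfl
    · right; rfl
    · right; exact e3
    · left; exact e4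
  · intro e e'
    obtain ⟨⟨d, h⟩, rfl⟩ := QuotientGroup.mk_surjective e
    obtain ⟨⟨d', h'⟩, rfl⟩ := QuotientGroup.mk_surjective e'
    rw [← QuotientGroup.mk_mul, ← QuotientGroup.mk_mul, ← QuotientGroup.mk_mul]
    have hm : ((d, h) : DihedralGroup 4 × H) * (d', h') = (d * d', h * h') := rfl
    have hm' : ((d', h') : DihedralGroup 4 × H) * (d, h) = (d' * d, h' * h) := rfl
    rw [hm, hm']
    rcases es2_dihedral.comm d d' with h1 | h1 <;> rcases hw.comm h h' with h2 | h2 <;>
      rw [h1, h2]
    · left; rfl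
    · right
      have : ((d' * d, h' * h * w) : DihedralGroup 4 × H) =
          (d' * d, h' * h) * (1, w) := by
        apply Prod.ext
        · show d' * d = d' * d * 1
          rw [mul_one]
        · rfl
      rw [this, QuotientGroup.mk_mul]
    · right
      have : ((d' * d * DihedralGroup.r 2, h' * h) : DihedralGroup 4 × H) =
          (d' * d, h' * h) * (DihedralGroup.r 2, 1) := by
        apply Prod.ext
        · rfl
        · show h' * h = h' * h * 1
          rw [mul_one]
      rw [this, QuotientGroup.mk_mul, e3, ← QuotientGroup.mk_mul]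
    · left
      have : ((d' * d * DihedralGroup.r 2, h' * h * w) : DihedralGroup 4 × H) =
          (d' * d, h' * h) * (DihedralGroup.r 2, w) := rfl
      rw [this, QuotientGroup.mk_mul, e4, mul_one]
  · refine ⟨QuotientGroup.mk (DihedralGroup.sr 0, 1), QuotientGroup.mk (DihedralGroup.sr 1, 1), ?_⟩
    rw [← QuotientGroup.mk_mul, ← QuotientGroup.mk_mul]
    intro h1
    rw [mk_eq_mk_iff hcc] at h1
    rcases h1 with h1 | h1
    · have h2 := congrArg Prod.fst h1
      have h3 : DihedralGroup.sr 1 * DihedralGroup.sr 0 =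
          (DihedralGroup.sr 0 * DihedralGroup.sr 1 : DihedralGroup 4) := h2
      revert h3; decide
    · have h2 := congrArg Prod.snd h1
      have h3 : (1 : H) * 1 = 1 * 1 * w := h2
      rw [one_mul, one_mul] at h3
      exact hw.ne_one h3.symm

theorem card_quot [Finite H] (hw : ES2 H w) [(Subgroup.zpowers (cc w)).Normal] :
    Nat.card ((DihedralGroup 4 × H) ⧸ Subgroup.zpowers (cc w)) = 4 * Nat.card H := by
  have h1 := Subgroup.card_eq_card_quotient_mul_card_subgroup (Subgroup.zpowers (cc w))
  have hne : cc w ≠ 1 := by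
    intro hh
    exact r2_ne_one (congrArg Prod.fst hh)
  rw [card_zpowers_invol (cc_mul_self hw) hne, Nat.card_prod, DihedralGroup.nat_card] at h1
  omega

theorem jj_quot [Finite H] (hw : ES2 H w) [(Subgroup.zpowers (cc w)).Normal] :
    jj ((DihedralGroup 4 × H) ⧸ Subgroup.zpowers (cc w)) = 2 * jj H + Nat.card H := by
  have hcc := cc_mul_self hw
  have hE := es2_quot hw
  set x : (DihedralGroup 4 × H) ⧸ Subgroup.zpowers (cc w) :=
    QuotientGroup.mk (DihedralGroup.sr 0, 1) with hx
  set y : (DihedralGroup 4 × H) ⧸ Subgroup.zpowers (cc w) :=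
    QuotientGroup.mk (DihedralGroup.sr 1, 1) with hy
  have hxx : x * x = 1 := by
    rw [hx, ← QuotientGroup.mk_mul]
    have : ((DihedralGroup.sr 0, 1) : DihedralGroup 4 × H) * (DihedralGroup.sr 0, 1) = 1 := by
      apply Prod.ext
      · show DihedralGroup.sr 0 * DihedralGroup.sr 0 = (1 : DihedralGroup 4)
        decide
      · show (1 : H) * 1 = 1
        rw [one_mul]
    rw [this]; rfl
  have hyy : y * y = 1 := by
    rw [hy, ← QuotientGroup.mk_mul]
    have : ((DihedralGroup.sr 1, 1) : DihedralGroup 4 × H) * (DihedralGroup.sr 1, 1) = 1 := by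
      apply Prod.ext
      · show DihedralGroup.sr 1 * DihedralGroup.sr 1 = (1 : DihedralGroup 4)
        decide
      · show (1 : H) * 1 = 1
        rw [one_mul]
    rw [this]; rfl
  have hxy : x * y ≠ y * x := by
    rw [hx, hy, ← QuotientGroup.mk_mul, ← QuotientGroup.mk_mul]
    intro h1
    rw [mk_eq_mk_iff hcc] at h1
    rcases h1 with h1 | h1
    · have h2 := congrArg Prod.fst h1
      have h3 : DihedralGroup.sr 1 * DihedralGroup.sr 0 =
          (DihedralGroup.sr 0 * DihedralGroup.sr 1 : DihedralGroup 4) := h2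
      revert h3; decide
    · have h2 := congrArg Prod.snd h1
      have h3 : (1 : H) * 1 = 1 * 1 * w := h2
      rw [one_mul, one_mul] at h3
      exact hw.ne_one h3.symm
  let ι : H →* (DihedralGroup 4 × H) ⧸ Subgroup.zpowers (cc w) :=
    (QuotientGroup.mk' (Subgroup.zpowers (cc w))).comp (MonoidHom.inr (DihedralGroup 4) H)
  have hι : ∀ h : H, ι h = QuotientGroup.mk ((1 : DihedralGroup 4), h) := fun h => rfl
  have hinj : Function.Injective ι := by
    rw [injective_iff_map_eq_one]
    intro h hh
    rw [hι, mk_eq_one_iff hcc] at hh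
    rcases hh with h1 | h1
    · exact congrArg Prod.snd h1
    · exfalso
      exact r2_ne_one (congrArg Prod.fst h1).symm
  have hle : ι.range ≤ cent x y := by
    rintro _ ⟨h, rfl⟩
    rw [mem_cent, hι, hx, hy, ← QuotientGroup.mk_mul, ← QuotientGroup.mk_mul,
      ← QuotientGroup.mk_mul, ← QuotientGroup.mk_mul]
    constructor
    · congr 1
      apply Prod.ext
      · simp
      · simp
    · congr 1
      apply Prod.ext
      · simp
      · simp
  have hc4 := card_eq_four_mul hE hyy hxy
  rw [card_quot hw] at hc4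
  have hcr : Nat.card ι.range = Nat.card H :=
    (Nat.card_congr (MonoidHom.ofInjective hinj).toEquiv).symm
  have hrange : ι.range = cent x y := by
    apply Subgroup.eq_of_le_of_card_ge hle
    rw [hcr]; omega
  have hje := jj_eq hE hxx hyy hxy
  have hj1 : jj (cent x y) = jj H := by
    rw [← hrange]
    exact (jj_congr (MonoidHom.ofInjective hinj)).symm
  rw [hje, hj1]
  omega

/-- **Step**: from an extraspecial 2-group `H` build `D₈ ∘ H`. -/
theorem exists_step {H : Type} [Group H] [Finite H] {w : H} (hw : ES2 H w) :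
    ∃ (E : Type) (_ : Group E) (_ : Finite E) (z : E), ES2 E z ∧
      Nat.card E = 4 * Nat.card H ∧ jj E = 2 * jj H + Nat.card H := by
  haveI := cc_normal hw
  exact ⟨(DihedralGroup 4 × H) ⧸ Subgroup.zpowers (cc w), inferInstance, inferInstance,
    QuotientGroup.mk ((1 : DihedralGroup 4), w), es2_quot hw, card_quot hw, jj_quot hw⟩

/-- existence of both types in every order -/
theorem exists_types (n : ℕ) (hn : 1 ≤ n) :
    (∃ (E : Type) (_ : Group E) (_ : Finite E) (z : E), ES2 E z ∧
      Nat.card E = 2 ^ (2 * n + 1) ∧ jj E = 2 ^ (2 * n) + 2 ^ n) ∧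
    (∃ (E : Type) (_ : Group E) (_ : Finite E) (z : E), ES2 E z ∧
      Nat.card E = 2 ^ (2 * n + 1) ∧ jj E = 2 ^ (2 * n) - 2 ^ n) := by
  induction n, hn using Nat.le_induction with
  | base =>
    refine ⟨⟨DihedralGroup 4, inferInstance, inferInstance, _, es2_dihedral, ?_, ?_⟩,
      ⟨QuaternionGroup 2, inferInstance, inferInstance, _, es2_quaternion, ?_, ?_⟩⟩
    · rw [DihedralGroup.nat_card]; norm_num
    · rw [jj_dihedral]; norm_num
    · rw [Nat.card_eq_fintype_card, QuaternionGroup.card]; norm_num
    · rw [jj_quaternion]; norm_num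
  | succ n hn ih =>
    obtain ⟨⟨E1, g1, f1, z1, h1, hc1, hj1⟩, ⟨E2, g2, f2, z2, h2, hc2, hj2⟩⟩ := ih
    have e1 : (2 : ℕ) ^ (2 * (n + 1) + 1) = 4 * 2 ^ (2 * n + 1) := by ring
    have e2 : (2 : ℕ) ^ (2 * (n + 1)) = 4 * 2 ^ (2 * n) := by ring
    have e3 : (2 : ℕ) ^ (n + 1) = 2 * 2 ^ n := by ring
    have e4 : (2 : ℕ) ^ (2 * n + 1) = 2 * 2 ^ (2 * n) := by ring
    have e5 : (2 : ℕ) ^ n ≤ 2 ^ (2 * n) := Nat.pow_le_pow_right (by norm_num) (by omega)
    constructor
    · obtain ⟨E, g, f, z, h, hc, hj⟩ := exists_step h1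
      refine ⟨E, g, f, z, h, ?_, ?_⟩
      · rw [hc, hc1, e1]
      · rw [hj, hj1, hc1]; omega
    · obtain ⟨E, g, f, z, h, hc, hj⟩ := exists_step h2
      refine ⟨E, g, f, z, h, ?_, ?_⟩
      · rw [hc, hc2, e1]
      · rw [hj, hj2, hc2]; omega

end build


end ES2


end Cfsg.Agent.Helper3
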