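import Mathlib
import Cfsg.Agent.Helper3.LargeES2

set_option autoImplicit false
set_option linter.style.haveILetI false
open Cfsg

/-! Singular involutions: the setting `Q x = O₂(C_G(x))`, `Q z` extraspecial and self-centralizing. -/

namespace Cfsg.Agent.Helper3.Singular

open Cfsg.Agent.Helper3 Cfsg.Agent.Helper3.ES2 Cfsg.Agent.Helper3.LargeES

/-- transport of the elementwise extraspecial structure along an isomorphism -/
theorem es2_map {A B : Type*} [Group A] [Group B] (e : A ≃* B) {z : A} (h : ES2 A z) :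
    ES2 B (e z) := by
  refine ⟨?_, ?_, ?_, ?_, ?_, ?_⟩
  · intro hh
    apply h.ne_one
    apply e.injective
    rw [hh, map_one]
  · intro g
    obtain ⟨a, rfl⟩ := e.surjective g
    rw [← map_mul, ← map_mul, h.central a]
  · intro g hg
    obtain ⟨a, rfl⟩ := e.surjective g
    have : ∀ b : A, a * b = b * a := by
      intro b
      apply e.injective
      rw [map_mul, map_mul]
      exact hg (e b)
    rcases h.center_sub a this with h1 | h1
    · left; rw [h1, map_one]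
    · right; rw [h1]
  · intro g
    obtain ⟨a, rfl⟩ := e.surjective g
    rcases h.sq a with h1 | h1
    · left; rw [← map_pow, h1, map_one]
    · right; rw [← map_pow, h1]
  · intro g k
    obtain ⟨a, rfl⟩ := e.surjective g
    obtain ⟨b, rfl⟩ := e.surjective k
    rcases h.comm a b with h1 | h1
    · left; rw [← map_mul, ← map_mul, h1]
    · right; rw [← map_mul, ← map_mul, ← map_mul, h1]
  · obtain ⟨a, b, hab⟩ := h.nonab
    refine ⟨e a, e b, ?_⟩
    intro hh
    apply hab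
    apply e.injective
    rw [map_mul, map_mul, hh]

variable {G : Type*} [Group G]

theorem centralizer_singleton_map_conj' (y g : G) :
    (Subgroup.centralizer ({y} : Set G)).map (MulAut.conj g).toMonoidHom =
      Subgroup.centralizer ({g * y * g⁻¹} : Set G) := by
  ext x
  simp only [Subgroup.mem_map, MulEquiv.coe_toMonoidHom, MulAut.conj_apply,
    Subgroup.mem_centralizer_singleton_iff]
  constructor
  · rintro ⟨c, hc, rfl⟩
    calc g * c * g⁻¹ * (g * y * g⁻¹) = g * (c * y) * g⁻¹ := by group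
      _ = g * (y * c) * g⁻¹ := by rw [hc]
      _ = g * y * g⁻¹ * (g * c * g⁻¹) := by group
  · intro hx
    refine ⟨g⁻¹ * x * g, ?_, by group⟩
    calc g⁻¹ * x * g * y = g⁻¹ * (x * (g * y * g⁻¹)) * g := by group
      _ = g⁻¹ * ((g * y * g⁻¹) * x) * g := by rw [hx]
      _ = y * (g⁻¹ * x * g) := by group

/-- the setting: `Q x` is the image of `O₂(C_G(x))` -/
def IsQ (Q : G → Subgroup G) : Prop :=
  ∀ x : G, Q x = (Cfsg.pCore 2 ↥(Subgroup.centralizer ({x} : Set G))).map
    (Subgroup.centralizer ({x} : Set G)).subtype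

theorem Q_conj {Q : G → Subgroup G} (hQ : IsQ Q) (x g : G) :
    Q (g * x * g⁻¹) = (Q x).map (MulAut.conj g).toMonoidHom := by
  have h1 : Q (g * x * g⁻¹) =
      Cfsg.pCoreOf 2 (Subgroup.centralizer ({g * x * g⁻¹} : Set G)) := hQ _
  have h2 : Q x = Cfsg.pCoreOf 2 (Subgroup.centralizer ({x} : Set G)) := hQ _
  rw [h1, ← centralizer_singleton_map_conj', Cfsg.Agent.Helper14.pCoreOf_map_conj, ← h2]

theorem mem_Q_conj {Q : G → Subgroup G} (hQ : IsQ Q) (x g y : G) :
    y ∈ Q (g * x * g⁻¹) ↔ ∃ q ∈ Q x, g * q * g⁻¹ = y := by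
  rw [Q_conj hQ]
  simp [Subgroup.mem_map, MulAut.conj_apply]

/-- data attached to a singular involution `u` -/
structure Sing (Q : G → Subgroup G) (u : G) : Prop where
  mem : u ∈ Q u
  es : ES2 (Q u) ⟨u, mem⟩
  cent : ∀ x : G, (∀ q ∈ Q u, x * q = q * x) → x = 1 ∨ x = u
  norm : ∀ x : G, x * u = u * x → ∀ q ∈ Q u, x * q * x⁻¹ ∈ Q u

theorem sing_base [Finite G] {Q : G → Subgroup G} (hQ : IsQ Q) {z : G} (hz : orderOf z = 2)
    (hE : Cfsg.IsExtraspecial 2 ↥(Q z))
    (hC : Subgroup.centralizer ((Q z : Subgroup G) : Set G) ≤ Q z) : Sing Q z := by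
  haveI : Fact (Nat.Prime 2) := ⟨Nat.prime_two⟩
  have hz1 : z ≠ 1 := by
    intro h1
    rw [h1, orderOf_one] at hz
    exact absurd hz (by norm_num)
  have hQz : Q z = Cfsg.pCoreOf 2 (Subgroup.centralizer ({z} : Set G)) := hQ z
  have hQle : Q z ≤ Subgroup.centralizer ({z} : Set G) := by
    rw [hQz]; exact Cfsg.Agent.Helper14.pCoreOf_le 2 _
  have hzcomm : ∀ q ∈ Q z, z * q = q * z := fun q hq =>
    (Subgroup.mem_centralizer_singleton_iff.mp (hQle hq)).symm
  have hzQ : z ∈ Q z := by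
    apply hC
    rw [Subgroup.mem_centralizer_iff]
    intro q hq
    exact (hzcomm q hq).symm
  obtain ⟨zq, hzq, hZs⟩ := exists_es2_sub hE
  have hzcen : z ∈ (Subgroup.center ↥(Q z)).map (Q z).subtype :=
    ⟨⟨z, hzQ⟩, Subgroup.mem_center_iff.mpr (fun r => Subtype.ext (hzcomm r.1 r.2).symm), rfl⟩
  have hzeq : z = (zq : G) := by
    rcases (hZs z).mp hzcen with h1 | h1
    · exact absurd h1 hz1
    · exact h1
  have hzq' : zq = ⟨z, hzQ⟩ := Subtype.ext hzeq.symm
  refine ⟨hzQ, hzq' ▸ hzq, ?_, ?_⟩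
  · intro x hx
    have hxQ : x ∈ Q z :=
      hC (Subgroup.mem_centralizer_iff.mpr (fun q hq => (hx q hq).symm))
    have : x ∈ (Subgroup.center ↥(Q z)).map (Q z).subtype :=
      ⟨⟨x, hxQ⟩, Subgroup.mem_center_iff.mpr (fun r => Subtype.ext (hx r.1 r.2).symm), rfl⟩
    rw [hzeq]
    exact (hZs x).mp this
  · intro x hx q hq
    have hxC : x ∈ Subgroup.centralizer ({z} : Set G) :=
      Subgroup.mem_centralizer_singleton_iff.mpr hx
    have := Cfsg.Agent.Helper14.le_normalizer_pCoreOf 2 (Subgroup.centralizer ({z} : Set G)) hxC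
    rw [← hQz] at this
    exact (Subgroup.mem_normalizer_iff.mp this q).mp hq

theorem Sing.conj {Q : G → Subgroup G} (hQ : IsQ Q) {u : G} (h : Sing Q u) (g : G) :
    Sing Q (g * u * g⁻¹) := by
  have hmem : g * u * g⁻¹ ∈ Q (g * u * g⁻¹) := (mem_Q_conj hQ u g _).mpr ⟨u, h.mem, rfl⟩
  refine ⟨hmem, ?_, ?_, ?_⟩
  · let e : ↥(Q u) ≃* ↥(Q (g * u * g⁻¹)) :=
      ((MulAut.conj g).subgroupMap (Q u)).trans (MulEquiv.subgroupCongr (Q_conj hQ u g).symm)
    have := es2_map e h.es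
    have he : e ⟨u, h.mem⟩ = ⟨g * u * g⁻¹, hmem⟩ := Subtype.ext rfl
    rwa [he] at this
  · intro x hx
    have hx' : ∀ q ∈ Q u, (g⁻¹ * x * g) * q = q * (g⁻¹ * x * g) := by
      intro q hq
      have := hx (g * q * g⁻¹) ((mem_Q_conj hQ u g _).mpr ⟨q, hq, rfl⟩)
      calc g⁻¹ * x * g * q = g⁻¹ * (x * (g * q * g⁻¹)) * g := by group
        _ = g⁻¹ * ((g * q * g⁻¹) * x) * g := by rw [this]
        _ = q * (g⁻¹ * x * g) := by group
    rcases h.cent _ hx' with h1 | h1
    · left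
      calc x = g * (g⁻¹ * x * g) * g⁻¹ := by group
        _ = 1 := by rw [h1]; group
    · right
      calc x = g * (g⁻¹ * x * g) * g⁻¹ := by group
        _ = g * u * g⁻¹ := by rw [h1]
  · intro x hx q hq
    obtain ⟨r, hr, rfl⟩ := (mem_Q_conj hQ u g q).mp hq
    have hx' : (g⁻¹ * x * g) * u = u * (g⁻¹ * x * g) := by
      calc g⁻¹ * x * g * u = g⁻¹ * (x * (g * u * g⁻¹)) * g := by group
        _ = g⁻¹ * ((g * u * g⁻¹) * x) * g := by rw [hx]
        _ = u * (g⁻¹ * x * g) := by group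
    have := h.norm _ hx' r hr
    exact (mem_Q_conj hQ u g _).mpr ⟨_, this, by group⟩

namespace Sing

variable {Q : G → Subgroup G} {u : G}

theorem uu (h : Sing Q u) : u * u = 1 := sub_zz h.es

theorem ne_one (h : Sing Q u) : u ≠ 1 := sub_ne_one h.es

theorem central (h : Sing Q u) {q : G} (hq : q ∈ Q u) : q * u = u * q := sub_central h.es hq

theorem conj_cases (h : Sing Q u) {q a : G} (hq : q ∈ Q u) (ha : a ∈ Q u) :
    q * a * q⁻¹ = a ∨ q * a * q⁻¹ = a * u := sub_conj h.es hq ha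

theorem exists_conj (h : Sing Q u) {a : G} (ha : a ∈ Q u) (ha1 : a ≠ 1) (hau : a ≠ u) :
    ∃ y ∈ Q u, y * a * y⁻¹ = a * u := sub_exists_conj h.es ha ha1 hau

end Sing

/-- a singular subgroup: elementary abelian, all nonidentity elements singular and pairwise
orthogonal -/
structure SingSub (Q : G → Subgroup G) (U : Subgroup G) : Prop where
  sq : ∀ u ∈ U, u * u = 1
  sing : ∀ u ∈ U, u ≠ 1 → Sing Q u
  orth : ∀ u ∈ U, ∀ v ∈ U, u ≠ 1 → v ≠ 1 → v ∈ Q u

theorem singSub_of [Finite G] {Q : G → Subgroup G} (hQ : IsQ Q) {z : G} (hz : orderOf z = 2)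
    (hE : Cfsg.IsExtraspecial 2 ↥(Q z))
    (hC : Subgroup.centralizer ((Q z : Subgroup G) : Set G) ≤ Q z)
    {U : Subgroup G} (hU2 : ∀ u ∈ U, u * u = 1)
    (hS : ∀ u ∈ U, u ≠ 1 → ∃ g : G, g * z * g⁻¹ = u)
    (hO : ∀ u ∈ U, ∀ v ∈ U, u ≠ 1 → v ≠ 1 → v ∈ Q u) : SingSub Q U := by
  refine ⟨hU2, ?_, hO⟩
  intro u hu hu1
  obtain ⟨g, rfl⟩ := hS u hu hu1
  exact (sing_base hQ hz hE hC).conj hQ g

namespace SingSub

variable {Q : G → Subgroup G} {U : Subgroup G}

theorem comm (h : SingSub Q U) {u v : G} (hu : u ∈ U) (hv : v ∈ U) : u * v = v * u := by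
  have h1 := h.sq u hu
  have h2 := h.sq v hv
  have h3 := h.sq (u * v) (U.mul_mem hu hv)
  calc u * v = (v * v) * (u * v) * (u * u) := by rw [h1, h2, one_mul, mul_one]
    _ = v * (v * u) * (v * u) * u := by group
    _ = v * ((v * u) * (v * u)) * u := by group
    _ = v * u := by
        have h4 : (v * u) * (v * u) = 1 := by
          have : v * u = v * (u * v) * v⁻¹ := by group
          calc (v * u) * (v * u) = v * ((u * v) * (u * v)) * v⁻¹ := by group
            _ = 1 := by rw [h3]; group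
        rw [h4]; group

theorem inv_eq (h : SingSub Q U) {u : G} (hu : u ∈ U) : u⁻¹ = u :=
  inv_eq_of_mul_eq_one_left (h.sq u hu)

/-- `Q u ∩ Q v ≤ Q (u v)` for distinct nonidentity elements of a singular subgroup -/
theorem inter_le (hQ : IsQ Q) (h : SingSub Q U) {u v : G} (hu : u ∈ U) (hv : v ∈ U) (hu1 : u ≠ 1)
    (hv1 : v ≠ 1) (huv : u ≠ v) {x : G} (hxu : x ∈ Q u) (hxv : x ∈ Q v) : x ∈ Q (u * v) := by
  have hsu := h.sing u hu hu1
  have hvu : v ∈ Q u := h.orth u hu v hv hu1 hv1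
  obtain ⟨q, hq, hqv⟩ := hsu.exists_conj hvu hv1 (Ne.symm huv)
  have huv1 : u * v ≠ 1 := by
    intro hh
    apply huv
    calc u = u * (v * v) := by rw [h.sq v hv, mul_one]
      _ = (u * v) * v := by group
      _ = v := by rw [hh, one_mul]
  have huvU : u * v ∈ U := U.mul_mem hu hv
  have h1 : q * x * q⁻¹ ∈ Q (u * v) := by
    have : u * v = q * v * q⁻¹ := by rw [hqv, h.comm hu hv]
    rw [this]
    exact (mem_Q_conj hQ v q _).mpr ⟨x, hxv, rfl⟩
  rcases hsu.conj_cases hq hxu with h2 | h2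
  · rwa [h2] at h1
  · rw [h2] at h1
    have h3 : u ∈ Q (u * v) := h.orth (u * v) huvU u hu huv1 hu1
    have : x = (x * u) * u⁻¹ := by group
    rw [this]
    exact (Q (u * v)).mul_mem h1 ((Q (u * v)).inv_mem h3)

/-- the set of `u ∈ U` with `u = 1` or `x ∈ Q u` is a subgroup -/
def good (hQ : IsQ Q) (h : SingSub Q U) (x : G) : Subgroup G where
  carrier := {u | u ∈ U ∧ (u = 1 ∨ x ∈ Q u)}
  one_mem' := ⟨U.one_mem, Or.inl rfl⟩
  mul_mem' := by
    rintro u v ⟨hu, hu'⟩ ⟨hv, hv'⟩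
    refine ⟨U.mul_mem hu hv, ?_⟩
    rcases hu' with rfl | hu'
    · rw [one_mul]; exact hv'
    rcases hv' with rfl | hv'
    · rw [mul_one]; exact Or.inr hu'
    by_cases hu1 : u = 1
    · rw [hu1, one_mul]; exact Or.inr hv'
    by_cases hv1 : v = 1
    · rw [hv1, mul_one]; exact Or.inr hu'
    by_cases huv : u = v
    · left; rw [huv]; exact h.sq v hv
    · exact Or.inr (h.inter_le hQ hu hv hu1 hv1 huv hu' hv')
  inv_mem' := by
    rintro u ⟨hu, hu'⟩
    rw [h.inv_eq hu]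
    exact ⟨hu, hu'⟩

/-- `QU` is cut out by any generating set -/
theorem iInf_generators (hQ : IsQ Q) (h : SingSub Q U) {T : Set G} (hT : Subgroup.closure T = U)
    (hT1 : (1 : G) ∉ T) :
    (⨅ u ∈ ((U : Set G) \ {1}), Q u) = ⨅ t ∈ T, Q t := by
  have hTU : T ⊆ U := by rw [← hT]; exact Subgroup.subset_closure
  apply le_antisymm
  · apply le_iInf₂
    intro t ht
    have ht1 : t ≠ 1 := fun hh => hT1 (hh ▸ ht)
    exact iInf₂_le t ⟨hTU ht, ht1⟩
  · intro x hx
    simp only [Subgroup.mem_iInf] at hx ⊢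
    rintro u ⟨hu, hu1⟩
    have hle : U ≤ good hQ h x := by
      have h1 : Subgroup.closure T ≤ good hQ h x := by
        rw [Subgroup.closure_le]
        intro t ht
        exact ⟨hTU ht, Or.inr (hx t ht)⟩
      rwa [hT] at h1
    rcases (hle hu).2 with h1 | h1
    · exact absurd h1 hu1
    · exact h1

end SingSub

end Cfsg.Agent.Helper3.Singular
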