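import Mathlib
import Cfsg.Agent.Helper3.Singular

set_option autoImplicit false
set_option linter.style.haveILetI false
open Cfsg

/-! A large extraspecial 2-subgroup `Q` and a conjugate `P = Q^g` whose centre lies in `Q`
(Aschbacher, Sporadic Groups, 8.7): basic structure. -/

namespace Cfsg.Agent.Helper3.LargePair

open Cfsg.Agent.Helper3 Cfsg.Agent.Helper3.ES2 Cfsg.Agent.Helper3.LargeES
open Cfsg.Agent.Helper3.Singular

variable {G : Type*} [Group G]

/-- extraspecial subgroup `Q` with centre `⟨z⟩`, `C_G(Q) = ⟨z⟩`, and `C_G(z) ≤ N_G(Q)` -/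
structure LES (Q : Subgroup G) (z : G) : Prop where
  mem : z ∈ Q
  es : ES2 Q ⟨z, mem⟩
  cent : ∀ x : G, (∀ q ∈ Q, x * q = q * x) → x = 1 ∨ x = z
  norm : ∀ x : G, x * z = z * x → ∀ q ∈ Q, x * q * x⁻¹ ∈ Q

namespace LES

variable {Q : Subgroup G} {z : G}

theorem zz (h : LES Q z) : z * z = 1 := sub_zz h.es

theorem ne_one (h : LES Q z) : z ≠ 1 := sub_ne_one h.es

theorem z_inv (h : LES Q z) : z⁻¹ = z := inv_eq_of_mul_eq_one_left h.zz

theorem central (h : LES Q z) {q : G} (hq : q ∈ Q) : q * z = z * q := sub_central h.es hq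

theorem comm_cases (h : LES Q z) {q r : G} (hq : q ∈ Q) (hr : r ∈ Q) :
    q * r = r * q ∨ q * r = r * q * z := sub_comm h.es hq hr

theorem sq_cases (h : LES Q z) {q : G} (hq : q ∈ Q) : q * q = 1 ∨ q * q = z := sub_sq h.es hq

theorem conj_cases (h : LES Q z) {q a : G} (hq : q ∈ Q) (ha : a ∈ Q) :
    q * a * q⁻¹ = a ∨ q * a * q⁻¹ = a * z := sub_conj h.es hq ha

theorem exists_conj (h : LES Q z) {a : G} (ha : a ∈ Q) (ha1 : a ≠ 1) (haz : a ≠ z) :
    ∃ y ∈ Q, y * a * y⁻¹ = a * z := sub_exists_conj h.es ha ha1 haz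

theorem isPGroup (h : LES Q z) : IsPGroup 2 Q := sub_isPGroup h.es

theorem comm_mem (h : LES Q z) {q r : G} (hq : q ∈ Q) (hr : r ∈ Q) :
    q * r * q⁻¹ * r⁻¹ = 1 ∨ q * r * q⁻¹ * r⁻¹ = z := by
  rcases h.conj_cases hq hr with h1 | h1
  · left; rw [h1]; group
  · right; rw [h1]
    have := h.central hr
    calc r * z * r⁻¹ = (r * z) * r⁻¹ := by group
      _ = z := by rw [this]; group

theorem of_large [Finite G] {Q : Subgroup G} (hL1 : Cfsg.IsExtraspecial 2 ↥Q)
    (hL2 : Subgroup.centralizer (Q : Set G) = (Subgroup.center Q).map Q.subtype)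
    (hL3 : Subgroup.centralizer (((Subgroup.center Q).map Q.subtype : Subgroup G) : Set G) ≤
      Subgroup.normalizer (Q : Set G)) {z : G}
    (hz : (Subgroup.center Q).map Q.subtype = Subgroup.zpowers z) (hz1 : z ≠ 1) : LES Q z := by
  obtain ⟨zq, hzq, hZs⟩ := exists_es2_sub hL1
  have hzZ : z ∈ (Subgroup.center Q).map Q.subtype := by
    rw [hz]; exact Subgroup.mem_zpowers z
  have hzeq : z = (zq : G) := by
    rcases (hZs z).mp hzZ with h1 | h1
    · exact absurd h1 hz1
    · exact h1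
  have hzQ : z ∈ Q := by rw [hzeq]; exact zq.2
  have hzq' : zq = ⟨z, hzQ⟩ := Subtype.ext hzeq.symm
  refine ⟨hzQ, hzq' ▸ hzq, ?_, ?_⟩
  · have := centralizer_elts hZs hL2
    rwa [← hzeq] at this
  · have := normalizer_elts hZs hL3
    rwa [← hzeq] at this

/-- transport to a conjugate -/
theorem conj (h : LES Q z) (g : G) :
    LES (Q.map (MulAut.conj g).toMonoidHom) (g * z * g⁻¹) := by
  have hmemP : ∀ x, x ∈ Q.map (MulAut.conj g).toMonoidHom ↔ ∃ q ∈ Q, g * q * g⁻¹ = x := by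
    intro x
    simp [Subgroup.mem_map, MulAut.conj_apply]
  have hmem : g * z * g⁻¹ ∈ Q.map (MulAut.conj g).toMonoidHom := (hmemP _).mpr ⟨z, h.mem, rfl⟩
  refine ⟨hmem, ?_, ?_, ?_⟩
  · have := es2_map ((MulAut.conj g).subgroupMap Q) h.es
    have he : ((MulAut.conj g).subgroupMap Q) ⟨z, h.mem⟩ = ⟨g * z * g⁻¹, hmem⟩ := Subtype.ext rfl
    rwa [he] at this
  · intro x hx
    have hx' : ∀ q ∈ Q, (g⁻¹ * x * g) * q = q * (g⁻¹ * x * g) := by
      intro q hq
      have := hx (g * q * g⁻¹) ((hmemP _).mpr ⟨q, hq, rfl⟩)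
      calc g⁻¹ * x * g * q = g⁻¹ * (x * (g * q * g⁻¹)) * g := by group
        _ = g⁻¹ * ((g * q * g⁻¹) * x) * g := by rw [this]
        _ = q * (g⁻¹ * x * g) := by group
    rcases h.cent _ hx' with h1 | h1
    · left
      calc x = g * (g⁻¹ * x * g) * g⁻¹ := by group
        _ = 1 := by rw [h1]; group
    · right
      calc x = g * (g⁻¹ * x * g) * g⁻¹ := by group
        _ = g * z * g⁻¹ := by rw [h1]
  · intro x hx q hq
    obtain ⟨r, hr, rfl⟩ := (hmemP q).mp hq
    have hx' : (g⁻¹ * x * g) * z = z * (g⁻¹ * x * g) := by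
      calc g⁻¹ * x * g * z = g⁻¹ * (x * (g * z * g⁻¹)) * g := by group
        _ = g⁻¹ * ((g * z * g⁻¹) * x) * g := by rw [hx]
        _ = z * (g⁻¹ * x * g) := by group
    have := h.norm _ hx' r hr
    exact (hmemP _).mpr ⟨_, this, by group⟩

/-- an element commuting with `z` and centralizing the hyperplane `C_Q(a)` (`a ∈ Q` a noncentral
involution) lies in `{1, z, a, a z}` -/
theorem cent_hyperplane (h : LES Q z) {a : G} (haQ : a ∈ Q) (ha1 : a ≠ 1) (haz' : a ≠ z)
    (haa : a * a = 1) {c : G} (hcz : c * z = z * c)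
    (hcR : ∀ r ∈ Q, r * a = a * r → c * r = r * c) : c = 1 ∨ c = z ∨ c = a ∨ c = a * z := by
  have hzz := h.zz
  have hz1 := h.ne_one
  have hzQ := h.mem
  have hzc : ∀ q ∈ Q, q * z = z * q := fun q hq => h.central hq
  have hainv : a⁻¹ = a := inv_eq_of_mul_eq_one_left haa
  have haz : a * z = z * a := hzc a haQ
  have hcQ : ∀ q ∈ Q, c * q * c⁻¹ ∈ Q := h.norm c hcz
  have hconj_c : ∀ r ∈ Q, r * a = a * r → c * r * c⁻¹ = r := by
    intro r hr hra
    rw [hcR r hr hra]; group
  obtain ⟨y, hyQ, hy⟩ := h.exists_conj haQ ha1 haz'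
  have hzy : z * y = y * z := (hzc y hyQ).symm
  have hya : y * a ≠ a * y := by
    intro hh
    have : a * z = a := by rw [← hy, hh]; group
    exact hz1 (mul_left_cancel (a := a) (by rw [this, mul_one]))
  have hay : a * y * a⁻¹ = y * z := by
    have h1 : y * a = a * z * y := by rw [← hy]; group
    calc a * y * a⁻¹ = a * y * a := by rw [hainv]
      _ = a * (y * a) := by group
      _ = a * (a * z * y) := by rw [h1]
      _ = (a * a) * (z * y) := by group
      _ = y * z := by rw [haa, one_mul, hzy]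
  have hyay : y⁻¹ * a * y = a * z := by
    have : a = y⁻¹ * (a * z) * y := by rw [← hy]; group
    calc y⁻¹ * a * y = y⁻¹ * a * y * (z * z) := by rw [hzz, mul_one]
      _ = y⁻¹ * a * (y * z) * z := by group
      _ = y⁻¹ * a * (z * y) * z := by rw [hzy]
      _ = (y⁻¹ * (a * z) * y) * z := by group
      _ = a * z := by rw [← this]
  obtain ⟨d, hd⟩ : ∃ d : G, d = y⁻¹ * (c * y * c⁻¹) := ⟨_, rfl⟩
  have hdQ : d ∈ Q := by rw [hd]; exact Q.mul_mem (Q.inv_mem hyQ) (hcQ y hyQ)
  have hcy : c * y * c⁻¹ = y * d := by rw [hd]; group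
  have hRnorm : ∀ r ∈ Q, r * a = a * r → (y * r * y⁻¹) * a = a * (y * r * y⁻¹) := by
    intro r hrQ hra
    have hrz := hzc r hrQ
    calc y * r * y⁻¹ * a = y * r * (y⁻¹ * a * y) * y⁻¹ := by group
      _ = y * r * (a * z) * y⁻¹ := by rw [hyay]
      _ = y * (r * a) * z * y⁻¹ := by group
      _ = y * (a * r) * z * y⁻¹ := by rw [hra]
      _ = y * a * (r * z) * y⁻¹ := by group
      _ = y * a * (z * r) * y⁻¹ := by rw [hrz]
      _ = y * (a * z) * r * y⁻¹ := by group
      _ = y * (y⁻¹ * a * y) * r * y⁻¹ := by rw [hyay]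
      _ = a * (y * r * y⁻¹) := by group
  have hdR : ∀ r ∈ Q, r * a = a * r → d * r = r * d := by
    intro r hrQ hra
    have e1 : c * (y * r * y⁻¹) * c⁻¹ = (c * y * c⁻¹) * (c * r * c⁻¹) * (c * y * c⁻¹)⁻¹ := by group
    rw [hconj_c r hrQ hra, hcy, hconj_c _ (Q.mul_mem (Q.mul_mem hyQ hrQ) (Q.inv_mem hyQ))
      (hRnorm r hrQ hra)] at e1
    calc d * r = y⁻¹ * (y * d * r * (y * d)⁻¹) * y * d := by group
      _ = y⁻¹ * (y * r * y⁻¹) * y * d := by rw [← e1]
      _ = r * d := by group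
  have hyd : (y * d) * (y * d) = y * y := by
    have hyy : (y * y) ∈ Q ∧ (y * y) * a = a * (y * y) := by
      rcases h.sq_cases hyQ with h1 | h1
      · rw [h1]; exact ⟨Q.one_mem, by group⟩
      · rw [h1]; exact ⟨hzQ, haz.symm⟩
    have e1 : c * (y * y) * c⁻¹ = (c * y * c⁻¹) * (c * y * c⁻¹) := by group
    rw [hconj_c _ hyy.1 hyy.2, hcy] at e1
    exact e1.symm
  have hcentral : ∀ w : G, (∀ r ∈ Q, r * a = a * r → w * r = r * w) → w * y = y * w →
      ∀ q ∈ Q, w * q = q * w := by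
    intro w hwR hwy q hq
    by_cases hqa : q * a = a * q
    · exact hwR q hq hqa
    · have h1 := sub_index_two h.es haQ hyQ hq hya hqa
      have h2 := hwR (y⁻¹ * q) (Q.mul_mem (Q.inv_mem hyQ) hq) h1
      calc w * q = (w * y) * (y⁻¹ * q) := by group
        _ = y * w * (y⁻¹ * q) := by rw [hwy]
        _ = y * (w * (y⁻¹ * q)) := by group
        _ = y * ((y⁻¹ * q) * w) := by rw [h2]
        _ = q * w := by group
  rcases sub_double_centralizer h.es haQ hdQ hdR with h1 | h1 | h1 | h1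
  · -- d = 1
    rw [h1, mul_one] at hcy
    have hwy : c * y = y * c := by
      calc c * y = (c * y * c⁻¹) * c := by group
        _ = y * c := by rw [hcy]
    rcases h.cent c (hcentral c hcR hwy) with h2 | h2
    · exact Or.inl h2
    · exact Or.inr (Or.inl h2)
  · -- d = z
    have h1' : d = z := h1
    rw [h1'] at hcy
    have hwR : ∀ r ∈ Q, r * a = a * r → (a * c) * r = r * (a * c) := by
      intro r hr hra
      have h2 := hcR r hr hra
      calc a * c * r = a * (c * r) := by group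
        _ = a * (r * c) := by rw [h2]
        _ = (a * r) * c := by group
        _ = (r * a) * c := by rw [hra]
        _ = r * (a * c) := by group
    have hwy : (a * c) * y = y * (a * c) := by
      have : (a * c) * y * (a * c)⁻¹ = y := by
        calc (a * c) * y * (a * c)⁻¹ = a * (c * y * c⁻¹) * a⁻¹ := by group
          _ = a * (y * z) * a⁻¹ := by rw [hcy]
          _ = (a * y * a⁻¹) * (a * z) * a⁻¹ := by group
          _ = (y * z) * (z * a) * a⁻¹ := by rw [hay, haz]
          _ = y * (z * z) := by group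
          _ = y := by rw [hzz, mul_one]
      calc (a * c) * y = ((a * c) * y * (a * c)⁻¹) * (a * c) := by group
        _ = y * (a * c) := by rw [this]
    rcases h.cent _ (hcentral _ hwR hwy) with h2 | h2
    · right; right; left
      calc c = a⁻¹ * (a * c) := by group
        _ = a := by rw [h2, mul_one, hainv]
    · right; right; right
      calc c = a⁻¹ * (a * c) := by group
        _ = a * z := by rw [h2, hainv]
  · -- d = a
    exfalso
    rw [h1] at hyd
    apply hz1
    have e1 : a * y * a = y := by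
      have : y * (a * y * a) = y * y := by rw [← hyd]; group
      exact mul_left_cancel this
    have e2 : y * z = y := by
      rw [← hay, hainv, e1]
    exact mul_left_cancel (a := y) (by rw [e2, mul_one])
  · -- d = a z
    exfalso
    have h1' : d = a * z := h1
    rw [h1'] at hyd
    apply hz1
    have e1 : a * z * y * a * z = y := by
      have : y * (a * z * y * a * z) = y * y := by rw [← hyd]; group
      exact mul_left_cancel this
    have e2 : y * z = y := by
      calc y * z = a * y * a⁻¹ := hay.symm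
        _ = a * y * a * (z * z) := by rw [hainv, hzz, mul_one]
        _ = a * y * (a * z) * z := by group
        _ = a * y * (z * a) * z := by rw [haz]
        _ = a * (y * z) * a * z := by group
        _ = a * (z * y) * a * z := by rw [hzy]
        _ = a * z * y * a * z := by group
        _ = y := e1
    exact mul_left_cancel (a := y) (by rw [e2, mul_one])

end LES

section Closure

/-- elements normalizing `N` whose commutator with `t` lies in `N` -/
def leftStab (N : Subgroup G) (t : G) : Subgroup G where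
  carrier := {x | x ∈ Subgroup.normalizer (N : Set G) ∧ x * t * x⁻¹ * t⁻¹ ∈ N}
  one_mem' := ⟨Subgroup.one_mem _, by simp [N.one_mem]⟩
  mul_mem' := by
    rintro x x' ⟨hx, hx'⟩ ⟨hy, hy'⟩
    refine ⟨Subgroup.mul_mem _ hx hy, ?_⟩
    have h1 : x * (x' * t * x'⁻¹ * t⁻¹) * x⁻¹ ∈ N := (Subgroup.mem_normalizer_iff.mp hx _).mp hy'
    have : x * x' * t * (x * x')⁻¹ * t⁻¹ =
        (x * (x' * t * x'⁻¹ * t⁻¹) * x⁻¹) * (x * t * x⁻¹ * t⁻¹) := by group
    rw [this]
    exact N.mul_mem h1 hx'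
  inv_mem' := by
    rintro x ⟨hx, hx'⟩
    refine ⟨Subgroup.inv_mem _ hx, ?_⟩
    have h1 : x⁻¹ * (x * t * x⁻¹ * t⁻¹)⁻¹ * x⁻¹⁻¹ ∈ N :=
      (Subgroup.mem_normalizer_iff.mp (Subgroup.inv_mem _ hx) _).mp (N.inv_mem hx')
    have : x⁻¹ * t * x⁻¹⁻¹ * t⁻¹ = x⁻¹ * (x * t * x⁻¹ * t⁻¹)⁻¹ * x⁻¹⁻¹ := by group
    rw [this]
    exact h1

/-- elements normalizing `N` whose commutator with `x` lies in `N` -/
def rightStab (N : Subgroup G) (x : G) : Subgroup G where
  carrier := {y | y ∈ Subgroup.normalizer (N : Set G) ∧ x * y * x⁻¹ * y⁻¹ ∈ N}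
  one_mem' := ⟨Subgroup.one_mem _, by simp [N.one_mem]⟩
  mul_mem' := by
    rintro y y' ⟨hy, hy'⟩ ⟨hw, hw'⟩
    refine ⟨Subgroup.mul_mem _ hy hw, ?_⟩
    have h1 : y * (x * y' * x⁻¹ * y'⁻¹) * y⁻¹ ∈ N := (Subgroup.mem_normalizer_iff.mp hy _).mp hw'
    have : x * (y * y') * x⁻¹ * (y * y')⁻¹ =
        (x * y * x⁻¹ * y⁻¹) * (y * (x * y' * x⁻¹ * y'⁻¹) * y⁻¹) := by group
    rw [this]
    exact N.mul_mem hy' h1
  inv_mem' := by
    rintro y ⟨hy, hy'⟩
    refine ⟨Subgroup.inv_mem _ hy, ?_⟩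
    have h1 : y⁻¹ * (x * y * x⁻¹ * y⁻¹)⁻¹ * y⁻¹⁻¹ ∈ N :=
      (Subgroup.mem_normalizer_iff.mp (Subgroup.inv_mem _ hy) _).mp (N.inv_mem hy')
    have : x * y⁻¹ * x⁻¹ * y⁻¹⁻¹ = y⁻¹ * (x * y * x⁻¹ * y⁻¹)⁻¹ * y⁻¹⁻¹ := by group
    rw [this]
    exact h1

/-- commutators of generators lie in a subgroup normalized by the generators -/
theorem comm_mem_of_closure {N : Subgroup G} {S T : Set G}
    (hS : ∀ s ∈ S, s ∈ Subgroup.normalizer (N : Set G))
    (hT : ∀ t ∈ T, t ∈ Subgroup.normalizer (N : Set G))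
    (h : ∀ s ∈ S, ∀ t ∈ T, s * t * s⁻¹ * t⁻¹ ∈ N) :
    ∀ x ∈ Subgroup.closure S, ∀ y ∈ Subgroup.closure T, x * y * x⁻¹ * y⁻¹ ∈ N := by
  intro x hx y hy
  have h1 : ∀ t ∈ T, Subgroup.closure S ≤ leftStab N t := by
    intro t ht
    rw [Subgroup.closure_le]
    intro s hs
    exact ⟨hS s hs, h s hs t ht⟩
  have hxN : x ∈ Subgroup.normalizer (N : Set G) := by
    have : Subgroup.closure S ≤ Subgroup.normalizer (N : Set G) := by
      rw [Subgroup.closure_le]; exact hS
    exact this hx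
  have h2 : Subgroup.closure T ≤ rightStab N x := by
    rw [Subgroup.closure_le]
    intro t ht
    exact ⟨hT t ht, (h1 t ht hx).2⟩
  exact (h2 hy).2

/-- squares of a group generated by elements with squares in `N`, when commutators lie in `N` -/
theorem sq_mem_of_closure {N : Subgroup G} {S : Set G}
    (hcomm : ∀ x ∈ Subgroup.closure S, ∀ y ∈ Subgroup.closure S, x * y * x⁻¹ * y⁻¹ ∈ N)
    (hsq : ∀ s ∈ S, s * s ∈ N) : ∀ x ∈ Subgroup.closure S, x * x ∈ N := by
  let K : Subgroup G :=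
    { carrier := {x | x ∈ Subgroup.closure S ∧ x * x ∈ N}
      one_mem' := ⟨Subgroup.one_mem _, by simp [N.one_mem]⟩
      mul_mem' := by
        rintro x y ⟨hx, hx'⟩ ⟨hy, hy'⟩
        refine ⟨Subgroup.mul_mem _ hx hy, ?_⟩
        have h1 := hcomm x⁻¹ (Subgroup.inv_mem _ hx) y hy
        have : x * y * (x * y) = (x * x) * (x⁻¹ * y * x⁻¹⁻¹ * y⁻¹) * (y * y) := by group
        rw [this]
        exact N.mul_mem (N.mul_mem hx' h1) hy'
      inv_mem' := by
        rintro x ⟨hx, hx'⟩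
        refine ⟨Subgroup.inv_mem _ hx, ?_⟩
        have : x⁻¹ * x⁻¹ = (x * x)⁻¹ := by group
        rw [this]
        exact N.inv_mem hx' }
  have hle : Subgroup.closure S ≤ K := by
    rw [Subgroup.closure_le]
    intro s hs
    exact ⟨Subgroup.subset_closure hs, hsq s hs⟩
  intro x hx
  exact (hle hx).2

end Closure

end Cfsg.Agent.Helper3.LargePair
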