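import Mathlib
import Cfsg.Agent.Helper3.LargePair
import Cfsg.Agent.Helper3.LargeES2

set_option autoImplicit false
set_option linter.style.haveILetI false
open Cfsg

/-! A group with a large extraspecial 2-subgroup `Q`, `Z(Q) = ⟨z⟩`, in which `C_G(z)` lies in the
normal closure of `z`, is simple (Aschbacher, Sporadic Groups, 8.12-type argument). -/

namespace Cfsg.Agent.Helper3.LargeSimple

open Cfsg.Agent.Helper3 Cfsg.Agent.Helper3.ES2 Cfsg.Agent.Helper3.LargeES
open Cfsg.Agent.Helper3.LargePair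

variable {G : Type*} [Group G]

/-- a normal subgroup meeting `C_G(z)` trivially (z an involution) has odd order -/
theorem odd_card_of_inf_centralizer_eq_bot [Finite G] {z : G} (hzz : z * z = 1) (hz1 : z ≠ 1)
    (N : Subgroup G) [hN : N.Normal]
    (hNz : ∀ n ∈ N, n * z = z * n → n = 1) : Odd (Nat.card N) := by
  haveI : Fact (Nat.Prime 2) := ⟨Nat.prime_two⟩
  have ho : orderOf z = 2 := by
    apply orderOf_eq_prime
    · rw [pow_two]; exact hzz
    · exact hz1
  have hR : IsPGroup 2 (Subgroup.zpowers z) := by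
    apply IsPGroup.of_card (n := 1)
    rw [Nat.card_zpowers, ho, pow_one]
  have hO : ∀ r ∈ Subgroup.zpowers z, ∀ y ∈ (N : Set G), r * y * r⁻¹ ∈ (N : Set G) := by
    intro r _ y hy
    exact hN.conj_mem y hy r
  letI := conjActOn (Subgroup.zpowers z) (N : Set G) hO
  have hmod := hR.card_modEq_card_fixedPoints (N : Set G)
  have hfix : Nat.card (MulAction.fixedPoints (Subgroup.zpowers z) (N : Set G)) = 1 := by
    rw [Nat.card_eq_one_iff_unique]
    refine ⟨⟨?_⟩, ⟨⟨⟨1, N.one_mem⟩, ?_⟩⟩⟩
    · rintro ⟨⟨a, ha⟩, hfa⟩ ⟨⟨b, hb⟩, hfb⟩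
      have h1 : ∀ c : (N : Set G), c ∈ MulAction.fixedPoints (Subgroup.zpowers z) (N : Set G) →
          (c : G) = 1 := by
        intro c hc
        have h2 := hc ⟨z, Subgroup.mem_zpowers z⟩
        have h3 : z * (c : G) * z⁻¹ = c := congrArg Subtype.val h2
        apply hNz c c.2
        calc (c : G) * z = (z * (c : G) * z⁻¹) * z := by rw [h3]
          _ = z * c := by group
      have ha1 : a = 1 := h1 ⟨a, ha⟩ hfa
      have hb1 : b = 1 := h1 ⟨b, hb⟩ hfb
      subst ha1; subst hb1; rfl
    · intro r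
      apply Subtype.ext
      show (r : G) * 1 * (r : G)⁻¹ = 1
      group
  rw [hfix] at hmod
  have hcard : Nat.card (N : Set G) = Nat.card N := rfl
  rw [hcard] at hmod
  rw [Nat.odd_iff]
  exact hmod

theorem isSimpleGroup_of_large [Finite G] (Q : Subgroup G) (hQ : Cfsg.IsLargeExtraspecial Q)
    (z : G) (hz : (Subgroup.center ↥Q).map Q.subtype = Subgroup.zpowers z)
    (hgen : Subgroup.centralizer ({z} : Set G) ≤ Subgroup.normalClosure ({z} : Set G)) :
    IsSimpleGroup G := by
  haveI : Fact (Nat.Prime 2) := ⟨Nat.prime_two⟩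
  obtain ⟨hL1, hL2, hL3, hL4⟩ := hQ
  obtain ⟨zq, hzq, hZs⟩ := exists_es2_sub hL1
  have hz1 : z ≠ 1 := by
    intro h1
    have h2 : (zq : G) ∈ (Subgroup.center ↥Q).map Q.subtype := (hZs zq).mpr (Or.inr rfl)
    rw [hz, h1, Subgroup.zpowers_one_eq_bot, Subgroup.mem_bot] at h2
    exact sub_ne_one hzq h2
  have h : LES Q z := LES.of_large hL1 hL2 hL3 hz hz1
  have hQH : ∀ q ∈ Q, q ∈ Subgroup.centralizer ({z} : Set G) := by
    intro q hq
    exact Subgroup.mem_centralizer_singleton_iff.mpr (h.central hq)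
  refine { toNontrivial := ⟨⟨z, 1, hz1⟩⟩, eq_bot_or_eq_top_of_normal := ?_ }
  intro N hN
  by_cases hNb : N = ⊥
  · exact Or.inl hNb
  right
  -- step (a): z ∈ N
  have hzN : z ∈ N := by
    -- a nontrivial element of N ∩ C(z)
    have hex : ∃ x ∈ N, x * z = z * x ∧ x ≠ 1 := by
      by_contra hcon
      push Not at hcon
      have hodd := odd_card_of_inf_centralizer_eq_bot h.zz hz1 N hcon
      apply hNb
      apply hL4 N hodd
      rw [Subgroup.normalizer_eq_top]
      exact le_top
    obtain ⟨x, hxN, hxz, hx1⟩ := hex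
    -- a nontrivial element of N ∩ Q
    have hex2 : ∃ n ∈ N, n ∈ Q ∧ n ≠ 1 := by
      by_cases hall : ∀ q ∈ Q, x * q = q * x
      · rcases h.cent x hall with h1 | h1
        · exact absurd h1 hx1
        · exact ⟨x, hxN, h1 ▸ h.mem, hx1⟩
      · push Not at hall
        obtain ⟨q, hq, hne⟩ := hall
        refine ⟨x * q * x⁻¹ * q⁻¹, ?_, ?_, ?_⟩
        · have h1 : q * x⁻¹ * q⁻¹ ∈ N := hN.conj_mem _ (N.inv_mem hxN) q
          have h2 : x * q * x⁻¹ * q⁻¹ = x * (q * x⁻¹ * q⁻¹) := by group
          rw [h2]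
          exact N.mul_mem hxN h1
        · exact Q.mul_mem (h.norm x hxz q hq) (Q.inv_mem hq)
        · intro h1
          apply hne
          calc x * q = (x * q * x⁻¹ * q⁻¹) * (q * x) := by group
            _ = q * x := by rw [h1, one_mul]
    obtain ⟨n, hnN, hnQ, hn1⟩ := hex2
    by_cases hnz : n = z
    · exact hnz ▸ hnN
    · obtain ⟨y, hy, hyn⟩ := h.exists_conj hnQ hn1 hnz
      have h1 : z = n⁻¹ * (y * n * y⁻¹) := by rw [hyn]; group
      rw [h1]
      exact N.mul_mem (N.inv_mem hnN) (hN.conj_mem n hnN y)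
  -- step (b): C(z) ≤ N
  have hHN : Subgroup.centralizer ({z} : Set G) ≤ N := by
    refine hgen.trans ?_
    apply Subgroup.normalClosure_le_normal
    intro a ha
    rw [Set.mem_singleton_iff] at ha
    rw [ha]
    exact hzN
  have hQN : Q ≤ N := fun q hq => hHN (hQH q hq)
  -- step (c): Frattini argument
  have hQ2 : IsPGroup 2 (Q.subgroupOf N) := h.isPGroup.comap_subtype
  obtain ⟨P, hP⟩ := hQ2.exists_le_sylow
  have hfr := Sylow.normalizer_sup_eq_top P
  have hQS : ∀ q ∈ Q, q ∈ (P : Subgroup N).map N.subtype := by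
    intro q hq
    refine ⟨⟨q, hQN hq⟩, hP ?_, rfl⟩
    rw [Subgroup.mem_subgroupOf]
    exact hq
  have hS2 : IsPGroup 2 ((P : Subgroup N).map N.subtype) := P.2.map _
  have hzS : z ∈ (P : Subgroup N).map N.subtype := hQS z h.mem
  -- z is central in S
  have hzc : ∀ s ∈ (P : Subgroup N).map N.subtype, s * z = z * s := by
    haveI : Nontrivial ((P : Subgroup N).map N.subtype) :=
      ⟨⟨⟨z, hzS⟩, 1, fun hh => hz1 (congrArg Subtype.val hh)⟩⟩
    have hcn := hS2.center_nontrivial
    obtain ⟨⟨u, hu⟩, hu1⟩ := exists_ne (1 : Subgroup.center ((P : Subgroup N).map N.subtype))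
    have hucomm : ∀ s ∈ (P : Subgroup N).map N.subtype, (u : G) * s = s * (u : G) := by
      intro s hs
      have := (Subgroup.mem_center_iff.mp hu) ⟨s, hs⟩
      exact (congrArg Subtype.val this).symm
    have huz : (u : G) = z := by
      rcases h.cent (u : G) (fun q hq => hucomm q (hQS q hq)) with h1 | h1
      · exfalso
        apply hu1
        apply Subtype.ext
        apply Subtype.ext
        exact h1
      · exact h1
    intro s hs
    rw [← huz]
    exact (hucomm s hs).symm
  have hnorm : Subgroup.normalizer (((P : Subgroup N).map N.subtype : Subgroup G) : Set G) ≤ N := by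
    intro n hn
    apply hHN
    rw [Subgroup.mem_centralizer_singleton_iff]
    have hn' := Subgroup.mem_normalizer_iff.mp hn
    have hninv := Subgroup.mem_normalizer_iff.mp (Subgroup.inv_mem _ hn)
    have hvS : n * z * n⁻¹ ∈ (P : Subgroup N).map N.subtype := (hn' z).mp hzS
    have hvc : ∀ q ∈ Q, (n * z * n⁻¹) * q = q * (n * z * n⁻¹) := by
      intro q hq
      have h1 : n⁻¹ * q * n⁻¹⁻¹ ∈ (P : Subgroup N).map N.subtype := (hninv q).mp (hQS q hq)
      have h2 := hzc _ h1
      rw [inv_inv] at h2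
      calc (n * z * n⁻¹) * q = n * (z * (n⁻¹ * q * n)) * n⁻¹ := by group
        _ = n * ((n⁻¹ * q * n) * z) * n⁻¹ := by rw [h2]
        _ = q * (n * z * n⁻¹) := by group
    rcases h.cent _ hvc with h1 | h1
    · exfalso
      apply hz1
      have : z = n⁻¹ * (n * z * n⁻¹) * n := by group
      rw [this, h1]; group
    · calc n * z = (n * z * n⁻¹) * n := by group
        _ = z * n := by rw [h1]
  rw [← hfr]
  exact (sup_of_le_right hnorm).symm

end Cfsg.Agent.Helper3.LargeSimple
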