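import Mathlib
import Cfsg.Agent.Helper27.S0429Defs

/-! s0429pieces HOFF: a vertex outside a coclique of size 21 of `srg(77,16,0,4)` has exactly 6 neighbours in it
(`Q1 (1_C) = 0`, then `Q1_eq_zero`). -/

set_option autoImplicit false

namespace Cfsg.Agent.S0429P

open Finset

variable {V : Type*} [Fintype V] [DecidableEq V] {G : SimpleGraph V} [DecidableRel G.Adj]

theorem HOFF (h : G.IsSRGWith 77 16 0 4) {C : Finset V} (hC : C ∈ Coc21 G) {z : V} (hz : z ∉ C) :
    (G.neighborFinset z ∩ C).card = 6 := by
  obtain ⟨hcoc, hcard⟩ := mem_Coc21.mp hC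
  set S : Fin 1 → Finset V := fun _ => C with hS
  set w : Fin 1 → ℚ := fun _ => 1 with hw
  have hsum : ∑ v, ind S w v = 21 := by
    rw [sum_ind]
    simp [hS, hw, hcard]
  have hsq : ∑ v, ind S w v ^ 2 = 21 := by
    rw [sum_sq_ind S w (by intro i j hij; exact absurd (Subsingleton.elim i j) hij)]
    simp [hS, hw, hcard]
  have hE : E G C C = 0 := by
    unfold E
    apply Finset.sum_eq_zero
    intro v hv
    have : G.neighborFinset v ∩ C = ∅ := by
      ext y
      simp only [Finset.mem_inter, SimpleGraph.mem_neighborFinset, Finset.notMem_empty, iff_false,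
        not_and]
      intro hvy hy
      exact hcoc v hv y hy hvy
    rw [this]; simp
  have hadj : adjSum G (ind S w) = 0 := by
    rw [adjSum_ind]
    simp [hS, hw, hE]
  have hQ : Q1 G (ind S w) = 0 := by
    unfold Q1
    rw [hsq, hadj, hsum]; norm_num
  have h1 := Q1_eq_zero h (ind S w) hQ z
  rw [hsum, nsum_ind] at h1
  have hgz : ind S w z = 0 := by
    unfold ind
    simp [hS, hz]
  rw [hgz] at h1
  simp only [hS, hw, Finset.univ_unique, Finset.sum_singleton, one_mul] at h1
  have h2 : ((G.neighborFinset z ∩ C).card : ℚ) = 6 := by rw [h1]; norm_num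
  exact_mod_cast h2

end Cfsg.Agent.S0429P
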