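import Mathlib
import Cfsg.Agent.Helper27.S0429Defs
import Cfsg.Agent.Helper3.S0429HOFF
import Cfsg.Agent.Helper3.S0429CNT1

/-! s0429pieces PCLOSED (core): a coclique of size 21 contains the class of `b` w.r.t. `a` for all distinct
`a, b ∈ C`; the hypothesis `hM` is the statement of MATE3 for `(a, b)`. -/

set_option autoImplicit false

namespace Cfsg.Agent.S0429P

open Finset

variable {V : Type*} [Fintype V] [DecidableEq V] {G : SimpleGraph V} [DecidableRel G.Adj]

theorem PCLOSED_aux_card (h : G.IsSRGWith 77 16 0 4) {C : Finset V} (hC : C ∈ Coc21 G) {a b : V}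
    (ha : a ∈ C) (hb : b ∈ C) (hab : a ≠ b) {x : V} (hx : x ∈ cn G a b) :
    (((C.erase a).erase b).filter (fun c => G.Adj x c)).card = 4 := by
  obtain ⟨hcoc, hcard⟩ := mem_Coc21.mp hC
  obtain ⟨hax, hbx⟩ := mem_cn.mp hx
  have hxC : x ∉ C := fun hxC => hcoc a ha x hxC hax
  have heq : ((C.erase a).erase b).filter (fun c => G.Adj x c)
      = ((G.neighborFinset x ∩ C).erase a).erase b := by
    ext c
    simp only [Finset.mem_filter, Finset.mem_erase, Finset.mem_inter, SimpleGraph.mem_neighborFinset]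
    tauto
  rw [heq]
  have ha' : a ∈ G.neighborFinset x ∩ C := by
    rw [Finset.mem_inter, SimpleGraph.mem_neighborFinset]; exact ⟨hax.symm, ha⟩
  have hb' : b ∈ (G.neighborFinset x ∩ C).erase a := by
    rw [Finset.mem_erase, Finset.mem_inter, SimpleGraph.mem_neighborFinset]
    exact ⟨hab.symm, hbx.symm, hb⟩
  rw [Finset.card_erase_of_mem hb', Finset.card_erase_of_mem ha', HOFF h hC hxC]

theorem PCLOSED_aux_sum (h : G.IsSRGWith 77 16 0 4) {C : Finset V} (hC : C ∈ Coc21 G) {a b : V}
    (ha : a ∈ C) (hb : b ∈ C) (hab : a ≠ b) :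
    ∑ c ∈ (C.erase a).erase b, m3 G a b c = 16 := by
  obtain ⟨hcoc, hcard⟩ := mem_Coc21.mp hC
  simp_rw [CNT1_aux_m3]
  rw [Finset.sum_comm]
  have h1 : ∀ x ∈ cn G a b,
      (∑ c ∈ (C.erase a).erase b, if G.Adj x c then 1 else 0) = 4 := by
    intro x hx
    rw [← Finset.card_filter]
    exact PCLOSED_aux_card h hC ha hb hab hx
  rw [Finset.sum_congr rfl h1, Finset.sum_const, card_cn h hab (hcoc a ha b hb)]
  rfl

/-- PCLOSED with the statement of MATE3 (for `(a, b)`) as a hypothesis. -/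
theorem PCLOSED_core (h : G.IsSRGWith 77 16 0 4) {C : Finset V} (hC : C ∈ Coc21 G) {a b : V}
    (ha : a ∈ C) (hb : b ∈ C) (hab : a ≠ b)
    (hM : (Finset.univ.filter (fun c => Mate G a b c)).card = 3) : cls G a b ⊆ C := by
  obtain ⟨hcoc, hcard⟩ := mem_Coc21.mp hC
  set C' := (C.erase a).erase b with hC'
  have hbC : b ∈ C.erase a := Finset.mem_erase.mpr ⟨hab.symm, hb⟩
  have hC'card : C'.card = 19 := by
    rw [hC', Finset.card_erase_of_mem hbC, Finset.card_erase_of_mem ha, hcard]
  have hC'sub : C' ⊆ C := (Finset.erase_subset _ _).trans (Finset.erase_subset _ _)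
  set Z := C'.filter (fun c => m3 G a b c = 0) with hZ
  -- the vertices with `m3 ≥ 1` are at most `Σ m3 = 16`
  have hnZ : (C'.filter (fun c => ¬ m3 G a b c = 0)).card ≤ 16 := by
    rw [← PCLOSED_aux_sum h hC ha hb hab, Finset.card_filter]
    apply Finset.sum_le_sum
    intro c _
    by_cases h0 : m3 G a b c = 0
    · simp [h0]
    · simp only [h0, not_false_eq_true, if_true]; omega
  have hsplit : Z.card + (C'.filter (fun c => ¬ m3 G a b c = 0)).card = C'.card :=
    Finset.card_filter_add_card_filter_not (fun c => m3 G a b c = 0)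
  have hZ3 : 3 ≤ Z.card := by omega
  -- the members of `Z` are mates of `b`
  have hFab : Far G a b := ⟨hab.symm, hcoc a ha b hb⟩
  have hZM : Z ⊆ Finset.univ.filter (fun c => Mate G a b c) := by
    intro c hc
    rw [hZ, Finset.mem_filter] at hc
    obtain ⟨hcC', hm0⟩ := hc
    rw [hC', Finset.mem_erase, Finset.mem_erase] at hcC'
    obtain ⟨hcb, hca, hcC⟩ := hcC'
    rw [Finset.mem_filter]
    refine ⟨Finset.mem_univ _, hFab, ⟨hca, hcoc a ha c hcC⟩, Ne.symm hcb, ?_⟩
    unfold kap
    rw [if_neg (hcoc b hb c hcC), hm0]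
  have hEq : Z = Finset.univ.filter (fun c => Mate G a b c) :=
    Finset.eq_of_subset_of_card_le hZM (by rw [hM]; exact hZ3)
  intro c hc
  rcases mem_cls.mp hc with rfl | hmate
  · exact hb
  · have : c ∈ Z := by rw [hEq, Finset.mem_filter]; exact ⟨Finset.mem_univ _, hmate⟩
    rw [hZ, Finset.mem_filter] at this
    exact hC'sub this.1

end Cfsg.Agent.S0429P
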