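import Mathlib
import Cfsg.Agent.Helper27.S0429Defs
import Cfsg.Agent.Helper3.S0429PCLcore

/-! s0429pieces TRACE and RECON (cores): the trace of a 21-coclique through `a` on `Pt a x` is an ovoid, and the coclique
is `a` together with the classes of its trace.  Hypotheses = statements of MATE3, KAP2, CLS4, CLSFAR, CLSEQ. -/

set_option autoImplicit false

namespace Cfsg.Agent.S0429P

open Finset

variable {V : Type*} [Fintype V] [DecidableEq V] {G : SimpleGraph V} [DecidableRel G.Adj]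

theorem TRACE_aux_card (h : G.IsSRGWith 77 16 0 4) {a x : V} (hax : G.Adj a x) {C : Finset V}
    (hC : C ∈ Coc21 G) (ha : a ∈ C) : (C ∩ Pt G a x).card = 5 := by
  obtain ⟨hcoc, hcard⟩ := mem_Coc21.mp hC
  have hxC : x ∉ C := fun hxC => hcoc a ha x hxC hax
  have heq : C ∩ Pt G a x = (G.neighborFinset x ∩ C).erase a := by
    ext u
    simp only [Finset.mem_inter, mem_Pt, Finset.mem_erase, SimpleGraph.mem_neighborFinset]
    tauto
  have ha' : a ∈ G.neighborFinset x ∩ C := by
    rw [Finset.mem_inter, SimpleGraph.mem_neighborFinset]; exact ⟨hax.symm, ha⟩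
  rw [heq, Finset.card_erase_of_mem ha', HOFF h hC hxC]

/-- TRACE with the statements of MATE3 and KAP2 as hypotheses. -/
theorem TRACE_core (h : G.IsSRGWith 77 16 0 4) {a x : V} (hax : G.Adj a x) {C : Finset V}
    (hC : C ∈ Coc21 G) (ha : a ∈ C)
    (hMATE3 : ∀ b : V, Far G a b → (Finset.univ.filter (fun c => Mate G a b c)).card = 3)
    (hKAP2 : ∀ b z : V, Far G a b → Far G a z → z ∉ cls G a b → kap G a z b = 2 →
      (G.neighborFinset z ∩ cls G a b).card = 2) :
    C ∩ Pt G a x ∈ ovs G a x := by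
  obtain ⟨hcoc, hcard⟩ := mem_Coc21.mp hC
  rw [mem_ovs]
  refine ⟨Finset.inter_subset_right, TRACE_aux_card h hax hC ha, ?_⟩
  intro u hu u' hu' hcol
  rw [Finset.mem_inter, mem_Pt] at hu hu'
  obtain ⟨huC, hua, -⟩ := hu
  obtain ⟨hu'C, hu'a, -⟩ := hu'
  obtain ⟨hne, hk⟩ := hcol
  have hFu : Far G a u := ⟨hua, hcoc a ha u huC⟩
  have hFu' : Far G a u' := ⟨hu'a, hcoc a ha u' hu'C⟩
  have hncls : u' ∉ cls G a u := by
    intro hmem
    rcases mem_cls.mp hmem with heq | hmate
    · exact hne heq.symm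
    · rw [hmate.2.2.2] at hk; exact absurd hk (by norm_num)
  have h2 := hKAP2 u u' hFu hFu' hncls (by rw [kap_symm]; exact hk)
  have hpos : 0 < (G.neighborFinset u' ∩ cls G a u).card := by omega
  obtain ⟨w, hw⟩ := Finset.card_pos.mp hpos
  rw [Finset.mem_inter, SimpleGraph.mem_neighborFinset] at hw
  have hsub := PCLOSED_core h hC ha huC (Ne.symm hua) (hMATE3 u hFu)
  exact hcoc u' hu'C w (hsub hw.2) hw.1

/-- RECON with the statements of MATE3, KAP2, CLS4, CLSFAR, CLSEQ as hypotheses. -/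
theorem RECON_core (h : G.IsSRGWith 77 16 0 4) {a x : V} (hax : G.Adj a x) {C : Finset V}
    (hC : C ∈ Coc21 G) (ha : a ∈ C)
    (hMATE3 : ∀ b : V, Far G a b → (Finset.univ.filter (fun c => Mate G a b c)).card = 3)
    (hCLS4 : ∀ b : V, Far G a b → (cls G a b).card = 4)
    (hCLSFAR : ∀ b c : V, Far G a b → c ∈ cls G a b → Far G a c)
    (hCLSEQ : ∀ b c : V, Far G a b → c ∈ cls G a b → cls G a c = cls G a b)
    (hPT : ∀ u ∈ Pt G a x, ∀ u' ∈ Pt G a x, u ≠ u' → u' ∉ cls G a u) :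
    C = insert a ((C ∩ Pt G a x).biUnion (cls G a)) := by
  obtain ⟨hcoc, hcard⟩ := mem_Coc21.mp hC
  have hFar : ∀ u ∈ C ∩ Pt G a x, Far G a u := by
    intro u hu
    rw [Finset.mem_inter, mem_Pt] at hu
    exact ⟨hu.2.1, hcoc a ha u hu.1⟩
  have hsub : insert a ((C ∩ Pt G a x).biUnion (cls G a)) ⊆ C := by
    intro v hv
    rw [Finset.mem_insert, Finset.mem_biUnion] at hv
    rcases hv with rfl | ⟨u, hu, hvu⟩
    · exact ha
    · have hFu := hFar u hu
      rw [Finset.mem_inter] at hu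
      exact PCLOSED_core h hC ha hu.1 (Ne.symm hFu.1) (hMATE3 u hFu) hvu
  have hdisj : ∀ u ∈ C ∩ Pt G a x, ∀ u' ∈ C ∩ Pt G a x, u ≠ u' →
      Disjoint (cls G a u) (cls G a u') := by
    intro u hu u' hu' hne
    rw [Finset.disjoint_left]
    intro w hw hw'
    have e1 := hCLSEQ u w (hFar u hu) hw
    have e2 := hCLSEQ u' w (hFar u' hu') hw'
    have : u' ∈ cls G a u := by rw [← e1, e2]; exact self_mem_cls a u'
    exact hPT u (Finset.mem_inter.mp hu).2 u' (Finset.mem_inter.mp hu').2 hne this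
  have hcardU : ((C ∩ Pt G a x).biUnion (cls G a)).card = 20 := by
    rw [Finset.card_biUnion hdisj, Finset.sum_congr rfl (fun u hu => hCLS4 u (hFar u hu)),
      Finset.sum_const, TRACE_aux_card h hax hC ha]
    rfl
  have hanot : a ∉ (C ∩ Pt G a x).biUnion (cls G a) := by
    intro hmem
    rw [Finset.mem_biUnion] at hmem
    obtain ⟨u, hu, hau⟩ := hmem
    exact (hCLSFAR u a (hFar u hu) hau).1 rfl
  symm
  apply Finset.eq_of_subset_of_card_le hsub
  rw [Finset.card_insert_of_notMem hanot, hcardU, hcard]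

end Cfsg.Agent.S0429P
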