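import Mathlib
import Cfsg.Agent.Helper3.S0429TRcore
import Cfsg.Agent.Helper10.S0429CLScore
import Cfsg.Agent.Helper27.S0429MATE3h
import Cfsg.Agent.Helper27.S0429CLS4h
import Cfsg.Agent.Helper10.S0429CLS
import Cfsg.Agent.Helper22.S0429PTKAP

/-! s0429pieces RECON (wrapper: `RECON_core` + MATE3 + CLS4 + CLSFAR + CLSEQ + PTKAP). -/

set_option autoImplicit false

namespace Cfsg.Agent.S0429P

open Finset

variable {V : Type*} [Fintype V] [DecidableEq V] {G : SimpleGraph V} [DecidableRel G.Adj]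

theorem RECON (h : G.IsSRGWith 77 16 0 4) {a x : V} (hax : G.Adj a x) {C : Finset V} (hC : C ∈ Coc21 G) (ha : a ∈ C) :
    C = insert a ((C ∩ Pt G a x).biUnion (cls G a)) :=
  RECON_core h hax hC ha (fun _ hb => MATE3 h hb) (fun _ hb => CLS4 h hb)
    (fun _ _ hb hc => CLSFAR hb hc) (fun _ _ hb hc => CLSEQ h hb hc)
    (fun _ hu _ hu' hne => (PTKAP h hax hu hu' hne).2)

end Cfsg.Agent.S0429P
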