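import Mathlib
import Cfsg.Agent.Helper3.S0429TRcore
import Cfsg.Agent.Helper27.S0429MATE3h
import Cfsg.Agent.Helper10.S0429KAP2

/-! s0429pieces TRACE (wrapper: `TRACE_core` + MATE3 + KAP2). -/

set_option autoImplicit false

namespace Cfsg.Agent.S0429P

open Finset

variable {V : Type*} [Fintype V] [DecidableEq V] {G : SimpleGraph V} [DecidableRel G.Adj]

theorem TRACE (h : G.IsSRGWith 77 16 0 4) {a x : V} (hax : G.Adj a x) {C : Finset V} (hC : C ∈ Coc21 G) (ha : a ∈ C) :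
    C ∩ Pt G a x ∈ ovs G a x :=
  TRACE_core h hax hC ha (fun _ hb => MATE3 h hb)
    (fun _ _ hb hz hzb hk => KAP2 h hb hz hzb hk)

end Cfsg.Agent.S0429P
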