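import Cfsg.Agent.Helper27.S0745Defs

/-! # S0745 board, rows ARITHEVEN, ARITHODD (pure arithmetic) -/

set_option autoImplicit false

namespace Cfsg.Agent.S0745P

theorem arith_aux_choose2 (s : ℕ) : 2 * (s + 2).choose s = (s + 2) * (s + 1) := by
  have h := Nat.add_choose_mul_factorial_mul_factorial s 2
  -- (s + 2).choose 2 * s! * 2! = (s+2)!
  have h2 : (s + 2).choose s = (s + 2).choose 2 := Nat.choose_symm_add
  rw [h2]
  have hf : (s + 2).factorial = (s + 2) * (s + 1) * s.factorial := by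
    rw [Nat.factorial_succ, Nat.factorial_succ]; ring
  rw [hf] at h
  have hpos : 0 < s.factorial := Nat.factorial_pos s
  have h3 : (2 * (s + 2).choose 2) * s.factorial = ((s + 2) * (s + 1)) * s.factorial := by
    have : (2 : ℕ).factorial = 2 := rfl
    rw [this] at h
    linarith
  exact Nat.eq_of_mul_eq_mul_right hpos h3

theorem arith_aux_choose3 (s : ℕ) : 6 * (s + 3).choose s = (s + 3) * (s + 2) * (s + 1) := by
  have h := Nat.add_choose_mul_factorial_mul_factorial s 3
  have h2 : (s + 3).choose s = (s + 3).choose 3 := Nat.choose_symm_add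
  rw [h2]
  have hf : (s + 3).factorial = (s + 3) * (s + 2) * (s + 1) * s.factorial := by
    rw [Nat.factorial_succ, Nat.factorial_succ, Nat.factorial_succ]; ring
  rw [hf] at h
  have hpos : 0 < s.factorial := Nat.factorial_pos s
  have h3 : (6 * (s + 3).choose 3) * s.factorial = ((s + 3) * (s + 2) * (s + 1)) * s.factorial := by
    have : (3 : ℕ).factorial = 6 := rfl
    rw [this] at h
    linarith
  exact Nat.eq_of_mul_eq_mul_right hpos h3

/-- ARITHEVEN -/
theorem arith_even (t c r n U N C : ℕ) (ht : 4 ≤ t) (hc : 1 ≤ c) (hN : 1 ≤ N) (hr2 : 2 ≤ r)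
    (hre : Even r) (hn : n = r * c + t) (hC : 0 < C)
    (hA : U * ((n - (t - 2 + r % 2)) * (t - 2 + r % 2).choose (t - 2)) = C * (t * (t - 1)) * N)
    (hB : U * ((n - (t - 2 + r % 2)) * (n - (t - 2 + r % 2) - 2) * (t - 2 + r % 2).choose (t - 4))
      ≤ C * (t * (t - 1) * (t - 2) * (t - 3)) * c) : r = 2 := by
  obtain ⟨s, rfl⟩ := Nat.exists_eq_add_of_le' ht
  have hr0 : r % 2 = 0 := Nat.even_iff.mp hre
  set m := r * c with hm
  have e1 : s + 4 - 2 + r % 2 = s + 2 := by omega
  have e2 : n - (s + 2) = m + 2 := by omega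
  have e3 : s + 4 - 2 = s + 2 := by omega
  have e4 : s + 4 - 4 = s := by omega
  have e5 : s + 4 - 1 = s + 3 := by omega
  have e6 : s + 4 - 3 = s + 1 := by omega
  have e7 : m + 2 - 2 = m := by omega
  rw [e1, e2, e3, Nat.choose_self, mul_one, e5] at hA
  rw [e1, e2, e7, e3, e4, e5, e6] at hB
  set K := (s + 2).choose s with hK
  have hK2 : 2 * K = (s + 2) * (s + 1) := arith_aux_choose2 s
  have hKpos : 0 < K := by
    rcases Nat.eq_zero_or_pos K with h | h
    · rw [h, mul_zero] at hK2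
      have : 0 < (s + 2) * (s + 1) := by positivity
      omega
    · exact h
  set T := (s + 4) * (s + 3) with hT
  have hTpos : 0 < T := by positivity
  -- hA : U * (m + 2) = C * T * N ;  hB : U * ((m + 2) * m * K) ≤ C * (T * (s+2) * (s+1)) * c
  have h1 : (C * T * K * c) * (N * r) ≤ (C * T * K * c) * 2 := by
    have l : (C * T * K * c) * (N * r) = U * ((m + 2) * m * K) := by
      have : U * ((m + 2) * m * K) = (U * (m + 2)) * (m * K) := by ring
      rw [this, hA, hm]; ring
    have rr : C * ((s + 4) * (s + 3) * (s + 2) * (s + 1)) * c = (C * T * K * c) * 2 := by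
      have : (s + 4) * (s + 3) * (s + 2) * (s + 1) = T * ((s + 2) * (s + 1)) := by rw [hT]; ring
      rw [this, ← hK2]; ring
    rw [l, ← rr]; exact hB
  have hpos : 0 < C * T * K * c := by positivity
  have h2 : N * r ≤ 2 := Nat.le_of_mul_le_mul_left h1 hpos
  have h3 : r ≤ N * r := Nat.le_mul_of_pos_left r hN
  omega

/-- ARITHODD -/
theorem arith_odd (t c r n U N C : ℕ) (ht : 4 ≤ t) (hc : 1 ≤ c) (hNc : c ≤ N)
    (hro : Odd r) (hn : n = r * c + t) (hC : 0 < C)
    (hA : U * ((n - (t - 2 + r % 2)) * (t - 2 + r % 2).choose (t - 2)) = C * (t * (t - 1)) * N)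
    (hB : U * ((n - (t - 2 + r % 2)) * (n - (t - 2 + r % 2) - 2) * (t - 2 + r % 2).choose (t - 4))
      ≤ C * (t * (t - 1) * (t - 2) * (t - 3)) * c) : r * c ≤ 7 := by
  obtain ⟨s, rfl⟩ := Nat.exists_eq_add_of_le' ht
  have hr1 : r % 2 = 1 := Nat.odd_iff.mp hro
  have hrpos : 1 ≤ r := by omega
  set m := r * c with hm
  have hmpos : 1 ≤ m := by rw [hm]; exact Nat.mul_pos hrpos hc
  have e1 : s + 4 - 2 + r % 2 = s + 3 := by omega
  have e2 : n - (s + 3) = m + 1 := by omega
  have e3 : s + 4 - 2 = s + 2 := by omega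
  have e4 : s + 4 - 4 = s := by omega
  have e5 : s + 4 - 1 = s + 3 := by omega
  have e6 : s + 4 - 3 = s + 1 := by omega
  obtain ⟨m', hm'⟩ : ∃ m', m = m' + 1 := ⟨m - 1, by omega⟩
  have e7 : m + 1 - 2 = m' := by omega
  have hch1 : (s + 3).choose (s + 2) = s + 3 := by
    have : (s + 3).choose (s + 2) = (s + 2 + 1).choose (s + 2) := rfl
    rw [this, Nat.choose_succ_self_right]
  rw [e1, e2, e3, hch1, e5] at hA
  rw [e1, e2, e7, e3, e4, e5, e6] at hB
  set K := (s + 3).choose s with hK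
  have hK6 : 6 * K = (s + 3) * (s + 2) * (s + 1) := arith_aux_choose3 s
  have hKpos : 0 < K := by
    rcases Nat.eq_zero_or_pos K with h | h
    · rw [h, mul_zero] at hK6
      have : 0 < (s + 3) * (s + 2) * (s + 1) := by positivity
      omega
    · exact h
  -- hA : U * ((m + 1) * (s + 3)) = C * ((s + 4) * (s + 3)) * N
  have hA' : U * (m + 1) = C * (s + 4) * N := by
    have h3 : (U * (m + 1)) * (s + 3) = (C * (s + 4) * N) * (s + 3) := by
      have l : (U * (m + 1)) * (s + 3) = U * ((m + 1) * (s + 3)) := by ring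
      rw [l, hA]; ring
    exact Nat.eq_of_mul_eq_mul_right (by positivity) h3
  -- hB : U * ((m + 1) * m' * K) ≤ C * ((s + 4) * (s + 3) * (s + 2) * (s + 1)) * c
  have h1 : (C * (s + 4) * K) * (N * m') ≤ (C * (s + 4) * K) * (6 * c) := by
    have l : (C * (s + 4) * K) * (N * m') = U * ((m + 1) * m' * K) := by
      have : U * ((m + 1) * m' * K) = (U * (m + 1)) * (m' * K) := by ring
      rw [this, hA']; ring
    have rr : C * ((s + 4) * (s + 3) * (s + 2) * (s + 1)) * c = (C * (s + 4) * K) * (6 * c) := by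
      have : (s + 4) * (s + 3) * (s + 2) * (s + 1) = (s + 4) * ((s + 3) * (s + 2) * (s + 1)) := by ring
      rw [this, ← hK6]; ring
    rw [l, ← rr]; exact hB
  have hpos : 0 < C * (s + 4) * K := by positivity
  have h2 : N * m' ≤ 6 * c := Nat.le_of_mul_le_mul_left h1 hpos
  have h3 : c * m' ≤ N * m' := Nat.mul_le_mul_right m' hNc
  have h4 : c * m' ≤ c * 6 := by linarith
  have h5 : m' ≤ 6 := Nat.le_of_mul_le_mul_left h4 hc
  omega

end Cfsg.Agent.S0745P
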