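import Mathlib
import Cfsg.Prelude.Def_GeometricClasses
import Cfsg.Prelude.Def_Classical
import Cfsg.Prelude.Def_LieClassical
import Cfsg.Agent.Helper27.S5989Defs
import Cfsg.Agent.Helper15.S5992NT

/-!
# S5989 piece ARITHNEC (helper3): pure number theory, the criterion implies the closed form.
-/

set_option autoImplicit false
open scoped MatrixGroups
universe u

namespace Cfsg.Agent.S5989P

namespace ARITHNEC

open Cfsg.Agent.S5992P

/-- what `r ∣ wk` says about `i = ord_r(q)` -/
theorem of_dvd_wk {q r : ℕ} [Fact r.Prime] (hr2 : r ≠ 2) (hq : 2 ≤ q)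
    (ε : Bool) (i d m : ℕ) (hi : i = orderOf (q : ZMod r)) (hdiv : r ∣ wk ε q d m) :
    (∃ j, d - (m - 1) / 2 ≤ j ∧ j < d ∧ i ∣ 2 * j) ∨ (ε = true ∧ i ∣ d) ∨
      (ε = false ∧ i ∣ 2 * d ∧ ¬ i ∣ d) := by
  have hr : r.Prime := Fact.out
  have hq1 : 1 ≤ q := by omega
  unfold wk at hdiv
  rcases hr.dvd_mul.1 hdiv with h | h
  · right
    unfold epsFac at h
    cases ε
    · right
      rw [if_neg (by simp)] at h
      have h1 := NT.cast_pow_add_one d h
      refine ⟨rfl, ?_, ?_⟩
      · rw [hi]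
        apply orderOf_dvd_of_pow_eq_one
        rw [mul_comm, pow_mul, h1]
        norm_num
      · intro hid
        rw [hi] at hid
        have h2 := orderOf_dvd_iff_pow_eq_one.1 hid
        rw [h1] at h2
        have h3 : (2 : ZMod r) = 0 := by
          have : (1 : ZMod r) + 1 = 0 := by
            nth_rewrite 1 [← h2]
            ring
          rw [← this]; norm_num
        exact NT.two_ne_zero' hr2 h3
    · left
      rw [if_pos rfl] at h
      have h1 := NT.cast_pow_sub_one hq1 d h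
      refine ⟨rfl, ?_⟩
      rw [hi]
      exact orderOf_dvd_of_pow_eq_one h1
  · left
    obtain ⟨j, hj, hjd⟩ := (Prime.dvd_finsetProd_iff hr.prime _).1 h
    rw [Finset.mem_Ico] at hj
    refine ⟨j, hj.1, hj.2, ?_⟩
    rw [hi]
    exact orderOf_dvd_of_pow_eq_one (NT.cast_pow_sub_one hq1 _ hjd)

/-- for `c ∤ 2d`, the divisibility gives a multiple `2j` of `c` in the window -/
theorem exists_mult (ε : Bool) (i c d m : ℕ) (hi0 : 0 < i)
    (hc : c = if Even i then i else 2 * i) (hρ : 0 < (2 * d) % c)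
    (h : (∃ j, d - (m - 1) / 2 ≤ j ∧ j < d ∧ i ∣ 2 * j) ∨ (ε = true ∧ i ∣ d) ∨
      (ε = false ∧ i ∣ 2 * d ∧ ¬ i ∣ d)) :
    ∃ j, d - (m - 1) / 2 ≤ j ∧ j < d ∧ c ∣ 2 * j := by
  by_cases hie : Even i
  · have hci : c = i := by rw [hc, if_pos hie]
    rcases h with ⟨j, h1, h2, h3⟩ | ⟨_, h3⟩ | ⟨_, h3, _⟩
    · exact ⟨j, h1, h2, by rw [hci]; exact h3⟩
    · exfalso
      have : c ∣ 2 * d := by rw [hci]; exact Dvd.dvd.mul_left h3 2
      have := Nat.mod_eq_zero_of_dvd this
      omega
    · exfalso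
      have : c ∣ 2 * d := by rw [hci]; exact h3
      have := Nat.mod_eq_zero_of_dvd this
      omega
  · have hci : c = 2 * i := by rw [hc, if_neg hie]
    have hio : Odd i := Nat.not_even_iff_odd.1 hie
    have hcop : Nat.Coprime i 2 := Nat.Coprime.symm (Nat.coprime_two_left.2 hio)
    rcases h with ⟨j, h1, h2, h3⟩ | ⟨_, h3⟩ | ⟨_, h3, h4⟩
    · refine ⟨j, h1, h2, ?_⟩
      rw [hci]
      exact Nat.mul_dvd_mul_left 2 (hcop.dvd_of_dvd_mul_left h3)
    · exfalso
      have : c ∣ 2 * d := by rw [hci]; exact Nat.mul_dvd_mul_left 2 h3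
      have := Nat.mod_eq_zero_of_dvd this
      omega
    · exfalso
      exact h4 (hcop.dvd_of_dvd_mul_left h3)

/-- the window forces `c ≤ m` -/
theorem c_le_m (c d m j : ℕ) (hc0 : 0 < c) (hm : Odd m) (hmd : m < d)
    (h1 : d - (m - 1) / 2 ≤ j) (h2 : j < d) (h3 : c ∣ 2 * j)
    (hlt : m % c < (2 * d) % c) : c ≤ m := by
  by_contra hcm
  push Not at hcm
  rw [Nat.mod_eq_of_lt hcm] at hlt
  obtain ⟨t, ht⟩ := h3
  obtain ⟨k, hk⟩ := hm
  have hD := Nat.div_add_mod (2 * d) c
  have hρ := Nat.mod_lt (2 * d) hc0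
  have htB : t ≤ (2 * d) / c := by
    by_contra hcon
    push Not at hcon
    have : c * ((2 * d) / c + 1) ≤ c * t := Nat.mul_le_mul_left c hcon
    have h4 : c * ((2 * d) / c + 1) = c * ((2 * d) / c) + c := by ring
    omega
  have h5 : c * t ≤ c * ((2 * d) / c) := Nat.mul_le_mul_left c htB
  omega

end ARITHNEC

/-- ARITHNEC (pure number theory) -/
theorem crit_imp_closed {q r : ℕ} [Fact r.Prime] (hr2 : r ≠ 2) (hrq : ¬ r ∣ q) (hq : 2 ≤ q)
    (ε : Bool) (i c d m : ℕ) (hi : i = orderOf (q : ZMod r))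
    (hc : c = if Even i then i else 2 * i) (hd : 4 ≤ d) (hm : Odd m) (hmd : m < d)
    (hdiv : r ∣ wk ε q d m)
    (hcrit : ∀ b, Realiz ε i c d b → ∃ a' b' : ℕ, m = a' + c * b' ∧ a' ≤ 2 * d - c * b ∧ b' ≤ b) :
    ClosedOdd ε i c d m := by
  have hr : r.Prime := Fact.out
  -- `i > 0`
  have hi0 : 0 < i := by
    have hunit : ((q : ℕ) : ZMod r) ≠ 0 := by
      intro h0
      exact hrq ((ZMod.natCast_eq_zero_iff _ _).1 h0)
    have hpow := ZMod.pow_card_sub_one_eq_one hunit
    have hd' : i ∣ r - 1 := by rw [hi]; exact orderOf_dvd_of_pow_eq_one hpow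
    have hr1 : 0 < r - 1 := by have := hr.two_le; omega
    exact Nat.pos_of_dvd_of_pos hd' hr1
  have hc0 : 0 < c := by
    rw [hc]
    split_ifs <;> omega
  obtain ⟨c', hc'⟩ : Even c := by
    rw [hc]
    split_ifs with h
    · exact h
    · exact ⟨i, by ring⟩
  have hD := Nat.div_add_mod (2 * d) c
  have hρlt := Nat.mod_lt (2 * d) hc0
  set B := (2 * d) / c with hB
  set ρ := (2 * d) % c with hρdef
  rcases Nat.eq_zero_or_pos ρ with hρ | hρ
  · -- `c ∣ 2 d`
    have hcB : c * B = 2 * d := by omega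
    have hB1 : 1 ≤ B := by
      rcases Nat.eq_zero_or_pos B with h0 | h0
      · rw [h0, mul_zero] at hcB; omega
      · exact h0
    by_cases hty : typeOK ε i B
    · exfalso
      obtain ⟨a', b', h1, h2, _⟩ := hcrit B ⟨hB1, by omega, fun _ => hty⟩
      have ha0 : a' = 0 := by omega
      rw [ha0, zero_add, hc', ← two_mul, mul_assoc] at h1
      obtain ⟨k, hk⟩ := hm
      omega
    · unfold typeOK at hty
      unfold ClosedOdd
      by_cases hie : Even i
      · have hci : c = i := by rw [hc, if_pos hie]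
        rw [if_pos hie] at hty
        have hBi : 2 * d / i = B := by rw [hB, hci]
        cases ε
        · rw [if_neg (by simp)]
          right
          refine ⟨hie, Or.inl ⟨hρ, ?_⟩⟩
          rw [hBi]
          by_contra hne
          exact hty ⟨fun h => absurd h hne, fun h => Bool.noConfusion h⟩
        · rw [if_pos rfl]
          right
          refine ⟨hie, Or.inl ⟨hρ, ?_⟩⟩
          rw [hBi]
          rw [← Nat.not_even_iff_odd]
          intro hev
          exact hty ⟨fun _ => rfl, fun _ => hev⟩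
      · rw [if_neg hie] at hty
        have hio : Odd i := Nat.not_even_iff_odd.1 hie
        cases ε
        · rw [if_neg (by simp)]
          left
          exact ⟨hio, Or.inl hρ⟩
        · exact absurd rfl hty
  · -- `c ∤ 2 d`
    obtain ⟨j, hj1, hj2, hj3⟩ := ARITHNEC.exists_mult ε i c d m hi0 hc hρ
      (ARITHNEC.of_dvd_wk hr2 hq ε i d m hi hdiv)
    have hjpos : 0 < j := by
      obtain ⟨k, hk⟩ := hm
      omega
    have hB1 : 1 ≤ B := by
      rcases Nat.eq_zero_or_pos B with h0 | h0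
      · exfalso
        rw [h0, mul_zero, zero_add] at hD
        have := Nat.le_of_dvd (by omega) hj3
        omega
      · exact h0
    obtain ⟨a', b', h1, h2, _⟩ := hcrit B ⟨hB1, by omega, fun h => by omega⟩
    have ha' : a' ≤ ρ := by omega
    have hmod : m % c = a' := by
      rw [h1, Nat.add_mul_mod_self_left, Nat.mod_eq_of_lt (by omega)]
    -- parities
    have hρeven : ρ % 2 = 0 := by
      have : c * B = 2 * (c' * B) := by rw [hc']; ring
      omega
    have hmodd : a' % 2 = 1 := by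
      obtain ⟨k, hk⟩ := hm
      have : c * b' = 2 * (c' * b') := by rw [hc']; ring
      omega
    have hlt : m % c < ρ := by rw [hmod]; omega
    have hpos : 0 < m % c := by rw [hmod]; omega
    have hcm : c ≤ m := ARITHNEC.c_le_m c d m j hc0 hm hmd hj1 hj2 hj3 hlt
    unfold ClosedOdd
    by_cases hie : Even i
    · have hci : c = i := by rw [hc, if_pos hie]
      have him : i ≤ m := by rw [← hci]; exact hcm
      cases ε
      · rw [if_neg (by simp)]
        right
        exact ⟨hie, Or.inr ⟨hρ, him, hpos, hlt⟩⟩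
      · rw [if_pos rfl]
        right
        exact ⟨hie, Or.inr ⟨him, hpos, hlt⟩⟩
    · have hio : Odd i := Nat.not_even_iff_odd.1 hie
      cases ε
      · rw [if_neg (by simp)]
        left
        exact ⟨hio, Or.inr ⟨hcm, hpos, hlt⟩⟩
      · rw [if_pos rfl]
        left
        exact ⟨hio, hcm, hpos, hlt⟩

end Cfsg.Agent.S5989P
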