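import Mathlib
import Cfsg.Prelude.Def_GeometricClasses
import Cfsg.Prelude.Def_Classical
import Cfsg.Prelude.Def_LieClassical
import Cfsg.Agent.Helper27.S5989Defs

/-!
# S5989 piece ARITHSUFF (helper3): pure arithmetic, the closed form implies the criterion.
-/

set_option autoImplicit false
open scoped MatrixGroups
universe u

namespace Cfsg.Agent.S5989P

namespace ARITHSUFF

/-- the arithmetic core -/
theorem key (c d m b : ℕ) (hc0 : 0 < c) (hcb : c * b ≤ 2 * d) (hmd : m < d)
    (H : m % c < (2 * d) % c ∨ ((2 * d) % c = 0 ∧ c * b ≠ 2 * d)) :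
    ∃ b' : ℕ, c * b' ≤ m ∧ (m - c * b') + 1 ≤ 2 * d - c * b ∧ b' ≤ b := by
  have hm1 := Nat.div_add_mod m c
  have hD1 := Nat.div_add_mod (2 * d) c
  have hmlt := Nat.mod_lt m hc0
  have hbD : b ≤ (2 * d) / c := (Nat.le_div_iff_mul_le hc0).2 (by rw [mul_comm]; exact hcb)
  have hcbD : c * b ≤ c * ((2 * d) / c) := Nat.mul_le_mul_left c hbD
  by_cases hbm : b ≤ m / c
  · refine ⟨b, ?_, ?_, le_refl _⟩
    · have : c * b ≤ c * (m / c) := Nat.mul_le_mul_left c hbm
      omega
    · have : c * b ≤ c * (m / c) := Nat.mul_le_mul_left c hbm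
      omega
  · push Not at hbm
    refine ⟨m / c, by omega, ?_, le_of_lt hbm⟩
    rcases H with H | ⟨H1, H2⟩
    · omega
    · have hne : b ≠ (2 * d) / c := by
        intro h
        apply H2
        rw [h]
        omega
      have hb1 : b + 1 ≤ (2 * d) / c := by omega
      have h3 : c * (b + 1) ≤ c * ((2 * d) / c) := Nat.mul_le_mul_left c hb1
      have h4 : c * (b + 1) = c * b + c := by ring
      omega

end ARITHSUFF

/-- ARITHSUFF (pure arithmetic) -/
theorem closed_imp_crit (ε : Bool) (i c d m b : ℕ) (hi0 : 0 < i)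
    (hc : c = if Even i then i else 2 * i) (hd : 4 ≤ d) (hm : Odd m) (hmd : m < d)
    (hcl : ClosedOdd ε i c d m) (hb : Realiz ε i c d b) :
    ∃ a' b' : ℕ, m = a' + c * b' ∧ Odd a' ∧ a' + 1 ≤ 2 * d - c * b ∧ b' ≤ b := by
  obtain ⟨hb1, hcb, hty⟩ := hb
  have hc0 : 0 < c := by
    rw [hc]
    split_ifs <;> omega
  have hceven : Even c := by
    rw [hc]
    split_ifs with h
    · exact h
    · exact ⟨i, by ring⟩
  have H : m % c < (2 * d) % c ∨ ((2 * d) % c = 0 ∧ c * b ≠ 2 * d) := by
    unfold ClosedOdd at hcl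
    unfold typeOK at hty
    cases ε
    · rw [if_neg (by simp)] at hcl
      rcases hcl with ⟨hio, h0 | ⟨_, _, h⟩⟩ | ⟨hie, ⟨h0, hE⟩ | ⟨_, _, _, h⟩⟩
      · right
        refine ⟨h0, fun hcb2 => ?_⟩
        have := hty hcb2
        rw [if_neg (Nat.not_even_iff_odd.2 hio)] at this
        exact Bool.noConfusion this
      · left; exact h
      · right
        refine ⟨h0, fun hcb2 => ?_⟩
        have h1 := hty hcb2
        rw [if_pos hie] at h1
        have hci : c = i := by rw [hc, if_pos hie]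
        have hdiv : (2 * d) / i = b := by
          rw [← hcb2, hci, Nat.mul_div_cancel_left _ hi0]
        rw [hdiv] at hE
        exact Bool.noConfusion (h1.1 hE)
      · left; exact h
    · rw [if_pos rfl] at hcl
      rcases hcl with ⟨_, _, _, h⟩ | ⟨hie, ⟨h0, hO⟩ | ⟨_, _, h⟩⟩
      · left; exact h
      · right
        refine ⟨h0, fun hcb2 => ?_⟩
        have h1 := hty hcb2
        rw [if_pos hie] at h1
        have hci : c = i := by rw [hc, if_pos hie]
        have hdiv : (2 * d) / i = b := by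
          rw [← hcb2, hci, Nat.mul_div_cancel_left _ hi0]
        rw [hdiv] at hO
        exact (Nat.not_even_iff_odd.2 hO) (h1.2 rfl)
      · left; exact h
  obtain ⟨b', h1, h2, h3⟩ := ARITHSUFF.key c d m b hc0 hcb hmd H
  refine ⟨m - c * b', b', by omega, ?_, h2, h3⟩
  exact Nat.Odd.sub_even h1 hm (hceven.mul_right b')

end Cfsg.Agent.S5989P
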