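import Mathlib
import Cfsg.Prelude.Def_PLocal
import Cfsg.Agent.Helper28.S2768Defs
import Cfsg.Agent.Helper28.S2768AF
import Cfsg.Agent.Helper28.S2768SJQ
import Cfsg.Agent.Helper14.PCore
import Cfsg.Agent.Helper28.S2768UQ
import Cfsg.Agent.Helper28.S2768DWV
import Cfsg.Agent.Helper9.S2768CENTA

/-! S2768 board, piece CENTB (blueprint 5.12 (c)): `L = G₁ R`, `G = L Q`, `L ∩ S = B (L ∩ Q)`,
`[L ∩ Q, L] ≤ R`, `L = ⟨B^L⟩`. -/

set_option autoImplicit false

namespace Cfsg.Agent.S2768P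

open Subgroup
open scoped commutatorElement

variable {G : Type*} [Group G] [Finite G] {p : ℕ} [Fact p.Prime]

omit [Fact (Nat.Prime p)] in
/-- `Q = O_p(G)` normalises `B = C_S(W)`. -/
theorem CENTB_aux_conj_mem_B (S : Sylow p G) {q b : G} (hq : q ∈ Cfsg.pCore p G)
    (hb : b ∈ B (S : Subgroup G)) : q * b * q⁻¹ ∈ B (S : Subgroup G) := by
  have hQS : Cfsg.pCore p G ≤ (S : Subgroup G) := Cfsg.Agent.Helper14.pCore_le_sylow p S
  have hqS : q ∈ (S : Subgroup G) := hQS hq
  unfold B at hb ⊢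
  rw [Subgroup.mem_inf] at hb ⊢
  refine ⟨?_, ?_⟩
  · exact Subgroup.mul_mem _ (Subgroup.mul_mem _ hqS hb.1) (Subgroup.inv_mem _ hqS)
  · rw [Subgroup.mem_centralizer_iff]
    intro w hw
    have hqn : q⁻¹ ∈ normalizer ((S : Subgroup G) : Set G) :=
      Subgroup.le_normalizer (Subgroup.inv_mem _ hqS)
    have hw' : q⁻¹ * w * q⁻¹⁻¹ ∈ W (S : Subgroup G) :=
      (SJQ_aux_norm (S : Subgroup G) q⁻¹ hqn).2 w hw
    rw [inv_inv] at hw'
    have hcomm := (Subgroup.mem_centralizer_iff.mp hb.2) _ hw'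
    -- hcomm : q⁻¹ * w * q * b = b * (q⁻¹ * w * q)
    calc w * (q * b * q⁻¹) = q * ((q⁻¹ * w * q) * b) * q⁻¹ := by group
      _ = q * (b * (q⁻¹ * w * q)) * q⁻¹ := by rw [hcomm]
      _ = q * b * q⁻¹ * w := by group

/-- CENTB (M): 5.12 (c). -/
theorem CENTB (S : Sylow p G) (M : Subgroup G) (hc : Ctx p S M) :
    L (S : Subgroup G) = G₁ (S : Subgroup G) ⊔ R p (S : Subgroup G) ∧
    L (S : Subgroup G) ⊔ Cfsg.pCore p G = ⊤ ∧
    L (S : Subgroup G) ⊓ (S : Subgroup G) =
      B (S : Subgroup G) ⊔ (L (S : Subgroup G) ⊓ Cfsg.pCore p G) ∧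
    (∀ y ∈ L (S : Subgroup G) ⊓ Cfsg.pCore p G, ∀ l ∈ L (S : Subgroup G),
      y⁻¹ * l⁻¹ * y * l ∈ R p (S : Subgroup G)) ∧
    normalClosure ((B (S : Subgroup G)).subgroupOf (L (S : Subgroup G)) : Set ↥(L (S : Subgroup G))) = ⊤ := by
  have hQn : (Cfsg.pCore p G).Normal := Cfsg.Agent.Helper14.pCore_normal p
  have hQS : Cfsg.pCore p G ≤ (S : Subgroup G) := Cfsg.Agent.Helper14.pCore_le_sylow p S
  obtain ⟨hJQ, hG1Q, hBJR, -, -⟩ := SJQ S M hc
  obtain ⟨-, hRdef, hRn, -, -, -⟩ := DWV S M hc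
  obtain ⟨-, hUQG1, -⟩ := UQB S M hc.basic hc.hZ
  obtain ⟨-, -, -, -, -, hVUQ, hWUQ, -⟩ := UQA S M hc.basic hc.hZ
  have hG1n : (G₁ (S : Subgroup G)).Normal := by unfold G₁; exact normalClosure_normal
  have hLn : (L (S : Subgroup G)).Normal := by unfold L; exact normalClosure_normal
  have hBL : B (S : Subgroup G) ≤ L (S : Subgroup G) := by
    unfold L; exact subset_normalClosure
  have hJB : J (S : Subgroup G) ≤ B (S : Subgroup G) := by rw [hBJR]; exact le_sup_left
  have hRB : R p (S : Subgroup G) ≤ B (S : Subgroup G) := by rw [hBJR]; exact le_sup_right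
  have hG1L : G₁ (S : Subgroup G) ≤ L (S : Subgroup G) := by
    unfold G₁
    exact normalClosure_le_normal (hJB.trans hBL)
  -- 1
  have h1 : L (S : Subgroup G) = G₁ (S : Subgroup G) ⊔ R p (S : Subgroup G) := by
    apply le_antisymm
    · have hsn : (G₁ (S : Subgroup G) ⊔ R p (S : Subgroup G)).Normal := Subgroup.sup_normal _ _
      unfold L
      apply normalClosure_le_normal
      have : B (S : Subgroup G) ≤ G₁ (S : Subgroup G) ⊔ R p (S : Subgroup G) := by
        rw [hBJR]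
        exact sup_le_sup_right (by unfold G₁; exact subset_normalClosure) _
      exact this
    · exact sup_le hG1L (hRB.trans hBL)
  -- 2
  have h2 : L (S : Subgroup G) ⊔ Cfsg.pCore p G = ⊤ := by
    rw [eq_top_iff, ← hG1Q]
    exact sup_le_sup_right hG1L _
  -- D = W ⊔ V ≤ UQ
  have hDUQ : W (S : Subgroup G) ⊔ V (S : Subgroup G) ≤ UQ p (S : Subgroup G) := sup_le hWUQ hVUQ
  -- key: for `l ∈ L` and `d ∈ D`: `d⁻¹ l⁻¹ d l ∈ V`
  have hDL : ∀ l ∈ L (S : Subgroup G), ∀ d ∈ W (S : Subgroup G) ⊔ V (S : Subgroup G),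
      d⁻¹ * l⁻¹ * d * l ∈ V (S : Subgroup G) := by
    intro l hl d hd
    rw [h1] at hl
    obtain ⟨g, hg, r, hr, rfl⟩ := (Subgroup.mem_sup_of_normal_right).mp hl
    have hv : d⁻¹ * g⁻¹ * d * g ∈ V (S : Subgroup G) := by
      apply hUQG1
      have : d⁻¹ * g⁻¹ * d * g = ⁅d⁻¹, g⁻¹⁆ := by
        rw [commutatorElement_def]; group
      rw [this]
      exact Subgroup.commutator_mem_commutator (Subgroup.inv_mem _ (hDUQ hd))
        (Subgroup.inv_mem _ hg)
    have hdv : d * (d⁻¹ * g⁻¹ * d * g) ∈ W (S : Subgroup G) ⊔ V (S : Subgroup G) :=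
      Subgroup.mul_mem _ hd (le_sup_right (a := W (S : Subgroup G)) hv)
    rw [hRdef] at hr
    have hrc := (Subgroup.mem_centralizer_iff.mp hr.2) _ hdv
    -- hrc : d * v * r = r * (d * v)
    have e : d⁻¹ * (g * r)⁻¹ * d * (g * r) =
        d⁻¹ * r⁻¹ * ((d * (d⁻¹ * g⁻¹ * d * g)) * r) := by group
    rw [e, hrc]
    have e2 : d⁻¹ * r⁻¹ * (r * (d * (d⁻¹ * g⁻¹ * d * g))) = d⁻¹ * g⁻¹ * d * g := by group
    rw [e2]; exact hv
  refine ⟨h1, h2, ?_, ?_, ?_⟩
  · -- 3
    apply le_antisymm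
    · intro x hx
      have hxS : x ∈ J (S : Subgroup G) ⊔ Cfsg.pCore p G := by rw [hJQ]; exact hx.2
      obtain ⟨j, hj, q, hq, rfl⟩ := (Subgroup.mem_sup_of_normal_right).mp hxS
      have hjL : j ∈ L (S : Subgroup G) := hBL (hJB hj)
      have hqL : q ∈ L (S : Subgroup G) := by
        have : q = j⁻¹ * (j * q) := by group
        rw [this]
        exact Subgroup.mul_mem _ (Subgroup.inv_mem _ hjL) hx.1
      exact Subgroup.mul_mem_sup (hJB hj) ⟨hqL, hq⟩
    · apply sup_le
      · exact le_inf hBL (by unfold B; exact inf_le_left)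
      · exact le_inf inf_le_left (inf_le_right.trans hQS)
  · -- 4
    intro y hy l hl
    have hyD : ∀ d ∈ W (S : Subgroup G) ⊔ V (S : Subgroup G),
        d⁻¹ * y⁻¹ * d * y ∈ V (S : Subgroup G) := fun d hd => hDL y hy.1 d hd
    rw [h1] at hl
    obtain ⟨g, hg, r, hr, rfl⟩ := (Subgroup.mem_sup_of_normal_right).mp hl
    have hρ := CENTA S M hc y hy.2 hyD g hg
    have e : y⁻¹ * (g * r)⁻¹ * y * (g * r) =
        (y⁻¹ * r⁻¹ * y) * (y⁻¹ * (g⁻¹ * y * g)) * r := by group
    rw [e]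
    refine Subgroup.mul_mem _ (Subgroup.mul_mem _ ?_ hρ) hr
    exact hRn.conj_mem' _ (Subgroup.inv_mem _ hr) y
  · -- 5
    set NL : Subgroup ↥(L (S : Subgroup G)) :=
      normalClosure ((B (S : Subgroup G)).subgroupOf (L (S : Subgroup G)) : Set ↥(L (S : Subgroup G)))
      with hNL
    have hNLn : NL.Normal := normalClosure_normal
    -- conjugation by elements of L
    have hPL : ∀ l ∈ L (S : Subgroup G), ∀ y ∈ NL, MulAut.conjNormal l y ∈ NL := by
      intro l hl y hy
      have : MulAut.conjNormal l y = (⟨l, hl⟩ : ↥(L (S : Subgroup G))) * y * (⟨l, hl⟩ : ↥(L (S : Subgroup G)))⁻¹ := by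
        apply Subtype.ext
        rw [MulAut.conjNormal_apply]
        simp
      rw [this]
      exact hNLn.conj_mem y hy _
    -- conjugation by elements of Q
    have hPQ : ∀ q ∈ Cfsg.pCore p G, ∀ y ∈ NL, MulAut.conjNormal q y ∈ NL := by
      intro q hq
      have hcn : (NL.comap (MulAut.conjNormal q : MulAut ↥(L (S : Subgroup G))).toMonoidHom).Normal :=
        hNLn.comap _
      have hle : NL ≤ NL.comap (MulAut.conjNormal q : MulAut ↥(L (S : Subgroup G))).toMonoidHom := by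
        rw [hNL]
        apply normalClosure_le_normal
        intro b hb
        rw [SetLike.mem_coe, Subgroup.mem_comap]
        apply subset_normalClosure
        rw [SetLike.mem_coe, Subgroup.mem_subgroupOf]
        have hb' : (b : G) ∈ B (S : Subgroup G) := Subgroup.mem_subgroupOf.mp hb
        have : ((MulAut.conjNormal q : MulAut ↥(L (S : Subgroup G))).toMonoidHom b : G) = q * b * q⁻¹ := by
          simp [MulAut.conjNormal_apply]
        rw [this]
        exact CENTB_aux_conj_mem_B S hq hb'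
      intro y hy
      exact hle hy
    have hP : ∀ g : G, ∀ y ∈ NL, MulAut.conjNormal g y ∈ NL := by
      intro g y hy
      have hg : g ∈ L (S : Subgroup G) ⊔ Cfsg.pCore p G := by rw [h2]; exact Subgroup.mem_top g
      obtain ⟨l, hl, q, hq, rfl⟩ := (Subgroup.mem_sup_of_normal_right).mp hg
      rw [map_mul, MulAut.mul_apply]
      exact hPL l hl _ (hPQ q hq y hy)
    -- the image of NL in G is normal and contains B
    have hN3n : (NL.map (L (S : Subgroup G)).subtype).Normal := by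
      constructor
      rintro _ ⟨y, hy, rfl⟩ g
      refine ⟨MulAut.conjNormal g y, hP g y hy, ?_⟩
      simp [MulAut.conjNormal_apply]
    have hBN3 : B (S : Subgroup G) ≤ NL.map (L (S : Subgroup G)).subtype := by
      intro b hb
      refine ⟨⟨b, hBL hb⟩, ?_, rfl⟩
      apply subset_normalClosure
      rw [SetLike.mem_coe, Subgroup.mem_subgroupOf]
      exact hb
    have hLN3 : L (S : Subgroup G) ≤ NL.map (L (S : Subgroup G)).subtype := by
      have h : normalClosure ((B (S : Subgroup G) : Subgroup G) : Set G) ≤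
          NL.map (L (S : Subgroup G)).subtype := normalClosure_le_normal hBN3
      exact h
    rw [eq_top_iff]
    intro x _
    obtain ⟨y, hy, hyx⟩ := hLN3 x.2
    have : y = x := Subtype.ext hyx
    rw [← this]; exact hy

end Cfsg.Agent.S2768P
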