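import Mathlib
import Cfsg.Agent.Helper28.S5751Defs
import Cfsg.Agent.Helper28.S5751TabS
import Cfsg.Agent.Helper28.BTStab3
import Cfsg.Agent.Helper20.BTSTAB1
import Cfsg.Agent.Helper20.BTSTAB2
import Cfsg.Agent.Helper8.BTWACT
import Cfsg.Agent.Helper6.Chev.Irred
import Cfsg.Agent.Helper6.Chev.ParabGen

set_option autoImplicit false
set_option linter.unusedSectionVars false
set_option linter.unusedVariables false

/-!
# S5751, piece LOWA: the basic facts on `PE`, `gE`, `QE`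
-/

namespace Cfsg.Agent.Helper3.S5751LOWA

open Cfsg.Lie Cfsg.Agent.Helper6 Cfsg.Agent.Helper28.BT Cfsg.Agent.Helper2.Levi Cfsg.Agent.S5751P

theorem gE_inv : gE⁻¹ = gE := by
  apply Units.ext
  show chevE8.nMat F2 (chevE8.simple 3) (-1) = chevE8.nMat F2 (chevE8.simple 3) 1
  have : (-1 : F2) = 1 := by decide
  rw [this]

theorem gE_eq (Δ : BNData chevE8 F2) :
    gE = nU Δ.hB (chevE8.simple jE.val) (one_ne_zero (α := F2)) := rfl

theorem lev_simple_muE (i : Fin chevE8.rank) :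
    lev chevE8 muE (chevE8.simple i.val) = if i.val = 3 then 1 else 0 := by
  rw [lev_muE, levZ_simple]
  split_ifs <;> simp

theorem refl_muE (i : Fin chevE8.rank) (hi : i.val ≠ 3) : refl chevE8 i muE = muE := by
  funext k
  unfold Cfsg.Agent.Helper28.BT.refl
  rw [lev_simple_muE, if_neg hi]
  simp

theorem nU_mem_Gr0 (i : Fin chevE8.rank) (hi : i.val ≠ 3) :
    nU hBE (chevE8.simple i.val) (one_ne_zero (α := F2)) ∈ Gr0 (degI chevE8 muE) := by
  have Δ := bnE F2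
  have h := Cfsg.Agent.Helper8.BT.simple_Tr (F := F2) Δ i muE
  rw [refl_muE i hi] at h
  exact h.mem_Gr0

end Cfsg.Agent.Helper3.S5751LOWA

namespace Cfsg.Agent.S5751P

open Cfsg.Lie Cfsg.Agent.Helper6 Cfsg.Agent.Helper28.BT Cfsg.Agent.Helper2.Levi
open Cfsg.Agent.Helper3.S5751LOWA

theorem gE_mul_self : gE * gE = 1 := by
  conv_lhs => rw [← gE_inv]
  exact inv_mul_cancel gE

theorem gE_mem : gE ∈ GE := (bnE F2).nU_simple_mem_group (i := 3) (by decide)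

theorem nU_mem_PE (i : Fin chevE8.rank) (hi : i.val ≠ 3) :
    nU hBE (chevE8.simple i.val) (one_ne_zero (α := F2)) ∈ PE :=
  (bnE F2).nU_mem_parabolic i.isLt (mem_JE.2 ⟨i.isLt, hi⟩)

theorem PE_le : PE ≤ GE := by
  have Δ := bnE F2
  unfold PE ChevalleyDatum.parabolicSubgroup
  apply sup_le Δ.borel_le_group
  rw [Subgroup.closure_le]
  rintro g ⟨j, hjJ, hj, hg⟩
  have : g = nU Δ.hB (chevE8.simple j) (one_ne_zero (α := F2)) := Units.ext hg
  rw [this]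
  exact Δ.nU_simple_mem_group hj

theorem PE_le_GrPar : PE ≤ GrPar (degI chevE8 muE) := by
  have Δ := bnE F2
  unfold PE ChevalleyDatum.parabolicSubgroup
  apply sup_le (Cfsg.Agent.Helper20.BT.borel_le_GrPar tabE8 dominant_muE)
  rw [Subgroup.closure_le]
  rintro g ⟨j, hjJ, hj, hg⟩
  have : g = nU hBE (chevE8.simple j) (one_ne_zero (α := F2)) := Units.ext hg
  rw [this]
  exact Gr0_le_GrPar _ (nU_mem_Gr0 ⟨j, hj⟩ (mem_JE.1 hjJ).2)

theorem GrPar_inf_le_PE : GrPar (degI chevE8 muE) ⊓ GE ≤ PE :=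
  Cfsg.Agent.Helper20.BT.GrPar_inf_group_le tabE8 dominant_muE

theorem QE_one_le : QE 1 ≤ PE := by
  intro g hg
  apply GrPar_inf_le_PE
  obtain ⟨h1, h2⟩ := Subgroup.mem_inf.1 hg
  exact Subgroup.mem_inf.2 ⟨GrFil_le_GrPar _ _ h1, h2⟩

theorem QE_mono (m : ℕ) : QE (m + 1) ≤ QE m := by
  intro g hg
  obtain ⟨h1, h2⟩ := Subgroup.mem_inf.1 hg
  refine Subgroup.mem_inf.2 ⟨?_, h2⟩
  have hm : (0 : ℝ) ≤ (m : ℝ) := Nat.cast_nonneg m
  have hmm : (m : ℝ) ≤ ((m + 1 : ℕ) : ℝ) := by push_cast; linarith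
  exact GrFil_mono _ hm hmm h1

theorem QE_norm (m : ℕ) : ∀ p ∈ PE, ∀ y ∈ QE m, p * y * p⁻¹ ∈ QE m := by
  intro p hp y hy
  obtain ⟨h1, h2⟩ := Subgroup.mem_inf.1 hy
  refine Subgroup.mem_inf.2 ⟨?_, ?_⟩
  · have hn := GrPar_le_normalizer (F := F2) (degI chevE8 muE) (m : ℝ) (PE_le_GrPar hp)
    rw [Subgroup.mem_normalizer_iff] at hn
    exact (hn y).1 h1
  · have hpG := PE_le hp
    exact Subgroup.mul_mem _ (Subgroup.mul_mem _ hpG h2) (Subgroup.inv_mem _ hpG)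

end Cfsg.Agent.S5751P
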