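import Mathlib
import Cfsg.Agent.Helper3.S5751LOWA
import Cfsg.Agent.Helper6.S5751XENT
import Cfsg.Agent.Helper29.BTDOM
import Cfsg.Agent.Helper18.BTLEV

set_option autoImplicit false
set_option linter.unusedSectionVars false
set_option linter.unusedVariables false

/-!
# S5751, piece LOWA (second part): `PE` is not normalised by `gE`
-/

namespace Cfsg.Agent.S5751P

open Cfsg.Lie Cfsg.Agent.Helper6 Cfsg.Agent.Helper28.BT Cfsg.Agent.Helper2.Levi
open Cfsg.Agent.Helper3.S5751LOWA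

theorem PE_ne_conj : PE.map (MulAut.conj gE).toMonoidHom ≠ PE := by
  intro heq
  have Δ := bnE F2
  have hpos : chevE8.IsPosRoot (chevE8.simple jE.val) :=
    Cfsg.Agent.Helper29.BT.simple_pos Δ jE.isLt
  have hr : chevE8.simple jE.val < chevE8.nroots := hpos.1
  set x : GL chevE8.Idx F2 := xU hBE (chevE8.simple jE.val) 1 with hx
  have hxP : x ∈ PE := Δ.xU_pos_mem_parabolic hpos 1
  rw [← heq] at hxP
  obtain ⟨p, hp, hpx⟩ := Subgroup.mem_map.1 hxP
  have hpx' : gE * p * gE⁻¹ = x := hpx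
  have hTr := Cfsg.Agent.Helper8.BT.simple_Tr (F := F2) Δ jE muE
  have hxG : x ∈ GrPar (degI chevE8 (refl chevE8 jE muE)) := by
    rw [← hpx']
    exact hTr.conj_mem_GrPar (PE_le_GrPar hp)
  obtain ⟨i, hi⟩ := hoddE (chevE8.simple jE.val) hr
  have hent : (x : Matrix chevE8.Idx chevE8.Idx F2) (Sum.inr ⟨chevE8.simple jE.val, hr⟩)
      (Sum.inl i) ≠ 0 := by
    rw [hx, xU_val, x_entry hBE hr, if_pos rfl, mul_one]
    exact neg_ne_zero.2 hi
  have h1 := hxG.1 _ _ hent
  simp only [Cfsg.Agent.Helper28.BT.degI] at h1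
  rw [Cfsg.Agent.Helper8.BT.lev_refl Δ jE muE hr, Cfsg.Agent.Helper29.BT.wR_simple_self,
    Cfsg.Agent.Helper18.BT.lev_neg Δ muE hr, lev_simple_muE, if_pos (show jE.val = 3 from rfl)]
    at h1
  linarith

end Cfsg.Agent.S5751P
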