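import Mathlib
import Cfsg.Prelude.Def_GeometricClasses
import Cfsg.Prelude.Def_Classical
import Cfsg.Prelude.Def_LieClassical
import Cfsg.Agent.Helper20.S6000Defs
import Cfsg.Agent.Helper28.S6001Defs

/-! S6001 piece D3T (helper3): a unitary transvection of order 3 in `SU_4(3)` with a commutant of
dimension at least 9. -/

set_option autoImplicit false
open scoped MatrixGroups Matrix

namespace Cfsg.Agent.S6001P

open Cfsg.Agent.S6000P

namespace D3T

variable {F : Type*} [Field F]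

/-- the rank one nilpotent Hermitian matrix `v wᵀ`, `v = (1, β, 0, 0)`, `w = (1, γ, 0, 0)`, `β γ = -1` -/
def Mt (β γ : F) : M4 F := !![1, γ, 0, 0; β, -1, 0, 0; 0, 0, 0, 0; 0, 0, 0, 0]

theorem Mt_mul_Mt (β γ : F) (h : β * γ = -1) : Mt β γ * Mt β γ = 0 := by
  ext a b
  fin_cases a <;> fin_cases b <;> simp [Mt, Matrix.mul_apply, Fin.sum_univ_four] <;>
    first
      | linear_combination h
      | ring

/-- `v e_2ᵀ` -/
def P2 (β : F) : M4 F := !![0, 0, 1, 0; 0, 0, β, 0; 0, 0, 0, 0; 0, 0, 0, 0]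
/-- `v e_3ᵀ` -/
def P3 (β : F) : M4 F := !![0, 0, 0, 1; 0, 0, 0, β; 0, 0, 0, 0; 0, 0, 0, 0]
/-- `e_2 wᵀ` -/
def Q2 (γ : F) : M4 F := !![0, 0, 0, 0; 0, 0, 0, 0; 1, γ, 0, 0; 0, 0, 0, 0]
/-- `e_3 wᵀ` -/
def Q3 (γ : F) : M4 F := !![0, 0, 0, 0; 0, 0, 0, 0; 0, 0, 0, 0; 1, γ, 0, 0]

/-- the nine commuting matrices -/
def fam (β γ : F) : Fin 9 → M4 F :=
  ![1, Matrix.single 2 2 1, Matrix.single 2 3 1, Matrix.single 3 2 1, Matrix.single 3 3 1,
    P2 β, P3 β, Q2 γ, Q3 γ]

theorem fam_mul (β γ : F) (h : β * γ = -1) (k : Fin 9) (hk : k ≠ 0) :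
    fam β γ k * Mt β γ = 0 ∧ Mt β γ * fam β γ k = 0 := by
  fin_cases k
  · exact absurd rfl hk
  all_goals
    constructor <;>
    · ext a b
      fin_cases a <;> fin_cases b <;>
        simp [fam, Mt, P2, P3, Q2, Q3, Matrix.mul_apply, Fin.sum_univ_four, Matrix.single_apply] <;>
        first
          | linear_combination h
          | ring

theorem fam_mem (β γ c : F) (h : β * γ = -1) (k : Fin 9) :
    fam β γ k ∈ commSub ((1 : M4 F) + c • Mt β γ) := by
  rw [mem_commSub]
  by_cases hk : k = 0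
  · subst hk
    show (1 : M4 F) * _ = _ * 1
    rw [one_mul, mul_one]
  · obtain ⟨h1, h2⟩ := fam_mul β γ h k hk
    rw [mul_add, add_mul, mul_one, one_mul, Matrix.mul_smul, Matrix.smul_mul, h1, h2]

theorem fam_li (β γ : F) : LinearIndependent F (fam β γ) := by
  rw [Fintype.linearIndependent_iff]
  intro g hg
  have e00 := congrFun (congrFun hg 0) 0
  have e22 := congrFun (congrFun hg 2) 2
  have e23 := congrFun (congrFun hg 2) 3
  have e32 := congrFun (congrFun hg 3) 2
  have e33 := congrFun (congrFun hg 3) 3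
  have e02 := congrFun (congrFun hg 0) 2
  have e03 := congrFun (congrFun hg 0) 3
  have e20 := congrFun (congrFun hg 2) 0
  have e30 := congrFun (congrFun hg 3) 0
  simp [fam, P2, P3, Q2, Q3, Fin.sum_univ_succ, Matrix.single_apply, Matrix.one_apply]
    at e00 e22 e23 e32 e33 e02 e03 e20 e30
  intro i
  fin_cases i
  · exact e00
  · simpa [e00] using e22
  · simpa using e23
  · simpa using e32
  · simpa [e00] using e33
  · simpa using e02
  · simpa using e03
  · simpa using e20
  · simpa using e30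

theorem nine_le_cdim (β γ c : F) (h : β * γ = -1) : 9 ≤ cdim ((1 : M4 F) + c • Mt β γ) := by
  have hli' : LinearIndependent F
      (fun k : Fin 9 => (⟨fam β γ k, fam_mem β γ c h k⟩ : commSub ((1 : M4 F) + c • Mt β γ))) := by
    apply LinearIndependent.of_comp (commSub ((1 : M4 F) + c • Mt β γ)).subtype
    exact fam_li β γ
  have := hli'.fintype_card_le_finrank
  rw [Fintype.card_fin] at this
  exact this

theorem dag_Mt [CharP F 3] (β γ : F) (h1 : β ^ 3 = γ) (h2 : γ ^ 3 = β) :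
    dag 3 (Mt β γ) = Mt β γ := by
  ext a b
  rw [dag_apply]
  fin_cases a <;> fin_cases b <;> simp [Mt, h1, h2] <;> ring

end D3T

open D3T in
/-- D3T -/
theorem exists_x3_t {F : Type*} [Field F] [Fintype F] [CharP F 3]
    (hF : Fintype.card F = 3 ^ 2) :
    ∃ x ∈ Cfsg.GU 4 F 3 ⊓ Cfsg.Geo.specialLinear (Fin 4) F,
      ((x ^ 3 : GL (Fin 4) F) : M4 F) = 1 ∧ (∀ z : F, (x : M4 F) ≠ z • (1 : M4 F)) ∧
      9 ≤ cdim (x : M4 F) := by
  classical
  have h3 : (3 : F) = 0 := by exact_mod_cast CharP.cast_eq_zero F 3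
  have h1 : (1 : F) ≠ 0 := one_ne_zero
  obtain ⟨i, hi⟩ : IsSquare (-1 : F) := by
    rw [FiniteField.isSquare_neg_one_iff, hF]
    decide
  have hβγ : (1 + i) * (1 - i) = -1 := by linear_combination h3 + hi
  have hβ3 : (1 + i) ^ 3 = 1 - i := by linear_combination (i * i + i) * h3 - i * hi
  have hγ3 : (1 - i) ^ 3 = 1 + i := by linear_combination (i * i - i) * h3 + i * hi
  have hi3 : i ^ 3 = -i := by linear_combination -i * hi
  have hMM := Mt_mul_Mt (1 + i) (1 - i) hβγ
  have hdM := dag_Mt (1 + i) (1 - i) hβ3 hγ3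
  set M : M4 F := Mt (1 + i) (1 - i) with hM
  have hNN : (i • M) * (i • M) = 0 := by
    rw [Matrix.smul_mul, Matrix.mul_smul, hMM, smul_zero, smul_zero]
  have hXY : ((1 : M4 F) + i • M) * (1 - i • M) = 1 := by
    have : ((1 : M4 F) + i • M) * (1 - i • M) = 1 - (i • M) * (i • M) := by
      rw [add_mul, mul_sub, mul_sub, one_mul, one_mul, mul_one]
      abel
    rw [this, hNN, sub_zero]
  have hYX : ((1 : M4 F) - i • M) * (1 + i • M) = 1 := by
    have : ((1 : M4 F) - i • M) * (1 + i • M) = 1 - (i • M) * (i • M) := by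
      rw [sub_mul, mul_add, mul_add, one_mul, one_mul, mul_one]
      abel
    rw [this, hNN, sub_zero]
  have hX3 : ((1 : M4 F) + i • M) ^ 3 = 1 := by
    have hc : Commute (1 : M4 F) (i • M) := Commute.one_left _
    rw [add_pow_char_of_commute 3 hc, one_pow, pow_succ, pow_two, hNN, zero_mul, add_zero]
  let x : GL (Fin 4) F := ⟨1 + i • M, 1 - i • M, hXY, hYX⟩
  have hxv : (x : M4 F) = 1 + i • M := rfl
  refine ⟨x, ⟨?_, ?_⟩, ?_, ?_, ?_⟩
  · show x ∈ Cfsg.GU 4 F 3
    rw [mem_GU_iff_dag, hxv, dag_add, dag_one, dag_smul, hdM, hi3, neg_smul, ← sub_eq_add_neg]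
    exact hYX
  · show x ∈ Cfsg.Geo.specialLinear (Fin 4) F
    rw [mem_specialLinear_iff, hxv]
    have hd3 : ((1 : M4 F) + i • M).det ^ 3 = 1 := by
      rw [← Matrix.det_pow, hX3, Matrix.det_one]
    have h9 : ((1 : M4 F) + i • M).det ^ 9 = ((1 : M4 F) + i • M).det := by
      have := FiniteField.pow_card ((1 : M4 F) + i • M).det
      rw [hF] at this
      exact this
    rw [← h9, show 9 = 3 * 3 from rfl, pow_mul, hd3, one_pow]
  · rw [Units.val_pow_eq_pow_val, hxv, hX3]
  · intro z hz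
    rw [hxv] at hz
    have e22 := congrFun (congrFun hz 2) 2
    have e01 := congrFun (congrFun hz 0) 1
    simp [M, Mt] at e22 e01
    -- e01 : i * (1 - i) = 0 or similar
    have hne : i ≠ 0 := by
      rintro rfl
      simp at hi
    have : (2 : F) = 0 := by
      rcases e01 with h | h
      · exact absurd h hne
      · have hi1 : i = 1 := by linear_combination -h
        rw [hi1] at hi
        linear_combination -hi
    have : (1 : F) = 0 := by linear_combination h3 - this
    exact h1 this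
  · rw [hxv]
    exact nine_le_cdim (1 + i) (1 - i) i hβγ

end Cfsg.Agent.S6001P
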