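import Mathlib
import Cfsg.Prelude.Def_GeometricClasses
import Cfsg.Prelude.Def_Classical
import Cfsg.Prelude.Def_LieClassical
import Cfsg.Agent.Helper20.S6000Defs
import Cfsg.Agent.Helper28.S6001Defs

set_option autoImplicit false
open scoped MatrixGroups Matrix

/-!
# S6001 pieces NT5U, NT5BU (helper3): number theory at the prime `5` in `F_{p²}`.
-/

namespace Cfsg.Agent.S6001P

open Cfsg.Agent.S6000P

namespace NT5

/-- the order of `p` modulo `5` in terms of `p % 5` -/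
theorem orderOf_four_iff (p : ℕ) : orderOf (p : ZMod 5) = 4 ↔ (p % 5 = 2 ∨ p % 5 = 3) := by
  have hcast : (p : ZMod 5) = ((p % 5 : ℕ) : ZMod 5) := by
    rw [ZMod.natCast_eq_natCast_iff']
    omega
  have hlt : p % 5 < 5 := Nat.mod_lt _ (by norm_num)
  rw [hcast]
  generalize p % 5 = r at hlt
  interval_cases r
  · constructor
    · intro h
      exfalso
      have := pow_orderOf_eq_one (((0 : ℕ) : ZMod 5))
      rw [h] at this
      revert this
      decide
    · intro h; omega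
  · simp
  · constructor
    · intro _; left; rfl
    · intro _
      rw [orderOf_eq_iff (by norm_num)]
      refine ⟨by decide, ?_⟩
      intro m hm hm0
      interval_cases m <;> decide
  · constructor
    · intro _; right; rfl
    · intro _
      rw [orderOf_eq_iff (by norm_num)]
      refine ⟨by decide, ?_⟩
      intro m hm hm0
      interval_cases m <;> decide
  · constructor
    · intro h
      exfalso
      have h2 : ((4 : ℕ) : ZMod 5) ^ 2 = 1 := by decide
      have := orderOf_dvd_of_pow_eq_one h2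
      rw [h] at this
      omega
    · intro h; omega

end NT5

/-- NT5U -/
theorem exists_t_u {F : Type*} [Field F] [Fintype F] {p : ℕ} [Fact p.Prime] [CharP F p]
    (hF : Fintype.card F = p ^ 2) (hp4 : p % 4 = 3) (hord : orderOf (p : ZMod 5) ≠ 4) :
    (5 : F) ≠ 0 ∧ ∃ t : F, t * t + t - 1 = 0 ∧ t ^ p = t := by
  classical
  have hp : p.Prime := Fact.out
  have hp5 : p ≠ 5 := by
    intro h
    rw [h] at hp4
    omega
  have h5 : (5 : F) ≠ 0 := by
    intro h
    have h' : ((5 : ℕ) : F) = 0 := by exact_mod_cast h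
    rw [CharP.cast_eq_zero_iff F p] at h'
    exact hp5 ((Nat.prime_dvd_prime_iff_eq hp Nat.prime_five).1 h')
  refine ⟨h5, ?_⟩
  have hmod : p % 5 = 1 ∨ p % 5 = 4 := by
    have h1 : ¬ (p % 5 = 2 ∨ p % 5 = 3) := fun h => hord ((NT5.orderOf_four_iff p).2 h)
    have h0 : p % 5 ≠ 0 := by
      intro h0
      have : 5 ∣ p := Nat.dvd_of_mod_eq_zero h0
      exact hp5 ((Nat.prime_dvd_prime_iff_eq Nat.prime_five hp).1 this).symm
    omega
  have hcard : Fintype.card Fˣ = p ^ 2 - 1 := by rw [Fintype.card_units, hF]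
  have hdvd : 5 ∣ Fintype.card Fˣ := by
    rw [hcard]
    have h1 : p ^ 2 % 5 = 1 := by
      rw [Nat.pow_mod]
      rcases hmod with h | h <;> rw [h]
    have h2 : 1 ≤ p ^ 2 := Nat.one_le_pow _ _ hp.pos
    omega
  have : Fact (Nat.Prime 5) := ⟨Nat.prime_five⟩
  obtain ⟨x, hx⟩ := exists_prime_orderOf_dvd_card 5 hdvd
  have hx5 : (x : F) ^ 5 = 1 := by
    have := pow_orderOf_eq_one x
    rw [hx] at this
    have h' := congrArg (fun u : Fˣ => (u : F)) this
    simpa using h'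
  have hx1 : (x : F) ≠ 1 := by
    intro h
    have : x = 1 := Units.ext h
    rw [this, orderOf_one] at hx
    omega
  have hx0 : (x : F) ≠ 0 := x.ne_zero
  set ζ : F := (x : F) with hζ
  have hinv : ζ⁻¹ = ζ ^ 4 := by
    rw [inv_eq_iff_eq_inv, eq_comm, inv_eq_of_mul_eq_one_left]
    rw [← pow_succ']
    exact hx5
  -- cyclotomic relation
  have hcyc : ζ ^ 4 + ζ ^ 3 + ζ ^ 2 + ζ + 1 = 0 := by
    have hfac : (ζ - 1) * (ζ ^ 4 + ζ ^ 3 + ζ ^ 2 + ζ + 1) = 0 := by
      linear_combination hx5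
    rcases mul_eq_zero.1 hfac with h | h
    · exact absurd (sub_eq_zero.1 h) hx1
    · exact h
  refine ⟨ζ + ζ ^ 4, ?_, ?_⟩
  · have h8 : ζ ^ 8 = ζ ^ 3 := by
      have : ζ ^ 8 = ζ ^ 5 * ζ ^ 3 := by ring
      rw [this, hx5, one_mul]
    have h5' : ζ ^ 5 = 1 := hx5
    linear_combination hcyc + h8 + 2 * h5'
  · have hfrob : (ζ + ζ ^ 4) ^ p = ζ ^ p + (ζ ^ p) ^ 4 := by
      rw [add_pow_char ζ (ζ ^ 4) p, ← pow_mul, ← pow_mul, mul_comm]
    rw [hfrob]
    rcases hmod with h | h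
    · obtain ⟨k, hk⟩ : ∃ k, p = 5 * k + 1 := ⟨p / 5, by omega⟩
      have : ζ ^ p = ζ := by rw [hk, pow_succ, pow_mul, hx5, one_pow, one_mul]
      rw [this]
    · obtain ⟨k, hk⟩ : ∃ k, p = 5 * k + 4 := ⟨p / 5, by omega⟩
      have : ζ ^ p = ζ ^ 4 := by rw [hk, pow_add, pow_mul, hx5, one_pow, one_mul]
      rw [this]
      have h16 : (ζ ^ 4) ^ 4 = ζ := by
        have : (ζ ^ 4) ^ 4 = (ζ ^ 5) ^ 3 * ζ := by ring
        rw [this, hx5, one_pow, one_mul]
      rw [h16, add_comm]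

/-- NT5BU -/
theorem fifth_bijective_u {F : Type*} [Field F] [Fintype F] {p : ℕ} [Fact p.Prime] [CharP F p]
    (hF : Fintype.card F = p ^ 2) (hord : orderOf (p : ZMod 5) = 4) :
    (∀ z : F, z ^ (p + 1) = 1 → ∃ w : F, w ^ (p + 1) = 1 ∧ w ^ 5 = z) ∧
      ∀ w : F, w ^ (p + 1) = 1 → w ^ 5 = 1 → w = 1 := by
  have hp : p.Prime := Fact.out
  have hmod : p % 5 = 2 ∨ p % 5 = 3 := (NT5.orderOf_four_iff p).1 hord
  have hcop : Nat.Coprime 5 (p + 1) := by
    rw [Nat.Prime.coprime_iff_not_dvd Nat.prime_five]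
    omega
  constructor
  · intro z hz
    obtain ⟨m, _, hm⟩ := Nat.exists_mul_mod_eq_one_of_coprime hcop (by have := hp.two_le; omega)
    refine ⟨z ^ m, ?_, ?_⟩
    · rw [← pow_mul, mul_comm, pow_mul, hz, one_pow]
    · rw [← pow_mul, mul_comm]
      have h1 := Nat.div_add_mod (5 * m) (p + 1)
      rw [hm] at h1
      rw [← h1, pow_add, pow_mul, hz, one_pow, one_mul, pow_one]
  · intro w hw hw5
    have h1 : orderOf w ∣ p + 1 := orderOf_dvd_of_pow_eq_one hw
    have h2 : orderOf w ∣ 5 := orderOf_dvd_of_pow_eq_one hw5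
    have h3 : orderOf w ∣ Nat.gcd 5 (p + 1) := Nat.dvd_gcd h2 h1
    rw [hcop.gcd_eq_one, Nat.dvd_one] at h3
    exact orderOf_eq_one_iff.1 h3

end Cfsg.Agent.S6001P
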