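import Mathlib
import Cfsg.Agent.Helper7.Hyperplane
import Cfsg.Agent.Lead.Coprime3

set_option autoImplicit false
set_option linter.unusedSectionVars false
set_option linter.style.haveILetI false

/-! # k-balanced signalizer functors: the abstract generation lemma (solvable case) -/

namespace Cfsg.Agent.Helper3.KBal

open Subgroup Cfsg
open scoped commutatorElement

variable {G : Type*} [Group G]

theorem le_normalizer_iSup {ι : Sort*} (A : Subgroup G) (K : ι → Subgroup G)
    (h : ∀ i, A ≤ normalizer (K i : Set G)) :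
    A ≤ normalizer ((⨆ i, K i : Subgroup G) : Set G) := by
  apply Cfsg.Agent.Helper7.le_normalizer_of_forall_conj_mem
  intro b hb u hu
  have h1 : (⨆ i, K i) ≤ (⨆ i, K i).comap (MulAut.conj b).toMonoidHom := by
    apply iSup_le
    intro i x hx
    rw [mem_comap]
    exact (le_iSup K i) ((mem_normalizer_iff.1 (h i hb) x).1 hx)
  exact h1 hu

theorem le_normalizer_iInf {ι : Sort*} (A : Subgroup G) (K : ι → Subgroup G)
    (h : ∀ i, A ≤ normalizer (K i : Set G)) :
    A ≤ normalizer ((⨅ i, K i : Subgroup G) : Set G) := by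
  apply Cfsg.Agent.Helper7.le_normalizer_of_forall_conj_mem
  intro b hb u hu
  rw [mem_iInf] at hu ⊢
  intro i
  exact (mem_normalizer_iff.1 (h i hb) u).1 (hu i)

theorem le_normalizer_inf {A X Y : Subgroup G} (hX : A ≤ normalizer (X : Set G))
    (hY : A ≤ normalizer (Y : Set G)) : A ≤ normalizer ((X ⊓ Y : Subgroup G) : Set G) :=
  (le_inf hX hY).trans (Cfsg.Agent.Helper7.normalizer_inf_normalizer_le_normalizer_inf X Y)

theorem le_normalizer_sup {A X Y : Subgroup G} (hX : A ≤ normalizer (X : Set G))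
    (hY : A ≤ normalizer (Y : Set G)) : A ≤ normalizer ((X ⊔ Y : Subgroup G) : Set G) :=
  (le_inf hX hY).trans (Cfsg.Agent.Helper7.normalizer_inf_le_normalizer_sup X Y)

theorem commutator_lt_of_isSolvable {S : Subgroup G} (hs : Group.IsSolvable S) (h : S ≠ ⊥) :
    ⁅S, S⁆ < S := by
  haveI : Nontrivial S := (Subgroup.nontrivial_iff_ne_bot S).2 h
  have h1 := Group.IsSolvable.commutator_lt_top_of_nontrivial (G := ↥S)
  rw [← S.map_subtype_commutator]
  have h2 : (commutator S).map S.subtype < (⊤ : Subgroup S).map S.subtype :=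
    (map_subtype_lt_map_subtype).2 h1
  rwa [← MonoidHom.range_eq_map, S.range_subtype] at h2

theorem le_normalizer_commutator_self {A S : Subgroup G} (h : A ≤ normalizer (S : Set G)) :
    A ≤ normalizer ((⁅S, S⁆ : Subgroup G) : Set G) := by
  apply Cfsg.Agent.Helper7.le_normalizer_of_forall_conj_mem
  intro b hb u hu
  have hmap : S.map (MulAut.conj b).toMonoidHom ≤ S := by
    rintro _ ⟨s, hs, rfl⟩
    exact (mem_normalizer_iff.1 (h hb) s).1 hs
  have h1 : (⁅S, S⁆).map (MulAut.conj b).toMonoidHom ≤ ⁅S, S⁆ := by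
    rw [map_commutator]
    exact commutator_mono hmap hmap
  exact h1 ⟨u, hu, rfl⟩

/-- A subgroup between `⁅S,S⁆` and `S` is normalized by `S`. -/
theorem le_normalizer_of_commutator_le {S X : Subgroup G} (h1 : ⁅S, S⁆ ≤ X) (h2 : X ≤ S) :
    S ≤ normalizer (X : Set G) := by
  apply Cfsg.Agent.Helper7.le_normalizer_of_forall_conj_mem
  intro s hs x hx
  have : s * x * s⁻¹ = ⁅s, x⁆ * x := by
    rw [commutatorElement_def]; group
  rw [this]
  exact X.mul_mem (h1 (commutator_mem_commutator hs (h2 hx))) hx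

/-- product form of a join with a normalized subgroup -/
theorem exists_mul_of_mem_sup {X M : Subgroup G} (h : X ≤ normalizer (M : Set G)) {g : G}
    (hg : g ∈ X ⊔ M) : ∃ x ∈ X, ∃ m ∈ M, g = x * m := by
  have h1 : g ∈ ((X ⊔ M : Subgroup G) : Set G) := hg
  rw [coe_mul_of_left_le_normalizer_right X M h] at h1
  obtain ⟨x, hx, m, hm, rfl⟩ := h1
  exact ⟨x, hx, m, hm, rfl⟩

end Cfsg.Agent.Helper3.KBal
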