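import Cfsg.Agent.Helper3.ComplSystem

set_option autoImplicit false
set_option linter.style.haveILetI false

namespace Cfsg.Agent.Helper3

open scoped Pointwise

theorem mem_systemNormalizer_iff {G : Type*} [Group G] (K : Nat.Primes → Subgroup G) (g : G) :
    g ∈ Cfsg.systemNormalizer K ↔ ∀ p, MulAut.conj g • K p = K p := by
  unfold Cfsg.systemNormalizer
  rw [Subgroup.mem_iInf]
  exact forall_congr' fun p => (conj_smul_eq_iff_mem_normalizer g (K p)).symm

/-- the system normalizer of the image system is the image of the system normalizer -/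
theorem systemNormalizer_map_mk' {G : Type*} [Group G] [Finite G] [Group.IsSolvable G]
    {K : Nat.Primes → Subgroup G} (hK : Cfsg.IsComplementSystem K) (N : Subgroup G) [N.Normal] :
    Cfsg.systemNormalizer (fun p => (K p).map (QuotientGroup.mk' N))
      = (Cfsg.systemNormalizer K).map (QuotientGroup.mk' N) := by
  ext y'
  obtain ⟨y, rfl⟩ := QuotientGroup.mk'_surjective N y'
  constructor
  · intro hy
    rw [mem_systemNormalizer_iff] at hy
    have hL : Cfsg.IsComplementSystem (fun p => MulAut.conj y • K p) :=
      IsComplementSystem.conj hK y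
    have hLK : ∀ p, MulAut.conj y • K p ⊔ N = K p ⊔ N := by
      intro p
      have h1 := hy p
      rw [← Cfsg.Agent.Lead.map_conj_smul] at h1
      have h2 := congrArg (Subgroup.comap (QuotientGroup.mk' N)) h1
      rwa [Subgroup.comap_map_eq, Subgroup.comap_map_eq, QuotientGroup.ker_mk'] at h2
    obtain ⟨x, hxN, hx⟩ := compl_conj_rel N hL hK hLK
    refine ⟨x * y, ?_, ?_⟩
    · rw [SetLike.mem_coe, mem_systemNormalizer_iff]
      intro p
      rw [map_mul, mul_smul]
      exact hx p
    · rw [map_mul]
      have : (QuotientGroup.mk' N) x = 1 := (QuotientGroup.eq_one_iff x).mpr hxN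
      rw [this, one_mul]
  · rintro ⟨d, hd, hdy⟩
    rw [← hdy]
    unfold Cfsg.systemNormalizer at hd ⊢
    rw [SetLike.mem_coe, Subgroup.mem_iInf] at hd
    rw [Subgroup.mem_iInf]
    intro p
    exact Subgroup.le_normalizer_map _ (Subgroup.mem_map_of_mem _ (hd p))

theorem map_mk'_eq_bot_of_le {G : Type*} [Group G] (N H : Subgroup G) [N.Normal] (h : H ≤ N) :
    H.map (QuotientGroup.mk' N) = ⊥ := by
  apply (Subgroup.map_eq_bot_iff _).mpr
  rw [QuotientGroup.ker_mk']; exact h

/-- the normal closure of the system normalizer is the whole group -/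
theorem normalClosure_systemNormalizer {G : Type*} [Group G] [Finite G] [Group.IsSolvable G]
    {K : Nat.Primes → Subgroup G} (hK : Cfsg.IsComplementSystem K) :
    Subgroup.normalClosure ((Cfsg.systemNormalizer K : Subgroup G) : Set G) = ⊤ := by
  set D := Cfsg.systemNormalizer K with hD
  set M := Subgroup.normalClosure (D : Set G) with hM
  by_contra hne
  have hDM : D ≤ M := Subgroup.le_normalClosure
  -- M₂ = M ⊔ G'
  set M₂ := M ⊔ commutator G with hM₂
  haveI : M₂.Normal := inferInstance
  have hM₂ne : M₂ ≠ ⊤ := by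
    intro htop
    haveI : Nontrivial (G ⧸ M) := by
      rw [← not_subsingleton_iff_nontrivial]
      intro hsub
      exact hne (QuotientGroup.subgroup_eq_top_of_subsingleton M hsub)
    have hlt := Group.IsSolvable.commutator_lt_top_of_nontrivial (G ⧸ M)
    apply hlt.ne
    have h1 : (M₂.map (QuotientGroup.mk' M)) = ⊤ := by
      rw [htop]; exact Subgroup.map_top_of_surjective _ (QuotientGroup.mk'_surjective M)
    rw [hM₂, Subgroup.map_sup] at h1
    have h2 : M.map (QuotientGroup.mk' M) = ⊥ := map_mk'_eq_bot_of_le M M le_rfl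
    rw [h2, bot_sup_eq, commutator_def, Subgroup.map_commutator,
      Subgroup.map_top_of_surjective _ (QuotientGroup.mk'_surjective M)] at h1
    rw [commutator_def]; exact h1
  have hcomm : IsMulCommutative (G ⧸ M₂) :=
    Subgroup.Normal.quotient_commutative_iff_commutator_le.mpr le_sup_right
  have h1 := systemNormalizer_map_mk' hK M₂
  have h2 : Cfsg.systemNormalizer (fun p => (K p).map (QuotientGroup.mk' M₂)) = ⊤ := by
    rw [eq_top_iff]
    intro y _
    rw [mem_systemNormalizer_iff]
    intro p
    ext z
    rw [mem_conj_smul_iff]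
    have : y⁻¹ * z * y = z := by
      rw [mul_comm' y⁻¹ z, mul_assoc, inv_mul_cancel, mul_one]
    rw [this]
  have h3 : D.map (QuotientGroup.mk' M₂) = ⊥ :=
    map_mk'_eq_bot_of_le M₂ D (hDM.trans le_sup_left)
  rw [h2, h3] at h1
  apply hM₂ne
  apply QuotientGroup.subgroup_eq_top_of_subsingleton
  exact Subgroup.subsingleton_iff.mp (subsingleton_of_bot_eq_top h1.symm)

end Cfsg.Agent.Helper3
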