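import Mathlib
import Cfsg.Prelude

set_option autoImplicit false

/-! S3875, piece FROB: for a prime power `m ≡ 1 (mod p)` the group `F_m ⋊ C_p` has order `p m` and
non-normal Sylow `p`-subgroups. -/

namespace Cfsg.Agent.S3875P

/-- FROB: for a prime power `m ≡ 1 (mod p)` there is a group of order `p * m` whose Sylow
`p`-subgroups are not normal (`F_m ⋊ C_p`). -/
theorem exists_frobenius_npc (p : ℕ) [Fact p.Prime] (m : ℕ) (hm : IsPrimePow m)
    (hm1 : m % p = 1) :
    ∃ (H : Type) (_ : Group H) (_ : Finite H), Nat.card H = p * m ∧ ¬ Cfsg.IsPClosed p H := by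
  have hpp : p.Prime := Fact.out
  obtain ⟨q, k, hq, hk, rfl⟩ := (isPrimePow_nat_iff m).mp hm
  have : Fact q.Prime := ⟨hq⟩
  have hF : Nat.card (GaloisField q k) = q ^ k := GaloisField.card q k hk.ne'
  have hU : Nat.card (GaloisField q k)ˣ = q ^ k - 1 := by rw [Nat.card_units, hF]
  have hdvd : p ∣ Nat.card (GaloisField q k)ˣ := by
    rw [hU]
    apply Nat.dvd_of_mod_eq_zero
    apply Nat.sub_mod_eq_zero_of_mod_eq
    rw [hm1, Nat.one_mod_eq_one.mpr hpp.ne_one]
  obtain ⟨ζ, hζ⟩ := exists_prime_orderOf_dvd_card' p hdvd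
  have hcop : Nat.Coprime p (q ^ k) := by
    rw [Nat.Prime.coprime_iff_not_dvd hpp]
    intro h
    have := Nat.mod_eq_zero_of_dvd h
    omega
  let φ : ↥(Subgroup.zpowers ζ) →* MulAut (Multiplicative (GaloisField q k)) :=
    (MulAutMultiplicative (GaloisField q k)).symm.toMonoidHom.comp
      ((DistribMulAction.toAddAut (GaloisField q k)ˣ (GaloisField q k)).comp
        (Subgroup.zpowers ζ).subtype)
  have : Finite (Multiplicative (GaloisField q k) ⋊[φ] ↥(Subgroup.zpowers ζ)) :=
    Finite.of_equiv _ SemidirectProduct.equivProd.symm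
  refine ⟨Multiplicative (GaloisField q k) ⋊[φ] ↥(Subgroup.zpowers ζ), inferInstance,
    inferInstance, ?_, ?_⟩
  · rw [Nat.card_congr SemidirectProduct.equivProd, Nat.card_prod, Nat.card_zpowers, hζ,
      Nat.card_congr Multiplicative.toAdd, hF, mul_comm]
  · intro hcl
    have hR : IsPGroup p (SemidirectProduct.inr :
        ↥(Subgroup.zpowers ζ) →* Multiplicative (GaloisField q k) ⋊[φ] ↥(Subgroup.zpowers ζ)).range := by
      apply IsPGroup.of_card (n := 1)
      rw [← Nat.card_congr (MonoidHom.ofInjective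
        (SemidirectProduct.inr_injective (φ := φ))).toEquiv, Nat.card_zpowers, hζ, pow_one]
    obtain ⟨P, hRP⟩ := hR.exists_le_sylow
    have hPn := hcl P
    have hN0 : (SemidirectProduct.inl : Multiplicative (GaloisField q k) →*
        Multiplicative (GaloisField q k) ⋊[φ] ↥(Subgroup.zpowers ζ)).range.Normal := by
      rw [SemidirectProduct.range_inl_eq_ker_rightHom]
      exact MonoidHom.normal_ker _
    have hcardN0 : Nat.card (SemidirectProduct.inl : Multiplicative (GaloisField q k) →*
        Multiplicative (GaloisField q k) ⋊[φ] ↥(Subgroup.zpowers ζ)).range = q ^ k := by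
      rw [← Nat.card_congr (MonoidHom.ofInjective
        (SemidirectProduct.inl_injective (φ := φ))).toEquiv, Nat.card_congr Multiplicative.toAdd, hF]
    obtain ⟨n, hn⟩ := IsPGroup.iff_card.mp P.isPGroup'
    have hdis : Disjoint (P : Subgroup (Multiplicative (GaloisField q k) ⋊[φ] ↥(Subgroup.zpowers ζ)))
        (SemidirectProduct.inl : Multiplicative (GaloisField q k) →*
          Multiplicative (GaloisField q k) ⋊[φ] ↥(Subgroup.zpowers ζ)).range := by
      apply Subgroup.disjoint_of_coprime_natCard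
      rw [hn, hcardN0]
      exact Nat.Coprime.pow_left n hcop
    let ζ' : ↥(Subgroup.zpowers ζ) := ⟨ζ, Subgroup.mem_zpowers ζ⟩
    have hcomm := Subgroup.commute_of_normal_of_disjoint _ _ hPn hN0 hdis
      (SemidirectProduct.inr ζ') (SemidirectProduct.inl (Multiplicative.ofAdd (1 : GaloisField q k)))
      (hRP ⟨ζ', rfl⟩) ⟨_, rfl⟩
    have h1 := SemidirectProduct.inl_aut (φ := φ) ζ' (Multiplicative.ofAdd (1 : GaloisField q k))
    rw [hcomm.eq, map_inv, mul_inv_cancel_right] at h1
    have h2 := SemidirectProduct.inl_injective h1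
    have h3 : ((ζ : (GaloisField q k)ˣ) : GaloisField q k) = 1 := by
      have : φ ζ' (Multiplicative.ofAdd (1 : GaloisField q k)) =
          Multiplicative.ofAdd ((ζ : GaloisField q k) * 1) := rfl
      rw [this, mul_one] at h2
      exact Multiplicative.ofAdd.injective h2
    have h4 : ζ = 1 := Units.ext h3
    rw [h4, orderOf_one] at hζ
    exact hpp.ne_one hζ.symm
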