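import Mathlib
import Cfsg.Prelude
import Cfsg.Agent.Helper18.PSL27b

set_option autoImplicit false

/-! S3875, piece PSLNC: `PSL(2,p)`, `p ≥ 5`, has order `p (p^2 - 1) / 2` and its Sylow
`p`-subgroups are not normal. -/

namespace Cfsg.Agent.S3875P

/-- PSLNC: `PSL(2,p)`, `p ≥ 5`, has order `p (p^2 - 1) / 2` and non-normal Sylow `p`-subgroups. -/
theorem exists_psl_npc (p : ℕ) [Fact p.Prime] (hp : 5 ≤ p) :
    ∃ (H : Type) (_ : Group H) (_ : Finite H),
      Nat.card H = p * (p ^ 2 - 1) / 2 ∧ ¬ Cfsg.IsPClosed p H := by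
  have hpp : p.Prime := Fact.out
  have hodd : Odd p := hpp.odd_of_ne_two (by omega)
  obtain ⟨j, hj⟩ := hodd
  have hcard := Cfsg.Agent.Helper18.PSL27.card_psl2 (F := ZMod p) p (ZMod.card p) (by omega)
  have h3 : p - 1 = 2 * j := by omega
  have hg : Nat.gcd 2 (p - 1) = 2 := by
    rw [h3]; simp
  have h1 : p ^ 2 - 1 = 4 * j ^ 2 + 4 * j := by
    have : p ^ 2 = 4 * j ^ 2 + 4 * j + 1 := by rw [hj]; ring
    omega
  have h2 : p ^ 2 - p = 2 * j * p := by
    have : p ^ 2 = 2 * j * p + p := by rw [hj]; ring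
    omega
  rw [hg, h1, h2, h3] at hcard
  have hj0 : 0 < j := by omega
  have hN2 : Nat.card (Matrix.ProjectiveSpecialLinearGroup (Fin 2) (ZMod p)) =
      p * (2 * j ^ 2 + 2 * j) := by
    have : Nat.card (Matrix.ProjectiveSpecialLinearGroup (Fin 2) (ZMod p)) * (4 * j) =
        (p * (2 * j ^ 2 + 2 * j)) * (4 * j) := by
      linear_combination hcard
    exact Nat.eq_of_mul_eq_mul_right (by omega) this
  refine ⟨Matrix.ProjectiveSpecialLinearGroup (Fin 2) (ZMod p), inferInstance, inferInstance,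
    ?_, ?_⟩
  · rw [hN2, h1]
    have : p * (4 * j ^ 2 + 4 * j) = (p * (2 * j ^ 2 + 2 * j)) * 2 := by ring
    rw [this, Nat.mul_div_cancel _ (by norm_num)]
  · intro hcl
    have hs : IsSimpleGroup (Matrix.ProjectiveSpecialLinearGroup (Fin 2) (ZMod p)) :=
      Matrix.ProjectiveSpecialLinearGroup.rank_two_simple (by rw [Nat.card_zmod]; omega)
    obtain ⟨P⟩ : Nonempty (Sylow p (Matrix.ProjectiveSpecialLinearGroup (Fin 2) (ZMod p))) :=
      inferInstance
    have hn := hcl P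
    rcases hn.eq_bot_or_eq_top with h | h
    · have hd : p ∣ Nat.card (Matrix.ProjectiveSpecialLinearGroup (Fin 2) (ZMod p)) :=
        hN2 ▸ dvd_mul_right _ _
      exact Sylow.ne_bot_of_dvd_card P hd h
    · have hpg : IsPGroup p (P : Subgroup (Matrix.ProjectiveSpecialLinearGroup (Fin 2) (ZMod p))) :=
        P.isPGroup'
      obtain ⟨k, hk⟩ := IsPGroup.iff_card.mp hpg
      rw [h, Subgroup.card_top, hN2] at hk
      have hev : Even (p * (2 * j ^ 2 + 2 * j)) := by
        apply Even.mul_left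
        exact ⟨j ^ 2 + j, by ring⟩
      have hod : Odd (p ^ k) := Odd.pow ⟨j, hj⟩
      rw [hk] at hev
      exact (Nat.not_even_iff_odd.mpr hod) hev
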