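import Mathlib
import Cfsg.Agent.Helper29.PsfDefs

set_option autoImplicit false

/-!
# S5876, piece ORB: a nonzero subspace with independent `G`-translates is everything
-/

namespace Cfsg.Agent.S5876P

open Matrix Module

variable {n : ℕ} {F : Type*} [Field F]

theorem orb_map_map (W : Submodule F (Fin n → F)) (x y : GLn n F) :
    (W.map (lin y)).map (lin x) = W.map (lin (x * y)) := by
  rw [← Submodule.map_comp, lin_mul]
  rfl

theorem orb_map_one (W : Submodule F (Fin n → F)) : W.map (lin (1 : GLn n F)) = W := by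
  rw [lin_one]
  exact Submodule.map_id W

theorem orb_finrank_map (W : Submodule F (Fin n → F)) (x : GLn n F) :
    finrank F (W.map (lin x)) = finrank F W :=
  LinearEquiv.finrank_map_eq (linEquiv x) W

/-- ORB: a nonzero subspace whose `G`-translates are independent is everything
(irreducibility + primitivity). -/
theorem orbit_eq_top [Fintype F] (G : Subgroup (GLn n F))
    (hirr : Cfsg.Geo.ActsIrreducibly (Cfsg.Geo.matrixSet G))
    (hprim : ∀ (m t : ℕ) (D : Fin t → Submodule F (Fin n → F)), 2 ≤ t →
      Cfsg.Geo.IsMDecomposition m D → ¬ G ≤ Cfsg.Geo.decompositionStabilizer D)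
    (W : Submodule F (Fin n → F)) (hW : W ≠ ⊥)
    (hind : sSupIndep {U : Submodule F (Fin n → F) | ∃ x ∈ G, U = W.map (lin x)}) :
    W = ⊤ := by
  classical
  set 𝒲 : Set (Submodule F (Fin n → F)) := {U | ∃ x ∈ G, U = W.map (lin x)} with h𝒲
  have hWmem : W ∈ 𝒲 := ⟨1, G.one_mem, (orb_map_one W).symm⟩
  have hstab : ∀ x ∈ G, ∀ U ∈ 𝒲, U.map (lin x) ∈ 𝒲 := by
    rintro x hx U ⟨y, hy, rfl⟩
    exact ⟨x * y, G.mul_mem hx hy, orb_map_map W x y⟩
  -- the span of the translates is everything
  have hT : sSup 𝒲 = ⊤ := by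
    rcases hirr (sSup 𝒲) (by
      rintro s ⟨x, hx, rfl⟩
      rw [Submodule.map_le_iff_le_comap]
      apply sSup_le
      intro U hU
      rw [← Submodule.map_le_iff_le_comap]
      exact le_sSup (hstab x hx U hU)) with h | h
    · exfalso
      apply hW
      exact eq_bot_iff.2 (h ▸ le_sSup hWmem)
    · exact h
  -- enumerate the translates
  have : Finite (Submodule F (Fin n → F)) := inferInstance
  have : Finite 𝒲 := Subtype.finite
  set t := Nat.card 𝒲 with ht
  by_cases ht2 : 2 ≤ t
  · exfalso
    let e : 𝒲 ≃ Fin t := Finite.equivFin 𝒲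
    let D : Fin t → Submodule F (Fin n → F) := fun i => (e.symm i : Submodule F (Fin n → F))
    have hDmem : ∀ i, D i ∈ 𝒲 := fun i => (e.symm i).2
    have hdec : Cfsg.Geo.IsMDecomposition (finrank F W) D := by
      refine ⟨ht2, ?_, ?_, ?_, ?_⟩
      · rw [Nat.pos_iff_ne_zero]
        intro h0
        exact hW (Submodule.finrank_eq_zero.1 h0)
      · intro i
        obtain ⟨x, _, hx⟩ := hDmem i
        rw [hx]
        exact orb_finrank_map W x
      · have h1 := (sSupIndep_iff 𝒲).1 hind
        exact h1.comp e.symm.injective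
      · have h1 : iSup D = ⨆ U : 𝒲, (U : Submodule F (Fin n → F)) :=
          Equiv.iSup_comp (g := fun U : 𝒲 => (U : Submodule F (Fin n → F))) e.symm
        rw [h1, ← sSup_eq_iSup', hT]
    apply hprim _ _ D ht2 hdec
    intro x hx
    -- the permutation induced by `x`
    let π : 𝒲 ≃ 𝒲 :=
      { toFun := fun U => ⟨(U : Submodule F (Fin n → F)).map (lin x), hstab x hx U U.2⟩
        invFun := fun U => ⟨(U : Submodule F (Fin n → F)).map (lin x⁻¹),
          hstab x⁻¹ (G.inv_mem hx) U U.2⟩
        left_inv := by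
          intro U
          apply Subtype.ext
          show ((U : Submodule F (Fin n → F)).map (lin x)).map (lin x⁻¹) = U
          rw [orb_map_map, inv_mul_cancel, orb_map_one]
        right_inv := by
          intro U
          apply Subtype.ext
          show ((U : Submodule F (Fin n → F)).map (lin x⁻¹)).map (lin x) = U
          rw [orb_map_map, mul_inv_cancel, orb_map_one] }
    refine ⟨(e.symm.trans π).trans e, fun i => ?_⟩
    show (D i).map (lin x) = ((e.symm (e (π (e.symm i))) : 𝒲) : Submodule F (Fin n → F))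
    rw [Equiv.symm_apply_apply]
    rfl
  · have hsub : Subsingleton 𝒲 := Finite.card_le_one_iff_subsingleton.1 (by omega)
    have hall : ∀ U ∈ 𝒲, U = W := by
      intro U hU
      have := Subsingleton.elim (⟨U, hU⟩ : 𝒲) ⟨W, hWmem⟩
      exact congrArg Subtype.val this
    apply eq_top_iff.2
    rw [← hT]
    apply sSup_le
    intro U hU
    rw [hall U hU]

end Cfsg.Agent.S5876P
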