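import Mathlib
import Cfsg.Agent.Helper29.S2221Defs

/-! S2221 piece DECCONG (driver helper29): decomposability is invariant under isomorphism. -/

set_option autoImplicit false

namespace Cfsg.Agent.S2221P

namespace DECCONG

theorem decomp_of_equiv {H H' : Type*} [Group H] [Group H'] (e : H ≃* H') (h : Decomp H) :
    Decomp H' := by
  obtain ⟨A, B, h1, h2, hc, hi, hs⟩ := h
  have hinj : Function.Injective e.toMonoidHom := e.injective
  refine ⟨A.map e.toMonoidHom, B.map e.toMonoidHom, ?_, ?_, ?_, ?_, ?_⟩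
  · intro h
    rw [Subgroup.map_eq_bot_iff_of_injective _ hinj] at h
    exact h1 h
  · intro h
    rw [Subgroup.map_eq_bot_iff_of_injective _ hinj] at h
    exact h2 h
  · rintro _ ⟨a, ha, rfl⟩ _ ⟨b, hb, rfl⟩
    have := hc a ha b hb
    rw [← map_mul, ← map_mul, this]
  · rw [← Subgroup.map_inf_eq _ _ _ hinj, hi, Subgroup.map_bot]
  · rw [← Subgroup.map_sup, hs, ← MonoidHom.range_eq_map, MonoidHom.range_eq_top]
    exact e.surjective

end DECCONG

/-- T2 DECCONG (S). -/
theorem decomp_congr {H H' : Type*} [Group H] [Group H'] (e : H ≃* H') :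
    Decomp H ↔ Decomp H' :=
  ⟨DECCONG.decomp_of_equiv e, DECCONG.decomp_of_equiv e.symm⟩

end Cfsg.Agent.S2221P
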