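import Mathlib
import Cfsg.Agent.Helper29.S2221Defs

/-! S2221 piece KERDROP (driver helper29): a factor of order two with nontrivial sign can be
dropped from the kernel of the product sign. -/

set_option autoImplicit false

namespace Cfsg.Agent.S2221P

section family

variable {ι : Type*} [Fintype ι] [DecidableEq ι] (G : ι → Type*) [∀ i, Group (G i)]

variable (s : (i : ι) → G i →* ℤˣ) (S : ((i : ι) → G i) →* ℤˣ)

namespace KERDROP

theorem split (hS : ∀ w, S w = ∏ i, s i (w i)) (i₀ : ι) (w : (i : ι) → G i) :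
    S w = s i₀ (w i₀) * ∏ i : {i : ι // i ≠ i₀}, s i.1 (w i.1) := by
  rw [hS, ← Finset.mul_prod_erase Finset.univ (fun i => s i (w i)) (Finset.mem_univ i₀)]
  congr 1
  exact Finset.prod_subtype (Finset.univ.erase i₀) (p := fun i => i ≠ i₀)
    (fun x => by simp) (fun i => s i (w i))

end KERDROP

/-- A4 KERDROP (M): a factor of order two with nontrivial sign can be dropped. -/
theorem ker_equiv_pi_ne (hS : ∀ w, S w = ∏ i, s i (w i)) (i₀ : ι) (t : G i₀)
    (ht : s i₀ t = -1) (hG : ∀ g : G i₀, g = 1 ∨ g = t) :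
    Nonempty (↥S.ker ≃* ((i : {i : ι // i ≠ i₀}) → G i.1)) := by
  have key := KERDROP.split G s S hS i₀
  have hne : (1 : ℤˣ) ≠ -1 := by decide
  let r : ↥S.ker →* ((i : {i : ι // i ≠ i₀}) → G i.1) :=
    { toFun := fun q i => (q : (i : ι) → G i) i.1
      map_one' := rfl
      map_mul' := fun _ _ => rfl }
  refine ⟨MulEquiv.ofBijective r ⟨?_, ?_⟩⟩
  · intro q q' hqq
    have hcomp : ∀ i : {i : ι // i ≠ i₀}, (q : (i : ι) → G i) i.1 = (q' : (i : ι) → G i) i.1 :=
      fun i => congrFun hqq i
    have h1 := q.2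
    have h2 := q'.2
    rw [MonoidHom.mem_ker, key] at h1 h2
    have h3 : s i₀ ((q : (i : ι) → G i) i₀) = s i₀ ((q' : (i : ι) → G i) i₀) := by
      have e : ∏ i : {i : ι // i ≠ i₀}, s i.1 ((q : (i : ι) → G i) i.1) =
          ∏ i : {i : ι // i ≠ i₀}, s i.1 ((q' : (i : ι) → G i) i.1) :=
        Finset.prod_congr rfl (fun i _ => by rw [hcomp i])
      rw [e, ← h2] at h1
      exact mul_right_cancel h1
    apply Subtype.ext
    funext i
    by_cases hi : i = i₀
    · subst hi
      rcases hG ((q : (i : ι) → G i) i) with e1 | e1 <;>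
        rcases hG ((q' : (i : ι) → G i) i) with e2 | e2
      · rw [e1, e2]
      · rw [e1, e2, map_one, ht] at h3
        exact absurd h3 hne
      · rw [e1, e2, map_one, ht] at h3
        exact absurd h3.symm hne
      · rw [e1, e2]
    · exact hcomp ⟨i, hi⟩
  · intro v
    let P : ℤˣ := ∏ i : {i : ι // i ≠ i₀}, s i.1 (v i)
    let c : G i₀ := if P = 1 then 1 else t
    let w₀ : (i : ι) → G i := fun i => if h : i = i₀ then 1 else v ⟨i, h⟩
    let w : (i : ι) → G i := Function.update w₀ i₀ c
    have hw : ∀ i : {i : ι // i ≠ i₀}, w i.1 = v i := by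
      intro i
      show Function.update w₀ i₀ c i.1 = v i
      rw [Function.update_of_ne i.2]
      show (if h : i.1 = i₀ then 1 else v ⟨i.1, h⟩) = v i
      rw [dif_neg i.2]
    have hw0 : w i₀ = c := Function.update_self i₀ c w₀
    have hSw : S w = 1 := by
      rw [key, hw0]
      have e : ∏ i : {i : ι // i ≠ i₀}, s i.1 (w i.1) = P :=
        Finset.prod_congr rfl (fun i _ => by rw [hw i])
      rw [e]
      rcases Int.units_eq_one_or P with hP | hP
      · have hc : c = 1 := if_pos hP
        rw [hc, hP, map_one, one_mul]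
      · have hc : c = t := by
          apply if_neg
          rw [hP]
          exact hne.symm
        rw [hc, hP, ht]
        decide
    refine ⟨⟨w, hSw⟩, ?_⟩
    funext i
    exact hw i

end family

end Cfsg.Agent.S2221P
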