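import Mathlib
import Cfsg.Agent.Helper29.S2221Defs

/-! S2221 pieces PIUNIQ and KERUNIQ (driver helper29): a product with a single nontrivial factor. -/

set_option autoImplicit false

namespace Cfsg.Agent.S2221P

section family

variable {ι : Type*} [Fintype ι] [DecidableEq ι] (G : ι → Type*) [∀ i, Group (G i)]

/-- A6 PIUNIQ (S–M). -/
theorem pi_equiv_of_unique (i₁ : ι) (h : ∀ i, i ≠ i₁ → Subsingleton (G i)) :
    Nonempty (((i : ι) → G i) ≃* G i₁) := by
  refine ⟨MulEquiv.ofBijective (Pi.evalMonoidHom G i₁) ⟨?_, ?_⟩⟩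
  · intro w w' hww
    funext i
    by_cases hi : i = i₁
    · subst hi
      exact hww
    · have := h i hi
      exact Subsingleton.elim _ _
  · intro g
    exact ⟨Pi.mulSingle i₁ g, Pi.mulSingle_eq_same i₁ g⟩

variable (s : (i : ι) → G i →* ℤˣ) (S : ((i : ι) → G i) →* ℤˣ)

/-- A5 KERUNIQ (S–M). -/
theorem ker_equiv_of_unique (hS : ∀ w, S w = ∏ i, s i (w i)) (i₁ : ι)
    (h : ∀ i, i ≠ i₁ → Subsingleton (G i)) :
    Nonempty (↥S.ker ≃* ↥(s i₁).ker) := by
  have key : ∀ w : (i : ι) → G i, S w = s i₁ (w i₁) := by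
    intro w
    rw [hS]
    apply Finset.prod_eq_single i₁
    · intro i _ hi
      have := h i hi
      rw [Subsingleton.elim (w i) 1, map_one]
    · intro h0
      exact absurd (Finset.mem_univ i₁) h0
  let f : ↥S.ker →* ↥(s i₁).ker :=
    MonoidHom.codRestrict ((Pi.evalMonoidHom G i₁).comp S.ker.subtype) (s i₁).ker (by
      intro q
      rw [MonoidHom.mem_ker]
      have hq := q.2
      rw [MonoidHom.mem_ker, key] at hq
      exact hq)
  refine ⟨MulEquiv.ofBijective f ⟨?_, ?_⟩⟩
  · intro q q' hqq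
    apply Subtype.ext
    funext i
    by_cases hi : i = i₁
    · subst hi
      exact congrArg Subtype.val hqq
    · have := h i hi
      exact Subsingleton.elim _ _
  · intro g
    have hg := g.2
    rw [MonoidHom.mem_ker] at hg
    refine ⟨⟨Pi.mulSingle i₁ g.1, ?_⟩, ?_⟩
    · rw [MonoidHom.mem_ker, key, Pi.mulSingle_eq_same]
      exact hg
    · apply Subtype.ext
      exact Pi.mulSingle_eq_same i₁ g.1

end family

end Cfsg.Agent.S2221P
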