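import Mathlib
import Cfsg.Prelude.Def_TwoFusion
import Cfsg.Agent.Helper29.S2221Defs

/-! S2221 piece DECSUB (driver helper29): internal direct decompositions of a subgroup `P`
versus abstract decomposability of `↥P`. -/

set_option autoImplicit false

namespace Cfsg.Agent.S2221P

/-- T1 DECSUB (S). -/
theorem decomp_subgroup_iff {G : Type*} [Group G] (P : Subgroup G) :
    (∃ S₁ S₂ : Subgroup G, S₁ ≠ ⊥ ∧ S₂ ≠ ⊥ ∧ Cfsg.IsInternalDirectProduct S₁ S₂ P) ↔
      Decomp ↥P := by
  constructor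
  · rintro ⟨S₁, S₂, h1, h2, hle1, hle2, hc, hi, hs⟩
    refine ⟨S₁.subgroupOf P, S₂.subgroupOf P, ?_, ?_, ?_, ?_, ?_⟩
    · intro h
      rw [Subgroup.subgroupOf_eq_bot, disjoint_iff, inf_eq_left.mpr hle1] at h
      exact h1 h
    · intro h
      rw [Subgroup.subgroupOf_eq_bot, disjoint_iff, inf_eq_left.mpr hle2] at h
      exact h2 h
    · intro a ha b hb
      apply Subtype.ext
      exact hc a.1 (Subgroup.mem_subgroupOf.mp ha) b.1 (Subgroup.mem_subgroupOf.mp hb)
    · rw [eq_bot_iff]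
      intro x hx
      rw [Subgroup.mem_inf] at hx
      have hx1 : (x : G) ∈ S₁ ⊓ S₂ :=
        Subgroup.mem_inf.mpr ⟨Subgroup.mem_subgroupOf.mp hx.1, Subgroup.mem_subgroupOf.mp hx.2⟩
      rw [hi, Subgroup.mem_bot] at hx1
      rw [Subgroup.mem_bot]
      exact Subtype.ext hx1
    · rw [← Subgroup.subgroupOf_sup hle1 hle2, hs, Subgroup.subgroupOf_self]
  · rintro ⟨A, B, h1, h2, hc, hi, hs⟩
    have hinj : Function.Injective P.subtype := P.subtype_injective
    refine ⟨A.map P.subtype, B.map P.subtype, ?_, ?_, ?_, ?_, ?_, ?_, ?_⟩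
    · intro h
      rw [Subgroup.map_eq_bot_iff_of_injective _ hinj] at h
      exact h1 h
    · intro h
      rw [Subgroup.map_eq_bot_iff_of_injective _ hinj] at h
      exact h2 h
    · exact Subgroup.map_subtype_le A
    · exact Subgroup.map_subtype_le B
    · rintro _ ⟨a, ha, rfl⟩ _ ⟨b, hb, rfl⟩
      have := hc a ha b hb
      rw [← map_mul, ← map_mul, this]
    · rw [← Subgroup.map_inf_eq _ _ _ hinj, hi, Subgroup.map_bot]
    · rw [← Subgroup.map_sup, hs, ← MonoidHom.range_eq_map, Subgroup.range_subtype]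

end Cfsg.Agent.S2221P
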