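import Mathlib
import Cfsg.Prelude.Def_TwoFusion
import Cfsg.Agent.Helper29.S2221Defs
import Cfsg.Agent.Helper3.S2221DECSUB
import Cfsg.Agent.Helper3.S2221DECCONG

/-! S2221 piece SYLTRANS (driver helper29): transfer of decomposability from a model of the
right order to any Sylow 2-subgroup. -/

set_option autoImplicit false

namespace Cfsg.Agent.S2221P

/-- T3 SYLTRANS (M; deps DECSUB, DECCONG; `Sylow.ofCard`, `Sylow.equiv`, `MonoidHom.ofInjective`). -/
theorem sylow_decomp_iff {G : Type*} [Group G] [Finite G] {M : Type*} [Group M] (φ : M →* G)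
    (hφ : Function.Injective φ) (hcard : Nat.card M = 2 ^ (Nat.card G).factorization 2)
    (P : Sylow 2 G) :
    (∃ S₁ S₂ : Subgroup G, S₁ ≠ ⊥ ∧ S₂ ≠ ⊥ ∧
      Cfsg.IsInternalDirectProduct S₁ S₂ (P : Subgroup G)) ↔ Decomp M := by
  have : Fact (Nat.Prime 2) := ⟨Nat.prime_two⟩
  have e0 : M ≃* ↥φ.range := MonoidHom.ofInjective hφ
  have hc : Nat.card ↥φ.range = 2 ^ (Nat.card G).factorization 2 := by
    rw [← hcard]
    exact (Nat.card_congr e0.toEquiv).symm
  let P₀ : Sylow 2 G := Sylow.ofCard φ.range hc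
  have e1 : ↥P ≃* ↥P₀ := Sylow.equiv P P₀
  have e2 : ↥P₀ ≃* ↥φ.range := MulEquiv.refl _
  rw [decomp_subgroup_iff]
  exact (decomp_congr e1).trans ((decomp_congr e2).trans (decomp_congr e0).symm)

end Cfsg.Agent.S2221P
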