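import Mathlib

set_option autoImplicit false
set_option linter.style.haveILetI false
set_option linter.unusedSectionVars false

/-!
# Direct powers of a non-abelian simple group, part 1: normal subgroups and automorphisms

`W = ι → T` with `T` simple and centreless.  Normal subgroups of `W` containing an element with
non-trivial `i`-th coordinate contain the whole `i`-th factor; automorphisms of `W` permute the
factors.
-/

namespace Cfsg.Agent.Helper3.PiSimple

variable {ι : Type*} [Fintype ι] [DecidableEq ι] {T : Type*} [Group T]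

theorem exists_not_commute (hc : Subgroup.center T = ⊥) {x : T} (hx : x ≠ 1) :
    ∃ u : T, u * x ≠ x * u := by
  by_contra hcon
  push Not at hcon
  apply hx
  have : x ∈ Subgroup.center T := Subgroup.mem_center_iff.mpr hcon
  rwa [hc, Subgroup.mem_bot] at this

/-- A normal subgroup containing an element with non-trivial `i`-th coordinate contains the
`i`-th factor. -/
theorem mulSingle_mem_of_normal [IsSimpleGroup T] (hc : Subgroup.center T = ⊥)
    (M : Subgroup (ι → T)) [hM : M.Normal] {f : ι → T} (hf : f ∈ M) {i : ι} (hi : f i ≠ 1)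
    (t : T) : Pi.mulSingle i t ∈ M := by
  classical
  let S : Subgroup T := M.comap (MonoidHom.mulSingle (fun _ => T) i)
  haveI : S.Normal := hM.comap _
  obtain ⟨u, hu⟩ := exists_not_commute hc hi
  have hmem : u * f i * u⁻¹ * (f i)⁻¹ ∈ S := by
    change Pi.mulSingle i (u * f i * u⁻¹ * (f i)⁻¹) ∈ M
    have h1 : (Pi.mulSingle i (u * f i * u⁻¹ * (f i)⁻¹) : ι → T) =
        (Pi.mulSingle i u) * f * (Pi.mulSingle i u)⁻¹ * f⁻¹ := by
      funext l
      by_cases hl : l = i
      · subst hl
        simp
      · simp [Pi.mulSingle_eq_of_ne hl]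
    rw [h1]
    exact M.mul_mem (hM.conj_mem f hf _) (M.inv_mem hf)
  have hne : u * f i * u⁻¹ * (f i)⁻¹ ≠ 1 := by
    intro h
    apply hu
    have : u * f i * u⁻¹ = f i := by
      rw [mul_inv_eq_one] at h
      exact h
    rw [mul_inv_eq_iff_eq_mul] at this
    exact this
  have hS : S = ⊤ := by
    rcases Subgroup.Normal.eq_bot_or_eq_top (H := S) inferInstance with h | h
    · exfalso
      rw [h, Subgroup.mem_bot] at hmem
      exact hne hmem
    · exact h
  have : t ∈ S := by rw [hS]; trivial
  exact this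

/-- A subgroup containing all coordinate components of `f` contains `f`. -/
theorem mem_of_forall_mulSingle (M : Subgroup (ι → T)) (f : ι → T)
    (h : ∀ i, Pi.mulSingle i (f i) ∈ M) : f ∈ M := by
  rw [← Finset.noncommProd_mulSingle f]
  exact M.noncommProd_mem _ (fun i _ => h i)

/-- The `i`-th factor. -/
def factor (ι : Type*) [DecidableEq ι] (T : Type*) [Group T] (i : ι) : Subgroup (ι → T) :=
  (MonoidHom.mulSingle (fun _ => T) i).range

theorem mem_factor {i : ι} {f : ι → T} : f ∈ factor ι T i ↔ ∃ t, Pi.mulSingle i t = f :=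
  MonoidHom.mem_range

instance factor_normal (i : ι) : (factor ι T i).Normal := by
  constructor
  rintro f ⟨t, rfl⟩ g
  refine ⟨g i * t * (g i)⁻¹, ?_⟩
  funext l
  by_cases hl : l = i
  · subst hl
    simp
  · simp [Pi.mulSingle_eq_of_ne hl]

theorem mulSingle_injective' (i : ι) {t t' : T} (h : (Pi.mulSingle i t : ι → T) = Pi.mulSingle i t') :
    t = t' := by
  have := congrFun h i
  simpa using this

/-- Step 1: an automorphism maps each factor onto a factor. -/
theorem exists_factor_image [IsSimpleGroup T] (hc : Subgroup.center T = ⊥)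
    (θ : (ι → T) ≃* (ι → T)) (i : ι) :
    ∃ j, (∀ t, ∃ t', θ (Pi.mulSingle i t) = Pi.mulSingle j t') ∧
      (∀ t', ∃ t, θ (Pi.mulSingle i t) = Pi.mulSingle j t') := by
  classical
  obtain ⟨t0, ht0⟩ := exists_ne (1 : T)
  let M : Subgroup (ι → T) := (factor ι T i).map θ.toMonoidHom
  haveI hMn : M.Normal := (factor_normal i).map _ θ.surjective
  have hg0 : θ (Pi.mulSingle i t0) ∈ M := ⟨_, ⟨t0, rfl⟩, rfl⟩
  have hg0ne : θ (Pi.mulSingle i t0) ≠ 1 := by
    intro h
    rw [map_eq_one_iff θ θ.injective] at h
    apply ht0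
    have := congrFun h i
    simpa using this
  obtain ⟨j, hj⟩ : ∃ j, θ (Pi.mulSingle i t0) j ≠ 1 := by
    by_contra hcon
    push Not at hcon
    exact hg0ne (funext hcon)
  have hjM : ∀ t', Pi.mulSingle j t' ∈ M := fun t' => mulSingle_mem_of_normal hc M hg0 hj t'
  have hsurj : ∀ t', ∃ t, θ (Pi.mulSingle i t) = Pi.mulSingle j t' := by
    intro t'
    obtain ⟨_, ⟨t, rfl⟩, ht⟩ := hjM t'
    exact ⟨t, ht⟩
  refine ⟨j, ?_, hsurj⟩
  -- the preimage of the `j`-th factor is a non-trivial normal subgroup inside the `i`-th factor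
  let M2 : Subgroup (ι → T) := (factor ι T j).map θ.symm.toMonoidHom
  haveI hM2n : M2.Normal := (factor_normal j).map _ θ.symm.surjective
  obtain ⟨t1, ht1⟩ := hsurj t0
  have h1 : (Pi.mulSingle i t1 : ι → T) ∈ M2 := by
    refine ⟨Pi.mulSingle j t0, ⟨t0, rfl⟩, ?_⟩
    change θ.symm (Pi.mulSingle j t0) = _
    rw [← ht1, MulEquiv.symm_apply_apply]
  have ht1ne : t1 ≠ 1 := by
    intro h
    rw [h, Pi.mulSingle_one, map_one] at ht1
    apply ht0
    have := congrFun ht1 j
    simpa using this.symm
  have h2 : ∀ t, Pi.mulSingle i t ∈ M2 := fun t =>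
    mulSingle_mem_of_normal hc M2 h1 (i := i) (by simpa using ht1ne) t
  intro t
  obtain ⟨_, ⟨t', rfl⟩, ht'⟩ := h2 t
  refine ⟨t', ?_⟩
  change θ.symm (Pi.mulSingle j t') = _ at ht'
  rw [← ht', MulEquiv.apply_symm_apply]

/-- **Automorphisms of `T^ι` permute the factors.** -/
theorem exists_perm [IsSimpleGroup T] (hc : Subgroup.center T = ⊥)
    (θ : (ι → T) ≃* (ι → T)) :
    ∃ (π : Equiv.Perm ι) (φ : ι → (T ≃* T)), ∀ (f : ι → T) (i : ι), θ f (π i) = φ i (f i) := by
  classical
  choose p hp1 hp2 using exists_factor_image hc θ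
  -- the coordinate homomorphisms
  let φh : ι → (T →* T) := fun i =>
    (Pi.evalMonoidHom (fun _ => T) (p i)).comp
      (θ.toMonoidHom.comp (MonoidHom.mulSingle (fun _ => T) i))
  have hφ : ∀ i t, θ (Pi.mulSingle i t) = Pi.mulSingle (p i) (φh i t) := by
    intro i t
    obtain ⟨t', ht'⟩ := hp1 i t
    have : φh i t = t' := by
      change θ (Pi.mulSingle i t) (p i) = t'
      rw [ht']
      simp
    rw [this, ht']
  have hφinj : ∀ i, Function.Injective (φh i) := by
    intro i
    rw [injective_iff_map_eq_one]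
    intro t ht
    have h1 := hφ i t
    rw [ht, Pi.mulSingle_one, map_eq_one_iff θ θ.injective] at h1
    have := congrFun h1 i
    simpa using this
  have hφsurj : ∀ i, Function.Surjective (φh i) := by
    intro i t'
    obtain ⟨t, ht⟩ := hp2 i t'
    refine ⟨t, ?_⟩
    rw [hφ i t] at ht
    exact mulSingle_injective' (p i) ht
  -- `p` is injective
  obtain ⟨a0, ha0⟩ := exists_ne (1 : T)
  obtain ⟨b0, hab⟩ := exists_not_commute hc ha0
  have hpinj : Function.Injective p := by
    intro i i' hii
    by_contra hne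
    obtain ⟨t, ht⟩ := hφsurj i b0
    obtain ⟨t', ht'⟩ := hφsurj i' a0
    have hcomm : (Pi.mulSingle i t : ι → T) * Pi.mulSingle i' t' =
        Pi.mulSingle i' t' * Pi.mulSingle i t :=
      (Pi.mulSingle_commute (f := fun _ => T) hne t t').eq
    have h2 := congrArg θ hcomm
    rw [map_mul, map_mul, hφ, hφ, ht, ht', ← hii] at h2
    have h3 := congrFun h2 (p i)
    simp only [Pi.mul_apply, Pi.mulSingle_eq_same] at h3
    exact hab h3
  have hpbij : Function.Bijective p := Finite.injective_iff_bijective.mp hpinj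
  refine ⟨Equiv.ofBijective p hpbij, fun i => MulEquiv.ofBijective (φh i) ⟨hφinj i, hφsurj i⟩, ?_⟩
  intro f i
  change θ f (p i) = φh i (f i)
  -- split off the `i`-th coordinate
  have hsplit : f = Pi.mulSingle i (f i) * Function.update f i 1 := by
    funext l
    by_cases hl : l = i
    · subst hl
      simp
    · simp [Pi.mulSingle_eq_of_ne hl, Function.update_of_ne hl]
  have hcent : θ (Function.update f i 1) (p i) = 1 := by
    have hmem : θ (Function.update f i 1) (p i) ∈ Subgroup.center T := by
      rw [Subgroup.mem_center_iff]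
      intro a
      obtain ⟨t, ht⟩ := hφsurj i a
      have hcomm : (Pi.mulSingle i t : ι → T) * Function.update f i 1 =
          Function.update f i 1 * Pi.mulSingle i t := by
        funext l
        by_cases hl : l = i
        · subst hl
          simp
        · simp [Pi.mulSingle_eq_of_ne hl]
      have h2 := congrArg θ hcomm
      rw [map_mul, map_mul, hφ, ht] at h2
      have h3 := congrFun h2 (p i)
      simpa using h3
    rwa [hc, Subgroup.mem_bot] at hmem
  conv_lhs => rw [hsplit]
  rw [map_mul, Pi.mul_apply, hcent, mul_one, hφ]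
  simp

end Cfsg.Agent.Helper3.PiSimple
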