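import Mathlib
import Cfsg.Agent.Helper3.PiSimple1

set_option autoImplicit false
set_option linter.style.haveILetI false
set_option linter.unusedSectionVars false

/-!
# Direct powers of a non-abelian simple group, part 2: subdirect subgroups (Scott's lemma)
-/

namespace Cfsg.Agent.Helper3.PiSimple

variable {ι : Type*} [Fintype ι] [DecidableEq ι] {T : Type*} [Group T]

/-- `P` projects onto every coordinate. -/
def Subdirect (P : Subgroup (ι → T)) : Prop := ∀ i t, ∃ f ∈ P, f i = t

/-- The elements of `P` that are trivial on `A`. -/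
def Pz (P : Subgroup (ι → T)) (A : Set ι) : Subgroup (ι → T) where
  carrier := {f | f ∈ P ∧ ∀ l ∈ A, f l = 1}
  mul_mem' := by
    rintro a b ⟨ha, ha'⟩ ⟨hb, hb'⟩
    refine ⟨P.mul_mem ha hb, fun l hl => ?_⟩
    rw [Pi.mul_apply, ha' l hl, hb' l hl, one_mul]
  one_mem' := ⟨P.one_mem, fun _ _ => rfl⟩
  inv_mem' := by
    rintro a ⟨ha, ha'⟩
    refine ⟨P.inv_mem ha, fun l hl => ?_⟩
    rw [Pi.inv_apply, ha' l hl, inv_one]

theorem mem_Pz {P : Subgroup (ι → T)} {A : Set ι} {f : ι → T} :
    f ∈ Pz P A ↔ f ∈ P ∧ ∀ l ∈ A, f l = 1 := Iff.rfl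

/-- The projection of `Pz P A` to the coordinate `i0` is trivial or everything. -/
theorem img_bot_or_top [IsSimpleGroup T] {P : Subgroup (ι → T)} (hsub : Subdirect P)
    (A : Set ι) (i0 : ι) :
    (∀ f ∈ Pz P A, f i0 = 1) ∨ (∀ t, ∃ f ∈ Pz P A, f i0 = t) := by
  let S : Subgroup T := (Pz P A).map (Pi.evalMonoidHom (fun _ => T) i0)
  haveI : S.Normal := by
    constructor
    rintro _ ⟨f, hf, rfl⟩ t
    obtain ⟨g, hg, hgt⟩ := hsub i0 t
    refine ⟨g * f * g⁻¹, ⟨P.mul_mem (P.mul_mem hg hf.1) (P.inv_mem hg), fun l hl => ?_⟩, ?_⟩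
    · rw [Pi.mul_apply, Pi.mul_apply, hf.2 l hl, mul_one, Pi.inv_apply, mul_inv_cancel]
    · simp [hgt]
  rcases Subgroup.Normal.eq_bot_or_eq_top (H := S) inferInstance with h | h
  · left
    intro f hf
    have : f i0 ∈ S := ⟨f, hf, rfl⟩
    rwa [h, Subgroup.mem_bot] at this
  · right
    intro t
    have : t ∈ S := by rw [h]; trivial
    obtain ⟨f, hf, hft⟩ := this
    exact ⟨f, hf, hft⟩

/-- `i` and `j` are linked: elements of `P` trivial at `i` are trivial at `j`. -/
def rel (P : Subgroup (ι → T)) (i j : ι) : Prop := ∀ f ∈ P, f i = 1 → f j = 1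

theorem rel_refl (P : Subgroup (ι → T)) (i : ι) : rel P i i := fun _ _ h => h

theorem rel_trans {P : Subgroup (ι → T)} {i j k : ι} (h1 : rel P i j) (h2 : rel P j k) :
    rel P i k := fun f hf h => h2 f hf (h1 f hf h)

theorem rel_symm [IsSimpleGroup T] {P : Subgroup (ι → T)} (hsub : Subdirect P) {i j : ι}
    (h : rel P i j) : rel P j i := by
  rcases img_bot_or_top hsub {j} i with h1 | h1
  · intro f hf hfj
    exact h1 f ⟨hf, fun l hl => by rw [Set.mem_singleton_iff.mp hl]; exact hfj⟩
  · exfalso
    obtain ⟨s, hs⟩ := exists_ne (1 : T)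
    obtain ⟨g, hg, hgs⟩ := hsub j s
    obtain ⟨f, hf, hfi⟩ := h1 (g i)
    have hfj : f j = 1 := hf.2 j rfl
    have h2 := h (g * f⁻¹) (P.mul_mem hg (P.inv_mem hf.1))
      (by rw [Pi.mul_apply, Pi.inv_apply, hfi, mul_inv_cancel])
    rw [Pi.mul_apply, Pi.inv_apply, hfj, inv_one, mul_one, hgs] at h2
    exact hs h2

/-- The comparison map between linked coordinates. -/
noncomputable def phiFun {P : Subgroup (ι → T)} (hsub : Subdirect P) (i j : ι) : T → T :=
  fun t => (Classical.choose (hsub i t)) j

theorem phi_spec {P : Subgroup (ι → T)} (hsub : Subdirect P) {i j : ι} (h : rel P i j)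
    {f : ι → T} (hf : f ∈ P) : f j = phiFun hsub i j (f i) := by
  obtain ⟨hg, hgi⟩ := Classical.choose_spec (hsub i (f i))
  set g := Classical.choose (hsub i (f i)) with hgdef
  have h1 := h (f * g⁻¹) (P.mul_mem hf (P.inv_mem hg))
    (by rw [Pi.mul_apply, Pi.inv_apply, hgi, mul_inv_cancel])
  rw [Pi.mul_apply, Pi.inv_apply, mul_inv_eq_one] at h1
  exact h1

/-- The comparison isomorphism between linked coordinates. -/
noncomputable def phiEquiv [IsSimpleGroup T] {P : Subgroup (ι → T)} (hsub : Subdirect P)
    {i j : ι} (h : rel P i j) : T ≃* T where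
  toFun := phiFun hsub i j
  invFun := phiFun hsub j i
  left_inv t := by
    obtain ⟨f, hf, rfl⟩ := hsub i t
    rw [← phi_spec hsub h hf, ← phi_spec hsub (rel_symm hsub h) hf]
  right_inv t := by
    obtain ⟨f, hf, rfl⟩ := hsub j t
    rw [← phi_spec hsub (rel_symm hsub h) hf, ← phi_spec hsub h hf]
  map_mul' t t' := by
    obtain ⟨f, hf, rfl⟩ := hsub i t
    obtain ⟨f', hf', rfl⟩ := hsub i t'
    rw [← phi_spec hsub h hf, ← phi_spec hsub h hf', ← Pi.mul_apply, ← Pi.mul_apply,
      ← phi_spec hsub h (P.mul_mem hf hf')]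

theorem phiEquiv_spec [IsSimpleGroup T] {P : Subgroup (ι → T)} (hsub : Subdirect P) {i j : ι}
    (h : rel P i j) {f : ι → T} (hf : f ∈ P) : f j = phiEquiv hsub h (f i) :=
  phi_spec hsub h hf

/-- Elements of `P` supported on the class of `i0` realise every value at `i0`. -/
theorem exists_supported [IsSimpleGroup T] (hc : Subgroup.center T = ⊥)
    {P : Subgroup (ι → T)} (hsub : Subdirect P) (i0 : ι) (t : T) :
    ∃ g ∈ P, g i0 = t ∧ ∀ j, ¬ rel P i0 j → g j = 1 := by
  classical
  have key : ∀ S : Finset ι, (∀ j ∈ S, ¬ rel P i0 j) →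
      ∀ t, ∃ g ∈ P, g i0 = t ∧ ∀ j ∈ S, g j = 1 := by
    intro S
    induction S using Finset.induction_on with
    | empty =>
      intro _ t
      obtain ⟨g, hg, hgt⟩ := hsub i0 t
      exact ⟨g, hg, hgt, fun j hj => absurd hj (Finset.notMem_empty j)⟩
    | insert j S hjS ih =>
      intro hS t
      have ih' := ih (fun l hl => hS l (Finset.mem_insert_of_mem hl))
      rcases img_bot_or_top hsub (↑(insert j S) : Set ι) i0 with h1 | h1
      · exfalso
        obtain ⟨a, ha⟩ := exists_ne (1 : T)
        obtain ⟨b, hab⟩ := exists_not_commute hc ha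
        -- `x` with value `b` at `i0`, trivial on `S`
        obtain ⟨x, hx, hxi, hxS⟩ := ih' b
        -- `y` with value `a` at `i0`, trivial at `j`
        have hnrel : ¬ rel P j i0 := fun h => hS j (Finset.mem_insert_self j S) (rel_symm hsub h)
        obtain ⟨y, hy, hyi⟩ : ∃ y ∈ Pz P {j}, y i0 = a := by
          rcases img_bot_or_top hsub {j} i0 with h2 | h2
          · exfalso
            apply hnrel
            intro f hf hfj
            exact h2 f ⟨hf, fun l hl => by rw [Set.mem_singleton_iff.mp hl]; exact hfj⟩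
          · exact h2 a
        have hyj : y j = 1 := hy.2 j rfl
        have hmem : x * y * x⁻¹ * y⁻¹ ∈ Pz P (↑(insert j S) : Set ι) := by
          refine ⟨P.mul_mem (P.mul_mem (P.mul_mem hx hy.1) (P.inv_mem hx)) (P.inv_mem hy.1), ?_⟩
          intro l hl
          rw [Finset.mem_coe, Finset.mem_insert] at hl
          rcases hl with rfl | hl
          · simp [hyj]
          · simp [hxS l hl]
        have h2 := h1 _ hmem
        simp only [Pi.mul_apply, Pi.inv_apply, hxi, hyi] at h2
        apply hab
        have h3 : b * a * b⁻¹ = a := by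
          rw [mul_inv_eq_one] at h2
          exact h2
        rw [mul_inv_eq_iff_eq_mul] at h3
        exact h3
      · obtain ⟨g, hg, hgt⟩ := h1 t
        exact ⟨g, hg.1, hgt, fun l hl => hg.2 l (by exact_mod_cast hl)⟩
  obtain ⟨g, hg, hgt, hgS⟩ := key (Finset.univ.filter (fun j => ¬ rel P i0 j))
    (fun j hj => (Finset.mem_filter.mp hj).2) t
  exact ⟨g, hg, hgt, fun j hj => hgS j (Finset.mem_filter.mpr ⟨Finset.mem_univ j, hj⟩)⟩

/-- **Scott's lemma.** A subdirect subgroup of `T^ι` is a product of twisted diagonals over the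
classes of the relation `rel`. -/
theorem scott [IsSimpleGroup T] (hc : Subgroup.center T = ⊥)
    {P : Subgroup (ι → T)} (hsub : Subdirect P) :
    ∃ (r : ι → ι) (φ : ι → (T ≃* T)), (∀ i, r (r i) = r i) ∧
      (∀ i j, r i = r j ↔ rel P i j) ∧
      (∀ f, f ∈ P ↔ ∀ i, f i = φ i (f (r i))) := by
  classical
  let s : Setoid ι := ⟨rel P, ⟨rel_refl P, fun h => rel_symm hsub h, fun h1 h2 => rel_trans h1 h2⟩⟩
  let r : ι → ι := fun i => (Quotient.mk s i).out
  have hr1 : ∀ i, rel P (r i) i := fun i => Quotient.mk_out (s := s) i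
  have hr2 : ∀ i j, r i = r j ↔ rel P i j := by
    intro i j
    constructor
    · intro h
      have h1 : rel P i (r i) := rel_symm hsub (hr1 i)
      rw [h] at h1
      exact rel_trans h1 (hr1 j)
    · intro h
      have : Quotient.mk s i = Quotient.mk s j := Quotient.sound h
      change (Quotient.mk s i).out = (Quotient.mk s j).out
      rw [this]
  have hr3 : ∀ i, r (r i) = r i := fun i => (hr2 _ _).mpr (hr1 i)
  let φ : ι → (T ≃* T) := fun i => phiEquiv hsub (hr1 i)
  refine ⟨r, φ, hr3, hr2, ?_⟩
  intro f
  constructor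
  · intro hf i
    exact phiEquiv_spec hsub (hr1 i) hf
  · intro hf
    have key : ∀ S : Finset ι, (fun i => if r i ∈ S then f i else 1) ∈ P := by
      intro S
      induction S using Finset.induction_on with
      | empty =>
        have : (fun i => if r i ∈ (∅ : Finset ι) then f i else 1) = (1 : ι → T) := by
          funext i; simp
        rw [this]
        exact P.one_mem
      | insert ρ S hρS ih =>
        have hsplit : (fun i => if r i ∈ insert ρ S then f i else 1) =
            (fun i => if r i ∈ S then f i else 1) * (fun i => if r i = ρ then f i else 1) := by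
          funext i
          rw [Pi.mul_apply]
          by_cases h1 : r i = ρ
          · have h2 : r i ∉ S := by rw [h1]; exact hρS
            simp [h1, hρS]
          · by_cases h2 : r i ∈ S
            · simp [h1, h2]
            · simp [h1, h2]
        rw [hsplit]
        refine P.mul_mem ih ?_
        by_cases hρ : r ρ = ρ
        · obtain ⟨g, hg, hgρ, hg1⟩ := exists_supported hc hsub ρ (f ρ)
          have : (fun i => if r i = ρ then f i else 1) = g := by
            funext i
            by_cases h1 : r i = ρ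
            · simp only [h1, if_true]
              have h2 : g i = φ i (g (r i)) := phiEquiv_spec hsub (hr1 i) hg
              have e : g (r i) = f (r i) := by rw [h1, hgρ]
              rw [hf i, h2, e]
            · simp only [h1, if_false]
              symm
              apply hg1
              intro hrel
              apply h1
              rw [← (hr2 ρ i).mpr hrel, hρ]
          rw [this]
          exact hg
        · have : (fun i => if r i = ρ then f i else 1) = (1 : ι → T) := by
            funext i
            have : r i ≠ ρ := by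
              intro h
              apply hρ
              rw [← h, hr3]
            simp [this]
          rw [this]
          exact P.one_mem
    have := key Finset.univ
    simpa using this

end Cfsg.Agent.Helper3.PiSimple
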