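import Mathlib
import Cfsg.Agent.Helper3.PiSimple2

set_option autoImplicit false
set_option linter.style.haveILetI false
set_option linter.unusedSectionVars false

/-!
# Direct powers of a non-abelian simple group, part 3: maximal invariant subgroups
(the abstract core of the O'Nan–Scott analysis)
-/

namespace Cfsg.Agent.Helper3.PiSimple

variable {ι : Type*} [Fintype ι] [DecidableEq ι] {T : Type*} [Group T]

/-- The abstract O'Nan–Scott dichotomy.  `𝒦` is a set of automorphisms of `T^ι` preserving `P`,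
with no proper non-empty invariant set of coordinates, and `P` is a maximal proper `𝒦`-invariant
subgroup.  Then `P` is a product of proper subgroups of the factors, or a product of twisted
diagonals over a partition into blocks of equal size `k ≥ 2`. -/
theorem onan_scott [IsSimpleGroup T] (hc : Subgroup.center T = ⊥)
    (𝒦 : Set ((ι → T) ≃* (ι → T))) (P : Subgroup (ι → T))
    (hP : ∀ θ ∈ 𝒦, ∀ f, f ∈ P ↔ θ f ∈ P)
    (htr : ∀ I : Finset ι, I.Nonempty →
      (∀ θ ∈ 𝒦, ∀ f : ι → T, (∀ i ∉ I, f i = 1) → ∀ i ∉ I, θ f i = 1) → I = Finset.univ)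
    (hmax : ∀ X : Subgroup (ι → T), P ≤ X → (∀ θ ∈ 𝒦, ∀ f ∈ X, θ f ∈ X) → X = P ∨ X = ⊤)
    (hPtop : P ≠ ⊤) :
    (∃ K : ι → Subgroup T, (∀ i, K i ≠ ⊤) ∧ ∀ f, f ∈ P ↔ ∀ i, f i ∈ K i) ∨
    (∃ (φ : ι → (T ≃* T)) (k : ℕ) (c : ι → ι), 2 ≤ k ∧
      (∀ j, Nat.card {i // c i = j} = k ∨ Nat.card {i // c i = j} = 0) ∧
      ∀ f, f ∈ P ↔ ∀ i j, c i = c j → φ i (f i) = φ j (f j)) := by
  classical
  -- the structure of the automorphisms
  have hθ : ∀ θ ∈ 𝒦, ∃ (π : Equiv.Perm ι) (φ' : ι → (T ≃* T)),
      ∀ (f : ι → T) (i : ι), θ f (π i) = φ' i (f i) := fun θ _ => exists_perm hc θ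
  -- a general invariance principle
  have hinvar : ∀ (q : ι → Prop), (∀ θ ∈ 𝒦, ∀ (π : Equiv.Perm ι) (φ' : ι → (T ≃* T)),
      (∀ (f : ι → T) (i : ι), θ f (π i) = φ' i (f i)) → ∀ i, q (π i) ↔ q i) →
      (∃ i, q i) → ∀ i, q i := by
    intro q hq ⟨i1, hi1⟩
    have hI := htr (Finset.univ.filter q) ⟨i1, by simp [hi1]⟩ (by
      intro θ hθ𝒦 f hf j hj
      obtain ⟨π, φ', hπ⟩ := hθ θ hθ𝒦
      have hj' : ¬ q j := by simpa using hj
      have h1 : ¬ q (π.symm j) := by
        rw [← hq θ hθ𝒦 π φ' hπ (π.symm j), Equiv.apply_symm_apply]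
        exact hj'
      have h2 : f (π.symm j) = 1 := hf _ (by simpa using h1)
      have h3 := hπ f (π.symm j)
      rw [Equiv.apply_symm_apply, h2, map_one] at h3
      exact h3)
    intro i
    have : i ∈ Finset.univ.filter q := by rw [hI]; exact Finset.mem_univ i
    simpa using this
  -- the projections
  let R : ι → Subgroup T := fun i => P.map (Pi.evalMonoidHom (fun _ => T) i)
  have hRmem : ∀ {f : ι → T}, f ∈ P → ∀ i, f i ∈ R i := fun {f} hf i => ⟨f, hf, rfl⟩
  have hR : ∀ θ ∈ 𝒦, ∀ (π : Equiv.Perm ι) (φ' : ι → (T ≃* T)),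
      (∀ (f : ι → T) (i : ι), θ f (π i) = φ' i (f i)) →
      ∀ i t, φ' i t ∈ R (π i) ↔ t ∈ R i := by
    intro θ hθ𝒦 π φ' hπ i t
    constructor
    · rintro ⟨g, hg, hgt⟩
      have hf : θ.symm g ∈ P := by
        rw [hP θ hθ𝒦, MulEquiv.apply_symm_apply]; exact hg
      refine ⟨θ.symm g, hf, ?_⟩
      have h1 := hπ (θ.symm g) i
      rw [MulEquiv.apply_symm_apply] at h1
      change g (π i) = φ' i t at hgt
      rw [hgt] at h1
      exact ((φ' i).injective h1).symm
    · rintro ⟨f, hf, rfl⟩
      refine ⟨θ f, (hP θ hθ𝒦 f).mp hf, ?_⟩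
      exact hπ f i
  have hι : Nonempty ι := by
    by_contra hne
    rw [not_nonempty_iff] at hne
    apply hPtop
    rw [eq_top_iff]
    intro f _
    have : f = 1 := funext (fun i => (hne.false i).elim)
    rw [this]
    exact P.one_mem
  by_cases hall : ∀ i, R i = ⊤
  · -- the diagonal case
    right
    have hsub : Subdirect P := by
      intro i t
      have : t ∈ R i := by rw [hall i]; trivial
      obtain ⟨f, hf, hft⟩ := this
      exact ⟨f, hf, hft⟩
    obtain ⟨r, φ, hr3, hr2, hmem⟩ := scott hc hsub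
    -- invariance of the linking relation
    have hrel : ∀ θ ∈ 𝒦, ∀ (π : Equiv.Perm ι) (φ' : ι → (T ≃* T)),
        (∀ (f : ι → T) (i : ι), θ f (π i) = φ' i (f i)) →
        ∀ i j, rel P (π i) (π j) ↔ rel P i j := by
      intro θ hθ𝒦 π φ' hπ i j
      constructor
      · intro h f hf hfi
        have h1 := h (θ f) ((hP θ hθ𝒦 f).mp hf) (by rw [hπ, hfi, map_one])
        rw [hπ] at h1
        exact (map_eq_one_iff (φ' j) (φ' j).injective).mp h1
      · intro h g hg hgi
        have hf : θ.symm g ∈ P := by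
          rw [hP θ hθ𝒦, MulEquiv.apply_symm_apply]; exact hg
        have h1 := hπ (θ.symm g) i
        rw [MulEquiv.apply_symm_apply, hgi] at h1
        have h2 := h _ hf ((map_eq_one_iff (φ' i) (φ' i).injective).mp h1.symm)
        have h3 := hπ (θ.symm g) j
        rw [MulEquiv.apply_symm_apply, h2, map_one] at h3
        exact h3
    -- class sizes
    let s : ι → ℕ := fun i => Nat.card {i' // r i' = r i}
    have hs : ∀ θ ∈ 𝒦, ∀ (π : Equiv.Perm ι) (φ' : ι → (T ≃* T)),
        (∀ (f : ι → T) (i : ι), θ f (π i) = φ' i (f i)) → ∀ i, s (π i) = s i := by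
      intro θ hθ𝒦 π φ' hπ i
      symm
      apply Nat.card_congr
      refine Equiv.subtypeEquiv π (fun i' => ?_)
      rw [hr2, hr2, hrel θ hθ𝒦 π φ' hπ]
    obtain ⟨i0⟩ := hι
    have hsconst : ∀ i, s i = s i0 := by
      apply hinvar (fun i => s i = s i0)
      · intro θ hθ𝒦 π φ' hπ i
        rw [hs θ hθ𝒦 π φ' hπ i]
      · exact ⟨i0, rfl⟩
    -- representatives are fixed by the comparison maps
    have hφrep : ∀ ρ, r ρ = ρ → ∀ t, φ ρ t = t := by
      intro ρ hρ t
      obtain ⟨g, hg, hgt⟩ := hsub ρ t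
      have h1 := (hmem g).mp hg ρ
      rw [hρ, hgt] at h1
      exact h1.symm
    have hk1 : 1 ≤ s i0 := by
      change 0 < Nat.card {i' // r i' = r i0}
      haveI : Nonempty {i' // r i' = r i0} := ⟨⟨i0, rfl⟩⟩
      exact Nat.card_pos
    have hk2 : 2 ≤ s i0 := by
      by_contra hlt
      have hk : s i0 = 1 := by omega
      apply hPtop
      have hrid : ∀ i, r i = i := by
        intro i
        have h1 : Nat.card {i' // r i' = r i} = 1 := by
          have := hsconst i
          change Nat.card {i' // r i' = r i} = s i0 at this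
          rw [this, hk]
        rw [Nat.card_eq_one_iff_unique] at h1
        obtain ⟨hsub1, _⟩ := h1
        have := hsub1.elim ⟨r i, hr3 i⟩ ⟨i, rfl⟩
        exact congrArg Subtype.val this
      rw [eq_top_iff]
      intro f _
      rw [hmem]
      intro i
      rw [hrid i, hφrep i (hrid i)]
    refine ⟨fun i => (φ i).symm, s i0, r, hk2, ?_, ?_⟩
    · intro j
      by_cases hj : r j = j
      · left
        have := hsconst j
        change Nat.card {i' // r i' = r j} = s i0 at this
        rw [hj] at this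
        exact this
      · right
        haveI : IsEmpty {i // r i = j} := by
          constructor
          rintro ⟨i, hi⟩
          apply hj
          rw [← hi, hr3]
        exact Nat.card_of_isEmpty
    · intro f
      rw [hmem]
      constructor
      · intro hf i j hij
        rw [hf i, hf j, MulEquiv.symm_apply_apply, MulEquiv.symm_apply_apply, hij]
      · intro hf i
        have h1 := hf i (r i) (hr3 i).symm
        have h2 : (φ (r i)).symm (f (r i)) = f (r i) := by
          rw [MulEquiv.symm_apply_eq, hφrep (r i) (hr3 i)]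
        rw [h2, MulEquiv.symm_apply_eq] at h1
        exact h1
  · -- the product case
    left
    have hRtop : ∀ θ ∈ 𝒦, ∀ (π : Equiv.Perm ι) (φ' : ι → (T ≃* T)),
        (∀ (f : ι → T) (i : ι), θ f (π i) = φ' i (f i)) → ∀ i, R (π i) ≠ ⊤ ↔ R i ≠ ⊤ := by
      intro θ hθ𝒦 π φ' hπ i
      rw [not_iff_not]
      constructor
      · intro h
        rw [eq_top_iff]
        intro t _
        rw [← hR θ hθ𝒦 π φ' hπ i t, h]
        trivial
      · intro h
        rw [eq_top_iff]
        intro t _
        obtain ⟨t', rfl⟩ := (φ' i).surjective t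
        rw [hR θ hθ𝒦 π φ' hπ i t', h]
        trivial
    have hRne : ∀ i, R i ≠ ⊤ := by
      apply hinvar (fun i => R i ≠ ⊤) hRtop
      by_contra hcon
      push Not at hcon
      exact hall hcon
    let X : Subgroup (ι → T) := Subgroup.pi Set.univ R
    have hXmem : ∀ f, f ∈ X ↔ ∀ i, f i ∈ R i := by
      intro f
      simp [X, Subgroup.mem_pi]
    have hPX : P ≤ X := fun f hf => (hXmem f).mpr (hRmem hf)
    have hXinv : ∀ θ ∈ 𝒦, ∀ f ∈ X, θ f ∈ X := by
      intro θ hθ𝒦 f hf
      obtain ⟨π, φ', hπ⟩ := hθ θ hθ𝒦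
      rw [hXmem] at hf ⊢
      intro j
      have h1 := hπ f (π.symm j)
      rw [Equiv.apply_symm_apply] at h1
      rw [h1]
      have h2 := (hR θ hθ𝒦 π φ' hπ (π.symm j) (f (π.symm j))).mpr (hf _)
      rwa [Equiv.apply_symm_apply] at h2
    have hXtop : X ≠ ⊤ := by
      obtain ⟨i1⟩ := hι
      intro h
      apply hRne i1
      rw [eq_top_iff]
      intro t _
      have : (Pi.mulSingle i1 t : ι → T) ∈ X := by rw [h]; trivial
      have := (hXmem _).mp this i1
      simpa using this
    have hXP : X = P := by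
      rcases hmax X hPX hXinv with h | h
      · exact h
      · exact absurd h hXtop
    refine ⟨R, hRne, fun f => ?_⟩
    rw [← hXP, hXmem]

end Cfsg.Agent.Helper3.PiSimple
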