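import Mathlib
import Cfsg.Agent.Helper3.PiSimple3
import Cfsg.Agent.S0721
import Cfsg.Agent.S0722
import Cfsg.Agent.Helper18.PrimSocle

set_option autoImplicit false
set_option linter.style.haveILetI false
set_option linter.unusedSectionVars false

/-!
# The core of the O'Nan–Scott theorem
-/

namespace Cfsg.Agent.Helper3.PiSimple

open MulAction

/-- The core of the O'Nan–Scott Theorem (statement S0723). -/
theorem onan_scott_core {α : Type*} [Finite α] (H : Subgroup (Equiv.Perm α))
    [MulAction.IsPreprimitive H α] (N : Subgroup H) [N.Normal] (hN : N ≠ ⊥)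
    (hmin : ∀ M : Subgroup H, M.Normal → M ≤ N → M = ⊥ ∨ M = N)
    (hnab : ¬ IsMulCommutative N) (a : α) :
    ∃ (T : Type) (_ : Group T) (m : ℕ) (e : N ≃* (Fin m → T)), IsSimpleGroup T ∧
      ¬ IsMulCommutative T ∧ 0 < m ∧
      ((∃ K : Fin m → Subgroup T, (∀ i, K i ≠ ⊤) ∧
          ∀ n : N, (n : H) ∈ MulAction.stabilizer H a ↔ ∀ i, e n i ∈ K i) ∨
        (∃ (k : ℕ) (c : Fin m → Fin m), 2 ≤ k ∧
          (∀ j : Fin m, Nat.card {i : Fin m // c i = j} = k ∨
            Nat.card {i : Fin m // c i = j} = 0) ∧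
          ∀ n : N, (n : H) ∈ MulAction.stabilizer H a ↔
            ∀ i j : Fin m, c i = c j → e n i = e n j)) := by
  classical
  obtain ⟨T, instT, m, hT, hm, ⟨e0⟩⟩ := Cfsg.Agent.S0721.result N hN hmin
  letI : Group T := instT
  haveI : IsSimpleGroup T := hT
  -- `T` is not commutative
  have hTnc : ¬ IsMulCommutative T := by
    intro hcomm
    apply hnab
    refine ⟨⟨fun x y => ?_⟩⟩
    apply e0.injective
    rw [map_mul, map_mul]
    funext i
    exact hcomm.is_comm.comm _ _
  have hc : Subgroup.center T = ⊥ := by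
    rcases Subgroup.Normal.eq_bot_or_eq_top (H := Subgroup.center T) inferInstance with h | h
    · exact h
    · exfalso
      apply hTnc
      refine ⟨⟨fun x y => ?_⟩⟩
      have : y ∈ Subgroup.center T := by rw [h]; trivial
      exact (Subgroup.mem_center_iff.mp this x)
  set K : Subgroup H := MulAction.stabilizer H a with hK
  -- `N` is transitive, so `H = N K`
  haveI : MulAction.IsPretransitive N α :=
    Cfsg.Agent.Helper18.PrimSocle.pretransitive_of_normal (G := H) (Ω := α) N hN
  have hKN : ∀ h : H, ∃ n0 : N, (n0 : H)⁻¹ * h ∈ K := by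
    intro h
    obtain ⟨n0, hn0⟩ := MulAction.exists_smul_eq N a (h • a)
    refine ⟨n0, ?_⟩
    rw [hK, MulAction.mem_stabilizer_iff, mul_smul, ← hn0]
    exact inv_smul_smul (n0 : H) a
  -- the automorphisms induced on `W`
  let θ : H → ((Fin m → T) ≃* (Fin m → T)) := fun h =>
    (e0.symm.trans (MulAut.conjNormal h : MulAut N)).trans e0
  have hθ : ∀ (h : H) (n : N), θ h (e0 n) = e0 (MulAut.conjNormal h n) := by
    intro h n
    change e0 (MulAut.conjNormal h (e0.symm (e0 n))) = _
    rw [MulEquiv.symm_apply_apply]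
  have hθmul : ∀ (h1 h2 : H) f, θ (h1 * h2) f = θ h1 (θ h2 f) := by
    intro h1 h2 f
    obtain ⟨n, rfl⟩ := e0.surjective f
    rw [hθ, hθ, hθ, map_mul]
    rfl
  have hθN : ∀ (n0 : N) f, θ (n0 : H) f = e0 n0 * f * (e0 n0)⁻¹ := by
    intro n0 f
    obtain ⟨n, rfl⟩ := e0.surjective f
    rw [hθ, ← map_inv, ← map_mul, ← map_mul]
    congr 1
  let 𝒦 : Set ((Fin m → T) ≃* (Fin m → T)) := θ '' (K : Set H)
  let P : Subgroup (Fin m → T) := (K.subgroupOf N).comap e0.symm.toMonoidHom
  have hPmem : ∀ n : N, e0 n ∈ P ↔ (n : H) ∈ K := by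
    intro n
    change e0.symm (e0 n) ∈ K.subgroupOf N ↔ _
    rw [MulEquiv.symm_apply_apply, Subgroup.mem_subgroupOf]
  have hP : ∀ θ' ∈ 𝒦, ∀ f, f ∈ P ↔ θ' f ∈ P := by
    rintro _ ⟨k, hk, rfl⟩ f
    obtain ⟨n, rfl⟩ := e0.surjective f
    rw [hθ, hPmem, hPmem, MulAut.conjNormal_apply]
    constructor
    · intro h
      exact K.mul_mem (K.mul_mem hk h) (K.inv_mem hk)
    · intro h
      have := K.mul_mem (K.mul_mem (K.inv_mem hk) h) hk
      simpa [mul_assoc] using this
  -- transport of subgroups of `W` to subgroups of `H`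
  let tr : Subgroup (Fin m → T) → Subgroup H := fun X => (X.comap e0.toMonoidHom).map N.subtype
  have htr_mem : ∀ (X : Subgroup (Fin m → T)) (n : N), (n : H) ∈ tr X ↔ e0 n ∈ X := by
    intro X n
    constructor
    · rintro ⟨n', hn', hnn⟩
      have : n' = n := Subtype.ext hnn
      rw [← this]
      exact hn'
    · intro h
      exact ⟨n, h, rfl⟩
  have htr_le : ∀ X : Subgroup (Fin m → T), tr X ≤ N := by
    rintro X _ ⟨n, _, rfl⟩
    exact n.2
  -- invariant coordinate sets
  have htrans : ∀ I : Finset (Fin m), I.Nonempty →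
      (∀ θ' ∈ 𝒦, ∀ f : Fin m → T, (∀ i ∉ I, f i = 1) → ∀ i ∉ I, θ' f i = 1) →
      I = Finset.univ := by
    intro I hI hinv
    let WI : Subgroup (Fin m → T) := Pz ⊤ {i | i ∉ I}
    have hWI : ∀ f, f ∈ WI ↔ ∀ i ∉ I, f i = 1 := by
      intro f
      constructor
      · intro h i hi
        exact h.2 i hi
      · intro h
        exact ⟨trivial, fun i hi => h i hi⟩
    have hWIinv : ∀ (h : H) f, f ∈ WI → θ h f ∈ WI := by
      intro h f hf
      obtain ⟨n0, hn0⟩ := hKN h
      have : h = (n0 : H) * ((n0 : H)⁻¹ * h) := by group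
      rw [this, hθmul, hθN, hWI]
      intro i hi
      have h1 : θ ((n0 : H)⁻¹ * h) f i = 1 :=
        hinv _ ⟨_, hn0, rfl⟩ f ((hWI f).mp hf) i hi
      rw [Pi.mul_apply, Pi.mul_apply, h1, mul_one, Pi.inv_apply, mul_inv_cancel]
    have hMn : (tr WI).Normal := by
      constructor
      rintro _ ⟨n, hn, rfl⟩ h
      have h1 : e0 (MulAut.conjNormal h n) ∈ WI := by
        rw [← hθ]
        exact hWIinv h _ hn
      have h2 := (htr_mem WI _).mpr h1
      rw [MulAut.conjNormal_apply] at h2
      exact h2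
    obtain ⟨t0, ht0⟩ := exists_ne (1 : T)
    obtain ⟨i1, hi1⟩ := hI
    have hMne : tr WI ≠ ⊥ := by
      intro hbot
      have h1 : (Pi.mulSingle i1 t0 : Fin m → T) ∈ WI := by
        rw [hWI]
        intro i hi
        have : i ≠ i1 := fun h => hi (h ▸ hi1)
        simp [Pi.mulSingle_eq_of_ne this]
      have h2 : ((e0.symm (Pi.mulSingle i1 t0) : N) : H) ∈ tr WI := by
        rw [htr_mem, MulEquiv.apply_symm_apply]
        exact h1
      rw [hbot, Subgroup.mem_bot] at h2
      have h3 : e0.symm (Pi.mulSingle i1 t0) = 1 := Subtype.ext h2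
      rw [map_eq_one_iff e0.symm e0.symm.injective] at h3
      apply ht0
      have := congrFun h3 i1
      simpa using this
    have hMN : tr WI = N := by
      rcases hmin (tr WI) hMn (htr_le WI) with h | h
      · exact absurd h hMne
      · exact h
    by_contra hne
    obtain ⟨i2, hi2⟩ : ∃ i, i ∉ I := by
      by_contra hcon
      push Not at hcon
      exact hne (Finset.eq_univ_iff_forall.mpr hcon)
    have h1 : ((e0.symm (Pi.mulSingle i2 t0) : N) : H) ∈ tr WI := by
      rw [hMN]
      exact (e0.symm (Pi.mulSingle i2 t0)).2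
    rw [htr_mem, MulEquiv.apply_symm_apply, hWI] at h1
    have := h1 i2 hi2
    rw [Pi.mulSingle_eq_same] at this
    exact ht0 this
  -- maximality
  have hmax : ∀ X : Subgroup (Fin m → T), P ≤ X → (∀ θ' ∈ 𝒦, ∀ f ∈ X, θ' f ∈ X) →
      X = P ∨ X = ⊤ := by
    intro X hPX hXinv
    have hKX : K ⊓ N ≤ tr X := by
      rintro x ⟨hxK, hxN⟩
      have : ((⟨x, hxN⟩ : N) : H) ∈ tr X := by
        rw [htr_mem]
        apply hPX
        rw [hPmem]
        exact hxK
      exact this
    have hinvX : K ≤ Subgroup.normalizer ((tr X : Subgroup H) : Set H) := by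
      have hfwd : ∀ k ∈ K, ∀ x ∈ tr X, k * x * k⁻¹ ∈ tr X := by
        rintro k hk _ ⟨n, hn, rfl⟩
        have h1 : e0 (MulAut.conjNormal k n) ∈ X := by
          rw [← hθ]
          exact hXinv _ ⟨k, hk, rfl⟩ _ hn
        have h2 := (htr_mem X _).mpr h1
        rw [MulAut.conjNormal_apply] at h2
        exact h2
      intro k hk
      rw [Subgroup.mem_normalizer_iff]
      intro x
      constructor
      · exact hfwd k hk x
      · intro h
        have := hfwd k⁻¹ (K.inv_mem hk) _ h
        simpa [mul_assoc] using this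
    rcases Cfsg.Agent.S0722.result H N hN hmin a (tr X) (htr_le X) hKX hinvX with h | h
    · left
      apply le_antisymm _ hPX
      intro f hf
      obtain ⟨n, rfl⟩ := e0.surjective f
      rw [hPmem]
      have : (n : H) ∈ tr X := (htr_mem X n).mpr hf
      rw [h] at this
      exact this.1
    · right
      rw [eq_top_iff]
      intro f _
      obtain ⟨n, rfl⟩ := e0.surjective f
      rw [← htr_mem, h]
      exact n.2
  -- `P` is proper
  have hPtop : P ≠ ⊤ := by
    intro htop
    apply hN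
    have hNK : ∀ n : N, (n : H) ∈ K := by
      intro n
      rw [← hPmem, htop]
      trivial
    rw [Subgroup.eq_bot_iff_forall]
    intro x hx
    apply Subtype.ext
    apply Equiv.ext
    intro y
    obtain ⟨n1, hn1⟩ := MulAction.exists_smul_eq N a y
    have h1 : ((n1 : H)⁻¹ * x * (n1 : H)) • a = a := by
      have hmem : (n1 : H)⁻¹ * x * (n1 : H) ∈ N := by
        have := (inferInstance : N.Normal).conj_mem x hx (n1 : H)⁻¹
        simpa using this
      exact MulAction.mem_stabilizer_iff.mp (hNK ⟨_, hmem⟩)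
    have h2 : x • y = y := by
      rw [← hn1]
      change x • ((n1 : H) • a) = (n1 : H) • a
      rw [← mul_smul]
      have : x * (n1 : H) = (n1 : H) * ((n1 : H)⁻¹ * x * (n1 : H)) := by group
      rw [this, mul_smul, h1]
    exact h2
  -- apply the abstract theorem
  rcases onan_scott hc 𝒦 P hP htrans hmax hPtop with ⟨Ks, hKs, hmem⟩ | ⟨φ, k, c, hk, hcard, hmem⟩
  · refine ⟨T, instT, m, e0, hT, hTnc, hm, Or.inl ⟨Ks, hKs, fun n => ?_⟩⟩
    rw [← hPmem, hmem]
  · refine ⟨T, instT, m, e0.trans (MulEquiv.piCongrRight φ), hT, hTnc, hm,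
      Or.inr ⟨k, c, hk, hcard, fun n => ?_⟩⟩
    rw [← hPmem, hmem]
    rfl

end Cfsg.Agent.Helper3.PiSimple
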