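import Mathlib

set_option autoImplicit false

/-! S5976 piece NTU: `v_r |Sp_{2d}(q)| = v_r |GU_d(q)|` when `ord_r(q) = 2j`, `j` odd. -/

namespace Cfsg.Agent.S5976P

namespace NTU

theorem val_prod (r : ℕ) [Fact r.Prime] (s : Finset ℕ) (f : ℕ → ℕ) (hf : ∀ m ∈ s, f m ≠ 0) :
    padicValNat r (∏ m ∈ s, f m) = ∑ m ∈ s, padicValNat r (f m) := by
  classical
  induction s using Finset.induction_on with
  | empty => simp
  | insert a s ha ih =>
    rw [Finset.prod_insert ha, Finset.sum_insert ha,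
      padicValNat.mul (hf a (Finset.mem_insert_self a s))
        (Finset.prod_ne_zero_iff.mpr fun m hm => hf m (Finset.mem_insert_of_mem hm)),
      ih fun m hm => hf m (Finset.mem_insert_of_mem hm)]

theorem pow_eq_one_of_dvd (q r : ℕ) (hq : 2 ≤ q) (M : ℕ) (h : r ∣ q ^ M - 1) :
    ((q : ℕ) : ZMod r) ^ M = 1 := by
  have h1 : ((q ^ M - 1 : ℕ) : ZMod r) = 0 := (ZMod.natCast_eq_zero_iff _ _).mpr h
  rw [Nat.cast_sub (Nat.one_le_pow _ _ (by omega)), Nat.cast_pow, Nat.cast_one, sub_eq_zero] at h1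
  exact h1

theorem pow_eq_neg_one_of_dvd (q r : ℕ) (M : ℕ) (h : r ∣ q ^ M + 1) :
    ((q : ℕ) : ZMod r) ^ M = -1 := by
  have h1 : ((q ^ M + 1 : ℕ) : ZMod r) = 0 := (ZMod.natCast_eq_zero_iff _ _).mpr h
  rw [Nat.cast_add, Nat.cast_pow, Nat.cast_one] at h1
  exact eq_neg_of_add_eq_zero_left h1

theorem factor (q : ℕ) (hq : 2 ≤ q) (M : ℕ) :
    q ^ (2 * M) - 1 = (q ^ M - 1) * (q ^ M + 1) := by
  have h1 : 1 ≤ q ^ M := Nat.one_le_pow _ _ (by omega)
  obtain ⟨a, ha⟩ : ∃ a, q ^ M = a + 1 := ⟨q ^ M - 1, by omega⟩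
  rw [mul_comm 2 M, pow_mul, ha]
  have : (a + 1) ^ 2 = a * (a + 1 + 1) + 1 := by ring
  rw [this]
  simp

end NTU

open NTU in
/-- NTU -/
theorem val_GU_eq_val_Sp (q r : ℕ) [Fact r.Prime] (hr2 : r ≠ 2) (hq : 2 ≤ q) (hrq : ¬ r ∣ q)
    (j : ℕ) (hj : Odd j) (hi : orderOf ((q : ℕ) : ZMod r) = 2 * j) (d : ℕ) :
    padicValNat r (q ^ (d ^ 2) * ∏ m ∈ Finset.range d, (q ^ (2 * (m + 1)) - 1)) =
      padicValNat r (q ^ (d * (d - 1) / 2) * ∏ m ∈ Finset.range d,
        (if Even m then q ^ (m + 1) + 1 else q ^ (m + 1) - 1)) := by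
  have hr : r.Prime := Fact.out
  have hr3 : 2 < r := lt_of_le_of_ne hr.two_le (Ne.symm hr2)
  have : Fact (2 < r) := ⟨hr3⟩
  have hq0 : q ≠ 0 := by omega
  have hvq : ∀ k, padicValNat r (q ^ k) = 0 := fun k => by
    rw [padicValNat.pow, padicValNat.eq_zero_of_not_dvd hrq, mul_zero]
  have hge : ∀ k, 1 ≤ k → 2 ≤ q ^ k := fun k hk =>
    le_trans hq (Nat.le_self_pow (by omega) q)
  have hne1 : ∀ m ∈ Finset.range d, q ^ (2 * (m + 1)) - 1 ≠ 0 := fun m _ => by
    have := hge (2 * (m + 1)) (by omega)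
    omega
  have hne2 : ∀ m ∈ Finset.range d,
      (if Even m then q ^ (m + 1) + 1 else q ^ (m + 1) - 1) ≠ 0 := fun m _ => by
    have := hge (m + 1) (by omega)
    split_ifs <;> omega
  rw [padicValNat.mul (pow_ne_zero _ hq0) (Finset.prod_ne_zero_iff.mpr hne1), hvq, zero_add,
    padicValNat.mul (pow_ne_zero _ hq0) (Finset.prod_ne_zero_iff.mpr hne2), hvq, zero_add,
    val_prod r _ _ hne1, val_prod r _ _ hne2]
  refine Finset.sum_congr rfl fun m _ => ?_
  have h2 := hge (m + 1) (by omega)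
  rw [factor q hq (m + 1), padicValNat.mul (by omega) (by omega)]
  by_cases hm : Even m
  · rw [if_pos hm]
    have hnd : ¬ r ∣ q ^ (m + 1) - 1 := by
      intro h
      have h1 := pow_eq_one_of_dvd q r hq (m + 1) h
      have h3 : 2 * j ∣ m + 1 := by rw [← hi]; exact orderOf_dvd_of_pow_eq_one h1
      have h4 : Even (m + 1) := (even_iff_two_dvd).mpr (dvd_trans (dvd_mul_right 2 j) h3)
      rw [Nat.even_add_one] at h4
      exact h4 hm
    rw [padicValNat.eq_zero_of_not_dvd hnd, zero_add]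
  · rw [if_neg hm]
    have hnd : ¬ r ∣ q ^ (m + 1) + 1 := by
      intro h
      have h1 := pow_eq_neg_one_of_dvd q r (m + 1) h
      have h3 : ((q : ℕ) : ZMod r) ^ (2 * (m + 1)) = 1 := by
        rw [mul_comm, pow_mul, h1]; norm_num
      have h4 : 2 * j ∣ 2 * (m + 1) := by rw [← hi]; exact orderOf_dvd_of_pow_eq_one h3
      have h5 : j ∣ m + 1 := Nat.dvd_of_mul_dvd_mul_left (by norm_num) h4
      obtain ⟨s, hs⟩ := h5
      have hsodd : Odd s := by
        rw [← Nat.not_even_iff_odd]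
        rintro ⟨s', rfl⟩
        have h6 : 2 * j ∣ m + 1 := ⟨s', by rw [hs]; ring⟩
        rw [← hi] at h6
        have h7 := (orderOf_dvd_iff_pow_eq_one).mp h6
        rw [h1] at h7
        exact ZMod.neg_one_ne_one h7
      have h8 : Odd (m + 1) := by rw [hs]; exact hj.mul hsodd
      rw [Nat.odd_add_one, Nat.not_odd_iff_even] at h8
      exact hm h8
    rw [padicValNat.eq_zero_of_not_dvd hnd, add_zero]

end Cfsg.Agent.S5976P
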