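import Mathlib
import Cfsg.Agent.Helper11.DihedralLift

set_option autoImplicit false
set_option linter.style.haveILetI false
set_option linter.unusedSectionVars false

/-! The centralizer in `A₆` of a product of two disjoint transpositions is dihedral of
order `8`. -/

namespace Cfsg.Agent.Helper3.A6C

open Equiv Subgroup

def g₀ : Perm (Fin 6) := swap 0 1 * swap 2 3
def a₀ : Perm (Fin 6) := swap 0 2 * swap 2 1 * swap 1 3 * swap 4 5
def b₀ : Perm (Fin 6) := swap 0 2 * swap 1 3
def cj (h x : Perm (Fin 6)) : Perm (Fin 6) := h * x * h⁻¹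

def Good (g a b : Perm (Fin 6)) : Prop :=
  a * a = g ∧ b * g = g * b ∧ b * b = 1 ∧ b * a * b = a⁻¹ ∧
    b ≠ 1 ∧ b ≠ a ∧ b ≠ a * a ∧ b ≠ a * a * a ∧ Perm.sign a = 1 ∧ Perm.sign b = 1

instance (g a b : Perm (Fin 6)) : Decidable (Good g a b) := by unfold Good; infer_instance

set_option maxRecDepth 1000000 in
theorem key1 : ∀ g : Perm (Fin 6), g * g = 1 → g.support.card = 4 →
    ∃ h : Perm (Fin 6), Good g (cj h a₀) (cj h b₀) := by
  decide +kernel

set_option maxRecDepth 1000000 in
theorem key2' :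
    (Finset.univ.filter (fun x : Perm (Fin 6) => x * g₀ = g₀ * x ∧ Perm.sign x = 1)).card = 8 := by
  decide +kernel

theorem a₀_sq : a₀ * a₀ = g₀ := by decide

theorem cj_mul (h x y : Perm (Fin 6)) : cj h x * cj h y = cj h (x * y) := by
  unfold cj; group

theorem sign_cj (h x : Perm (Fin 6)) : Perm.sign (cj h x) = Perm.sign x := by
  unfold cj
  rw [Perm.sign_mul, Perm.sign_mul, Perm.sign_inv, mul_comm, ← mul_assoc, Int.units_mul_self,
    one_mul]

theorem key2 (h : Perm (Fin 6)) :
    (Finset.univ.filter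
      (fun x : Perm (Fin 6) => x * cj h g₀ = cj h g₀ * x ∧ Perm.sign x = 1)).card = 8 := by
  rw [← key2', ← Fintype.card_subtype, ← Fintype.card_subtype]
  apply Fintype.card_congr
  refine
    { toFun := fun x => ⟨cj h⁻¹ x.1, ?_, ?_⟩
      invFun := fun x => ⟨cj h x.1, ?_, ?_⟩
      left_inv := fun x => by apply Subtype.ext; simp only [cj]; group
      right_inv := fun x => by apply Subtype.ext; simp only [cj]; group }
  · have h1 := x.2.1
    have h2 : cj h⁻¹ (x.1 * cj h g₀) = cj h⁻¹ (cj h g₀ * x.1) := by rw [h1]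
    rw [← cj_mul, ← cj_mul] at h2
    have h3 : cj h⁻¹ (cj h g₀) = g₀ := by simp only [cj]; group
    rw [h3] at h2
    exact h2
  · rw [sign_cj]; exact x.2.2
  · have h1 := x.2.1
    rw [cj_mul, cj_mul, h1]
  · rw [sign_cj]; exact x.2.2

theorem pow_cases {M : Type*} [Monoid M] (a : M) (h4 : a ^ 4 = 1) (k : ℕ) :
    a ^ k = 1 ∨ a ^ k = a ∨ a ^ k = a * a ∨ a ^ k = a * a * a := by
  have h : a ^ k = a ^ (k % 4) := by
    conv_lhs => rw [← Nat.mod_add_div k 4]
    rw [pow_add, pow_mul, h4, one_pow, mul_one]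
  have hlt : k % 4 < 4 := Nat.mod_lt _ (by norm_num)
  rw [h]
  interval_cases (k % 4)
  · left; exact pow_zero a
  · right; left; exact pow_one a
  · right; right; left; exact pow_two a
  · right; right; right; rw [pow_succ, pow_two]

/-- The centralizer in `A₆` of an involution moving four points is dihedral of order `8`. -/
theorem centralizer_equiv_dihedral (αt : ↥(alternatingGroup (Fin 6))) (hαt : orderOf αt = 2)
    (hsupp : (αt : Perm (Fin 6)).support.card = 4) :
    Nonempty (↥(centralizer ({αt} : Set ↥(alternatingGroup (Fin 6)))) ≃* DihedralGroup 4) := by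
  set g : Perm (Fin 6) := (αt : Perm (Fin 6)) with hg
  have hgg : g * g = 1 := by
    have h1 := pow_orderOf_eq_one αt
    rw [hαt, pow_two] at h1
    exact congrArg Subtype.val h1
  have hg1 : g ≠ 1 := by
    intro h
    have : αt = 1 := Subtype.ext h
    rw [this, orderOf_one] at hαt
    norm_num at hαt
  obtain ⟨h, ha2, hbg, hbb, hbab, hb1, hba, hbaa, hbaaa, hsa, hsb⟩ := key1 g hgg hsupp
  have hgcj : g = cj h g₀ := by rw [← ha2, cj_mul, a₀_sq]
  have hcard8 := key2 h
  rw [← hgcj] at hcard8
  set a' : Perm (Fin 6) := cj h a₀ with ha'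
  set b' : Perm (Fin 6) := cj h b₀ with hb'
  have hag : a' * g = g * a' := by rw [← ha2, mul_assoc]
  have ha4 : a' ^ 4 = 1 := by
    have : a' ^ 4 = (a' * a') * (a' * a') := by
      rw [pow_succ, pow_succ, pow_succ, pow_one]; group
    rw [this, ha2, hgg]
  -- the centralizer
  have hcardC : Nat.card ↥(centralizer ({αt} : Set ↥(alternatingGroup (Fin 6)))) = 2 * 4 := by
    rw [show 2 * 4 = 8 from rfl, ← hcard8, ← Fintype.card_subtype, ← Nat.card_eq_fintype_card]
    apply Nat.card_congr
    refine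
      { toFun := fun c => ⟨((c.1 : ↥(alternatingGroup (Fin 6))) : Perm (Fin 6)), ?_, ?_⟩
        invFun := fun x => ⟨⟨x.1, Perm.mem_alternatingGroup.mpr x.2.2⟩, ?_⟩
        left_inv := fun c => rfl
        right_inv := fun x => rfl }
    · have := mem_centralizer_singleton_iff.mp c.2
      exact congrArg Subtype.val this
    · exact Perm.mem_alternatingGroup.mp c.1.2
    · rw [mem_centralizer_singleton_iff]
      exact Subtype.ext x.2.1
  set A : ↥(alternatingGroup (Fin 6)) := ⟨a', Perm.mem_alternatingGroup.mpr hsa⟩ with hA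
  set B : ↥(alternatingGroup (Fin 6)) := ⟨b', Perm.mem_alternatingGroup.mpr hsb⟩ with hB
  have hAC : A ∈ centralizer ({αt} : Set ↥(alternatingGroup (Fin 6))) := by
    rw [mem_centralizer_singleton_iff]; exact Subtype.ext hag
  have hBC : B ∈ centralizer ({αt} : Set ↥(alternatingGroup (Fin 6))) := by
    rw [mem_centralizer_singleton_iff]; exact Subtype.ext hbg
  set a : ↥(centralizer ({αt} : Set ↥(alternatingGroup (Fin 6)))) := ⟨A, hAC⟩ with ha
  set b : ↥(centralizer ({αt} : Set ↥(alternatingGroup (Fin 6)))) := ⟨B, hBC⟩ with hb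
  have hcoe : ∀ k : ℕ, (((a ^ k : ↥(centralizer ({αt} : Set ↥(alternatingGroup (Fin 6))))) :
      ↥(alternatingGroup (Fin 6))) : Perm (Fin 6)) = a' ^ k := by
    intro k; simp [ha, hA]
  have hord : orderOf a = 4 := by
    have h1 : orderOf a' = 2 ^ (1 + 1) := by
      apply orderOf_eq_prime_pow
      · rw [pow_one, pow_two, ha2]; exact hg1
      · exact ha4
    rw [← Subgroup.orderOf_coe, ← Subgroup.orderOf_coe]
    exact h1
  refine Cfsg.Agent.Helper11.nonempty_mulEquiv_dihedralGroup 4 hcardC a b hord ?_ ?_ ?_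
  · apply Subtype.ext; apply Subtype.ext; exact hbb
  · apply Subtype.ext; apply Subtype.ext; exact hbab
  · intro hmem
    rw [← mem_powers_iff_mem_zpowers] at hmem
    obtain ⟨k, hk⟩ := hmem
    have hk' : a' ^ k = b' := by
      rw [← hcoe k]
      have := congrArg (fun z : ↥(centralizer ({αt} : Set ↥(alternatingGroup (Fin 6)))) =>
        ((z : ↥(alternatingGroup (Fin 6))) : Perm (Fin 6))) hk
      exact this
    rcases pow_cases a' ha4 k with h | h | h | h
    · exact hb1 (hk'.symm.trans h)
    · exact hba (hk'.symm.trans h)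
    · exact hbaa (hk'.symm.trans h)
    · exact hbaaa (hk'.symm.trans h)

end Cfsg.Agent.Helper3.A6C
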