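import Mathlib
import Cfsg.Agent.Helper5.ABDefs

/-! S4463 piece B1 (driver helper5): in the Frobenius-quotient case, a character of maximal degree
of `preComm K` vanishes off `K`. -/

set_option autoImplicit false

namespace Cfsg.Agent.Helper3.AB

open Cfsg Cfsg.Agent.Helper24 Cfsg.Agent.Helper29.TwoDeg Cfsg.Agent.Helper5.AB
open scoped ComplexConjugate commutatorElement

universe u

variable {G : Type u} [Group G] [Finite G]

theorem caseB_vanish {b : ℕ} (K : Subgroup G) [K.Normal]
    (hab : ∀ a ∈ commutator (G ⧸ K), ∀ c ∈ commutator (G ⧸ K), a * c = c * a)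
    (hZ : Subgroup.center (G ⧸ K) = ⊥)
    (hext : ∀ θ : IrrCharacter (preComm K), irrDeg θ = b →
      ∃ χ : IrrCharacter G, ∀ x : preComm K, (χ : G → ℂ) x = (θ : preComm K → ℂ) x)
    (θ : IrrCharacter (preComm K)) (hθ : irrDeg θ = b) :
    ∀ x : preComm K, (x : G) ∉ K → (θ : preComm K → ℂ) x = 0 := by
  classical
  have : Fintype G := Fintype.ofFinite G
  have : Fintype (preComm K) := Fintype.ofFinite _
  intro x hxK
  by_contra hne
  have hN : (preComm K).Normal := inferInstance
  -- invariance of `L • θ` for every linear `L`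
  have hinv : ∀ (L : preComm K →* ℂˣ) (g : G),
      ((L ⟨g * (x : G) * g⁻¹, hN.conj_mem x x.2 g⟩ : ℂˣ) : ℂ) *
        (θ : preComm K → ℂ) ⟨g * (x : G) * g⁻¹, hN.conj_mem x x.2 g⟩ =
      ((L x : ℂˣ) : ℂ) * (θ : preComm K → ℂ) x := by
    intro L g
    have hirr := Cfsg.Agent.Helper8.isIrrCharacter_linear_mul L θ.2
    let θL : IrrCharacter (preComm K) := ⟨_, hirr⟩
    have hdeg : irrDeg θL = b := by
      have h1 := irrDeg_spec θL
      have h2 := irrDeg_spec θ
      have h3 : (θL : preComm K → ℂ) 1 = ((L 1 : ℂˣ) : ℂ) * (θ : preComm K → ℂ) 1 := rfl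
      rw [h3, map_one, Units.val_one, one_mul, h2, hθ] at h1
      exact_mod_cast h1.symm
    obtain ⟨χ, hχ⟩ := hext θL hdeg
    have h1 := hχ ⟨g * (x : G) * g⁻¹, hN.conj_mem x x.2 g⟩
    have h2 := hχ x
    have h3 : (χ : G → ℂ) (g * (x : G) * g⁻¹) = (χ : G → ℂ) (x : G) := isClassFunction_irr χ _ _
    have h4 : (θL : preComm K → ℂ) ⟨g * (x : G) * g⁻¹, hN.conj_mem x x.2 g⟩ =
        (θL : preComm K → ℂ) x := by
      rw [← h1, ← h2]
      exact h3
    exact h4
  have hθinv : ∀ g : G, (θ : preComm K → ℂ) ⟨g * (x : G) * g⁻¹, hN.conj_mem x x.2 g⟩ =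
      (θ : preComm K → ℂ) x := by
    intro g
    have := hinv 1 g
    simpa using this
  have hL : ∀ (L : preComm K →* ℂˣ) (g : G),
      L ⟨g * (x : G) * g⁻¹, hN.conj_mem x x.2 g⟩ = L x := by
    intro L g
    have h1 := hinv L g
    rw [hθinv g] at h1
    have h2 := mul_right_cancel₀ hne h1
    exact Units.ext h2
  -- the abelian group `commutator (G ⧸ K)`
  let Q := commutator (G ⧸ K)
  let _ : CommGroup Q := { (inferInstance : Group Q) with
    mul_comm := fun a c => Subtype.ext (hab a a.2 c c.2) }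
  have : HasEnoughRootsOfUnity ℂ (Monoid.exponent Q) := by
    have : NeZero ((Monoid.exponent Q : ℕ) : ℂ) :=
      ⟨Nat.cast_ne_zero.mpr Monoid.exponent_ne_zero_of_finite⟩
    infer_instance
  let π : preComm K →* Q := (QuotientGroup.mk' K).subgroupComap (commutator (G ⧸ K))
  -- `x̄` is central
  have hcen : (QuotientGroup.mk' K (x : G)) ∈ Subgroup.center (G ⧸ K) := by
    rw [Subgroup.mem_center_iff]
    intro y
    obtain ⟨g, rfl⟩ := QuotientGroup.mk'_surjective K y
    by_contra hcon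
    set c : Q := π ⟨g * (x : G) * g⁻¹, hN.conj_mem x x.2 g⟩ * (π x)⁻¹ with hc
    have hc1 : c ≠ 1 := by
      intro h1
      apply hcon
      have h2 : π ⟨g * (x : G) * g⁻¹, hN.conj_mem x x.2 g⟩ = π x := mul_inv_eq_one.mp h1
      have h3 : QuotientGroup.mk' K (g * (x : G) * g⁻¹) = QuotientGroup.mk' K (x : G) :=
        congrArg Subtype.val h2
      rw [map_mul, map_mul, map_inv] at h3
      calc QuotientGroup.mk' K g * QuotientGroup.mk' K (x : G)
          = (QuotientGroup.mk' K g * QuotientGroup.mk' K (x : G) * (QuotientGroup.mk' K g)⁻¹) *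
              QuotientGroup.mk' K g := by group
        _ = QuotientGroup.mk' K (x : G) * QuotientGroup.mk' K g := by rw [h3]
    obtain ⟨φ, hφ⟩ := CommGroup.exists_apply_ne_one_of_hasEnoughRootsOfUnity Q ℂ hc1
    apply hφ
    have := hL (φ.comp π) g
    rw [MonoidHom.comp_apply, MonoidHom.comp_apply] at this
    rw [hc, map_mul, map_inv, this, mul_inv_cancel]
  rw [hZ, Subgroup.mem_bot] at hcen
  exact hxK ((QuotientGroup.eq_one_iff (x : G)).mp hcen)

end Cfsg.Agent.Helper3.AB
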