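import Mathlib
import Cfsg.Prelude.Def_Characters
import Cfsg.Agent.Helper23.AVDefs
import Cfsg.Agent.Helper3.AVO22

/-!
# S4560, piece O21: a 3-transitive group has exactly 2 orbits on (2-subset, point)
-/

set_option autoImplicit false

namespace Cfsg.Agent.Helper23.AV

open MulAction
open scoped Pointwise

universe u v

variable {G : Type u} [Group G] {Ω : Type v} [MulAction G Ω]

/-- the classifier: `0` if the point lies in the 2-subset, `1` otherwise -/
noncomputable def o21_cls [DecidableEq Ω] (x : Set.powersetCard Ω 2 × Ω) : Fin 2 :=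
  open Classical in
  if x.2 ∈ (x.1 : Finset Ω) then 0 else 1

theorem o21_cases [DecidableEq Ω] (x : Set.powersetCard Ω 2 × Ω) :
    (o21_cls x = 0 ∧ ∃ b : Ω, x.2 ≠ b ∧ (x.1 : Finset Ω) = {x.2, b}) ∨
    (o21_cls x = 1 ∧ ∃ a b : Ω, a ≠ b ∧ a ≠ x.2 ∧ b ≠ x.2 ∧ (x.1 : Finset Ω) = {a, b}) := by
  classical
  obtain ⟨s, z⟩ := x
  have hs : (s : Finset Ω).card = 2 := s.2
  by_cases hz : z ∈ (s : Finset Ω)
  · left
    refine ⟨by simp [o21_cls, hz], ?_⟩
    obtain ⟨b, hbz, hsb⟩ := o22_eq_pair_of_mem hs hz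
    exact ⟨b, hbz.symm, hsb⟩
  · right
    refine ⟨by simp [o21_cls, hz], ?_⟩
    obtain ⟨a, b, hab, hsab⟩ := Finset.card_eq_two.mp hs
    refine ⟨a, b, hab, ?_, ?_, hsab⟩
    · intro h
      have h' : a = z := h
      apply hz
      show z ∈ (s : Finset Ω)
      rw [hsab, ← h']; simp
    · intro h
      have h' : b = z := h
      apply hz
      show z ∈ (s : Finset Ω)
      rw [hsab, ← h']; simp

theorem o21_cls_smul [DecidableEq Ω] (g : G) (x : Set.powersetCard Ω 2 × Ω) :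
    o21_cls (g • x) = o21_cls x := by
  classical
  obtain ⟨s, z⟩ := x
  have h1 : g • z ∈ ((g • s : Set.powersetCard Ω 2) : Finset Ω) ↔ z ∈ (s : Finset Ω) := by
    rw [Set.powersetCard.coe_smul, Finset.smul_mem_smul_finset_iff]
  show o21_cls (g • s, g • z) = o21_cls (s, z)
  unfold o21_cls
  simp only [h1]

/-! ### O21 -/
theorem card_orbits_21 [Finite Ω] [DecidableEq Ω] (T : Trans4 G Ω) :
    Nat.card (orbitRel.Quotient G (Set.powersetCard Ω 2 × Ω)) = 2 := by
  classical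
  obtain ⟨a, b, c, d, hab, hac, had, hbc, hbd, hcd⟩ := o22_exists_four (Ω := Ω) T.card_le
  refine card_orbits_eq_of_classifier (G := G) o21_cls o21_cls_smul ?_ ?_
  · have mk : ∀ p q : Ω, p ≠ q → ({p, q} : Finset Ω) ∈ Set.powersetCard Ω 2 := by
      intro p q hpq
      rw [Set.powersetCard.mem_iff]
      exact Finset.card_pair hpq
    intro i
    fin_cases i
    · refine ⟨(⟨{a, b}, mk a b hab⟩, a), ?_⟩
      simp [o21_cls]
    · refine ⟨(⟨{a, b}, mk a b hab⟩, c), ?_⟩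
      have hc : c ∉ ({a, b} : Finset Ω) := by
        rw [Finset.mem_insert, Finset.mem_singleton]
        rintro (h | h)
        · exact hac h.symm
        · exact hbc h.symm
      simp only [o21_cls]
      rw [if_neg hc]
      rfl
  · intro x y hxy
    have key : ∀ (g : G) (p q p' q' : Ω) (s s' : Set.powersetCard Ω 2),
        (s : Finset Ω) = {p, q} → (s' : Finset Ω) = {p', q'} → g • p = p' → g • q = q' →
        g • s = s' := by
      intro g p q p' q' s s' hs hs' hp hq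
      apply Subtype.ext
      rw [Set.powersetCard.coe_smul, hs, hs', o22_smul_pair, hp, hq]
    rcases o21_cases x with ⟨hx, b₁, h1, hxs⟩ | ⟨hx, a₁, b₁, h1, h2, h3, hxs⟩ <;>
      rcases o21_cases y with ⟨hy, b₂, k1, hys⟩ | ⟨hy, a₂, b₂, k1, k2, k3, hys⟩
    · obtain ⟨g, hg1, hg2⟩ := T.t2 x.2 b₁ y.2 b₂ h1 k1
      exact ⟨g, Prod.ext (key g _ _ _ _ _ _ hxs hys hg1 hg2) hg1⟩
    · rw [hx, hy] at hxy; exact absurd hxy (by decide)
    · rw [hx, hy] at hxy; exact absurd hxy (by decide)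
    · obtain ⟨g, hg1, hg2, hg3⟩ := T.t3 a₁ b₁ x.2 a₂ b₂ y.2 h1 h2 h3 k1 k2 k3
      exact ⟨g, Prod.ext (key g _ _ _ _ _ _ hxs hys hg1 hg2) hg3⟩

end Cfsg.Agent.Helper23.AV
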