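import Mathlib
import Cfsg.Prelude.Def_Involutions
import Cfsg.Agent.Helper18.StronglyEmbedded2
import Cfsg.Agent.Helper3.AbInvSL2M

set_option autoImplicit false

/-!
# S2202 frame: `SL₂(F) × A` (char 2, `|F| ≥ 4`, `A` of odd order) is never strongly embedded
-/

namespace Cfsg.Agent.Helper3.AbInv

universe u v w

/-- A strongly embedded subgroup is not isomorphic to `SL₂(F) × A`, `char F = 2`, `F ≠ 𝔽₂`. -/
theorem false_of_stronglyEmbedded_sl2 {G : Type u} [Group G] [Finite G] (Y : Subgroup G)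
    (hY : Cfsg.IsStronglyEmbedded Y) {F : Type v} [Field F] [CharP F 2]
    (c₀ : F) (hc0 : c₀ ≠ 0) (hc1 : c₀ ≠ 1) {A : Type w} [Group A]
    (e : ↥Y ≃* Matrix.SpecialLinearGroup (Fin 2) F × A) : False := by
  obtain ⟨u, hu2, huY⟩ := Cfsg.Agent.Helper18.se_exists_invol_not_mem hY
  set D : Subgroup G := Y ⊓ Y.map (MulAut.conj u).toMonoidHom with hD
  have hDodd : Odd (Nat.card D) := hY.2.2 u huY
  let ψ : ↥Y →* Matrix.SpecialLinearGroup (Fin 2) F :=
    (MonoidHom.fst _ _).comp e.toMonoidHom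
  set X : Subgroup (Matrix.SpecialLinearGroup (Fin 2) F) := (D.subgroupOf Y).map ψ with hX
  have hXodd : Odd (Nat.card X) := by
    have h1 : Nat.card X ∣ Nat.card (D.subgroupOf Y) := Subgroup.card_map_dvd _ _
    have h2 : Nat.card (D.subgroupOf Y) = Nat.card D := by
      have : D.subgroupOf Y ≃* D := Subgroup.subgroupOfEquivOfLe inf_le_left
      exact Nat.card_congr this.toEquiv
    rw [h2] at h1
    exact Odd.of_dvd_nat hDodd h1
  apply not_transitive_of_odd X hXodd c₀ hc0 hc1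
  intro s t hs ht
  -- lift `s`, `t` to involutions of `Y`
  set s' : ↥Y := e.symm (s, 1) with hs'
  set t' : ↥Y := e.symm (t, 1) with ht'
  have hord : ∀ r : Matrix.SpecialLinearGroup (Fin 2) F, orderOf r = 2 →
      orderOf ((e.symm (r, 1) : ↥Y) : G) = 2 := by
    intro r hr
    rw [Subgroup.orderOf_coe, MulEquiv.orderOf_eq]
    apply orderOf_eq_prime
    · have h2 : r ^ 2 = 1 := by
        have := pow_orderOf_eq_one r
        rwa [hr] at this
      rw [Prod.pow_mk, one_pow, h2]; rfl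
    · intro h
      have : r = 1 := congrArg Prod.fst h
      rw [this, orderOf_one] at hr
      exact absurd hr (by norm_num)
  obtain ⟨d, hdD, hd⟩ := Cfsg.Agent.Helper18.se_inter_transitive hY hu2 huY (hord s hs) s'.2
    (hord t ht) t'.2
  have hdY : d ∈ Y := hdD.1
  refine ⟨ψ ⟨d, hdY⟩, ?_, ?_⟩
  · refine ⟨⟨d, hdY⟩, ?_, rfl⟩
    show (⟨d, hdY⟩ : ↥Y) ∈ D.subgroupOf Y
    rw [Subgroup.mem_subgroupOf]
    exact hdD
  · have h1 : (⟨d, hdY⟩ : ↥Y) * s' * (⟨d, hdY⟩ : ↥Y)⁻¹ = t' := Subtype.ext hd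
    have h2 := congrArg ψ h1
    rw [map_mul, map_mul, map_inv] at h2
    have h3 : ψ s' = s := by
      show (e (e.symm (s, 1))).1 = s
      rw [MulEquiv.apply_symm_apply]
    have h4 : ψ t' = t := by
      show (e (e.symm (t, 1))).1 = t
      rw [MulEquiv.apply_symm_apply]
    rw [h3, h4] at h2
    exact h2

end Cfsg.Agent.Helper3.AbInv
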