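import Mathlib
import Cfsg.Agent.Helper3.A6Cent

set_option autoImplicit false

/-! Computations in `Perm (Fin 6)` for the Sylow 2-subgroups of `Aut(A₆)`. -/

namespace Cfsg.Agent.Helper3.AutA6

open Equiv Cfsg.Agent.Helper3.A6C

set_option maxRecDepth 1000000 in
/-- element orders in `A₆` divide `3`, `4` or `5`. -/
theorem pow_cases : ∀ g : Perm (Fin 6), Perm.sign g = 1 →
    g ^ 3 = 1 ∨ g ^ 4 = 1 ∨ g ^ 5 = 1 := by
  decide +kernel

set_option maxRecDepth 1000000 in
/-- involutions of `A₆` move exactly four points. -/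
theorem support_card : ∀ g : Perm (Fin 6), g * g = 1 → g ≠ 1 → Perm.sign g = 1 →
    g.support.card = 4 := by
  decide +kernel

set_option maxRecDepth 1000000 in
theorem count_le0 : ∀ k ∈ [3, 4, 5],
    (Finset.univ.filter (fun t : Perm (Fin 6) =>
      t * t = 1 ∧ Perm.sign t = 1 ∧ (g₀ * t) ^ k = 1)).card ≤ 17 := by
  decide +kernel

theorem cj_pow (h x : Perm (Fin 6)) (k : ℕ) : cj h x ^ k = cj h (x ^ k) := by
  unfold cj
  induction k with
  | zero => simp
  | succ n ih => rw [pow_succ, pow_succ, ih]; group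

theorem cj_one (h : Perm (Fin 6)) : cj h 1 = 1 := by unfold cj; group

theorem cj_cj_inv (h x : Perm (Fin 6)) : cj h (cj h⁻¹ x) = x := by unfold cj; group

theorem cj_inv_cj (h x : Perm (Fin 6)) : cj h⁻¹ (cj h x) = x := by unfold cj; group

theorem cj_eq_one {h x : Perm (Fin 6)} (hx : cj h x = 1) : x = 1 := by
  have := congrArg (cj h⁻¹) hx
  rwa [cj_inv_cj, cj_one] at this

/-- for an involution `g` of `A₆` and `k = 3, 4, 5` there are at most `17` elements `t` of `A₆`
with `t² = 1` and `(g t)^k = 1`. -/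
theorem count_le (g : Perm (Fin 6)) (hgg : g * g = 1) (hg1 : g ≠ 1) (hs : Perm.sign g = 1)
    (k : ℕ) (hk : k ∈ [3, 4, 5]) :
    (Finset.univ.filter (fun t : Perm (Fin 6) =>
      t * t = 1 ∧ Perm.sign t = 1 ∧ (g * t) ^ k = 1)).card ≤ 17 := by
  obtain ⟨h, ha2, -⟩ := key1 g hgg (support_card g hgg hg1 hs)
  have hgcj : g = cj h g₀ := by rw [← ha2, cj_mul, a₀_sq]
  clear ha2
  subst hgcj
  refine le_trans (le_of_eq ?_) (count_le0 k hk)
  rw [← Fintype.card_subtype, ← Fintype.card_subtype]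
  apply Fintype.card_congr
  refine
    { toFun := fun x => ⟨cj h⁻¹ x.1, ?_, ?_, ?_⟩
      invFun := fun x => ⟨cj h x.1, ?_, ?_, ?_⟩
      left_inv := fun x => by apply Subtype.ext; simp only [cj]; group
      right_inv := fun x => by apply Subtype.ext; simp only [cj]; group }
  · rw [cj_mul, x.2.1, cj_one]
  · rw [sign_cj]; exact x.2.2.1
  · have h1 := x.2.2.2
    have h2 : cj h⁻¹ ((cj h g₀ * x.1) ^ k) = 1 := by rw [h1, cj_one]
    rw [← cj_pow, ← cj_mul, cj_inv_cj] at h2
    exact h2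
  · rw [cj_mul, x.2.1, cj_one]
  · rw [sign_cj]; exact x.2.2.1
  · rw [cj_mul, cj_pow, x.2.2.2, cj_one]

end Cfsg.Agent.Helper3.AutA6
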