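import Mathlib
import Cfsg.Agent.Helper3.AutA6a
import Cfsg.Agent.Helper3.SylowSubnormal
import Cfsg.Agent.Helper3.LargeES2
import Cfsg.Agent.Helper10.PGroupBasic

set_option autoImplicit false
set_option linter.style.haveILetI false
set_option linter.unusedSectionVars false

/-! Any two Sylow 2-subgroups of an extension `G` of `A₆` by a group of order `4` meet
nontrivially. -/

namespace Cfsg.Agent.Helper3.AutA6

open Equiv Cfsg.Agent.Helper3.A6C

variable {G : Type*} [Group G]

/-- the permutation attached to an element of `N ≅ A₆` -/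
def pm {N : Subgroup G} (e : N ≃* alternatingGroup (Fin 6)) : N →* Perm (Fin 6) :=
  (alternatingGroup (Fin 6)).subtype.comp e.toMonoidHom

theorem pm_injective {N : Subgroup G} (e : N ≃* alternatingGroup (Fin 6)) :
    Function.Injective (pm e) :=
  Subtype.val_injective.comp e.injective

theorem sign_pm {N : Subgroup G} (e : N ≃* alternatingGroup (Fin 6)) (y : N) :
    Perm.sign (pm e y) = 1 :=
  Perm.mem_alternatingGroup.1 (e y).2

theorem cent_card (g : Perm (Fin 6)) (hgg : g * g = 1) (hg1 : g ≠ 1) (hs : Perm.sign g = 1) :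
    (Finset.univ.filter (fun x : Perm (Fin 6) => x * g = g * x ∧ Perm.sign x = 1)).card = 8 := by
  obtain ⟨h, ha2, -⟩ := key1 g hgg (support_card g hgg hg1 hs)
  have hgcj : g = cj h g₀ := by rw [← ha2, cj_mul, a₀_sq]
  rw [hgcj]
  exact key2 h

/-- the centralizer in `N` of an involution has at most 8 elements -/
theorem card_inf_centralizer_le {N : Subgroup G} (e : N ≃* alternatingGroup (Fin 6)) {z : G}
    (hzN : z ∈ N) (hz2 : z * z = 1) (hz1 : z ≠ 1) :
    Nat.card (N ⊓ Subgroup.centralizer ({z} : Set G) : Subgroup G) ≤ 8 := by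
  set g : Perm (Fin 6) := pm e ⟨z, hzN⟩ with hg
  have hgg : g * g = 1 := by
    rw [hg, ← map_mul]
    have : (⟨z, hzN⟩ : N) * ⟨z, hzN⟩ = 1 := Subtype.ext hz2
    rw [this, map_one]
  have hg1 : g ≠ 1 := by
    intro h
    have : (⟨z, hzN⟩ : N) = 1 := pm_injective e (by rw [← hg, h, map_one])
    exact hz1 (congrArg Subtype.val this)
  have hs : Perm.sign g = 1 := sign_pm e _
  have h8 := cent_card g hgg hg1 hs
  rw [← Fintype.card_subtype, ← Nat.card_eq_fintype_card] at h8
  rw [← h8]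
  let f : ↥(N ⊓ Subgroup.centralizer ({z} : Set G) : Subgroup G) →
      {x : Perm (Fin 6) // x * g = g * x ∧ Perm.sign x = 1} := fun y =>
    ⟨pm e ⟨y.1, y.2.1⟩, by
      refine ⟨?_, sign_pm e _⟩
      rw [hg, ← map_mul, ← map_mul]
      congr 1
      apply Subtype.ext
      show (y : G) * z = z * (y : G)
      have := Subgroup.mem_centralizer_iff.1 y.2.2 z rfl
      exact this.symm⟩
  apply Nat.card_le_card_of_injective f
  intro y1 y2 h12
  have h1 : (f y1).1 = (f y2).1 := congrArg (fun w => w.1) h12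
  have h2 : (⟨y1.1, y1.2.1⟩ : N) = ⟨y2.1, y2.2.1⟩ := pm_injective e h1
  have h3 : (y1 : G) = (y2 : G) := congrArg (fun w : N => (w : G)) h2
  exact Subtype.ext h3

/-- the counting bound transported to `N` -/
theorem card_Y_le {N : Subgroup G} (e : N ≃* alternatingGroup (Fin 6)) {z : G}
    (hzN : z ∈ N) (hz2 : z * z = 1) (hz1 : z ≠ 1) (k : ℕ) (hk : k ∈ [3, 4, 5]) :
    Nat.card {t : G // t ∈ N ∧ t * t = 1 ∧ (z * t) ^ k = 1} ≤ 17 := by
  set g : Perm (Fin 6) := pm e ⟨z, hzN⟩ with hg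
  have hgg : g * g = 1 := by
    rw [hg, ← map_mul]
    have : (⟨z, hzN⟩ : N) * ⟨z, hzN⟩ = 1 := Subtype.ext hz2
    rw [this, map_one]
  have hg1 : g ≠ 1 := by
    intro h
    have : (⟨z, hzN⟩ : N) = 1 := pm_injective e (by rw [← hg, h, map_one])
    exact hz1 (congrArg Subtype.val this)
  have hs : Perm.sign g = 1 := sign_pm e _
  have h17 := count_le g hgg hg1 hs k hk
  rw [← Fintype.card_subtype, ← Nat.card_eq_fintype_card] at h17
  refine le_trans ?_ h17
  let f : {t : G // t ∈ N ∧ t * t = 1 ∧ (z * t) ^ k = 1} →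
      {t : Perm (Fin 6) // t * t = 1 ∧ Perm.sign t = 1 ∧ (g * t) ^ k = 1} := fun y =>
    ⟨pm e ⟨y.1, y.2.1⟩, by
      refine ⟨?_, sign_pm e _, ?_⟩
      · rw [← map_mul]
        have : (⟨y.1, y.2.1⟩ : N) * ⟨y.1, y.2.1⟩ = 1 := Subtype.ext y.2.2.1
        rw [this, map_one]
      · rw [hg, ← map_mul, ← map_pow]
        have : ((⟨z, hzN⟩ : N) * ⟨y.1, y.2.1⟩) ^ k = 1 := by
          apply Subtype.ext
          rw [Subgroup.coe_pow]
          exact y.2.2.2
        rw [this, map_one]⟩
  apply Nat.card_le_card_of_injective f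
  intro y1 y2 h12
  have h1 : (f y1).1 = (f y2).1 := congrArg (fun w => w.1) h12
  have h2 : (⟨y1.1, y1.2.1⟩ : N) = ⟨y2.1, y2.2.1⟩ := pm_injective e h1
  have h3 : (y1 : G) = (y2 : G) := congrArg (fun w : N => (w : G)) h2
  exact Subtype.ext h3

/-- every element of `N` has `k`-th power one for some `k ∈ {3, 4, 5}` -/
theorem exists_pow_eq_one {N : Subgroup G} (e : N ≃* alternatingGroup (Fin 6)) {y : G}
    (hy : y ∈ N) : ∃ k ∈ [3, 4, 5], y ^ k = 1 := by
  have key : ∀ k : ℕ, (pm e ⟨y, hy⟩) ^ k = 1 → y ^ k = 1 := by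
    intro k hk
    rw [← map_pow] at hk
    have : (⟨y, hy⟩ : N) ^ k = 1 := pm_injective e (by rw [hk, map_one])
    have h2 := congrArg Subtype.val this
    rwa [Subgroup.coe_pow] at h2
  rcases pow_cases (pm e ⟨y, hy⟩) (sign_pm e _) with h | h | h
  · exact ⟨3, by simp, key 3 h⟩
  · exact ⟨4, by simp, key 4 h⟩
  · exact ⟨5, by simp, key 5 h⟩

theorem card_A6' : Nat.card ↥(alternatingGroup (Fin 6)) = 360 := by
  rw [nat_card_alternatingGroup, Nat.card_eq_fintype_card, Fintype.card_fin]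
  decide

theorem fact1440 : (1440 : ℕ).factorization 2 = 5 := by
  rw [show (1440 : ℕ) = 2 ^ 5 * 45 by norm_num, Nat.factorization_mul (by norm_num) (by norm_num),
    Nat.factorization_pow]
  simp [Nat.Prime.factorization_self Nat.prime_two,
    Nat.factorization_eq_zero_of_not_dvd (show ¬ 2 ∣ 45 by norm_num)]

theorem fact360 : (360 : ℕ).factorization 2 = 3 := by
  rw [show (360 : ℕ) = 2 ^ 3 * 45 by norm_num, Nat.factorization_mul (by norm_num) (by norm_num),
    Nat.factorization_pow]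
  simp [Nat.Prime.factorization_self Nat.prime_two,
    Nat.factorization_eq_zero_of_not_dvd (show ¬ 2 ∣ 45 by norm_num)]

end Cfsg.Agent.Helper3.AutA6
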