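import Mathlib
import Cfsg.Agent.Helper3.AutA6b

set_option autoImplicit false
set_option linter.style.haveILetI false
set_option linter.unusedSectionVars false

namespace Cfsg.Agent.Helper3.AutA6

open Equiv Cfsg.Agent.Helper3.A6C
open scoped Pointwise

variable {G : Type*} [Group G]

/-- existence of a central involution of a Sylow 2-subgroup inside `N` -/
theorem exists_central_invol [Finite G] (N : Subgroup G) [N.Normal]
    (hN : Nat.card N = 360) (H : Sylow 2 G) :
    ∃ z : G, z ∈ N ∧ z ∈ (H : Subgroup G) ∧ z * z = 1 ∧ z ≠ 1 ∧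
      ∀ h ∈ (H : Subgroup G), h * z = z * h := by
  haveI : Fact (Nat.Prime 2) := ⟨Nat.prime_two⟩
  have h8 : Nat.card ((H : Subgroup G) ⊓ N : Subgroup G) = 8 := by
    rw [Cfsg.Agent.Helper3.card_sylow_inf_normal H N, hN, fact360]; norm_num
  have hne : N.subgroupOf (H : Subgroup G) ≠ ⊥ := by
    intro h
    rw [Subgroup.subgroupOf_eq_bot] at h
    have h2 : (H : Subgroup G) ⊓ N = ⊥ := by
      rw [inf_comm]; exact h.eq_bot
    rw [h2, Subgroup.card_bot] at h8
    norm_num at h8
  have hP : IsPGroup 2 ↥(H : Subgroup G) := H.isPGroup'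
  obtain ⟨z0, hz0N, hz01, hz0c⟩ :=
    Cfsg.Agent.Helper10.exists_ne_one_mem_inf_center hP (N.subgroupOf (H : Subgroup G)) hne
  set A : Subgroup ↥(H : Subgroup G) :=
    N.subgroupOf (H : Subgroup G) ⊓ Subgroup.center ↥(H : Subgroup G) with hA
  have hAne : A ≠ ⊥ := by
    intro h
    have : z0 ∈ A := ⟨hz0N, hz0c⟩
    rw [h, Subgroup.mem_bot] at this
    exact hz01 this
  have hAP : IsPGroup 2 ↥A := hP.to_subgroup A
  haveI : Nontrivial ↥A := (Subgroup.nontrivial_iff_ne_bot A).2 hAne
  obtain ⟨n, hn0, hn⟩ := hAP.nontrivial_iff_card.mp inferInstance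
  have h2dvd : 2 ∣ Nat.card ↥A := by
    rw [hn]; exact dvd_pow_self 2 (ne_of_gt hn0)
  obtain ⟨a, ha⟩ := exists_prime_orderOf_dvd_card' 2 h2dvd
  have ha2 : a * a = 1 := by
    have := pow_orderOf_eq_one a
    rwa [ha, pow_two] at this
  have ha1 : a ≠ 1 := by
    intro h
    rw [h, orderOf_one] at ha
    norm_num at ha
  refine ⟨((a : ↥(H : Subgroup G)) : G), ?_, (a : ↥(H : Subgroup G)).2, ?_, ?_, ?_⟩
  · exact Subgroup.mem_subgroupOf.1 a.2.1
  · have := congrArg (fun w : ↥A => ((w : ↥(H : Subgroup G)) : G)) ha2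
    simpa using this
  · intro h
    apply ha1
    apply Subtype.ext
    apply Subtype.ext
    simpa using h
  · intro h hh
    have := Subgroup.mem_center_iff.1 a.2.2 ⟨h, hh⟩
    have h2 := congrArg (fun w : ↥(H : Subgroup G) => (w : G)) this
    simpa using h2

theorem main [Finite G] (N : Subgroup G) [N.Normal] (e : N ≃* alternatingGroup (Fin 6))
    (hidx : N.index = 4) (H : Sylow 2 G) (x : G) :
    (H : Subgroup G) ⊓ MulAut.conj x • (H : Subgroup G) ≠ ⊥ := by
  haveI : Fact (Nat.Prime 2) := ⟨Nat.prime_two⟩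
  have hN : Nat.card N = 360 := (Nat.card_congr e.toEquiv).trans card_A6'
  have hG : Nat.card G = 1440 := by rw [← Subgroup.card_mul_index N, hN, hidx]
  have hH : Nat.card (H : Subgroup G) = 32 := by
    rw [H.card_eq_multiplicity, hG, fact1440]; norm_num
  obtain ⟨z, hzN, hzH, hz2, hz1, hzc⟩ := exists_central_invol N hN H
  -- H is the centralizer of z
  set C : Subgroup G := Subgroup.centralizer ({z} : Set G) with hC
  have hHC : (H : Subgroup G) ≤ C := by
    intro h hh
    rw [hC, Subgroup.mem_centralizer_iff]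
    intro y hy
    rw [Set.mem_singleton_iff] at hy
    rw [hy]
    exact (hzc h hh).symm
  have hCcard : Nat.card C ≤ 32 := by
    have h1 := Subgroup.card_mul_index (N.subgroupOf C)
    have h2 : (N.subgroupOf C).index ∣ 4 := by
      rw [← hidx]; exact Subgroup.relIndex_dvd_index_of_normal N C
    have h3 : (N.subgroupOf C).index ≤ 4 := Nat.le_of_dvd (by norm_num) h2
    have h4 : Nat.card (N.subgroupOf C) ≤ 8 := by
      rw [Cfsg.Agent.Helper3.card_subgroupOf_eq_card_inf]
      exact card_inf_centralizer_le e hzN hz2 hz1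
    calc Nat.card C = Nat.card (N.subgroupOf C) * (N.subgroupOf C).index := h1.symm
      _ ≤ 8 * 4 := Nat.mul_le_mul h4 h3
      _ = 32 := by norm_num
  have hHeq : (H : Subgroup G) = C :=
    Subgroup.eq_of_le_of_card_ge hHC (by rw [hH]; exact hCcard)
  have hmemH : ∀ u : G, u ∈ (H : Subgroup G) ↔ u * z = z * u := by
    intro u
    rw [hHeq, hC, Subgroup.mem_centralizer_iff]
    constructor
    · intro h; exact (h z rfl).symm
    · intro h y hy
      rw [Set.mem_singleton_iff] at hy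
      rw [hy]; exact h.symm
  -- the conjugate involution
  set z' : G := x * z * x⁻¹ with hz'
  have hz'N : z' ∈ N := ‹N.Normal›.conj_mem z hzN x
  have hz'2 : z' * z' = 1 := by
    rw [hz']
    calc x * z * x⁻¹ * (x * z * x⁻¹) = x * (z * z) * x⁻¹ := by group
      _ = 1 := by rw [hz2]; group
  obtain ⟨k, hk, hkpow⟩ := exists_pow_eq_one e (N.mul_mem hzN hz'N)
  -- the stable set
  let Y : Set G := {t : G | t ∈ N ∧ t * t = 1 ∧ (z * t) ^ k = 1}
  have hstab : ∀ r ∈ (H : Subgroup G), ∀ y ∈ Y, r * y * r⁻¹ ∈ Y := by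
    rintro r hr y ⟨hyN, hy2, hyk⟩
    refine ⟨‹N.Normal›.conj_mem y hyN r, ?_, ?_⟩
    · calc r * y * r⁻¹ * (r * y * r⁻¹) = r * (y * y) * r⁻¹ := by group
        _ = 1 := by rw [hy2]; group
    · have hrz : r * z = z * r := (hmemH r).1 hr
      have h1 : z * (r * y * r⁻¹) = r * (z * y) * r⁻¹ := by
        calc z * (r * y * r⁻¹) = (z * r) * y * r⁻¹ := by group
          _ = (r * z) * y * r⁻¹ := by rw [hrz]
          _ = r * (z * y) * r⁻¹ := by group
      rw [h1]
      have h2 : (r * (z * y) * r⁻¹) ^ k = r * (z * y) ^ k * r⁻¹ := by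
        rw [conj_pow]
      rw [h2, hyk]; group
  have hYcard : Nat.card Y ≤ 17 := card_Y_le e hzN hz2 hz1 k hk
  letI := Cfsg.Agent.Helper3.LargeES.conjActOn (H : Subgroup G) Y hstab
  let y0 : Y := ⟨z', hz'N, hz'2, hkpow⟩
  have horb : (MulAction.stabilizer ↥(H : Subgroup G) y0).index =
      (MulAction.orbit ↥(H : Subgroup G) y0).ncard := MulAction.index_stabilizer _ _
  have hle : (MulAction.orbit ↥(H : Subgroup G) y0).ncard ≤ 17 := by
    have h1 : (MulAction.orbit ↥(H : Subgroup G) y0).ncard ≤ Nat.card Y := by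
      rw [← Set.ncard_univ]
      exact Set.ncard_le_ncard (Set.subset_univ _) (Set.toFinite _)
    exact le_trans h1 hYcard
  have hstabne : MulAction.stabilizer ↥(H : Subgroup G) y0 ≠ ⊥ := by
    intro h
    rw [h, Subgroup.index_bot] at horb
    rw [← horb, hH] at hle
    norm_num at hle
  obtain ⟨a, ha1⟩ := (Subgroup.ne_bot_iff_exists_ne_one).1 hstabne
  have hfix : (a : ↥(H : Subgroup G)) • y0 = y0 := a.2
  have hfix' : ((a : ↥(H : Subgroup G)) : G) * z' * ((a : ↥(H : Subgroup G)) : G)⁻¹ = z' :=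
    congrArg Subtype.val hfix
  have huH : ((a : ↥(H : Subgroup G)) : G) ∈ (H : Subgroup G) := (a : ↥(H : Subgroup G)).2
  have hu1 : ((a : ↥(H : Subgroup G)) : G) ≠ 1 := by
    intro h
    apply ha1
    apply Subtype.ext
    apply Subtype.ext
    simpa using h
  generalize ((a : ↥(H : Subgroup G)) : G) = u at hfix' huH hu1
  intro hbot
  have hmem : u ∈ (H : Subgroup G) ⊓ MulAut.conj x • (H : Subgroup G) := by
    refine ⟨huH, ?_⟩
    show u ∈ MulAut.conj x • (H : Subgroup G)
    rw [Subgroup.mem_pointwise_smul_iff_inv_smul_mem, MulAut.smul_def, ← map_inv,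
      MulAut.conj_apply, inv_inv, hmemH]
    have hc : u * z' = z' * u := by
      calc u * z' = (u * z' * u⁻¹) * u := by group
        _ = z' * u := by rw [hfix']
    rw [hz'] at hc
    calc x⁻¹ * u * x * z = x⁻¹ * (u * (x * z * x⁻¹)) * x := by group
      _ = x⁻¹ * ((x * z * x⁻¹) * u) * x := by rw [hc]
      _ = z * (x⁻¹ * u * x) := by group
  rw [hbot, Subgroup.mem_bot] at hmem
  exact hu1 hmem

end Cfsg.Agent.Helper3.AutA6
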