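import Mathlib

/-!
Pure group theory used for B&G 12.12 (`hard_kill`): norms of commuting automorphisms of a finite
abelian group, invariance of centralizers under an abelian automizer, elements of minimal order
outside a subgroup.
-/

set_option autoImplicit false

namespace Cfsg.Agent.Helper3.BG12HK

open Subgroup

section abs

variable {V : Type*} [CommGroup V] (q : ℕ) [hq : Fact q.Prime]

/-- the norm of `v` under the endomorphism `g` of order dividing `q` -/
noncomputable def Nm (g : Monoid.End V) (v : V) : V := ∏ j : ZMod q, (g ^ j.val) v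

theorem pow_val_eq (g : Monoid.End V) (hg : g ^ q = 1) (n : ℕ) :
    g ^ ((n : ZMod q).val) = g ^ n := by
  rw [ZMod.val_natCast, ← pow_eq_pow_mod n hg]

theorem nm_fixed (g : Monoid.End V) (hg : g ^ q = 1) (v : V) : g (Nm q g v) = Nm q g v := by
  unfold Nm
  rw [map_prod]
  have h1 : ∀ j : ZMod q, g ((g ^ j.val) v) = (g ^ (j + 1).val) v := by
    intro j
    have e : (j + 1 : ZMod q) = ((j.val + 1 : ℕ) : ZMod q) := by
      push_cast; rw [ZMod.natCast_zmod_val]
    rw [e, pow_val_eq q g hg, pow_succ']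
    rfl
  rw [Finset.prod_congr rfl (fun j _ => h1 j)]
  exact Equiv.prod_comp (Equiv.addRight (1 : ZMod q)) (fun j => (g ^ j.val) v)

theorem prod_nm (α β : Monoid.End V) (hc : Commute α β) (hβ : β ^ q = 1)
    (hN : ∀ w, Nm q β w = 1) (v : V) :
    ∏ k : ZMod q, Nm q (α * β ^ k.val) v = v ^ q := by
  unfold Nm
  have h1 : ∀ k i : ZMod q, ((α * β ^ k.val) ^ i.val) v
      = (α ^ i.val) ((β ^ (k.val * i.val)) v) := by
    intro k i
    rw [(hc.pow_right k.val).mul_pow, ← pow_mul]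
    rfl
  simp_rw [h1]
  rw [Finset.prod_comm]
  simp_rw [← map_prod]
  rw [Finset.prod_eq_single (0 : ZMod q)]
  · simp only [ZMod.val_zero, mul_zero, pow_zero]
    rw [Finset.prod_const, Finset.card_univ, ZMod.card]
    rfl
  · intro i _ hi
    have h2 : ∀ k : ZMod q, (β ^ (k.val * i.val)) v = (β ^ (k * i).val) v := by
      intro k
      have e : (k * i : ZMod q) = ((k.val * i.val : ℕ) : ZMod q) := by
        push_cast; rw [ZMod.natCast_zmod_val, ZMod.natCast_zmod_val]
      rw [e, pow_val_eq q β hβ]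
    rw [Finset.prod_congr rfl (fun k _ => h2 k)]
    have h3 : ∏ k : ZMod q, (β ^ (k * i).val) v = ∏ k : ZMod q, (β ^ k.val) v :=
      Equiv.prod_comp (Equiv.mulRight₀ i hi) (fun k => (β ^ k.val) v)
    rw [h3]
    have := hN v
    unfold Nm at this
    rw [this, map_one]
  · intro h
    exact absurd (Finset.mem_univ _) h

theorem two_commuting_abs (hVq : (Nat.card V).Coprime q) (α β : Monoid.End V)
    (hc : Commute α β) (hα : α ^ q = 1) (hβ : β ^ q = 1) (hfix : ∀ v, β v = v → v = 1)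
    (v₀ : V) (hv₀ : v₀ ≠ 1) : ∃ k < q, ∃ v, v ≠ 1 ∧ (α * β ^ k) v = v := by
  have hN : ∀ w, Nm q β w = 1 := fun w => hfix _ (nm_fixed q β hβ w)
  have hprod := prod_nm q α β hc hβ hN v₀
  have hne : v₀ ^ q ≠ 1 := by
    intro h
    apply hv₀
    have h1 : orderOf v₀ ∣ q := orderOf_dvd_of_pow_eq_one h
    have h2 : orderOf v₀ ∣ Nat.card V := orderOf_dvd_natCard v₀
    have h3 : orderOf v₀ ∣ Nat.gcd (Nat.card V) q := Nat.dvd_gcd h2 h1
    rw [hVq.gcd_eq_one, Nat.dvd_one] at h3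
    exact orderOf_eq_one_iff.1 h3
  rw [← hprod] at hne
  obtain ⟨k, -, hk⟩ := Finset.exists_ne_one_of_prod_ne_one hne
  refine ⟨k.val, ZMod.val_lt k, _, hk, ?_⟩
  apply nm_fixed
  rw [(hc.pow_right k.val).mul_pow, hα, one_mul, ← pow_mul, mul_comm, pow_mul, hβ, one_pow]

end abs

section amb

variable {G : Type*} [Group G]

theorem two_commuting (A : Subgroup G) (q : ℕ) [Fact q.Prime]
    (hAab : ∀ x ∈ A, ∀ y ∈ A, x * y = y * x) (hA1 : A ≠ ⊥) (hAq : (Nat.card A).Coprime q)
    (a u : G) (ha : a ∈ normalizer (A : Set G)) (hu : u ∈ normalizer (A : Set G))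
    (hau : a * u = u * a) (haq : a ^ q ∈ centralizer (A : Set G))
    (huq : u ^ q ∈ centralizer (A : Set G))
    (hfix : A ⊓ centralizer ({u} : Set G) = ⊥) :
    ∃ k < q, A ⊓ centralizer ({a * u ^ k} : Set G) ≠ ⊥ := by
  let _ : CommGroup A :=
    { (inferInstance : Group A) with
      mul_comm := fun x y => Subtype.ext (hAab x x.2 y y.2) }
  let cE : ∀ g : G, g ∈ normalizer (A : Set G) → Monoid.End A := fun g hg =>
    { toFun := fun x => ⟨g * x * g⁻¹, (mem_normalizer_iff.1 hg x).1 x.2⟩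
      map_one' := by ext; simp
      map_mul' := fun x y => by ext; simp [mul_assoc] }
  have hcE : ∀ g hg (v : A), ((cE g hg v : A) : G) = g * v * g⁻¹ := fun g hg v => rfl
  have hpow : ∀ g hg (n : ℕ) (v : A), ((((cE g hg) ^ n) v : A) : G) = g ^ n * v * (g ^ n)⁻¹ := by
    intro g hg n
    induction n with
    | zero => intro v; simp
    | succ n ih =>
      intro v
      have e : ((cE g hg) ^ (n + 1)) v = ((cE g hg) ^ n) ((cE g hg) v) := by
        rw [pow_succ]; rfl
      rw [e, ih, hcE g hg v, pow_succ]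
      group
  have hone : ∀ g hg, g ^ q ∈ centralizer (A : Set G) → (cE g hg) ^ q = 1 := by
    intro g hg hgq
    ext v
    rw [hpow g hg, Monoid.End.coe_one, id_eq]
    have := mem_centralizer_iff.1 hgq v v.2
    rw [← this, mul_inv_cancel_right]
  have hc : Commute (cE a ha) (cE u hu) := by
    ext v
    change (((cE a ha) ((cE u hu) v) : A) : G) = (((cE u hu) ((cE a ha) v) : A) : G)
    rw [hcE a ha, hcE u hu, hcE u hu, hcE a ha]
    have e1 : a * (u * v * u⁻¹) * a⁻¹ = (a * u) * v * (a * u)⁻¹ := by group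
    have e2 : u * (a * v * a⁻¹) * u⁻¹ = (u * a) * v * (u * a)⁻¹ := by group
    rw [e1, e2, hau]
  have hfix' : ∀ v : A, (cE u hu) v = v → v = 1 := by
    intro v hv
    have h1 : u * v * u⁻¹ = v := by
      have := congrArg Subtype.val hv
      rwa [hcE u hu] at this
    have h2 : (v : G) ∈ A ⊓ centralizer ({u} : Set G) := by
      refine Subgroup.mem_inf.2 ⟨v.2, ?_⟩
      rw [mem_centralizer_iff]
      intro x hx
      rw [Set.mem_singleton_iff] at hx
      subst hx
      calc x * (v : G) = (x * v * x⁻¹) * x := by group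
        _ = v * x := by rw [h1]
    rw [hfix, mem_bot] at h2
    exact Subtype.ext h2
  obtain ⟨v₀, hv₀A⟩ := (Subgroup.ne_bot_iff_exists_ne_one).1 hA1
  have hcard : (Nat.card A).Coprime q := hAq
  obtain ⟨k, hk, v, hv1, hv⟩ := two_commuting_abs q hcard (cE a ha) (cE u hu) hc
    (hone a ha haq) (hone u hu huq) hfix' v₀ hv₀A
  refine ⟨k, hk, ?_⟩
  intro hbot
  apply hv1
  have h1 : a * u ^ k * v * (a * u ^ k)⁻¹ = v := by
    have h0 : (cE a ha * (cE u hu) ^ k) v = (cE a ha) (((cE u hu) ^ k) v) := rfl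
    have := congrArg Subtype.val hv
    rw [h0, hcE a ha, hpow u hu] at this
    calc a * u ^ k * v * (a * u ^ k)⁻¹ = a * (u ^ k * ↑v * (u ^ k)⁻¹) * a⁻¹ := by group
      _ = v := this
  have h2 : (v : G) ∈ A ⊓ centralizer ({a * u ^ k} : Set G) := by
    refine Subgroup.mem_inf.2 ⟨v.2, ?_⟩
    rw [mem_centralizer_iff]
    intro x hx
    rw [Set.mem_singleton_iff] at hx
    rw [hx]
    calc a * u ^ k * (v : G) = (a * u ^ k * v * (a * u ^ k)⁻¹) * (a * u ^ k) := by group
      _ = v * (a * u ^ k) := by rw [h1]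
  rw [hbot, mem_bot] at h2
  exact Subtype.ext h2

/-- centralizers of elements of an abelian automizer are invariant -/
theorem le_normalizer_inf_centralizer (S A K : Subgroup G) (g : G) (hAS : A ≤ S)
    (hKS : K ≤ normalizer (S : Set G)) (hKA : K ≤ normalizer (A : Set G))
    (hg : g ∈ normalizer (S : Set G))
    (hNab : ∀ x ∈ normalizer (S : Set G), ∀ y ∈ normalizer (S : Set G),
      x * y * x⁻¹ * y⁻¹ ∈ centralizer (S : Set G)) :
    K ≤ normalizer ((A ⊓ centralizer ({g} : Set G) : Subgroup G) : Set G) := by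
  have key : ∀ k ∈ K, ∀ f ∈ A ⊓ centralizer ({g} : Set G),
      k * f * k⁻¹ ∈ A ⊓ centralizer ({g} : Set G) := by
    intro k hk f hf
    obtain ⟨hfA, hfg⟩ := Subgroup.mem_inf.1 hf
    have hfg' : g * f = f * g := mem_centralizer_iff.1 hfg g rfl
    have hkfA : k * f * k⁻¹ ∈ A := (mem_normalizer_iff.1 (hKA hk) f).1 hfA
    refine Subgroup.mem_inf.2 ⟨hkfA, ?_⟩
    rw [mem_centralizer_iff]
    intro x hx
    rw [Set.mem_singleton_iff] at hx
    rw [hx]
    have hc : k * g * k⁻¹ * g⁻¹ ∈ centralizer (S : Set G) := hNab k (hKS hk) g hg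
    have hc' := mem_centralizer_iff.1 hc (k * f * k⁻¹) (hAS hkfA)
    -- k g k⁻¹ commutes with k f k⁻¹
    have h1 : (k * g * k⁻¹) * (k * f * k⁻¹) = (k * f * k⁻¹) * (k * g * k⁻¹) := by
      have : (k * g * k⁻¹) * (k * f * k⁻¹) = k * (g * f) * k⁻¹ := by group
      rw [this, hfg']; group
    -- g = c⁻¹ (k g k⁻¹)
    calc g * (k * f * k⁻¹)
        = (k * g * k⁻¹ * g⁻¹)⁻¹ * ((k * g * k⁻¹) * (k * f * k⁻¹)) := by group
      _ = (k * g * k⁻¹ * g⁻¹)⁻¹ * ((k * f * k⁻¹) * (k * g * k⁻¹)) := by rw [h1]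
      _ = (k * g * k⁻¹ * g⁻¹)⁻¹ * ((k * f * k⁻¹) * (k * g * k⁻¹ * g⁻¹)) * g := by group
      _ = (k * g * k⁻¹ * g⁻¹)⁻¹ * ((k * g * k⁻¹ * g⁻¹) * (k * f * k⁻¹)) * g := by rw [hc']
      _ = (k * f * k⁻¹) * g := by group
  intro k hk
  rw [mem_normalizer_iff]
  intro f
  constructor
  · exact key k hk f
  · intro hf
    have := key k⁻¹ (K.inv_mem hk) _ hf
    have e : k⁻¹ * (k * f * k⁻¹) * k⁻¹⁻¹ = f := by group
    rwa [e] at this

theorem pow_gcd_mem' (H : Subgroup G) (x : G) (a b : ℕ) (ha : x ^ a ∈ H) (hb : x ^ b ∈ H) :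
    x ^ (Nat.gcd a b) ∈ H := by
  have h := Nat.gcd_eq_gcd_ab a b
  rw [← zpow_natCast, h, zpow_add, zpow_mul, zpow_mul, zpow_natCast, zpow_natCast]
  exact H.mul_mem (H.zpow_mem ha _) (H.zpow_mem hb _)

/-- an element of minimal order outside a subgroup has prime power order -/
theorem exists_prime_pow_order [Finite G] (K C : Subgroup G) (h : ¬ K ≤ C) :
    ∃ u ∈ K, u ∉ C ∧ ∃ q k : ℕ, q.Prime ∧ orderOf u = q ^ k ∧ u ^ q ∈ C := by
  classical
  have hex : ∃ n : ℕ, ∃ x ∈ K, x ∉ C ∧ orderOf x = n := by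
    obtain ⟨x, hxK, hxC⟩ := SetLike.not_le_iff_exists.1 h
    exact ⟨orderOf x, x, hxK, hxC, rfl⟩
  obtain ⟨u, huK, huC, hun⟩ := Nat.find_spec hex
  have hmin : ∀ x ∈ K, x ∉ C → orderOf u ≤ orderOf x := by
    intro x hxK hxC
    rw [hun]
    exact Nat.find_min' hex ⟨x, hxK, hxC, rfl⟩
  have hpos : 0 < orderOf u := orderOf_pos u
  have hu1 : orderOf u ≠ 1 := by
    intro h1
    rw [orderOf_eq_one_iff] at h1
    rw [h1] at huC
    exact huC C.one_mem
  have hpow : ∀ q : ℕ, q.Prime → q ∣ orderOf u → u ^ q ∈ C := by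
    intro q hq hdvd
    by_contra hcon
    have h1 := hmin (u ^ q) (K.pow_mem huK q) hcon
    rw [orderOf_pow_of_dvd hq.ne_zero hdvd] at h1
    have h2 : orderOf u / q < orderOf u := Nat.div_lt_self hpos hq.one_lt
    omega
  obtain ⟨q, hq, hqd⟩ := Nat.exists_prime_and_dvd hu1
  have huniq : ∀ {d : ℕ}, d.Prime → d ∣ orderOf u → d = q := by
    intro d hd hdd
    by_contra hne
    have hcop : Nat.Coprime d q := (Nat.coprime_primes hd hq).2 hne
    have := pow_gcd_mem' C u d q (hpow d hd hdd) (hpow q hq hqd)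
    rw [hcop.gcd_eq_one, pow_one] at this
    exact huC this
  refine ⟨u, huK, huC, q, (orderOf u).primeFactorsList.length, hq, ?_, hpow q hq hqd⟩
  exact Nat.eq_prime_pow_of_unique_prime_dvd hpos.ne' huniq

/-- subgroups of a group of order `p ^ 2` -/
theorem card_cases_of_le {p : ℕ} (hp : p.Prime) {A F : Subgroup G} [Finite G]
    (hA : Nat.card A = p ^ 2) (hFA : F ≤ A) : F = ⊥ ∨ Nat.card F = p ∨ F = A := by
  have h1 : Nat.card F ∣ p ^ 2 := hA ▸ Subgroup.card_dvd_of_le hFA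
  obtain ⟨k, hk, hFk⟩ := (Nat.dvd_prime_pow hp).1 h1
  interval_cases k
  · left
    rw [pow_zero] at hFk
    exact Subgroup.eq_bot_of_card_eq F hFk
  · right; left
    rw [hFk, pow_one]
  · right; right
    apply Subgroup.eq_of_le_of_card_ge hFA
    rw [hA, hFk]

end amb

end Cfsg.Agent.Helper3.BG12HK
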