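import Mathlib
import Cfsg.Prelude.Def_OddOrderLocal
import Cfsg.Agent.Helper3.BG12HKa
import Cfsg.Agent.Helper9.NPC
import Cfsg.Agent.Helper14.SylowIn

/-!
# B&G 12.12, lemma `hard_kill`: abstract group-theoretic steps

Pure group theory (no maximal-subgroup machinery): steps 1, 2 and the normal `p`-complement
step (case (i)).
-/

set_option autoImplicit false
set_option linter.unusedSectionVars false
set_option linter.unusedVariables false

namespace Cfsg.Agent.Helper3.BG12HK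

open Subgroup Cfsg
open Cfsg.Agent.Helper14 (IsSylowIn)

universe u
variable {G : Type u} [Group G] [Finite G]

theorem conj_mem_omega {p : ℕ} {S A : Subgroup G}
    (hΩ : ∀ x ∈ S, x ^ p = 1 ↔ x ∈ A) (hAS : A ≤ S) {g : G}
    (hg : g ∈ normalizer (S : Set G)) {x : G} (hx : x ∈ A) : g * x * g⁻¹ ∈ A := by
  have h1 : g * x * g⁻¹ ∈ S := (mem_normalizer_iff.1 hg x).1 (hAS hx)
  rw [← hΩ _ h1, conj_pow, (hΩ x (hAS hx)).2 hx, mul_one, mul_inv_cancel]

theorem normalizer_le_normalizer_omega {p : ℕ} {S A : Subgroup G}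
    (hΩ : ∀ x ∈ S, x ^ p = 1 ↔ x ∈ A) (hAS : A ≤ S) :
    normalizer (S : Set G) ≤ normalizer (A : Set G) := by
  intro g hg
  rw [mem_normalizer_iff]
  intro x
  refine ⟨fun hx => conj_mem_omega hΩ hAS hg hx, fun hx => ?_⟩
  have := conj_mem_omega hΩ hAS (inv_mem hg) hx
  simpa [mul_assoc] using this

/-- steps 1 and 2 of `hard_kill` -/
theorem step12 {p : ℕ} [hp : Fact p.Prime] {S A K : Subgroup G}
    (hAS : A ≤ S) (hAc : Nat.card A = p ^ 2)
    (hKS : K ≤ normalizer (S : Set G)) (hKA : K ≤ normalizer (A : Set G))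
    (hNab : ∀ x ∈ normalizer (S : Set G), ∀ y ∈ normalizer (S : Set G),
      x * y * x⁻¹ * y⁻¹ ∈ centralizer (S : Set G))
    (hno : ¬ ∃ X : Subgroup G, X ≤ A ∧ Nat.card X = p ∧ K ≤ normalizer (X : Set G)) :
    (∀ g ∈ normalizer (S : Set G), g ∉ centralizer (A : Set G) →
        A ⊓ centralizer ({g} : Set G) = ⊥) ∧ ¬ K ≤ centralizer (S : Set G) := by
  constructor
  · intro g hg hgA
    have hK := le_normalizer_inf_centralizer S A K g hAS hKS hKA hg hNab
    rcases card_cases_of_le hp.out hAc (inf_le_left : A ⊓ centralizer ({g} : Set G) ≤ A)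
      with h | h | h
    · exact h
    · exact absurd ⟨_, inf_le_left, h, hK⟩ hno
    · exfalso
      apply hgA
      rw [mem_centralizer_iff]
      intro a ha
      have h1 : a ∈ A ⊓ centralizer ({g} : Set G) := by rw [h]; exact ha
      exact (mem_centralizer_iff.1 h1.2 g rfl).symm
  · intro hKC
    have hdvd : p ∣ Nat.card A := by rw [hAc]; exact dvd_pow_self p two_ne_zero
    obtain ⟨x, hx⟩ := exists_prime_orderOf_dvd_card' p hdvd
    apply hno
    refine ⟨zpowers (x : G), zpowers_le.2 x.2, ?_, ?_⟩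
    · rw [Nat.card_zpowers, Subgroup.orderOf_coe, hx]
    · refine hKC.trans ((Subgroup.centralizer_le ?_).trans
        (Subgroup.centralizer_le_normalizer _))
      intro y hy
      exact hAS (zpowers_le.2 x.2 hy)

/-- case (i): a normal `p`-complement of `T`, an abelian Sylow `p`-subgroup `S` of `T` and
`u ∈ T` normalizing `A ≤ S`: `u` centralizes `A`. -/
theorem comm_of_npc {p : ℕ} [Fact p.Prime] {T S A : Subgroup G} (hST : IsSylowIn p S T)
    (hSab : ∀ a ∈ S, ∀ b ∈ S, a * b = b * a) (hAS : A ≤ S)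
    (hnpc : Cfsg.HasNormalPComplement p ↥T) {u : G} (huT : u ∈ T)
    (huA : u ∈ normalizer (A : Set G)) {a : G} (ha : a ∈ A) : a * u = u * a := by
  obtain ⟨N', hNn, hNc⟩ := (Cfsg.Agent.Helper9.hasNormalPComplement_iff hST.toSylow).mp hnpc
  have hAT : A ≤ T := hAS.trans hST.1
  obtain ⟨⟨n, s⟩, hns, -⟩ := hNc.existsUnique (⟨u, huT⟩ : ↥T)
  have hsS : ((s : ↥T) : G) ∈ S := Subgroup.mem_subgroupOf.1 s.2
  have hu : u = ((n : ↥T) : G) * ((s : ↥T) : G) := by
    have := congrArg (fun x : ↥T => (x : G)) hns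
    simpa using this.symm
  set a' : ↥T := ⟨a, hAT ha⟩ with ha'
  have hc1 : (n : ↥T) * (a' * (n : ↥T)⁻¹ * a'⁻¹) ∈ N' :=
    N'.mul_mem n.2 (hNn.conj_mem _ (N'.inv_mem n.2) a')
  have hsa : ((s : ↥T) : G) * a = a * ((s : ↥T) : G) := hSab _ hsS _ (hAS ha)
  have hsa' : ((s : ↥T) : G) * a * ((s : ↥T) : G)⁻¹ = a := by rw [hsa, mul_inv_cancel_right]
  have hval : (((n : ↥T) * (a' * (n : ↥T)⁻¹ * a'⁻¹) : ↥T) : G) = u * a * u⁻¹ * a⁻¹ := by
    rw [hu]
    simp only [Subgroup.coe_mul, Subgroup.coe_inv, ha']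
    calc ((n : ↥T) : G) * (a * ((n : ↥T) : G)⁻¹ * a⁻¹)
        = ((n : ↥T) : G) * (((s : ↥T) : G) * a * ((s : ↥T) : G)⁻¹) * ((n : ↥T) : G)⁻¹ * a⁻¹ := by
          rw [hsa']; group
      _ = ((n : ↥T) : G) * ((s : ↥T) : G) * a * (((n : ↥T) : G) * ((s : ↥T) : G))⁻¹ * a⁻¹ := by
          group
  have hcA : u * a * u⁻¹ * a⁻¹ ∈ A :=
    A.mul_mem ((mem_normalizer_iff.1 huA a).1 ha) (A.inv_mem ha)
  have hc2 : (n : ↥T) * (a' * (n : ↥T)⁻¹ * a'⁻¹) ∈
      ((hST.toSylow : Sylow p ↥T) : Subgroup ↥T) := by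
    show _ ∈ S.subgroupOf T
    rw [Subgroup.mem_subgroupOf, hval]; exact hAS hcA
  have hc : (n : ↥T) * (a' * (n : ↥T)⁻¹ * a'⁻¹) = 1 := by
    have h := hNc.disjoint.le_bot ⟨hc1, hc2⟩
    exact Subgroup.mem_bot.1 h
  have h1 : u * a * u⁻¹ * a⁻¹ = 1 := by rw [← hval, hc]; rfl
  have h2 : u * a = a * u := by
    have h3 : u * a = (u * a * u⁻¹ * a⁻¹) * (a * u) := by group
    rw [h3, h1, one_mul]
  exact h2.symm

end Cfsg.Agent.Helper3.BG12HK
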