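import Mathlib
import Cfsg.Prelude.Def_OddOrderLocal
import Cfsg.Agent.Helper3.BG12HKa
import Cfsg.Agent.Helper3.BG12HKb
import Cfsg.Agent.Helper10.OmegaTwo
import Cfsg.Agent.Helper27.BG15A1
import Cfsg.Agent.Helper21.BG12f
import Cfsg.Agent.Helper9.BG12k
import Cfsg.Agent.Helper9.BG12n
import Cfsg.Agent.Helper16.BG11e
import Cfsg.Agent.S1350
import Cfsg.Agent.S1414
import Cfsg.Agent.S1417
import Cfsg.Agent.S1418
import Cfsg.Agent.S1427

/-!
# B&G 12.12, lemma `hard_kill` (request of helper18, msg 979)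

In case B of 12.12 (all `τ₂`-Sylow subgroups abelian): a `τ₁ ∪ τ₃`-subgroup `K` of the
complement `E` normalizes a subgroup of order `p` of `A = Ω₁(S)`.
-/

set_option autoImplicit false
set_option linter.unusedSectionVars false
set_option linter.unusedVariables false
set_option maxHeartbeats 1600000

namespace Cfsg.Agent.Helper3.BG12HK

open Subgroup Cfsg
open Cfsg.Agent.Helper14 (IsSylowIn cj exists_isSylowIn_ge)

universe u
variable {G : Type u} [Group G] [Finite G]

theorem hard_kill (hG : Cfsg.IsMinSimpleOddOrder G) {M : Subgroup G} (hM : IsCoatom M)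
    {E : Subgroup G} (hE : Cfsg.IsComplIn E (Cfsg.sigmaCore M) M)
    (hH : ∀ e ∈ E, e ≠ 1 → (∀ p, p.Prime → p ∣ orderOf e → p ∈ tau1 M ∪ tau3 M) →
      sigmaCore M ⊓ centralizer {e} = ⊥)
    (hMs : sigmaCore M ≠ ⊥) {p : ℕ} [Fact p.Prime] (hp : p ∈ tau2 M) {A : Subgroup G}
    (hA : A ≤ E ∧ IsElementaryAbelian p A ∧ Nat.card A = p ^ 2)
    (S : Sylow p G) (hSab : ∀ a ∈ S, ∀ b ∈ S, a * b = b * a) (hAS : A ≤ S)
    (hSE : (S : Subgroup G) ≤ E) (hES : E ≤ normalizer (S : Set G))
    (hNab : ∀ x ∈ normalizer (S : Set G), ∀ y ∈ normalizer (S : Set G),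
      x * y * x⁻¹ * y⁻¹ ∈ centralizer (S : Set G))
    {K : Subgroup G} (hKE : K ≤ E)
    (hKt : ∀ q, q.Prime → q ∣ Nat.card K → q ∈ tau1 M ∪ tau3 M) :
    ∃ X : Subgroup G, X ≤ A ∧ Nat.card X = p ∧ K ≤ normalizer (X : Set G) := by
  classical
  by_contra hno
  have hpP : p.Prime := Fact.out
  obtain ⟨hAE, hAe, hAc⟩ := hA
  have hEM : E ≤ M := hE.1
  have hAM : A ≤ M := hAE.trans hEM
  obtain ⟨S', hS'⟩ : ∃ S' : Subgroup G, S' = (S : Subgroup G) := ⟨_, rfl⟩
  have hS'p : IsPGroup p S' := hS' ▸ S.isPGroup'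
  have hS'max : ∀ Q : Subgroup G, IsPGroup p Q → S' ≤ Q → Q = S' := by
    intro Q hQ hle
    rw [hS'] at hle ⊢
    exact S.is_maximal' hQ hle
  have hSab' : ∀ a ∈ S', ∀ b ∈ S', a * b = b * a := by
    rw [hS']; exact hSab
  have hAS' : A ≤ S' := by rw [hS']; exact hAS
  have hSE' : S' ≤ E := by rw [hS']; exact hSE
  have hES' : E ≤ normalizer (S' : Set G) := by rw [hS']; exact hES
  have hNab' : ∀ x ∈ normalizer (S' : Set G), ∀ y ∈ normalizer (S' : Set G),
      x * y * x⁻¹ * y⁻¹ ∈ centralizer (S' : Set G) := by rw [hS']; exact hNab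
  clear hSab hAS hSE hES hNab
  have hSM : S' ≤ M := hSE'.trans hEM
  -- S1417, S1418 for M
  obtain ⟨hnil, hSyl, -, hCA, -, -⟩ :=
    Cfsg.Agent.S1417.result hG M hM p hp A ⟨hAM, hAe, hAc⟩
  obtain ⟨⟨hENA, -⟩, ⟨hCAle, hMNA, -⟩, -⟩ :=
    Cfsg.Agent.S1418.result hG M hM E hE p hp A ⟨hAE, hAe, hAc⟩
  have hSyM : IsSylowIn p S' M := ⟨hSM, hS'p, fun Q _ hQ hle => hS'max Q hQ hle⟩
  obtain ⟨hΩ, hNM⟩ : (∀ x ∈ S', x ^ p = 1 ↔ x ∈ A) ∧ ¬ normalizer (S' : Set G) ≤ M := by
    have h := (hSyl hSyM.toSylow).2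
    rw [hSyM.toSylow_map] at h
    exact h hAS'
  have hCAE : centralizer (A : Set G) ≤ E := by
    rw [← hMNA]; exact hCAle
  have hNSA : normalizer (S' : Set G) ≤ normalizer (A : Set G) :=
    normalizer_le_normalizer_omega hΩ hAS'
  have hKS : K ≤ normalizer (S' : Set G) := hKE.trans hES'
  have hKA : K ≤ normalizer (A : Set G) := hKE.trans hENA
  obtain ⟨lemC, hKC⟩ := step12 hAS' hAc hKS hKA hNab' hno
  have hpdA : p ∣ Nat.card A := by rw [hAc]; exact dvd_pow_self p two_ne_zero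
  have hp2 : p ≠ 2 := Cfsg.Agent.Lead.BG8.ne_two_of_dvd_card_of_odd hG.1 (F := A) hpdA
  have hA1 : A ≠ ⊥ := by
    intro h
    rw [h, Subgroup.card_bot] at hAc
    have : 1 < p ^ 2 := Nat.one_lt_pow two_ne_zero hpP.one_lt
    omega
  -- (F0)
  have F0 : ∀ g ∈ normalizer (S' : Set G), (orderOf g).Coprime p →
      g ∈ centralizer (A : Set G) → g ∈ centralizer (S' : Set G) := by
    intro g hg hcop hgA
    apply Cfsg.Agent.Helper10.mem_centralizer_of_centralizes_omega S' hS'p g hg hcop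
    intro x hx hx'
    rcases hx' with hx' | ⟨h2, -⟩
    · have hxA : x ∈ A := (hΩ x hx).1 hx'
      have := mem_centralizer_iff.1 hgA x hxA
      rw [← this, mul_inv_cancel_right]
    · exact absurd h2 hp2
  -- Step 1
  obtain ⟨u, huK, huC, q, k, hq, huo, huq⟩ :=
    exists_prime_pow_order K (centralizer (S' : Set G)) hKC
  have : Fact q.Prime := ⟨hq⟩
  have hu1 : u ≠ 1 := fun h => huC (h ▸ one_mem _)
  have hk0 : k ≠ 0 := by
    intro h; rw [h, pow_zero, orderOf_eq_one_iff] at huo; exact hu1 huo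
  have hqK : q ∣ Nat.card K := by
    have h1 : orderOf u ∣ Nat.card K := by
      have := orderOf_dvd_natCard (⟨u, huK⟩ : K)
      rwa [← Subgroup.orderOf_coe] at this
    exact (dvd_pow_self q hk0).trans (huo ▸ h1)
  have hq13 := hKt q hq hqK
  have hqσ : q ∉ sigma M := by
    rcases hq13 with h | h
    · exact h.2.1
    · exact h.2.1
  have hqr1 : PRankLE q 1 M := by
    rcases hq13 with h | h
    · exact h.2.2.2.2
    · exact h.2.2.2
  have hqp : q ≠ p := by rintro rfl; exact hp.2.2.2 hqr1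
  have hcopqp : Nat.Coprime q p := (Nat.coprime_primes hq hpP).2 hqp
  have huE : u ∈ E := hKE huK
  have huN : u ∈ normalizer (S' : Set G) := hES' huE
  have hcop : (orderOf u).Coprime p := by
    rw [huo]; exact Nat.Coprime.pow_left k hcopqp
  have huCA : u ∉ centralizer (A : Set G) := fun h => huC (F0 u huN hcop h)
  have hfixu : A ⊓ centralizer ({u} : Set G) = ⊥ := lemC u huN huCA
  have hHu : ∀ e ∈ zpowers u, e ≠ 1 → sigmaCore M ⊓ centralizer ({e} : Set G) = ⊥ := by
    intro e he he1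
    apply hH e (zpowers_le.2 huE he) he1
    intro r hr hrd
    have h1 : orderOf e ∣ orderOf u := orderOf_dvd_of_mem_zpowers he
    have h2 : r ∣ q ^ k := huo ▸ hrd.trans h1
    have h3 : r = q := (Nat.prime_dvd_prime_iff_eq hr hq).1 (hr.dvd_of_dvd_pow h2)
    rw [h3]; exact hq13
  -- Step 3: k ≥ 2
  have hk2 : 2 ≤ k := by
    by_contra hk
    have hk1 : k = 1 := by omega
    rw [hk1, pow_one] at huo
    obtain ⟨r, hr, hrd⟩ : ∃ r, r.Prime ∧ r ∣ Nat.card (sigmaCore M) := by
      apply Nat.exists_prime_and_dvd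
      intro h1
      exact hMs (Subgroup.eq_bot_of_card_eq _ h1)
    have : Fact r.Prime := ⟨hr⟩
    have hrσ : r ∈ sigma M := (Cfsg.Agent.S1350.result hG M hM).1.2.1 r hr hrd
    obtain ⟨Y, hYsyl, hYσ, hY1, hMY⟩ :=
      Cfsg.Agent.Helper21.BG12.exists_normal_sylow_of_nilpotent hG hM hnil hrσ
    have hrp : r ≠ p := by rintro rfl; exact hp.2.1 hrσ
    have hrq : r ≠ q := by rintro rfl; exact hqσ hrσ
    have hAY : A ≤ centralizer (Y : Set G) := by
      apply Cfsg.Agent.Helper27.BG15.frob_centralizes Y A (zpowers u) r hYsyl.2.1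
        (hAM.trans hMY) (zpowers_le.2 (hMY (hEM huE))) (zpowers_le.2 (hENA huE))
      · rw [hAc]; exact Nat.Coprime.pow_left 2 ((Nat.coprime_primes hpP hr).2 (Ne.symm hrp))
      · rw [Nat.card_zpowers, huo]; exact (Nat.coprime_primes hq hr).2 (Ne.symm hrq)
      · intro e he he1
        have hcard : Nat.card (zpowers u) = q := by rw [Nat.card_zpowers, huo]
        have h1 : (⟨u, mem_zpowers u⟩ : zpowers u) ∈ zpowers (⟨e, he⟩ : zpowers u) :=
          mem_zpowers_of_prime_card hcard (fun h => he1 (congrArg Subtype.val h))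
        obtain ⟨n, hn⟩ := mem_zpowers_iff.1 h1
        have hn' : e ^ n = u := by simpa using congrArg Subtype.val hn
        rw [eq_bot_iff, ← hfixu]
        intro x hx
        refine Subgroup.mem_inf.2 ⟨hx.1, ?_⟩
        rw [mem_centralizer_iff]
        intro y hy
        rw [Set.mem_singleton_iff.1 hy, ← hn']
        have hxe : e * x = x * e := mem_centralizer_iff.1 hx.2 e rfl
        exact ((Commute.zpow_left (show Commute e x from hxe) n)).eq
      · rw [eq_bot_iff, ← hHu u (mem_zpowers u) hu1]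
        intro x hx
        refine Subgroup.mem_inf.2 ⟨hYσ hx.1, ?_⟩
        rw [mem_centralizer_iff]
        intro y hy
        rw [Set.mem_singleton_iff.1 hy]
        exact mem_centralizer_iff.1 hx.2 u (mem_zpowers u)
    apply hY1
    rw [eq_bot_iff, ← hCA]
    intro y hy
    refine Subgroup.mem_inf.2 ⟨hYσ hy, ?_⟩
    rw [mem_centralizer_iff]
    intro a ha
    exact (mem_centralizer_iff.1 (hAY ha) y hy).symm
  -- the element z of order q in <u>
  obtain ⟨z, hz⟩ : ∃ z : G, z = u ^ (q ^ (k - 1)) := ⟨_, rfl⟩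
  have hzo : orderOf z = q := by
    have hd : q ^ (k - 1) ∣ orderOf u := by rw [huo]; exact pow_dvd_pow q (Nat.sub_le k 1)
    rw [hz, orderOf_pow_of_dvd (pow_ne_zero _ hq.ne_zero) hd, huo,
      Nat.pow_div (Nat.sub_le k 1) hq.pos]
    have : k - (k - 1) = 1 := by omega
    rw [this, pow_one]
  have hzu : z ∈ zpowers u := hz ▸ pow_mem (mem_zpowers u) _
  have hz1 : z ≠ 1 := by
    intro h
    rw [h, orderOf_one] at hzo
    exact hq.one_lt.ne hzo
  have hzC : z ∈ centralizer (S' : Set G) := by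
    have h1 : q ^ (k - 1) = q * q ^ (k - 2) := by
      rw [← pow_succ']; congr 1; omega
    rw [hz, h1, pow_mul]
    exact pow_mem huq _
  have hzE : z ∈ E := zpowers_le.2 huE hzu
  -- the maximal subgroup L ⊇ N(S)
  have hS1 : S' ≠ ⊥ := by
    intro h
    apply hA1
    rw [eq_bot_iff, ← h]; exact hAS'
  have hSt : S' ≠ ⊤ := fun h => hM.1 (top_le_iff.1 (h ▸ hSM))
  obtain ⟨L, hL, hNL⟩ := Cfsg.Agent.Helper21.BG10.exists_coatom_normalizer_le hG.2.1 hS1 hSt
  have hLM : L ≠ M := by rintro rfl; exact hNM hNL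
  have hSL : S' ≤ L := le_normalizer.trans hNL
  have hSyL : IsSylowIn p S' L := ⟨hSL, hS'p, fun Q _ hQ hle => hS'max Q hQ hle⟩
  have hpL : p ∈ sigma L := by
    refine ⟨hpP, ?_, hSyL.toSylow, ?_⟩
    · exact hpdA.trans (Subgroup.card_dvd_of_le (hAS'.trans hSL))
    · rw [hSyL.toSylow_map]; exact hNL
  have hSσL : S' ≤ sigmaCore L := by
    apply Cfsg.Agent.Helper21.BG12.le_sigmaCore_of_forall_mem hG hL hSL
    intro r hr hrd
    obtain ⟨n, hn⟩ := IsPGroup.iff_card.1 hS'p
    rw [hn] at hrd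
    rw [(Nat.prime_dvd_prime_iff_eq hr hpP).1 (hr.dvd_of_dvd_pow hrd)]
    exact hpL
  have huL : u ∈ L := hNL huN
  have hr2S : PRankLE p 2 ↥S' := by
    intro B hBc hBe
    have h1 : B.map S'.subtype ≤ A := by
      rintro _ ⟨b, hb, rfl⟩
      refine (hΩ _ b.2).1 ?_
      have := hBe b hb
      exact_mod_cast congrArg Subtype.val this
    calc Nat.card B = Nat.card (B.map S'.subtype) :=
          (Subgroup.card_map_of_injective S'.subtype_injective).symm
      _ ≤ Nat.card A := Subgroup.card_le_of_le h1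
      _ = p ^ 2 := hAc
  have hr2L : PRankLE p 2 ↥L := Cfsg.Agent.H9.BG12.pRankLE_of_isSylowIn hSyL hr2S
  have hpβ : p ∉ beta L := fun h => h.1.2 hr2L
  by_cases hqL : q ∈ sigma L
  · -- (i)
    have huσ : u ∈ sigmaCore L := by
      have h1 : zpowers u ≤ sigmaCore L := by
        apply Cfsg.Agent.Helper21.BG12.le_sigmaCore_of_forall_mem hG hL (zpowers_le.2 huL)
        intro r hr hrd
        rw [Nat.card_zpowers, huo] at hrd
        rw [(Nat.prime_dvd_prime_iff_eq hr hq).1 (hr.dvd_of_dvd_pow hrd)]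
        exact hqL
      exact h1 (mem_zpowers u)
    obtain ⟨-, hnpc, -⟩ := (Cfsg.Agent.S1414.result hG L hL).2.2.2.2 p hpP hpL.2.1 hpβ
    have hSyT : IsSylowIn p S' (sigmaCore L) :=
      ⟨hSσL, hS'p, fun Q _ hQ hle => hS'max Q hQ hle⟩
    apply huCA
    rw [mem_centralizer_iff]
    intro a ha
    exact comm_of_npc hSyT hSab' hAS' hnpc huσ (hENA huE) ha
  · -- q ∉ σ(L)
    have huq' : IsPGroup q (zpowers u) :=
      IsPGroup.of_card (n := k) (by rw [Nat.card_zpowers, huo])
    obtain ⟨U, hU, huU⟩ := exists_isSylowIn_ge (zpowers_le.2 huL) huq'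
    have hUσ : U ⊓ sigmaCore L = ⊥ := by
      by_contra hne
      have hqd : q ∣ Nat.card (U ⊓ sigmaCore L : Subgroup G) :=
        Cfsg.Agent.Helper21.BG12.dvd_card_of_isPGroup_ne_bot (hU.2.1.to_le inf_le_left) hne
      exact hqL ((Cfsg.Agent.S1350.result hG L hL).1.2.1 q hq
        (hqd.trans (Subgroup.card_dvd_of_le inf_le_right)))
    obtain ⟨Es, hEs, hUEs⟩ :=
      Cfsg.Agent.Helper21.BG12.exists_complIn_sigmaCore_ge hG hL hU.1 hUσ
    have huU' : u ∈ U := huU (mem_zpowers u)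
    have hzU : z ∈ U := huU hzu
    by_cases hr1L : PRankLE q 1 ↥L
    · -- (ii)
      have hUr1 : PRankLE q 1 ↥U :=
        Cfsg.Agent.Helper7.PRankLE.of_injective (Subgroup.inclusion hU.1)
          (Subgroup.inclusion_injective hU.1) hr1L
      have hUc : IsCyclic ↥U := Cfsg.Agent.H9.BG12.isCyclic_of_pRankLE_one hG hU.2.1 hUr1
      have hUE : IsSylowIn q U Es :=
        ⟨hUEs, hU.2.1, fun Q hQ hQq hle => hU.2.2 Q (hQ.trans hEs.1) hQq hle⟩
      have hQc : IsCyclic ↥((hUE.toSylow : Sylow q ↥Es) : Subgroup ↥Es) := by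
        have e := (((hUE.toSylow : Sylow q ↥Es) : Subgroup ↥Es).equivMapOfInjective Es.subtype
          Es.subtype_injective)
        rw [hUE.toSylow_map] at e
        exact isCyclic_of_surjective e.symm e.symm.surjective
      have hQ1 : ((hUE.toSylow : Sylow q ↥Es) : Subgroup ↥Es) ≠ ⊥ := by
        intro h
        have h2 := hUE.toSylow_map
        rw [h, Subgroup.map_bot] at h2
        rw [← h2, Subgroup.mem_bot] at huU'
        exact hu1 huU'
      have h27 := Cfsg.Agent.S1427.result hG L hL Es hEs q hUE.toSylow hQ1 hQc z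
        (by rw [hUE.toSylow_map]; exact hzU) hz1
      rw [hUE.toSylow_map] at h27
      apply huC
      rw [mem_centralizer_iff]
      intro s hs
      have hs1 : s ∈ sigmaCore L ⊓ centralizer ({z} : Set G) := by
        refine Subgroup.mem_inf.2 ⟨hSσL hs, ?_⟩
        rw [mem_centralizer_iff]
        intro y hy
        rw [Set.mem_singleton_iff.1 hy]
        exact (mem_centralizer_iff.1 hzC s hs).symm
      rw [h27] at hs1
      exact (mem_centralizer_iff.1 hs1.2 u huU').symm
    · -- (iii)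
      have hr2L' : PRankLE q 2 ↥L :=
        Cfsg.Agent.Helper4.BG10.sigma'_pRankLE_two hG (Cfsg.Agent.Helper21.BG12.uniq hG) hL hqL
      have hqτ2 : q ∈ tau2 L := ⟨hq, hqL, hr2L', hr1L⟩
      obtain ⟨As, hAsU, hAse, hAsc⟩ :=
        Cfsg.Agent.Helper21.BG12.exists_elementary_sq_le_sylow hr2L' hr1L hU
      have hAsEs : As ≤ Es := hAsU.trans hUEs
      have hAsL : As ≤ L := hAsU.trans hU.1
      obtain ⟨⟨-, hXAs⟩, -, -⟩ :=
        Cfsg.Agent.S1418.result hG L hL Es hEs q hqτ2 As ⟨hAsEs, hAse, hAsc⟩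
      obtain ⟨hnilL, hSylL, -⟩ :=
        Cfsg.Agent.S1417.result hG L hL q hqτ2 As ⟨hAsL, hAse, hAsc⟩
      have hzAs : z ∈ As := by
        have h1 : zpowers z ≤ As :=
          hXAs (zpowers z) (zpowers_le.2 (hUEs hzU)) (by rw [Nat.card_zpowers, hzo])
        exact h1 (mem_zpowers z)
      have hUab : ∀ x ∈ U, ∀ y ∈ U, x * y = y * x := by
        have h1 := (hSylL hU.toSylow).1
        intro x hx y hy
        have hxP : (⟨x, hU.1 hx⟩ : ↥L) ∈ ((hU.toSylow : Sylow q ↥L) : Subgroup ↥L) := by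
          show _ ∈ U.subgroupOf L
          rw [Subgroup.mem_subgroupOf]; exact hx
        have hyP : (⟨y, hU.1 hy⟩ : ↥L) ∈ ((hU.toSylow : Sylow q ↥L) : Subgroup ↥L) := by
          show _ ∈ U.subgroupOf L
          rw [Subgroup.mem_subgroupOf]; exact hy
        have h2 := mul_comm' (⟨_, hxP⟩ : ↥((hU.toSylow : Sylow q ↥L) : Subgroup ↥L)) ⟨_, hyP⟩
        exact congrArg (fun t : ↥((hU.toSylow : Sylow q ↥L) : Subgroup ↥L) => ((t : ↥L) : G)) h2
      obtain ⟨T, hT, -, -, hLT⟩ :=
        Cfsg.Agent.Helper21.BG12.exists_normal_sylow_of_nilpotent hG hL hnilL hpL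
      have hTS : T = S' := by
        have : Finite ↥L := inferInstance
        obtain ⟨g, hg, h⟩ := hT.exists_conj hSyL
        rw [h]
        exact (Cfsg.Agent.Helper14.mem_normalizer_iff_map_cj.1 (hLT hg)).symm
      have hLN : L ≤ normalizer (S' : Set G) := hTS ▸ hLT
      obtain ⟨a, haAs, haz⟩ : ∃ a ∈ As, a ∉ zpowers z := by
        by_contra hcon
        push Not at hcon
        have hle : As ≤ zpowers z := fun a ha => hcon a ha
        have h1 := Subgroup.card_le_of_le hle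
        rw [hAsc, Nat.card_zpowers, hzo] at h1
        nlinarith [hq.one_lt]
      have haU : a ∈ U := hAsU haAs
      have haN : a ∈ normalizer (S' : Set G) := hLN (hAsL haAs)
      have hau : a * u = u * a := hUab a haU u huU'
      have hAq : (Nat.card A).Coprime q := by
        rw [hAc]; exact Nat.Coprime.pow_left 2 hcopqp.symm
      have hCSA : centralizer (S' : Set G) ≤ centralizer (A : Set G) :=
        Subgroup.centralizer_le (by exact_mod_cast hAS')
      obtain ⟨j, hj, hne⟩ := two_commuting A q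
        (fun x hx y hy => hSab' x (hAS' hx) y (hAS' hy)) hA1 hAq a u (hNSA haN) (hENA huE) hau
        (by rw [hAse.2 a haAs]; exact one_mem _) (hCSA huq) hfixu
      have hgN : a * u ^ j ∈ normalizer (S' : Set G) := mul_mem haN (pow_mem huN j)
      have hgCA : a * u ^ j ∈ centralizer (A : Set G) := by
        by_contra h
        exact hne (lemC _ hgN h)
      have hgM : a * u ^ j ∈ M := hEM (hCAE hgCA)
      have haM : a ∈ M := by
        have h1 : u ^ j ∈ M := pow_mem (hEM huE) j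
        have h2 := mul_mem hgM (inv_mem h1)
        rwa [mul_inv_cancel_right] at h2
      have hAsi := Cfsg.Agent.Helper26.isElementaryAbelian_iff.mp hAse
      have hBe : IsElementaryAbelian q (As ⊓ M) := by
        rw [Cfsg.Agent.Helper26.isElementaryAbelian_iff]
        exact ⟨fun x hx y hy => hAsi.1 x hx.1 y hy.1, fun x hx => hAsi.2 x hx.1⟩
      have hBc := Cfsg.Agent.Helper16.BG11.card_le_of_pRankLE
        (inf_le_right : As ⊓ M ≤ M) hBe hqr1
      rw [pow_one] at hBc
      have hzB : zpowers z ≤ As ⊓ M := zpowers_le.2 ⟨hzAs, hEM hzE⟩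
      have hBeq : zpowers z = As ⊓ M :=
        Subgroup.eq_of_le_of_card_ge hzB (by rw [Nat.card_zpowers, hzo]; exact hBc)
      apply haz
      rw [hBeq]
      exact ⟨haAs, haM⟩

end Cfsg.Agent.Helper3.BG12HK
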