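import Mathlib
import Cfsg.Agent.Helper8.CarryTwist

/-!
Concrete model of the metacyclic group `⟨a, b | a^M, b^n = a^t, b a b⁻¹ = a^r⟩` on `ZMod M × ZMod n`.
-/

set_option autoImplicit false

namespace Cfsg.Agent.Helper3.Beyl

open Cfsg.Agent.Helper8.CarryTwist

theorem add_div_carry (a b n : ℕ) (hn : 0 < n) :
    (a + b) / n = a / n + b / n + (a % n + b % n) / n := by
  conv_lhs => rw [← Nat.div_add_mod a n, ← Nat.div_add_mod b n]
  rw [show n * (a / n) + a % n + (n * (b / n) + b % n)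
    = n * (a / n + b / n) + (a % n + b % n) by ring, Nat.mul_add_div hn]

/-- data of a metacyclic group -/
structure Dat where
  /-- order of the normal cyclic subgroup -/
  M : ℕ
  /-- order of the cyclic quotient -/
  n : ℕ
  /-- the action -/
  r : ℕ
  /-- the twist -/
  t : ℕ
  hM : 0 < M
  hn : 0 < n
  hr : r ^ n ≡ 1 [MOD M]
  ht : t * r ≡ t [MOD M]

namespace Dat

variable (D : Dat)

instance instNeZeroM : NeZero D.M := ⟨D.hM.ne'⟩
instance instNeZeroN : NeZero D.n := ⟨D.hn.ne'⟩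

/-- the action as a residue -/
def ρ : ZMod D.M := (D.r : ZMod D.M)
/-- the twist as a residue -/
def T : ZMod D.M := (D.t : ZMod D.M)

theorem ρ_pow_n : D.ρ ^ D.n = 1 := by
  have h := (ZMod.natCast_eq_natCast_iff _ _ _).2 D.hr
  rw [ρ]
  push_cast at h
  exact h

theorem T_mul_ρ : D.T * D.ρ = D.T := by
  have h := (ZMod.natCast_eq_natCast_iff _ _ _).2 D.ht
  rw [ρ, T]
  push_cast at h
  exact h

theorem T_mul_ρ_pow (k : ℕ) : D.T * D.ρ ^ k = D.T := by
  induction k with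
  | zero => simp
  | succ k ih => rw [pow_succ, ← mul_assoc, ih, T_mul_ρ]

theorem ρ_pow_mod (k : ℕ) : D.ρ ^ (k % D.n) = D.ρ ^ k :=
  (pow_eq_pow_mod k D.ρ_pow_n).symm

theorem ρ_pow_val_add (i j : ZMod D.n) : D.ρ ^ (i + j).val = D.ρ ^ i.val * D.ρ ^ j.val := by
  rw [ZMod.val_add, ρ_pow_mod, pow_add]

end Dat

/-- the metacyclic group on pairs -/
structure Meta (D : Dat) where
  /-- exponent of `a` -/
  x : ZMod D.M
  /-- exponent of `b` -/
  i : ZMod D.n

namespace Meta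

variable {D : Dat}

theorem ext' {a b : Meta D} (h1 : a.x = b.x) (h2 : a.i = b.i) : a = b := by
  cases a; cases b; simp_all

instance : Mul (Meta D) :=
  ⟨fun a b => ⟨a.x + D.ρ ^ a.i.val * b.x + D.T * (carry a.i b.i : ℕ), a.i + b.i⟩⟩
instance : One (Meta D) := ⟨⟨0, 0⟩⟩
instance : Inv (Meta D) :=
  ⟨fun a => ⟨-(D.ρ ^ (-a.i).val * a.x) - D.T * (carry (-a.i) a.i : ℕ), -a.i⟩⟩

theorem mul_x (a b : Meta D) :
    (a * b).x = a.x + D.ρ ^ a.i.val * b.x + D.T * (carry a.i b.i : ℕ) := rfl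
theorem mul_i (a b : Meta D) : (a * b).i = a.i + b.i := rfl
theorem one_x : (1 : Meta D).x = 0 := rfl
theorem one_i : (1 : Meta D).i = 0 := rfl
theorem inv_x (a : Meta D) :
    (a⁻¹).x = -(D.ρ ^ (-a.i).val * a.x) - D.T * (carry (-a.i) a.i : ℕ) := rfl
theorem inv_i (a : Meta D) : (a⁻¹).i = -a.i := rfl

instance : Group (Meta D) :=
  Group.ofLeftAxioms
    (by
      intro a b c
      apply ext'
      · rw [mul_x, mul_x, mul_x, mul_x, mul_i, mul_i]
        have h1 := D.ρ_pow_val_add a.i b.i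
        have h2 := D.T_mul_ρ_pow a.i.val
        have h3 : ((carry a.i b.i : ℕ) : ZMod D.M) + (carry (a.i + b.i) c.i : ℕ)
            = (carry b.i c.i : ℕ) + (carry a.i (b.i + c.i) : ℕ) := by
          have := congrArg (Nat.cast : ℕ → ZMod D.M) (carry_assoc a.i b.i c.i)
          push_cast at this
          exact this
        linear_combination c.x * h1 - (carry b.i c.i : ℕ) * h2 + D.T * h3
      · rw [mul_i, mul_i, mul_i, mul_i, add_assoc])
    (by
      intro a
      apply ext'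
      · rw [mul_x, one_x, one_i, ZMod.val_zero, pow_zero, carry_zero_left]
        simp
      · rw [mul_i, one_i, zero_add])
    (by
      intro a
      apply ext'
      · rw [mul_x, inv_x, inv_i, one_x]
        ring
      · rw [mul_i, inv_i, one_i, neg_add_cancel])

/-- pairs -/
def equivProd (D : Dat) : Meta D ≃ ZMod D.M × ZMod D.n where
  toFun a := (a.x, a.i)
  invFun p := ⟨p.1, p.2⟩
  left_inv _ := rfl
  right_inv _ := rfl

instance : Finite (Meta D) := Finite.of_equiv _ (equivProd D).symm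

theorem card_eq (D : Dat) : Nat.card (Meta D) = D.M * D.n := by
  rw [Nat.card_congr (equivProd D), Nat.card_prod, Nat.card_eq_fintype_card, ZMod.card,
    Nat.card_eq_fintype_card, ZMod.card]

theorem mk_zero_mul (x y : ZMod D.M) (j : ZMod D.n) :
    (⟨x, 0⟩ : Meta D) * ⟨y, j⟩ = ⟨x + y, j⟩ := by
  apply ext'
  · rw [mul_x]
    simp [carry_zero_left]
  · rw [mul_i]; simp

theorem mul_mk_zero (x y : ZMod D.M) (i : ZMod D.n) :
    (⟨x, i⟩ : Meta D) * ⟨y, 0⟩ = ⟨x + D.ρ ^ i.val * y, i⟩ := by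
  apply ext'
  · rw [mul_x]
    simp [carry_zero_right]
  · rw [mul_i]; simp

/-- the generator of the normal cyclic subgroup -/
def α (D : Dat) : Meta D := ⟨1, 0⟩
/-- the other generator -/
def β (D : Dat) : Meta D := ⟨D.T * ((1 / D.n : ℕ) : ZMod D.M), 1⟩

theorem α_pow (k : ℕ) : (α D) ^ k = ⟨(k : ZMod D.M), 0⟩ := by
  induction k with
  | zero => simp; rfl
  | succ k ih =>
    rw [pow_succ, ih, α, mk_zero_mul]
    push_cast
    rfl

theorem α_pow_eq_one_iff (k : ℕ) : (α D) ^ k = 1 ↔ D.M ∣ k := by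
  rw [α_pow, ← ZMod.natCast_eq_zero_iff]
  constructor
  · intro h
    have := congrArg Meta.x h
    exact this
  · intro h
    rw [h]; rfl

theorem orderOf_α : orderOf (α D) = D.M := by
  apply Nat.dvd_antisymm
  · exact orderOf_dvd_of_pow_eq_one ((α_pow_eq_one_iff _).2 dvd_rfl)
  · exact (α_pow_eq_one_iff _).1 (pow_orderOf_eq_one _)

theorem β_pow (k : ℕ) : (β D) ^ k = ⟨D.T * ((k / D.n : ℕ) : ZMod D.M), (k : ZMod D.n)⟩ := by
  induction k with
  | zero => simp; rfl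
  | succ k ih =>
    rw [pow_succ, ih, β]
    apply ext'
    · rw [mul_x]
      simp only
      have h2 := D.T_mul_ρ_pow (k : ZMod D.n).val
      have h3 : (k + 1) / D.n = k / D.n + 1 / D.n + carry (k : ZMod D.n) (1 : ZMod D.n) := by
        rw [carry, ZMod.val_natCast, ZMod.val_one_eq_one_mod]
        exact add_div_carry k 1 D.n D.hn
      rw [h3]
      push_cast
      linear_combination ((1 / D.n : ℕ) : ZMod D.M) * h2
    · rw [mul_i]
      push_cast
      rfl

theorem normal_form (a : Meta D) : a = (α D) ^ a.x.val * (β D) ^ a.i.val := by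
  rw [α_pow, β_pow, ZMod.natCast_zmod_val, ZMod.natCast_zmod_val,
    Nat.div_eq_of_lt (ZMod.val_lt _), mk_zero_mul]
  simp

theorem α_pow_M : (α D) ^ D.M = 1 := (α_pow_eq_one_iff _).2 dvd_rfl

theorem β_pow_n (t' : ℕ) (ht' : (t' : ZMod D.M) = D.T) : (β D) ^ D.n = (α D) ^ t' := by
  rw [β_pow, α_pow, Nat.div_self D.hn, ht']
  simp

theorem β_mul_α (r' : ℕ) (hr' : (r' : ZMod D.M) = D.ρ) : β D * α D = (α D) ^ r' * β D := by
  rw [α_pow, β, mk_zero_mul, α, mul_mk_zero, hr', ZMod.val_one_eq_one_mod, D.ρ_pow_mod]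
  apply ext'
  · simp only; ring
  · rfl

theorem β_conj_α (r' : ℕ) (hr' : (r' : ZMod D.M) = D.ρ) :
    β D * α D * (β D)⁻¹ = (α D) ^ r' := by
  rw [β_mul_α r' hr', mul_inv_cancel_right]

theorem closure_eq_top (D : Dat) : Subgroup.closure ({α D, β D} : Set (Meta D)) = ⊤ := by
  rw [eq_top_iff]
  intro a _
  rw [normal_form a]
  exact Subgroup.mul_mem _ (Subgroup.pow_mem _ (Subgroup.subset_closure (by simp)) _)
    (Subgroup.pow_mem _ (Subgroup.subset_closure (by simp)) _)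

open scoped commutatorElement in
theorem α_pow_pred_mem_commutator (r' : ℕ) (hr0 : 0 < r') (hr' : (r' : ZMod D.M) = D.ρ) :
    (α D) ^ (r' - 1) ∈ commutator (Meta D) := by
  have h : ⁅β D, α D⁆ = (α D) ^ (r' - 1) := by
    rw [commutatorElement_def, β_conj_α r' hr']
    obtain ⟨k, rfl⟩ : ∃ k, r' = k + 1 := ⟨r' - 1, by omega⟩
    rw [Nat.add_sub_cancel, pow_succ, mul_inv_cancel_right]
  rw [← h]
  exact Subgroup.commutator_mem_commutator (Subgroup.mem_top _) (Subgroup.mem_top _)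

theorem mem_center_of (x : ZMod D.M) (hx : D.ρ * x = x) :
    (⟨x, 0⟩ : Meta D) ∈ Subgroup.center (Meta D) := by
  rw [Subgroup.mem_center_iff]
  intro g
  have hk : ∀ k : ℕ, D.ρ ^ k * x = x := by
    intro k
    induction k with
    | zero => simp
    | succ k ih => rw [pow_succ, mul_assoc, hx, ih]
  obtain ⟨y, j⟩ := g
  rw [mk_zero_mul, mul_mk_zero, hk, add_comm]

end Meta

/-- reduce the modulus -/
def Dat.red (D : Dat) (M' : ℕ) (h0 : 0 < M') (h : M' ∣ D.M) : Dat :=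
  ⟨M', D.n, D.r, D.t, h0, D.hn, D.hr.of_dvd h, D.ht.of_dvd h⟩

namespace Meta

variable {D : Dat}

theorem red_ρ (M' : ℕ) (h0 : 0 < M') (h : M' ∣ D.M) :
    (D.red M' h0 h).ρ = ZMod.castHom h (ZMod M') D.ρ := by
  rw [Dat.ρ, Dat.ρ, map_natCast]; rfl

theorem red_T (M' : ℕ) (h0 : 0 < M') (h : M' ∣ D.M) :
    (D.red M' h0 h).T = ZMod.castHom h (ZMod M') D.T := by
  rw [Dat.T, Dat.T, map_natCast]; rfl

/-- reduction of the modulus as a homomorphism -/
def redHom (D : Dat) (M' : ℕ) (h0 : 0 < M') (h : M' ∣ D.M) : Meta D →* Meta (D.red M' h0 h) where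
  toFun a := ⟨ZMod.castHom h (ZMod M') a.x, a.i⟩
  map_one' := by
    apply ext'
    · change ZMod.castHom h (ZMod M') (0 : ZMod D.M) = 0
      rw [map_zero]
    · rfl
  map_mul' a b := by
    apply ext'
    · rw [mul_x, mul_x, red_ρ, red_T]
      simp only [map_add, map_mul, map_pow, map_natCast]
      rfl
    · rfl

theorem redHom_x (M' : ℕ) (h0 : 0 < M') (h : M' ∣ D.M) (a : Meta D) :
    (redHom D M' h0 h a).x = ZMod.castHom h (ZMod M') a.x := rfl

theorem redHom_i (M' : ℕ) (h0 : 0 < M') (h : M' ∣ D.M) (a : Meta D) :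
    (redHom D M' h0 h a).i = a.i := rfl

theorem redHom_surjective (M' : ℕ) (h0 : 0 < M') (h : M' ∣ D.M) :
    Function.Surjective (redHom D M' h0 h) := by
  intro b
  refine ⟨⟨((b.x.val : ℕ) : ZMod D.M), b.i⟩, ?_⟩
  apply ext'
  · rw [redHom_x]
    simp only [map_natCast]
    haveI : NeZero M' := ⟨h0.ne'⟩
    exact ZMod.natCast_zmod_val (n := M') b.x
  · rfl

theorem mem_ker_redHom (M' : ℕ) (h0 : 0 < M') (h : M' ∣ D.M) (a : Meta D)
    (ha : a ∈ (redHom D M' h0 h).ker) : ∃ k : ℕ, a = (α D) ^ (M' * k) := by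
  rw [MonoidHom.mem_ker] at ha
  have h1 : ZMod.castHom h (ZMod M') a.x = 0 := congrArg Meta.x ha
  have h2 : a.i = 0 := congrArg Meta.i ha
  rw [ZMod.castHom_apply, ZMod.cast_eq_val, ZMod.natCast_eq_zero_iff] at h1
  obtain ⟨k, hk⟩ := h1
  refine ⟨k, ?_⟩
  rw [α_pow, ← hk, ZMod.natCast_zmod_val]
  exact ext' rfl h2

theorem α_pow_mem_ker_redHom (M' : ℕ) (h0 : 0 < M') (h : M' ∣ D.M) (k : ℕ) :
    (α D) ^ (M' * k) ∈ (redHom D M' h0 h).ker := by
  rw [MonoidHom.mem_ker, α_pow]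
  apply ext'
  · rw [redHom_x]
    simp only [map_natCast]
    push_cast
    rw [ZMod.natCast_self]
    simp
    rfl
  · rfl

theorem ker_redHom_le_center (M' : ℕ) (h0 : 0 < M') (h : M' ∣ D.M)
    (hc : D.ρ * (M' : ZMod D.M) = (M' : ZMod D.M)) :
    (redHom D M' h0 h).ker ≤ Subgroup.center (Meta D) := by
  intro a ha
  obtain ⟨k, rfl⟩ := mem_ker_redHom M' h0 h a ha
  rw [α_pow]
  apply mem_center_of
  push_cast
  rw [← mul_assoc, hc]

theorem redHom_α (M' : ℕ) (h0 : 0 < M') (h : M' ∣ D.M) :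
    redHom D M' h0 h (α D) = α (D.red M' h0 h) := by
  apply ext'
  · rw [redHom_x]
    change ZMod.castHom h (ZMod M') (1 : ZMod D.M) = 1
    rw [map_one]
  · rfl

theorem redHom_β (M' : ℕ) (h0 : 0 < M') (h : M' ∣ D.M) :
    redHom D M' h0 h (β D) = β (D.red M' h0 h) := by
  apply ext'
  · rw [redHom_x]
    change ZMod.castHom h (ZMod M') (D.T * ((1 / D.n : ℕ) : ZMod D.M)) = _
    rw [map_mul, map_natCast, ← red_T M' h0 h]
    rfl
  · rfl

end Meta

theorem pow_gcd_mem {G : Type*} [Group G] (H : Subgroup G) (x : G) (M a : ℕ) (hM : x ^ M = 1)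
    (ha : x ^ a ∈ H) : x ^ (Nat.gcd M a) ∈ H := by
  have h := Nat.gcd_eq_gcd_ab M a
  rw [← zpow_natCast, h, zpow_add, zpow_mul, zpow_mul, zpow_natCast, zpow_natCast, hM, one_zpow,
    one_mul]
  exact H.zpow_mem ha _

end Cfsg.Agent.Helper3.Beyl
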