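import Mathlib
import Cfsg.Agent.Helper3.BeylA

/-!
The presented metacyclic group is isomorphic to the concrete model.
-/

set_option autoImplicit false

namespace Cfsg.Agent.Helper3.Beyl

section abstract

variable {G : Type*} [Group G] (a b : G) (m n r t : ℕ)

theorem conj_pow_of (h3 : b * a * b⁻¹ = a ^ r) (x : ℕ) : b * a ^ x = a ^ (r * x) * b := by
  have : b * a ^ x * b⁻¹ = a ^ (r * x) := by
    rw [← conj_pow, h3, pow_mul]
  rw [← this, inv_mul_cancel_right]

/-- normal form in an abstract metacyclic group -/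
theorem exists_normal_form (hm : 0 < m) (hn : 0 < n)
    (hgen : Subgroup.closure ({a, b} : Set G) = ⊤)
    (h1 : a ^ m = 1) (h2 : b ^ n = a ^ t) (h3 : b * a * b⁻¹ = a ^ r) (g : G) :
    ∃ x < m, ∃ i < n, g = a ^ x * b ^ i := by
  -- the set of normal forms
  let S : Set G := {g | ∃ x i : ℕ, g = a ^ x * b ^ i}
  have ha : ∀ s ∈ S, a * s ∈ S := by
    rintro _ ⟨x, i, rfl⟩
    exact ⟨x + 1, i, by rw [pow_succ']; group⟩
  have hb : ∀ s ∈ S, b * s ∈ S := by
    rintro _ ⟨x, i, rfl⟩
    refine ⟨r * x, i + 1, ?_⟩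
    rw [← mul_assoc, conj_pow_of a b r h3, mul_assoc, ← pow_succ']
  have hpow : ∀ (c : G), (∀ s ∈ S, c * s ∈ S) → ∀ k : ℕ, ∀ s ∈ S, c ^ k * s ∈ S := by
    intro c hc k
    induction k with
    | zero => intro s hs; simpa using hs
    | succ k ih =>
      intro s hs
      rw [pow_succ', mul_assoc]
      exact hc _ (ih s hs)
  have hainv : ∀ s ∈ S, a⁻¹ * s ∈ S := by
    have e : a⁻¹ = a ^ (m - 1) := by
      rw [inv_eq_iff_mul_eq_one, ← pow_succ', Nat.sub_add_cancel hm, h1]
    rw [e]
    exact hpow a ha _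
  have hbinv : ∀ s ∈ S, b⁻¹ * s ∈ S := by
    have hbo : b ^ (n * m) = 1 := by rw [pow_mul, h2, ← pow_mul, mul_comm, pow_mul, h1, one_pow]
    have e : b⁻¹ = b ^ (n * m - 1) := by
      rw [inv_eq_iff_mul_eq_one, ← pow_succ', Nat.sub_add_cancel (Nat.mul_pos hn hm), hbo]
    rw [e]
    exact hpow b hb _
  have key : ∀ g ∈ Subgroup.closure ({a, b} : Set G),
      (∀ s ∈ S, g * s ∈ S) ∧ (∀ s ∈ S, g⁻¹ * s ∈ S) := by
    intro g hg
    induction hg using Subgroup.closure_induction with
    | mem x hx =>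
      rcases hx with rfl | rfl
      · exact ⟨ha, hainv⟩
      · exact ⟨hb, hbinv⟩
    | one => simp
    | mul x y _ _ hx hy =>
      refine ⟨fun s hs => ?_, fun s hs => ?_⟩
      · rw [mul_assoc]; exact hx.1 _ (hy.1 s hs)
      · rw [mul_inv_rev, mul_assoc]; exact hy.2 _ (hx.2 s hs)
    | inv x _ hx =>
      refine ⟨hx.2, ?_⟩
      rw [inv_inv]; exact hx.1
  have hg : g ∈ S := by
    have := (key g (by rw [hgen]; trivial)).1 1 ⟨0, 0, by simp⟩
    simpa using this
  obtain ⟨x, i, rfl⟩ := hg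
  refine ⟨(x + t * (i / n)) % m, Nat.mod_lt _ hm, i % n, Nat.mod_lt _ hn, ?_⟩
  have e1 : b ^ i = a ^ (t * (i / n)) * b ^ (i % n) := by
    conv_lhs => rw [← Nat.div_add_mod i n]
    rw [pow_add, pow_mul, h2, ← pow_mul]
  rw [e1, ← mul_assoc, ← pow_add, ← pow_eq_pow_mod _ h1]

end abstract

/-- the relators -/
def rels (m n r t : ℕ) : Set (FreeGroup Bool) :=
  {FreeGroup.of true ^ m, (FreeGroup.of false) ^ n * (FreeGroup.of true ^ t)⁻¹,
    FreeGroup.of false * FreeGroup.of true * (FreeGroup.of false)⁻¹ * (FreeGroup.of true ^ r)⁻¹}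

/-- the presented metacyclic group -/
abbrev PG (m n r t : ℕ) : Type := PresentedGroup (rels m n r t)

section pres

variable (m n r t : ℕ)

/-- first generator -/
def ga : PG m n r t := PresentedGroup.of true
/-- second generator -/
def gb : PG m n r t := PresentedGroup.of false

theorem ga_pow : ga m n r t ^ m = 1 := by
  have h : PresentedGroup.mk (rels m n r t) (FreeGroup.of true ^ m) = 1 :=
    PresentedGroup.one_of_mem (by simp [rels])
  rw [map_pow] at h
  exact h

theorem gb_pow : gb m n r t ^ n = ga m n r t ^ t := by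
  have h : PresentedGroup.mk (rels m n r t)
      ((FreeGroup.of false) ^ n * (FreeGroup.of true ^ t)⁻¹) = 1 :=
    PresentedGroup.one_of_mem (by simp [rels])
  rw [map_mul, map_inv, map_pow, map_pow, mul_inv_eq_one] at h
  exact h

theorem gb_conj : gb m n r t * ga m n r t * (gb m n r t)⁻¹ = ga m n r t ^ r := by
  have h : PresentedGroup.mk (rels m n r t)
      (FreeGroup.of false * FreeGroup.of true * (FreeGroup.of false)⁻¹ *
        (FreeGroup.of true ^ r)⁻¹) = 1 :=
    PresentedGroup.one_of_mem (by simp [rels])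
  rw [map_mul, map_inv, map_pow, map_mul, map_mul, map_inv, mul_inv_eq_one] at h
  exact h

theorem closure_ga_gb : Subgroup.closure ({ga m n r t, gb m n r t} : Set (PG m n r t)) = ⊤ := by
  rw [← PresentedGroup.closure_range_of (rels m n r t)]
  congr 1
  ext g
  constructor
  · rintro (rfl | rfl)
    · exact ⟨true, rfl⟩
    · exact ⟨false, rfl⟩
  · rintro ⟨c, rfl⟩
    cases c
    · right; rfl
    · left; rfl

end pres

section iso

variable (D : Dat) (r' t' : ℕ) (hr' : (r' : ZMod D.M) = D.ρ) (ht' : (t' : ZMod D.M) = D.T)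

/-- images of the generators -/
def gens (D : Dat) : Bool → Meta D := fun c => bif c then Meta.α D else Meta.β D

include hr' ht' in
theorem gens_rels : ∀ w ∈ rels D.M D.n r' t', FreeGroup.lift (gens D) w = 1 := by
  intro w hw
  rcases hw with rfl | rfl | rfl
  · rw [map_pow, FreeGroup.lift_apply_of]
    exact Meta.α_pow_M
  · rw [map_mul, map_inv, map_pow, map_pow, FreeGroup.lift_apply_of, FreeGroup.lift_apply_of,
      mul_inv_eq_one]
    exact Meta.β_pow_n t' ht'
  · rw [map_mul, map_inv, map_pow, map_mul, map_mul, map_inv, FreeGroup.lift_apply_of,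
      FreeGroup.lift_apply_of, mul_inv_eq_one]
    exact Meta.β_conj_α r' hr'

/-- the comparison homomorphism -/
def toMeta : PG D.M D.n r' t' →* Meta D := PresentedGroup.toGroup (gens_rels D r' t' hr' ht')

theorem toMeta_ga : toMeta D r' t' hr' ht' (ga D.M D.n r' t') = Meta.α D :=
  PresentedGroup.toGroup.of _

theorem toMeta_gb : toMeta D r' t' hr' ht' (gb D.M D.n r' t') = Meta.β D :=
  PresentedGroup.toGroup.of _

theorem toMeta_bijective : Function.Bijective (toMeta D r' t' hr' ht') := by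
  have hnf := exists_normal_form (ga D.M D.n r' t') (gb D.M D.n r' t') D.M D.n r' t' D.hM D.hn
    (closure_ga_gb _ _ _ _) (ga_pow _ _ _ _) (gb_pow _ _ _ _) (gb_conj _ _ _ _)
  have himg : ∀ x i : ℕ, toMeta D r' t' hr' ht' (ga D.M D.n r' t' ^ x * gb D.M D.n r' t' ^ i)
      = Meta.α D ^ x * Meta.β D ^ i := by
    intro x i
    rw [map_mul, map_pow, map_pow, toMeta_ga, toMeta_gb]
  constructor
  · intro g g' h
    obtain ⟨x, hx, i, hi, rfl⟩ := hnf g
    obtain ⟨x', hx', i', hi', rfl⟩ := hnf g'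
    rw [himg, himg, Meta.α_pow, Meta.α_pow, Meta.β_pow, Meta.β_pow, Meta.mk_zero_mul,
      Meta.mk_zero_mul] at h
    have h2 : ((i : ℕ) : ZMod D.n) = (i' : ℕ) := congrArg Meta.i h
    have h2' : i = i' := by
      have := congrArg ZMod.val h2
      rwa [ZMod.val_natCast_of_lt hi, ZMod.val_natCast_of_lt hi'] at this
    subst h2'
    have h1 : ((x : ℕ) : ZMod D.M) + D.T * ((i / D.n : ℕ) : ZMod D.M)
        = (x' : ℕ) + D.T * ((i / D.n : ℕ) : ZMod D.M) := congrArg Meta.x h
    have h1' : x = x' := by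
      have := congrArg ZMod.val (add_right_cancel h1)
      rwa [ZMod.val_natCast_of_lt hx, ZMod.val_natCast_of_lt hx'] at this
    subst h1'
    rfl
  · intro y
    refine ⟨ga D.M D.n r' t' ^ y.x.val * gb D.M D.n r' t' ^ y.i.val, ?_⟩
    rw [himg, ← Meta.normal_form]

/-- the presented group is the model -/
noncomputable def equivMeta : PG D.M D.n r' t' ≃* Meta D :=
  MulEquiv.ofBijective (toMeta D r' t' hr' ht') (toMeta_bijective D r' t' hr' ht')

theorem equivMeta_ga : equivMeta D r' t' hr' ht' (ga D.M D.n r' t') = Meta.α D :=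
  toMeta_ga D r' t' hr' ht'

theorem equivMeta_gb : equivMeta D r' t' hr' ht' (gb D.M D.n r' t') = Meta.β D :=
  toMeta_gb D r' t' hr' ht'

end iso

end Cfsg.Agent.Helper3.Beyl
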