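import Mathlib
import Cfsg.Prelude.Def_KGroupFacts
import Cfsg.Agent.Helper20.StemGen

/-!
Upper bound for the multiplier of a metacyclic group (Beyl).
-/

set_option autoImplicit false

namespace Cfsg.Agent.Helper3.Beyl

open scoped commutatorElement

section comm

variable {C : Type*} [CommGroup C]

theorem comm_key (z₁ z₂ : C) (m s e r1 : ℕ) (hm : 0 < m) (hme : m * e = r1 * s)
    (R1 : z₂ ^ m * z₁ ^ r1 = 1) (R2 : z₂ ^ s * z₁ ^ e = 1) :
    (z₂ ^ (m / Nat.gcd m r1) * z₁ ^ (r1 / Nat.gcd m r1)) ^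
      (Nat.gcd m r1 * Nat.gcd m s / m) = 1 := by
  have hdpos : 0 < Nat.gcd m r1 := Nat.gcd_pos_of_pos_left _ hm
  have hmdg : m ∣ Nat.gcd m r1 * Nat.gcd m s := by
    rw [Nat.dvd_gcd_mul_gcd_iff_dvd_mul]; exact ⟨e, hme.symm⟩
  have hbez := Nat.gcd_eq_gcd_ab m s
  generalize Nat.gcdA m s = u at hbez
  generalize Nat.gcdB m s = v at hbez
  generalize Nat.gcd m s = g at *
  obtain ⟨m', hm'⟩ : Nat.gcd m r1 ∣ m := Nat.gcd_dvd_left _ _
  obtain ⟨r1', hr1'⟩ : Nat.gcd m r1 ∣ r1 := Nat.gcd_dvd_right _ _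
  generalize Nat.gcd m r1 = d at *
  obtain ⟨h, hh⟩ := hmdg
  have hdiv : d * g / m = h := by rw [hh]; exact Nat.mul_div_cancel_left _ hm
  have e1 : m / d = m' := by rw [hm']; exact Nat.mul_div_cancel_left _ hdpos
  have e2 : r1 / d = r1' := by rw [hr1']; exact Nat.mul_div_cancel_left _ hdpos
  rw [hdiv, e1, e2]
  have e3 : m' * h = g := by
    apply Nat.eq_of_mul_eq_mul_left hdpos
    rw [← mul_assoc, ← hm', ← hh]
  have key : ((r1' * h : ℕ) : ℤ) = r1 * u + e * v := by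
    have hmz : (m : ℤ) ≠ 0 := by exact_mod_cast hm.ne'
    apply mul_left_cancel₀ hmz
    have a1 : (m : ℤ) = d * m' := by exact_mod_cast hm'
    have a2 : (r1 : ℤ) = d * r1' := by exact_mod_cast hr1'
    have a3 : (d : ℤ) * g = m * h := by exact_mod_cast hh
    have a4 : (m : ℤ) * e = r1 * s := by exact_mod_cast hme
    push_cast
    calc (m : ℤ) * (r1' * h) = r1' * (m * h) := by ring
      _ = r1' * (d * g) := by rw [a3]
      _ = r1 * g := by rw [a2]; ring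
      _ = r1 * (m * u + s * v) := by rw [hbez]
      _ = m * (r1 * u) + (r1 * s) * v := by ring
      _ = m * (r1 * u) + (m * e) * v := by rw [a4]
      _ = m * (r1 * u + e * v) := by ring
  have R1' : z₂ ^ (m : ℤ) = z₁ ^ (-(r1 : ℤ)) := by
    rw [zpow_neg, zpow_natCast, zpow_natCast]; exact eq_inv_of_mul_eq_one_left R1
  have R2' : z₂ ^ (s : ℤ) = z₁ ^ (-(e : ℤ)) := by
    rw [zpow_neg, zpow_natCast, zpow_natCast]; exact eq_inv_of_mul_eq_one_left R2
  rw [mul_pow, ← pow_mul, ← pow_mul, e3, ← zpow_natCast z₂ g, hbez, zpow_add, zpow_mul, zpow_mul,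
    R1', R2', ← zpow_natCast z₁ (r1' * h), key, ← zpow_mul, ← zpow_mul, ← zpow_add, ← zpow_add]
  convert zpow_zero z₁ using 2
  ring

end comm

section grp

variable {Γ : Type*} [Group Γ]

theorem conj_mem_zpowers (g c : Γ) (h : g * c * g⁻¹ ∈ Subgroup.zpowers c) :
    ∀ x, x ∈ (Subgroup.zpowers c : Set Γ) → g * x * g⁻¹ ∈ (Subgroup.zpowers c : Set Γ) := by
  rintro x ⟨k, rfl⟩
  change g * c ^ k * g⁻¹ ∈ Subgroup.zpowers c
  rw [← conj_zpow]
  exact Subgroup.zpow_mem _ h k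

variable (A B z₂ : Γ) (r : ℕ) (hz : z₂ ∈ Subgroup.center Γ) (hBA : B * A * B⁻¹ = z₂ * A ^ r)

include hz in
theorem z_comm (x : Γ) : Commute z₂ x := (Subgroup.mem_center_iff.1 hz x).symm

include hz hBA in
theorem conj_A_pow (k : ℕ) : B * A ^ k * B⁻¹ = z₂ ^ k * A ^ (r * k) := by
  rw [← conj_pow, hBA, (z_comm z₂ hz (A ^ r)).mul_pow, pow_mul]

include hz hBA in
theorem conj_iter (k : ℕ) :
    B ^ k * A * (B ^ k)⁻¹ = z₂ ^ (∑ i ∈ Finset.range k, r ^ i) * A ^ (r ^ k) := by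
  induction k with
  | zero => simp
  | succ k ih =>
    have e : B ^ (k + 1) * A * (B ^ (k + 1))⁻¹ = B * (B ^ k * A * (B ^ k)⁻¹) * B⁻¹ := by
      rw [pow_succ']; group
    rw [e, ih]
    have e2 : B * (z₂ ^ (∑ i ∈ Finset.range k, r ^ i) * A ^ r ^ k) * B⁻¹
        = z₂ ^ (∑ i ∈ Finset.range k, r ^ i) * (B * A ^ r ^ k * B⁻¹) := by
      have := (z_comm z₂ hz B).pow_left (∑ i ∈ Finset.range k, r ^ i)
      rw [← mul_assoc, ← this.eq]; group
    rw [e2, conj_A_pow A B z₂ r hz hBA, ← mul_assoc, ← pow_add, Finset.sum_range_succ, pow_succ']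

/-- the basic commutator -/
def cc : Γ := z₂ * A ^ (r - 1)

include hz in
theorem cc_pow (k : ℕ) : cc A z₂ r ^ k = z₂ ^ k * A ^ ((r - 1) * k) := by
  rw [cc, (z_comm z₂ hz _).mul_pow, pow_mul]

include hBA in
theorem comm_eq_cc (hr : 0 < r) : ⁅B, A⁆ = cc A z₂ r := by
  rw [commutatorElement_def, hBA, cc]
  obtain ⟨k, rfl⟩ : ∃ k, r = k + 1 := ⟨r - 1, by omega⟩
  rw [Nat.add_sub_cancel, pow_succ, mul_assoc, mul_inv_cancel_right]

include hz hBA in
theorem cc_pow_eq_one (hr : 0 < r) (k : ℕ) (h : B * A ^ k * B⁻¹ = A ^ k) : cc A z₂ r ^ k = 1 := by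
  rw [conj_A_pow A B z₂ r hz hBA] at h
  rw [cc_pow A z₂ r hz]
  have e : r * k = (r - 1) * k + k := by
    obtain ⟨j, rfl⟩ : ∃ j, r = j + 1 := ⟨r - 1, by omega⟩
    rw [Nat.add_sub_cancel]; ring
  rw [e, pow_add, ← mul_assoc] at h
  exact mul_eq_right.1 h

include hz in
theorem conj_A_cc : A * cc A z₂ r * A⁻¹ = cc A z₂ r := by
  have e : A * (A ^ (r - 1) * A⁻¹) = A ^ (r - 1) := by
    rw [← mul_assoc, ← pow_succ', pow_succ, mul_inv_cancel_right]
  rw [cc, ← mul_assoc, ← (z_comm z₂ hz A).eq, mul_assoc, mul_assoc, e]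

include hz hBA in
theorem conj_B_cc (hr : 0 < r) : B * cc A z₂ r * B⁻¹ = cc A z₂ r ^ r := by
  rw [cc_pow A z₂ r hz, cc, ← mul_assoc, ← (z_comm z₂ hz B).eq, mul_assoc, mul_assoc,
    ← mul_assoc B, conj_A_pow A B z₂ r hz hBA, ← mul_assoc, ← pow_succ']
  obtain ⟨j, rfl⟩ : ∃ j, r = j + 1 := ⟨r - 1, by omega⟩
  rw [Nat.add_sub_cancel, mul_comm]

end grp

section main

open scoped IsMulCommutative

variable {G : Type*} [Group G] (a b : G) (m n r l : ℕ)

theorem upper_bound (hm : 0 < m) (hr : 0 < r) (hrn : r ^ n ≡ 1 [MOD m])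
    (hgen : Subgroup.closure ({a, b} : Set G) = ⊤) (h1 : a ^ m = 1)
    (h2 : b ^ n = a ^ (m * l / Nat.gcd m (r - 1))) (h3 : b * a * b⁻¹ = a ^ r)
    (hord : ∀ j : ℕ, a ^ j = 1 → m ∣ j)
    {Γ : Type*} [Group Γ] [Finite Γ] (σ : Γ →* G) (hσ : Cfsg.IsStemExtension σ) :
    ∃ π : Multiplicative (ZMod (Nat.gcd l
      (Nat.gcd m (r - 1) * Nat.gcd m (∑ i ∈ Finset.range n, r ^ i) / m))) →* σ.ker,
      Function.Surjective π := by
  obtain ⟨hsurj, hcen, hcomm⟩ := hσ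
  obtain ⟨A, hA⟩ := hsurj a
  obtain ⟨B, hB⟩ := hsurj b
  have hdpos : 0 < Nat.gcd m (r - 1) := Nat.gcd_pos_of_pos_left _ hm
  have hdm : Nat.gcd m (r - 1) ∣ m := Nat.gcd_dvd_left _ _
  have hdr : Nat.gcd m (r - 1) ∣ r - 1 := Nat.gcd_dvd_right _ _
  have ht : m * l / Nat.gcd m (r - 1) = m / Nat.gcd m (r - 1) * l :=
    Nat.mul_div_right_comm hdm l
  -- central elements
  have hz₂k : B * A * B⁻¹ * (A ^ r)⁻¹ ∈ σ.ker := by
    rw [MonoidHom.mem_ker, map_mul, map_inv, map_pow, map_mul, map_mul, map_inv, hA, hB, h3,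
      mul_inv_cancel]
  have hz₂ := hcen hz₂k
  have hBA : B * A * B⁻¹ = (B * A * B⁻¹ * (A ^ r)⁻¹) * A ^ r := by
    rw [inv_mul_cancel_right]
  generalize B * A * B⁻¹ * (A ^ r)⁻¹ = z₂ at hz₂k hz₂ hBA
  have hz₁k : A ^ m ∈ σ.ker := by
    rw [MonoidHom.mem_ker, map_pow, hA, h1]
  have hz₁ := hcen hz₁k
  have hz₃k : B ^ n * (A ^ (m * l / Nat.gcd m (r - 1)))⁻¹ ∈ σ.ker := by
    rw [MonoidHom.mem_ker, map_mul, map_inv, map_pow, map_pow, hA, hB, h2, mul_inv_cancel]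
  have hz₃ := hcen hz₃k
  have hBn : B ^ n = (B ^ n * (A ^ (m * l / Nat.gcd m (r - 1)))⁻¹) *
      A ^ (m * l / Nat.gcd m (r - 1)) := by
    rw [inv_mul_cancel_right]
  generalize B ^ n * (A ^ (m * l / Nat.gcd m (r - 1)))⁻¹ = z₃ at hz₃k hz₃ hBn
  have hgenΓ : Subgroup.closure ({B, A} : Set Γ) = ⊤ := by
    apply Cfsg.Agent.Helper20.closure_eq_top_of_stem σ ⟨hsurj, hcen, hcomm⟩
    rw [Set.image_pair, hA, hB, Set.pair_comm]
    exact hgen
  -- the basic commutator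
  have hc : ⁅B, A⁆ = cc A z₂ r := comm_eq_cc A B z₂ r hBA hr
  have hnormal : (Subgroup.zpowers (cc A z₂ r)).Normal := by
    rw [← Subgroup.normalizer_eq_top_iff, eq_top_iff, ← hgenΓ, Subgroup.closure_le]
    rintro x (rfl | rfl)
    · refine Subgroup.mem_normalizer_fintype (conj_mem_zpowers _ _ ?_)
      rw [conj_B_cc A x z₂ r hz₂ hBA hr]
      exact Subgroup.pow_mem _ (Subgroup.mem_zpowers _) _
    · refine Subgroup.mem_normalizer_fintype (conj_mem_zpowers _ _ ?_)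
      rw [conj_A_cc x z₂ r hz₂]
      exact Subgroup.mem_zpowers _
  have hcomm' : commutator Γ ≤ Subgroup.zpowers (cc A z₂ r) :=
    Cfsg.Agent.Helper20.commutator_le_of_two_gen B A hgenΓ _
      (by rw [hc]; exact Subgroup.mem_zpowers _)
  have hσc : σ (cc A z₂ r) = a ^ (r - 1) := by
    rw [← hc, map_commutatorElement, hA, hB, commutatorElement_def, h3]
    obtain ⟨k, rfl⟩ : ∃ k, r = k + 1 := ⟨r - 1, by omega⟩
    rw [Nat.add_sub_cancel, pow_succ, mul_inv_cancel_right]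
  -- the generator of the kernel
  have hcoprime : Nat.Coprime (m / Nat.gcd m (r - 1)) ((r - 1) / Nat.gcd m (r - 1)) :=
    Nat.coprime_div_gcd_div_gcd hdpos
  have hm' : Nat.gcd m (r - 1) * (m / Nat.gcd m (r - 1)) = m := Nat.mul_div_cancel' hdm
  have hr' : Nat.gcd m (r - 1) * ((r - 1) / Nat.gcd m (r - 1)) = r - 1 := Nat.mul_div_cancel' hdr
  have hexp : (r - 1) * (m / Nat.gcd m (r - 1)) = m * ((r - 1) / Nat.gcd m (r - 1)) := by
    rw [← Nat.mul_div_assoc _ hdm, ← Nat.mul_div_assoc _ hdr, mul_comm]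
  have hκk : cc A z₂ r ^ (m / Nat.gcd m (r - 1)) ∈ σ.ker := by
    rw [MonoidHom.mem_ker, map_pow, hσc, ← pow_mul, hexp, pow_mul, h1, one_pow]
  have hall : ∀ k : σ.ker, k ∈ Subgroup.zpowers (⟨_, hκk⟩ : σ.ker) := by
    intro k
    have hk1 : (k : Γ) ∈ Subgroup.zpowers (cc A z₂ r) := hcomm' (hcomm k.2)
    obtain ⟨j, hj⟩ := (mem_powers_iff_mem_zpowers (x := cc A z₂ r)).2 hk1
    have hj' : cc A z₂ r ^ j = (k : Γ) := hj
    have hk2 : a ^ ((r - 1) * j) = 1 := by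
      have := k.2
      rw [MonoidHom.mem_ker, ← hj', map_pow, hσc, ← pow_mul] at this
      exact this
    have hdvd : m / Nat.gcd m (r - 1) ∣ j := by
      have h5 := hord _ hk2
      have h5' : Nat.gcd m (r - 1) * (m / Nat.gcd m (r - 1)) ∣
          Nat.gcd m (r - 1) * ((r - 1) / Nat.gcd m (r - 1) * j) := by
        rw [← mul_assoc, hm', hr']; exact h5
      have h6 := Nat.dvd_of_mul_dvd_mul_left hdpos h5'
      rw [mul_comm] at h6
      exact hcoprime.dvd_of_dvd_mul_right h6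
    obtain ⟨j', rfl⟩ := hdvd
    rw [Subgroup.mem_zpowers_iff]
    refine ⟨j', Subtype.ext ?_⟩
    rw [zpow_natCast, SubgroupClass.coe_pow, ← hj', pow_mul]
  have conj_eq_of_comm : ∀ x y : Γ, Commute x y → x * y * x⁻¹ = y := by
    intro x y h
    rw [h.eq, mul_inv_cancel_right]
  have hκl : (cc A z₂ r ^ (m / Nat.gcd m (r - 1))) ^ l = 1 := by
    rw [← pow_mul, ← ht]
    apply cc_pow_eq_one A B z₂ r hz₂ hBA hr
    apply conj_eq_of_comm
    have e : A ^ (m * l / Nat.gcd m (r - 1)) = z₃⁻¹ * B ^ n := by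
      rw [hBn]; group
    rw [e]
    exact ((z_comm _ (Subgroup.inv_mem _ hz₃) B).symm).mul_right (Commute.self_pow B n)
  have hκh : (cc A z₂ r ^ (m / Nat.gcd m (r - 1))) ^
      (Nat.gcd m (r - 1) * Nat.gcd m (∑ i ∈ Finset.range n, r ^ i) / m) = 1 := by
    obtain ⟨e, he⟩ : ∃ e, r ^ n = m * e + 1 := by
      have hle : 1 ≤ r ^ n := Nat.one_le_pow _ _ hr
      obtain ⟨e, he⟩ := (Nat.modEq_iff_dvd' hle).1 hrn.symm
      exact ⟨e, by omega⟩
    have hgeom : (∑ i ∈ Finset.range n, r ^ i) * (r - 1) + 1 = r ^ n := by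
      have := geom_sum_mul_add (r - 1) n
      have h1r : 1 ≤ r := hr
      rwa [Nat.sub_add_cancel h1r] at this
    have hme : m * e = (r - 1) * (∑ i ∈ Finset.range n, r ^ i) := by
      rw [mul_comm (r - 1)]
      omega
    have R1 : z₂ ^ m * (A ^ m) ^ (r - 1) = 1 := by
      have := cc_pow_eq_one A B z₂ r hz₂ hBA hr m
        (conj_eq_of_comm _ _ (z_comm _ hz₁ B).symm)
      rw [cc_pow A z₂ r hz₂] at this
      rw [← pow_mul, mul_comm m]
      exact this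
    have R2 : z₂ ^ (∑ i ∈ Finset.range n, r ^ i) * (A ^ m) ^ e = 1 := by
      have h5 := conj_iter A B z₂ r hz₂ hBA n
      have h6 : B ^ n * A * (B ^ n)⁻¹ = A := by
        apply conj_eq_of_comm
        rw [hBn]
        exact (z_comm _ hz₃ A).mul_left (Commute.pow_self A _)
      rw [h6, he, pow_succ, pow_mul, ← mul_assoc] at h5
      exact mul_eq_right.1 h5.symm
    have key := comm_key (⟨A ^ m, hz₁⟩ : Subgroup.center Γ) ⟨z₂, hz₂⟩ m
      (∑ i ∈ Finset.range n, r ^ i) e (r - 1) hm hme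
      (Subtype.ext (by simpa using R1)) (Subtype.ext (by simpa using R2))
    have key' := congrArg Subtype.val key
    rw [cc_pow A z₂ r hz₂, hexp, pow_mul]
    simpa using key'
  have hhpos : 0 < Nat.gcd m (r - 1) * Nat.gcd m (∑ i ∈ Finset.range n, r ^ i) / m := by
    apply Nat.div_pos _ hm
    apply Nat.le_of_dvd (Nat.mul_pos hdpos (Nat.gcd_pos_of_pos_left _ hm))
    rw [Nat.dvd_gcd_mul_gcd_iff_dvd_mul]
    have hle : 1 ≤ r ^ n := Nat.one_le_pow _ _ hr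
    have h7 := (Nat.modEq_iff_dvd' hle).1 hrn.symm
    have hgeom : (∑ i ∈ Finset.range n, r ^ i) * (r - 1) + 1 = r ^ n := by
      have := geom_sum_mul_add (r - 1) n
      have h1r : 1 ≤ r := hr
      rwa [Nat.sub_add_cancel h1r] at this
    rw [← hgeom, Nat.add_sub_cancel, mul_comm] at h7
    exact h7
  have : NeZero (Nat.gcd l
      (Nat.gcd m (r - 1) * Nat.gcd m (∑ i ∈ Finset.range n, r ^ i) / m)) :=
    ⟨(Nat.gcd_pos_of_pos_right _ hhpos).ne'⟩
  refine Cfsg.Agent.Helper20.exists_surj_of_zpowers (K := σ.ker) _ ⟨_, hκk⟩ ?_ hall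
  apply Subtype.ext
  rw [SubgroupClass.coe_pow]
  exact pow_gcd_eq_one.2 ⟨hκl, hκh⟩

end main

end Cfsg.Agent.Helper3.Beyl
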