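import Mathlib

/-!
Number theory for the lower bound of the multiplier of a metacyclic group.
-/

set_option autoImplicit false

namespace Cfsg.Agent.Helper3.Beyl

theorem geom_nat (ρ n : ℕ) (hρ0 : 0 < ρ) :
    (∑ i ∈ Finset.range n, ρ ^ i) * (ρ - 1) + 1 = ρ ^ n := by
  have h1 : 1 ≤ ρ := hρ0
  have := geom_sum_mul_add (ρ - 1) n
  rwa [Nat.sub_add_cancel h1] at this

theorem sum_pow_modEq (m ρ r n : ℕ) (h : ρ ≡ r [MOD m]) :
    (∑ i ∈ Finset.range n, ρ ^ i) ≡ (∑ i ∈ Finset.range n, r ^ i) [MOD m] := by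
  induction n with
  | zero => rfl
  | succ n ih =>
    rw [Finset.sum_range_succ, Finset.sum_range_succ]
    exact ih.add (h.pow n)

theorem dvd_dg (m n r : ℕ) (hr : 0 < r) (hrn : r ^ n ≡ 1 [MOD m]) :
    m ∣ Nat.gcd m (r - 1) * Nat.gcd m (∑ i ∈ Finset.range n, r ^ i) := by
  rw [Nat.dvd_gcd_mul_gcd_iff_dvd_mul]
  have hle : 1 ≤ r ^ n := Nat.one_le_pow _ _ hr
  have h7 := (Nat.modEq_iff_dvd' hle).1 hrn.symm
  rw [← geom_nat r n hr, Nat.add_sub_cancel, mul_comm] at h7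
  exact h7

theorem nt_main (m n r l : ℕ) (hm : 0 < m) (hr : 0 < r) (hrn : r ^ n ≡ 1 [MOD m])
    (Q : ℕ) (hQ : Q ∣ Nat.gcd l
      (Nat.gcd m (r - 1) * Nat.gcd m (∑ i ∈ Finset.range n, r ^ i) / m))
    (ρ : ℕ) (hρ0 : 0 < ρ) (hρ : ρ ≡ r [MOD m]) :
    ρ ^ n ≡ 1 [MOD m * Q] ∧
    (m * l / Nat.gcd m (r - 1)) * ρ ≡ m * l / Nat.gcd m (r - 1) [MOD m * Q] ∧
    m * Q ∣ (ρ - 1) * m := by
  have hdpos : 0 < Nat.gcd m (r - 1) := Nat.gcd_pos_of_pos_left _ hm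
  have hgpos : 0 < Nat.gcd m (∑ i ∈ Finset.range n, r ^ i) := Nat.gcd_pos_of_pos_left _ hm
  have hdm : Nat.gcd m (r - 1) ∣ m := Nat.gcd_dvd_left _ _
  have hdr : Nat.gcd m (r - 1) ∣ r - 1 := Nat.gcd_dvd_right _ _
  have hgm : Nat.gcd m (∑ i ∈ Finset.range n, r ^ i) ∣ m := Nat.gcd_dvd_left _ _
  have hgs : Nat.gcd m (∑ i ∈ Finset.range n, r ^ i) ∣ ∑ i ∈ Finset.range n, r ^ i :=
    Nat.gcd_dvd_right _ _
  have ht : m * l / Nat.gcd m (r - 1) = m / Nat.gcd m (r - 1) * l :=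
    Nat.mul_div_right_comm hdm l
  have hm' : Nat.gcd m (r - 1) * (m / Nat.gcd m (r - 1)) = m := Nat.mul_div_cancel' hdm
  obtain ⟨h, hh⟩ := dvd_dg m n r hr hrn
  have hdiv : Nat.gcd m (r - 1) * Nat.gcd m (∑ i ∈ Finset.range n, r ^ i) / m = h := by
    rw [hh]; exact Nat.mul_div_cancel_left _ hm
  rw [hdiv] at hQ
  have hQl : Q ∣ l := hQ.trans (Nat.gcd_dvd_left _ _)
  have hQh : Q ∣ h := hQ.trans (Nat.gcd_dvd_right _ _)
  -- d divides ρ - 1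
  have hρ1 : ρ - 1 ≡ r - 1 [MOD m] := by
    apply Nat.ModEq.add_right_cancel' 1
    have h1 : 1 ≤ ρ := hρ0
    have h2 : 1 ≤ r := hr
    rw [Nat.sub_add_cancel h1, Nat.sub_add_cancel h2]
    exact hρ
  have hdρ : Nat.gcd m (r - 1) ∣ ρ - 1 := (hρ1.dvd_iff hdm).2 hdr
  have hgρ : Nat.gcd m (∑ i ∈ Finset.range n, r ^ i) ∣ ∑ i ∈ Finset.range n, ρ ^ i :=
    ((sum_pow_modEq m ρ r n hρ).dvd_iff hgm).2 hgs
  -- h divides d
  have hhd : h ∣ Nat.gcd m (r - 1) := by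
    obtain ⟨m'', hm''⟩ := hgm
    refine ⟨m'', ?_⟩
    apply Nat.eq_of_mul_eq_mul_right hgpos
    rw [hh]
    conv_lhs => rw [hm'']
    ring
  refine ⟨?_, ?_, ?_⟩
  · have hle : 1 ≤ ρ ^ n := Nat.one_le_pow _ _ hρ0
    refine ((Nat.modEq_iff_dvd' hle).2 ?_).symm
    rw [← geom_nat ρ n hρ0, Nat.add_sub_cancel]
    calc m * Q ∣ m * h := Nat.mul_dvd_mul_left _ hQh
      _ = Nat.gcd m (r - 1) * Nat.gcd m (∑ i ∈ Finset.range n, r ^ i) := hh.symm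
      _ ∣ (ρ - 1) * ∑ i ∈ Finset.range n, ρ ^ i := Nat.mul_dvd_mul hdρ hgρ
      _ = (∑ i ∈ Finset.range n, ρ ^ i) * (ρ - 1) := mul_comm _ _
  · have h1 : 1 ≤ ρ := hρ0
    have e : m * l / Nat.gcd m (r - 1) * ρ
        = m * l / Nat.gcd m (r - 1) * (ρ - 1) + m * l / Nat.gcd m (r - 1) := by
      conv_lhs => rw [← Nat.sub_add_cancel h1]
      ring
    rw [e]
    have hz : m * l / Nat.gcd m (r - 1) * (ρ - 1) ≡ 0 [MOD m * Q] := by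
      rw [Nat.modEq_zero_iff_dvd, ht]
      obtain ⟨k, hk⟩ := hdρ
      obtain ⟨l', hl'⟩ := hQl
      refine ⟨l' * k, ?_⟩
      rw [hk, hl']
      calc m / Nat.gcd m (r - 1) * (Q * l') * (Nat.gcd m (r - 1) * k)
          = (Nat.gcd m (r - 1) * (m / Nat.gcd m (r - 1))) * Q * (l' * k) := by ring
        _ = m * Q * (l' * k) := by rw [hm']
    have := hz.add_right (m * l / Nat.gcd m (r - 1))
    rwa [zero_add] at this
  · rw [mul_comm m Q]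
    exact Nat.mul_dvd_mul (hQh.trans (hhd.trans hdρ)) dvd_rfl

theorem gcd_dvd_of_not_pow_dvd (m q ν μ m₀ x : ℕ) (hq : q.Prime) (hm : m = q ^ μ * m₀)
    (hx : ¬ q ^ (μ + 1) ∣ x) : Nat.gcd (m * q ^ ν) x ∣ m := by
  have h1 : Nat.gcd (m * q ^ ν) x ∣ q ^ (μ + ν) * m₀ := by
    have : m * q ^ ν = q ^ (μ + ν) * m₀ := by rw [hm, pow_add]; ring
    rw [← this]; exact Nat.gcd_dvd_left _ _
  obtain ⟨k₁, k₂, hk₁, hk₂, hk⟩ := Nat.dvd_mul.1 h1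
  obtain ⟨j, -, rfl⟩ := (Nat.dvd_prime_pow hq).1 hk₁
  have hj : j ≤ μ := by
    by_contra hcon
    push Not at hcon
    apply hx
    calc q ^ (μ + 1) ∣ q ^ j := pow_dvd_pow _ hcon
      _ ∣ q ^ j * k₂ := dvd_mul_right _ _
      _ = Nat.gcd (m * q ^ ν) x := hk
      _ ∣ x := Nat.gcd_dvd_right _ _
  rw [← hk, hm]
  exact Nat.mul_dvd_mul (pow_dvd_pow _ hj) hk₂

theorem exists_rho (m r q ν : ℕ) (hm : 0 < m) (hr : 0 < r) (hq : q.Prime) :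
    ∃ ρ, 0 < ρ ∧ ρ ≡ r [MOD m] ∧ Nat.gcd (m * q ^ ν) (ρ - 1) ∣ m := by
  obtain ⟨μ, m₀, hm₀, hme⟩ := Nat.exists_eq_pow_mul_and_not_dvd hm.ne' q hq.ne_one
  by_cases hx : q ^ (μ + 1) ∣ r - 1
  · refine ⟨r + m, by omega, ?_, ?_⟩
    · simp [Nat.ModEq]
    · apply gcd_dvd_of_not_pow_dvd m q ν μ m₀ _ hq hme
      have e : r + m - 1 = r - 1 + m := by omega
      rw [e]
      intro hcon
      have h2 := (Nat.dvd_add_right hx).1 hcon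
      apply hm₀
      rw [pow_succ] at h2
      conv at h2 => rhs; rw [hme]
      exact Nat.dvd_of_mul_dvd_mul_left (pow_pos hq.pos _) h2
  · exact ⟨r, hr, Nat.ModEq.refl _, gcd_dvd_of_not_pow_dvd m q ν μ m₀ _ hq hme hx⟩

end Cfsg.Agent.Helper3.Beyl
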