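import Mathlib
import Cfsg.Agent.Helper3.BeylB
import Cfsg.Agent.Helper3.BeylC
import Cfsg.Agent.Helper3.BeylD
import Cfsg.Agent.Helper11.MultCrit

/-!
The Schur multiplier of a metacyclic group (Beyl).
-/

set_option autoImplicit false

namespace Cfsg.Agent.Helper3.Beyl

open Cfsg.Agent.Helper8.Hopf

section

variable (m n r l : ℕ) (hm : 0 < m) (hn : 0 < n) (hr : 0 < r) (hrn : r ^ n ≡ 1 [MOD m])

include hm hr hrn in
theorem h_pos : 0 < Nat.gcd m (r - 1) * Nat.gcd m (∑ i ∈ Finset.range n, r ^ i) / m := by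
  apply Nat.div_pos _ hm
  exact Nat.le_of_dvd (Nat.mul_pos (Nat.gcd_pos_of_pos_left _ hm) (Nat.gcd_pos_of_pos_left _ hm))
    (dvd_dg m n r hr hrn)

/-- the data of the group itself -/
def baseDat : Dat :=
  ⟨m, n, r, m * l / Nat.gcd m (r - 1), hm, hn, hrn, by
    have := (nt_main m n r l hm hr hrn 1 (one_dvd _) r hr (Nat.ModEq.refl _)).2.1
    rwa [mul_one] at this⟩

/-- the group is the model -/
noncomputable def baseEquiv :
    PG m n r (m * l / Nat.gcd m (r - 1)) ≃* Meta (baseDat m n r l hm hn hr hrn) :=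
  equivMeta (baseDat m n r l hm hn hr hrn) r (m * l / Nat.gcd m (r - 1)) rfl rfl

include hm hn hr hrn in
theorem finite_PG : Finite (PG m n r (m * l / Nat.gcd m (r - 1))) :=
  Finite.of_equiv _ (baseEquiv m n r l hm hn hr hrn).symm.toEquiv

include hm hn hr hrn in
theorem ga_order (j : ℕ) (hj : ga m n r (m * l / Nat.gcd m (r - 1)) ^ j = 1) : m ∣ j := by
  have h := congrArg (baseEquiv m n r l hm hn hr hrn) hj
  rw [map_pow, map_one] at h
  have h2 : baseEquiv m n r l hm hn hr hrn (ga m n r (m * l / Nat.gcd m (r - 1)))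
      = Meta.α (baseDat m n r l hm hn hr hrn) :=
    equivMeta_ga (baseDat m n r l hm hn hr hrn) r (m * l / Nat.gcd m (r - 1)) rfl rfl
  rw [h2] at h
  exact (Meta.α_pow_eq_one_iff j).1 h

include hm hn hr hrn in
theorem lower_prime_pow [Finite (PG m n r (m * l / Nat.gcd m (r - 1)))]
    (q ν : ℕ) (hq : q.Prime)
    (hdiv : q ^ ν ∣ Nat.gcd l
      (Nat.gcd m (r - 1) * Nat.gcd m (∑ i ∈ Finset.range n, r ^ i) / m)) :
    q ^ ν ∣ Nat.card (mult (PG m n r (m * l / Nat.gcd m (r - 1)))) := by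
  obtain ⟨ρ, hρ0, hρ, hgcd⟩ := exists_rho m r q ν hm hr hq
  obtain ⟨k1, k2, k3⟩ := nt_main m n r l hm hr hrn (q ^ ν) hdiv ρ hρ0 hρ
  have hqν : 0 < q ^ ν := pow_pos hq.pos _
  let D : Dat := ⟨m * q ^ ν, n, ρ, m * l / Nat.gcd m (r - 1), Nat.mul_pos hm hqν, hn, k1, k2⟩
  have hdvd : m ∣ D.M := dvd_mul_right m (q ^ ν)
  have hr' : (r : ZMod (D.red m hm hdvd).M) = (D.red m hm hdvd).ρ := by
    change (r : ZMod m) = ((ρ : ℕ) : ZMod m)
    exact ((ZMod.natCast_eq_natCast_iff _ _ _).2 hρ).symm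
  have ht' : ((m * l / Nat.gcd m (r - 1) : ℕ) : ZMod (D.red m hm hdvd).M)
      = (D.red m hm hdvd).T := rfl
  let e : PG m n r (m * l / Nat.gcd m (r - 1)) ≃* Meta (D.red m hm hdvd) :=
    equivMeta (D.red m hm hdvd) r _ hr' ht'
  let ξ : Meta D →* PG m n r (m * l / Nat.gcd m (r - 1)) :=
    e.symm.toMonoidHom.comp (Meta.redHom D m hm hdvd)
  have hξs : Function.Surjective ξ :=
    e.symm.surjective.comp (Meta.redHom_surjective m hm hdvd)
  have hker : ξ.ker = (Meta.redHom D m hm hdvd).ker := by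
    ext x
    rw [MonoidHom.mem_ker, MonoidHom.mem_ker]
    change e.symm (Meta.redHom D m hm hdvd x) = 1 ↔ _
    rw [MulEquiv.map_eq_one_iff]
  have hc : D.ρ * (m : ZMod D.M) = (m : ZMod D.M) := by
    have h1 : 1 ≤ ρ := hρ0
    have e1 : D.ρ = ((ρ - 1 : ℕ) : ZMod D.M) + 1 := by
      change ((ρ : ℕ) : ZMod D.M) = _
      conv_lhs => rw [← Nat.sub_add_cancel h1]
      push_cast
      rfl
    have e2 : (((ρ - 1) * m : ℕ) : ZMod D.M) = 0 := by
      rw [ZMod.natCast_eq_zero_iff]; exact k3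
    rw [e1, add_mul, one_mul, ← Nat.cast_mul, e2, zero_add]
  have hcen : ξ.ker ≤ Subgroup.center (Meta D) := by
    rw [hker]
    exact Meta.ker_redHom_le_center m hm hdvd hc
  have hx : Meta.α D ^ m ∈ ξ.ker := by
    rw [hker]
    have := Meta.α_pow_mem_ker_redHom (D := D) m hm hdvd 1
    rwa [mul_one] at this
  have hxc : Meta.α D ^ m ∈ commutator (Meta D) := by
    have h1 := Meta.α_pow_pred_mem_commutator (D := D) ρ hρ0 rfl
    have h2 := pow_gcd_mem (commutator (Meta D)) (Meta.α D) D.M (ρ - 1) Meta.α_pow_M h1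
    obtain ⟨k, hk⟩ := hgcd
    have h3 : Meta.α D ^ m = (Meta.α D ^ Nat.gcd D.M (ρ - 1)) ^ k := by
      rw [← pow_mul]
      congr 1
    rw [h3]
    exact Subgroup.pow_mem _ h2 _
  have hord : orderOf (Meta.α D ^ m) = q ^ ν := by
    rw [orderOf_pow' _ hm.ne', Meta.orderOf_α]
    change m * q ^ ν / Nat.gcd (m * q ^ ν) m = q ^ ν
    rw [Nat.gcd_eq_right (dvd_mul_right m (q ^ ν)), Nat.mul_div_cancel_left _ hm]
  have := Cfsg.Agent.Helper11.MultCrit.dvd_card_mult ξ hξs hcen _ hx hxc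
  rwa [hord] at this

include hm hn hr hrn in
theorem main : Cfsg.HasCyclicSchurMultiplier (PG m n r (m * l / Nat.gcd m (r - 1)))
    (Nat.gcd l (Nat.gcd m (r - 1) * Nat.gcd m (∑ i ∈ Finset.range n, r ^ i) / m)) := by
  have : Finite (PG m n r (m * l / Nat.gcd m (r - 1))) := finite_PG m n r l hm hn hr hrn
  have : NeZero (Nat.gcd l
      (Nat.gcd m (r - 1) * Nat.gcd m (∑ i ∈ Finset.range n, r ^ i) / m)) :=
    ⟨(Nat.gcd_pos_of_pos_right _ (h_pos m n r hm hr hrn)).ne'⟩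
  apply Cfsg.Agent.Helper11.MultCrit.hasCyclic_of_bounds
  · intro Γ _ _ σ hσ
    exact upper_bound (ga m n r _) (gb m n r _) m n r l hm hr hrn (closure_ga_gb _ _ _ _)
      (ga_pow _ _ _ _) (gb_pow _ _ _ _) (gb_conj _ _ _ _) (ga_order m n r l hm hn hr hrn) σ hσ
  · rw [Nat.dvd_iff_prime_pow_dvd_dvd]
    intro q ν hq hdiv
    exact lower_prime_pow m n r l hm hn hr hrn q ν hq hdiv

end

end Cfsg.Agent.Helper3.Beyl
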