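import Mathlib
import Cfsg.Agent.Helper3.BroadGen

set_option autoImplicit false
set_option linter.style.haveILetI false
set_option linter.unusedSectionVars false

/-! An abelian `p`-group (`p` odd) with three independent nontrivial cyclic pieces (detected by
three involutory automorphisms) is not generated by two elements. -/

namespace Cfsg.Agent.Helper3.Broad

open Subgroup

variable {P : Type*} [Group P] [Finite P] {p : ℕ} [hp : Fact p.Prime]

/-- an element of order `p` in `⟨g⟩` for `g ≠ 1` -/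
theorem exists_order_p (hP : IsPGroup p P) {g : P} (hg : g ≠ 1) :
    ∃ w ∈ zpowers g, orderOf w = p := by
  obtain ⟨k, hk⟩ := IsPGroup.iff_orderOf.mp hP g
  have hk0 : k ≠ 0 := by
    rintro rfl
    rw [pow_zero, orderOf_eq_one_iff] at hk
    exact hg hk
  obtain ⟨m, rfl⟩ := Nat.exists_eq_succ_of_ne_zero hk0
  refine ⟨g ^ (p ^ m), pow_mem (mem_zpowers g) _, ?_⟩
  rw [orderOf_pow_of_dvd (pow_ne_zero _ hp.out.ne_zero) (by rw [hk]; exact pow_dvd_pow p (Nat.le_succ m)),
    hk, pow_succ, Nat.mul_div_cancel_left _ (pow_pos hp.out.pos m)]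

/-- coordinate extraction -/
theorem coord (hp2 : p ≠ 2) (e : MulAut P) {w : P} (hw : orderOf w = p) (hew : e w = w⁻¹)
    {y y' : P} (hy : e y = y) (hy' : e y' = y') {i i' : ℕ} (hi : i < p) (hi' : i' < p)
    (h : w ^ i * y = w ^ i' * y') : i = i' := by
  have h1 : (w⁻¹) ^ i * y = (w⁻¹) ^ i' * y' := by
    have := congrArg e h
    rwa [map_mul, map_mul, map_pow, map_pow, hew, hy, hy'] at this
  have h2 : w ^ i * y * ((w⁻¹) ^ i * y)⁻¹ = w ^ i' * y' * ((w⁻¹) ^ i' * y')⁻¹ := by rw [h, h1]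
  have h3 : w ^ (i + i) = w ^ (i' + i') := by
    have e1 : w ^ i * y * ((w⁻¹) ^ i * y)⁻¹ = w ^ (i + i) := by
      rw [pow_add, inv_pow]; group
    have e2 : w ^ i' * y' * ((w⁻¹) ^ i' * y')⁻¹ = w ^ (i' + i') := by
      rw [pow_add, inv_pow]; group
    rw [← e1, ← e2, h2]
  rw [pow_eq_pow_iff_modEq, hw] at h3
  have hc : Nat.Coprime 2 p := (Nat.coprime_primes Nat.prime_two hp.out).mpr (Ne.symm hp2)
  have h4 : 2 * i ≡ 2 * i' [MOD p] := by rw [two_mul, two_mul]; exact h3
  have h5 := Nat.ModEq.cancel_left_of_coprime (by rw [Nat.gcd_comm]; exact hc) h4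
  exact Nat.ModEq.eq_of_lt_of_lt h5 hi hi'

theorem not_two_gen (hp2 : p ≠ 2) (hP : IsPGroup p P) (hcomm : ∀ x y : P, x * y = y * x)
    {ga gb gc : P} (hga : ga ≠ 1) (hgb : gb ≠ 1) (hgc : gc ≠ 1) (e1 e2 e3 : MulAut P)
    (h1a : e1 ga = ga⁻¹) (h1b : e1 gb = gb) (h1c : e1 gc = gc)
    (h2a : e2 ga = ga) (h2b : e2 gb = gb⁻¹) (h2c : e2 gc = gc)
    (h3a : e3 ga = ga) (h3b : e3 gb = gb) (h3c : e3 gc = gc⁻¹) :
    ¬ ∃ x y : P, closure {x, y} = ⊤ := by
  rintro ⟨x, y, hxy⟩
  letI : CommGroup P := { (inferInstance : Group P) with mul_comm := hcomm }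
  obtain ⟨wa, hwa, hwao⟩ := exists_order_p hP hga
  obtain ⟨wb, hwb, hwbo⟩ := exists_order_p hP hgb
  obtain ⟨wc, hwc, hwco⟩ := exists_order_p hP hgc
  have k1a := inv_zpowers e1 h1a hwa
  have k1b := fix_zpowers e1 h1b hwb
  have k1c := fix_zpowers e1 h1c hwc
  have k2a := fix_zpowers e2 h2a hwa
  have k2b := inv_zpowers e2 h2b hwb
  have k2c := fix_zpowers e2 h2c hwc
  have k3a := fix_zpowers e3 h3a hwa
  have k3b := fix_zpowers e3 h3b hwb
  have k3c := inv_zpowers e3 h3c hwc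
  set φ : P →* P := powMonoidHom p with hφ
  have hwap : wa ^ p = 1 := by rw [← hwao]; exact pow_orderOf_eq_one wa
  have hwbp : wb ^ p = 1 := by rw [← hwbo]; exact pow_orderOf_eq_one wb
  have hwcp : wc ^ p = 1 := by rw [← hwco]; exact pow_orderOf_eq_one wc
  -- lower bound for the kernel
  have hker : p * p * p ≤ Nat.card φ.ker := by
    let f : Fin p × Fin p × Fin p → φ.ker := fun t =>
      ⟨wa ^ (t.1 : ℕ) * wb ^ (t.2.1 : ℕ) * wc ^ (t.2.2 : ℕ), by
        rw [MonoidHom.mem_ker, hφ, powMonoidHom_apply, mul_pow, mul_pow, ← pow_mul, ← pow_mul,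
          ← pow_mul, mul_comm _ p, mul_comm _ p, mul_comm _ p, pow_mul, pow_mul, pow_mul,
          hwap, hwbp, hwcp]
        simp⟩
    have hf : Function.Injective f := by
      rintro ⟨i, j, k⟩ ⟨i', j', k'⟩ h
      have h0 : wa ^ (i : ℕ) * wb ^ (j : ℕ) * wc ^ (k : ℕ) =
          wa ^ (i' : ℕ) * wb ^ (j' : ℕ) * wc ^ (k' : ℕ) := congrArg Subtype.val h
      have hi : (i : ℕ) = i' := by
        refine coord hp2 e1 hwao k1a (y := wb ^ (j : ℕ) * wc ^ (k : ℕ))
          (y' := wb ^ (j' : ℕ) * wc ^ (k' : ℕ)) ?_ ?_ i.2 i'.2 ?_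
        · rw [map_mul, map_pow, map_pow, k1b, k1c]
        · rw [map_mul, map_pow, map_pow, k1b, k1c]
        · rw [← mul_assoc, ← mul_assoc]; exact h0
      have hj : (j : ℕ) = j' := by
        refine coord hp2 e2 hwbo k2b (y := wa ^ (i : ℕ) * wc ^ (k : ℕ))
          (y' := wa ^ (i' : ℕ) * wc ^ (k' : ℕ)) ?_ ?_ j.2 j'.2 ?_
        · rw [map_mul, map_pow, map_pow, k2a, k2c]
        · rw [map_mul, map_pow, map_pow, k2a, k2c]
        · rw [← mul_assoc, ← mul_assoc, mul_comm (wb ^ (j : ℕ)), mul_comm (wb ^ (j' : ℕ))]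
          exact h0
      have hk : (k : ℕ) = k' := by
        refine coord hp2 e3 hwco k3c (y := wa ^ (i : ℕ) * wb ^ (j : ℕ))
          (y' := wa ^ (i' : ℕ) * wb ^ (j' : ℕ)) ?_ ?_ k.2 k'.2 ?_
        · rw [map_mul, map_pow, map_pow, k3a, k3b]
        · rw [map_mul, map_pow, map_pow, k3a, k3b]
        · rw [mul_comm (wc ^ (k : ℕ)), mul_comm (wc ^ (k' : ℕ))]
          exact h0
      rw [Fin.ext hi, Fin.ext hj, Fin.ext hk]
    have := Nat.card_le_card_of_injective f hf
    simpa [Nat.card_prod, mul_assoc] using this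
  -- upper bound for the cokernel
  have hcoker : Nat.card P ≤ p * p * Nat.card φ.range := by
    let f : Fin p × Fin p × φ.range → P := fun t => x ^ (t.1 : ℕ) * y ^ (t.2.1 : ℕ) * t.2.2
    have hf : Function.Surjective f := by
      intro u
      have hu : u ∈ closure {x, y} := by rw [hxy]; exact mem_top u
      obtain ⟨m, n, rfl⟩ := mem_closure_pair.mp hu
      have hp0 : (p : ℤ) ≠ 0 := by exact_mod_cast hp.out.ne_zero
      have hppos : (0 : ℤ) < p := by exact_mod_cast hp.out.pos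
      have hm0 : 0 ≤ m % (p : ℤ) := Int.emod_nonneg m hp0
      have hn0 : 0 ≤ n % (p : ℤ) := Int.emod_nonneg n hp0
      have hmlt : (m % (p : ℤ)).toNat < p := by
        have := Int.emod_lt_of_pos m hppos
        omega
      have hnlt : (n % (p : ℤ)).toNat < p := by
        have := Int.emod_lt_of_pos n hppos
        omega
      refine ⟨(⟨(m % (p : ℤ)).toNat, hmlt⟩, ⟨(n % (p : ℤ)).toNat, hnlt⟩,
        ⟨φ (x ^ (m / (p : ℤ)) * y ^ (n / (p : ℤ))), ⟨_, rfl⟩⟩), ?_⟩
      simp only [f]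
      have ex : x ^ m = x ^ ((m % (p : ℤ)).toNat) * (x ^ (m / (p : ℤ))) ^ p := by
        rw [← zpow_natCast x (m % (p : ℤ)).toNat, Int.toNat_of_nonneg hm0,
          ← zpow_natCast (x ^ (m / (p : ℤ))) p, ← zpow_mul, ← zpow_add, mul_comm,
          Int.emod_add_mul_ediv]
      have ey : y ^ n = y ^ ((n % (p : ℤ)).toNat) * (y ^ (n / (p : ℤ))) ^ p := by
        rw [← zpow_natCast y (n % (p : ℤ)).toNat, Int.toNat_of_nonneg hn0,
          ← zpow_natCast (y ^ (n / (p : ℤ))) p, ← zpow_mul, ← zpow_add, mul_comm,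
          Int.emod_add_mul_ediv]
      rw [ex, ey, hφ, powMonoidHom_apply, mul_pow]
      simp only [mul_assoc, mul_left_comm]
    have := Nat.card_le_card_of_surjective f hf
    simpa [Nat.card_prod, mul_assoc] using this
  have hmul : Nat.card φ.ker * Nat.card φ.range = Nat.card P := by
    rw [← Subgroup.card_mul_index φ.ker, Subgroup.index_ker]
  have hpos : 0 < Nat.card φ.range := Nat.card_pos
  have h1 : p * p * p * Nat.card φ.range ≤ p * p * Nat.card φ.range := by
    calc p * p * p * Nat.card φ.range ≤ Nat.card φ.ker * Nat.card φ.range :=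
          Nat.mul_le_mul_right _ hker
      _ = Nat.card P := hmul
      _ ≤ p * p * Nat.card φ.range := hcoker
  have h2 : p * p * p ≤ p * p := Nat.le_of_mul_le_mul_right h1 hpos
  have hp1 := hp.out.one_lt
  have hpp : 0 < p * p := Nat.mul_pos hp.out.pos hp.out.pos
  nlinarith

end Cfsg.Agent.Helper3.Broad
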