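import Mathlib
import Cfsg.Agent.Helper3.BroadCount
import Cfsg.Agent.Helper15.Sidki

set_option autoImplicit false
set_option linter.style.haveILetI false
set_option linter.unusedSectionVars false

/-! An elementary abelian group `I` of order 8 of automorphisms of a `p`-group `P` (`p` odd)
containing a four-group `J` all of whose involutions have cyclic fixed points. -/

namespace Cfsg.Agent.Helper3.Broad

open Subgroup

variable {P : Type*} [Group P] [Finite P] {p : ℕ} [hp : Fact p.Prime]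

/-- non-broad: the fixed points form a cyclic subgroup -/
def NB (T : MulAut P) : Prop := ∃ g : P, ∀ x : P, (T x = x ↔ x ∈ Subgroup.zpowers g)

theorem agree_of_iff {x y g : P} (hx : x = g ∨ x = g⁻¹) (hy : y = g ∨ y = g⁻¹)
    (h : x = g ↔ y = g) : x = y := by
  rcases hx with hx | hx
  · rw [hx, h.mp hx]
  · rcases hy with hy | hy
    · rw [h.mpr hy, hy]
    · rw [hx, hy]

theorem broad_aux (hP : IsPGroup p P) (a b c : MulAut P)
    (h3 : ∀ x, b x = x → c x = x → a x = x)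
    {ga gb gc : P} (hga : ∀ x, a x = x → x ∈ zpowers ga) (hgb : b gb = gb) (hgc : c gc = gc)
    (e e2 e3 : MulAut P) (hNB : NB e) (heb : e gb = gb) (hec : e gc = gc)
    (h2a : e2 ga = ga) (h2b : e2 gb ≠ gb) (h3a : e3 ga = ga) (h3c : e3 gc ≠ gc) : False := by
  obtain ⟨g1, hg1⟩ := hNB
  have hb1 : gb ∈ zpowers g1 := (hg1 gb).mp heb
  have hc1 : gc ∈ zpowers g1 := (hg1 gc).mp hec
  rcases Cfsg.Agent.Helper1.le_total_of_isCyclic_isPGroup (zpowers g1) inferInstance
    (hP.to_subgroup _) (zpowers gb) (zpowers gc) (zpowers_le.mpr hb1) (zpowers_le.mpr hc1)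
    with h | h
  · have h1 : c gb = gb := fix_zpowers c hgc (h (mem_zpowers gb))
    have h2 : a gb = gb := h3 gb hgb h1
    exact h2b (fix_zpowers e2 h2a (hga gb h2))
  · have h1 : b gc = gc := fix_zpowers b hgb (h (mem_zpowers gc))
    have h2 : a gc = gc := h3 gc h1 hgc
    exact h3c (fix_zpowers e3 h3a (hga gc h2))

theorem core (hp2 : p ≠ 2) (hP : IsPGroup p P) (I : Subgroup (MulAut P))
    (hIc : ∀ S ∈ I, ∀ T ∈ I, S * T = T * S) (hI2 : ∀ T ∈ I, T * T = 1) (hI8 : Nat.card I = 8)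
    (J : Subgroup (MulAut P)) (hJI : J ≤ I) (hJ4 : Nat.card J = 4)
    (hJNB : ∀ T ∈ J, T ≠ 1 → NB T) :
    ∃ e1 e2 e3 : MulAut P, e1 ∈ I ∧ e2 ∈ I ∧ e3 ∈ I ∧ e1 ≠ 1 ∧ e2 ≠ 1 ∧ e3 ≠ 1 ∧
      e1 ≠ e2 ∧ e1 ≠ e3 ∧ e2 ≠ e3 ∧
      ¬ NB e1 ∧ ¬ NB e2 ∧ ¬ NB e3 ∧ NB (e2 * e3) ∧ NB (e1 * e3) ∧ NB (e1 * e2) ∧
      NB (e1 * e2 * e3) ∧
      (∀ T ∈ I, T = 1 ∨ T = e1 ∨ T = e2 ∨ T = e3 ∨ T = e2 * e3 ∨ T = e1 * e3 ∨ T = e1 * e2 ∨
        T = e1 * e2 * e3) ∧
      (∀ x y : P, x * y = y * x) ∧ (∃ a b c : P, closure {a, b, c} = ⊤) ∧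
      ¬ ∃ a b : P, closure {a, b} = ⊤ := by
  classical
  haveI : Finite (MulAut P) := Finite.of_injective (fun f : MulAut P => (f : P → P))
    (fun f g h => MulEquiv.ext (congrFun h))
  have hI2' : ∀ T ∈ I, ∀ x, T (T x) = x := fun T hT x => by
    have := congrArg (fun f : MulAut P => f x) (hI2 T hT)
    simpa [MulAut.mul_apply] using this
  have hcommx : ∀ S ∈ I, ∀ T ∈ I, ∀ x, S (T x) = T (S x) := fun S hS T hT x => by
    have := congrArg (fun f : MulAut P => f x) (hIc S hS T hT)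
    simpa [MulAut.mul_apply] using this
  -- choose `a`, `b` in `J`
  have hJne : ∃ a ∈ J, a ≠ 1 := by
    by_contra h
    push Not at h
    have : J = ⊥ := (Subgroup.eq_bot_iff_forall J).mpr h
    rw [this] at hJ4
    simp at hJ4
  obtain ⟨a, haJ, ha1⟩ := hJne
  have haa := hI2 a (hJI haJ)
  have hJb : ∃ b ∈ J, b ≠ 1 ∧ b ≠ a := by
    by_contra h
    push Not at h
    have hle : J ≤ zpowers a := by
      intro b hb
      by_cases hb1 : b = 1
      · rw [hb1]; exact one_mem _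
      · rw [h b hb hb1]; exact mem_zpowers a
    have h1 := Subgroup.card_le_of_le hle
    rw [hJ4, Nat.card_zpowers] at h1
    have ho : orderOf a ≤ 2 :=
      orderOf_le_of_pow_eq_one two_pos (by rw [pow_two]; exact haa)
    omega
  obtain ⟨b, hbJ, hb1, hba⟩ := hJb
  have hbb := hI2 b (hJI hbJ)
  obtain ⟨c, hc⟩ : ∃ c : MulAut P, c = a * b := ⟨_, rfl⟩
  have hcJ : c ∈ J := by rw [hc]; exact mul_mem haJ hbJ
  have hc1 : c ≠ 1 := by
    intro h
    apply hba
    rw [hc] at h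
    have h1 : b = a⁻¹ := eq_inv_of_mul_eq_one_right h
    have h2 : a = a⁻¹ := eq_inv_of_mul_eq_one_left haa
    rw [h1, ← h2]
  have hJmem : ∀ T ∈ J, T = 1 ∨ T = a ∨ T = b ∨ T = c := by
    intro T hT
    rw [hc]
    exact Cfsg.Agent.Helper15.mem_four J (le_of_eq hJ4) haJ hbJ ha1 hb1 (Ne.symm hba) haa T hT
  have hcx : ∀ x, c x = a (b x) := fun x => by rw [hc]; rfl
  obtain ⟨ga, hga⟩ := hJNB a haJ ha1
  obtain ⟨gb, hgb⟩ := hJNB b hbJ hb1
  obtain ⟨gc, hgc⟩ := hJNB c hcJ hc1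
  have haga : a ga = ga := (hga ga).mpr (mem_zpowers ga)
  have hbgb : b gb = gb := (hgb gb).mpr (mem_zpowers gb)
  have hcgc : c gc = gc := (hgc gc).mpr (mem_zpowers gc)
  haveI hJc : IsMulCommutative J :=
    ⟨⟨fun x y => Subtype.ext (hIc x (hJI x.2) y (hJI y.2))⟩⟩
  have hJnc : ¬ IsCyclic J := by
    intro hcyc
    obtain ⟨g, hg⟩ := hcyc.exists_generator
    have h1 : orderOf g = Nat.card J := orderOf_eq_card_of_forall_mem_zpowers hg
    have h2 : g ^ 2 = 1 := by
      apply Subtype.ext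
      rw [pow_two]
      exact hI2 g (hJI g.2)
    have h3 := orderOf_le_of_pow_eq_one two_pos h2
    omega
  have hcopJ : (Nat.card J).Coprime (Nat.card P) := by
    obtain ⟨n, hn⟩ := IsPGroup.iff_card.mp hP
    rw [hJ4, hn]
    have h2 : Nat.Coprime 2 p := (Nat.coprime_primes Nat.prime_two hp.out).mpr (Ne.symm hp2)
    exact Nat.Coprime.pow 2 n h2
  -- generation
  have hgen : closure {ga, gb, gc} = ⊤ := by
    rw [eq_top_iff]
    apply gen_fix J hJnc hcopJ ⊤ (fun _ _ _ _ => mem_top _)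
    intro T hT hT1 x _ hx
    rcases hJmem T hT with h | h | h | h
    · exact absurd h hT1
    · rw [h] at hx
      exact (zpowers_le.mpr (subset_closure (by simp))) ((hga x).mp hx)
    · rw [h] at hx
      exact (zpowers_le.mpr (subset_closure (by simp))) ((hgb x).mp hx)
    · rw [h] at hx
      exact (zpowers_le.mpr (subset_closure (by simp))) ((hgc x).mp hx)
  -- signs
  have hsa : ∀ T ∈ I, T ga = ga ∨ T ga = ga⁻¹ := fun T hT =>
    fix_or_inv hp2 hP T (hI2' T hT) ga
      ((hga _).mp (by rw [hcommx a (hJI haJ) T hT, haga]))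
  have hsb : ∀ T ∈ I, T gb = gb ∨ T gb = gb⁻¹ := fun T hT =>
    fix_or_inv hp2 hP T (hI2' T hT) gb
      ((hgb _).mp (by rw [hcommx b (hJI hbJ) T hT, hbgb]))
  have hsc : ∀ T ∈ I, T gc = gc ∨ T gc = gc⁻¹ := fun T hT =>
    fix_or_inv hp2 hP T (hI2' T hT) gc
      ((hgc _).mp (by rw [hcommx c (hJI hcJ) T hT, hcgc]))
  have hagree : ∀ T T' : MulAut P, T ga = T' ga → T gb = T' gb → T gc = T' gc → T = T' := by
    intro T T' h1 h2 h3
    have : T.toMonoidHom = T'.toMonoidHom := by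
      apply MonoidHom.eq_of_eqOn_dense hgen
      intro x hx
      simp only [Set.mem_insert_iff, Set.mem_singleton_iff] at hx
      rcases hx with rfl | rfl | rfl
      · exact h1
      · exact h2
      · exact h3
    exact MulEquiv.ext (fun x => DFunLike.congr_fun this x)
  -- the sign map
  let σ : I → Bool × Bool × Bool := fun T =>
    (decide ((T : MulAut P) ga = ga), decide ((T : MulAut P) gb = gb),
      decide ((T : MulAut P) gc = gc))
  have hσinj : Function.Injective σ := by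
    intro T T' h
    simp only [σ, Prod.mk.injEq, decide_eq_decide] at h
    obtain ⟨h1, h2, h3⟩ := h
    apply Subtype.ext
    apply hagree
    · exact agree_of_iff (hsa T T.2) (hsa T' T'.2) h1
    · exact agree_of_iff (hsb T T.2) (hsb T' T'.2) h2
    · exact agree_of_iff (hsc T T.2) (hsc T' T'.2) h3
  have hσsurj : Function.Surjective σ :=
    (hσinj.bijective_of_nat_card_le (by rw [hI8]; simp)).2
  obtain ⟨⟨e1, he1I⟩, he1⟩ := hσsurj (false, true, true)
  obtain ⟨⟨e2, he2I⟩, he2⟩ := hσsurj (true, false, true)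
  obtain ⟨⟨e3, he3I⟩, he3⟩ := hσsurj (true, true, false)
  simp only [σ, Prod.mk.injEq, decide_eq_false_iff_not, decide_eq_true_eq] at he1 he2 he3
  obtain ⟨h1a', h1b, h1c⟩ := he1
  obtain ⟨h2a, h2b', h2c⟩ := he2
  obtain ⟨h3a, h3b, h3c'⟩ := he3
  have h1a : e1 ga = ga⁻¹ := (hsa e1 he1I).resolve_left h1a'
  have h2b : e2 gb = gb⁻¹ := (hsb e2 he2I).resolve_left h2b'
  have h3c : e3 gc = gc⁻¹ := (hsc e3 he3I).resolve_left h3c'
  have hga1 : ga ≠ 1 := by
    intro h; apply h1a'; rw [h, map_one]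
  have hgb1 : gb ≠ 1 := by
    intro h; apply h2b'; rw [h, map_one]
  have hgc1 : gc ≠ 1 := by
    intro h; apply h3c'; rw [h, map_one]
  -- products on generators
  have p23a : (e2 * e3) ga = ga := by show e2 (e3 ga) = ga; rw [h3a, h2a]
  have p23b : (e2 * e3) gb = gb⁻¹ := by show e2 (e3 gb) = gb⁻¹; rw [h3b, h2b]
  have p23c : (e2 * e3) gc = gc⁻¹ := by show e2 (e3 gc) = gc⁻¹; rw [h3c, map_inv, h2c]
  have p13a : (e1 * e3) ga = ga⁻¹ := by show e1 (e3 ga) = ga⁻¹; rw [h3a, h1a]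
  have p13b : (e1 * e3) gb = gb := by show e1 (e3 gb) = gb; rw [h3b, h1b]
  have p13c : (e1 * e3) gc = gc⁻¹ := by show e1 (e3 gc) = gc⁻¹; rw [h3c, map_inv, h1c]
  have p12a : (e1 * e2) ga = ga⁻¹ := by show e1 (e2 ga) = ga⁻¹; rw [h2a, h1a]
  have p12b : (e1 * e2) gb = gb⁻¹ := by show e1 (e2 gb) = gb⁻¹; rw [h2b, map_inv, h1b]
  have p12c : (e1 * e2) gc = gc := by show e1 (e2 gc) = gc; rw [h2c, h1c]
  have pza : (e1 * e2 * e3) ga = ga⁻¹ := by
    show e1 (e2 (e3 ga)) = ga⁻¹; rw [h3a, h2a, h1a]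
  have pzb : (e1 * e2 * e3) gb = gb⁻¹ := by
    show e1 (e2 (e3 gb)) = gb⁻¹; rw [h3b, h2b, map_inv, h1b]
  have pzc : (e1 * e2 * e3) gc = gc⁻¹ := by
    show e1 (e2 (e3 gc)) = gc⁻¹; rw [h3c, map_inv, h2c, map_inv, h1c]
  -- identification of `a`, `b`, `c`
  have hab' : a gb = gb⁻¹ := by
    rcases hsb a (hJI haJ) with h | h
    · exact absurd (fix_zpowers e2 h2a ((hga gb).mp h)) h2b'
    · exact h
  have hac' : a gc = gc⁻¹ := by
    rcases hsc a (hJI haJ) with h | h
    · exact absurd (fix_zpowers e3 h3a ((hga gc).mp h)) h3c'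
    · exact h
  have hba' : b ga = ga⁻¹ := by
    rcases hsa b (hJI hbJ) with h | h
    · exact absurd (fix_zpowers e1 h1b ((hgb ga).mp h)) h1a'
    · exact h
  have hbc' : b gc = gc⁻¹ := by
    rcases hsc b (hJI hbJ) with h | h
    · exact absurd (fix_zpowers e3 h3b ((hgb gc).mp h)) h3c'
    · exact h
  have hca' : c ga = ga⁻¹ := by
    rcases hsa c (hJI hcJ) with h | h
    · exact absurd (fix_zpowers e1 h1c ((hgc ga).mp h)) h1a'
    · exact h
  have hcb' : c gb = gb⁻¹ := by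
    rcases hsb c (hJI hcJ) with h | h
    · exact absurd (fix_zpowers e2 h2c ((hgc gb).mp h)) h2b'
    · exact h
  have ha_eq : a = e2 * e3 := hagree _ _ (by rw [haga, p23a]) (by rw [hab', p23b])
    (by rw [hac', p23c])
  have hb_eq : b = e1 * e3 := hagree _ _ (by rw [hba', p13a]) (by rw [hbgb, p13b])
    (by rw [hbc', p13c])
  have hc_eq : c = e1 * e2 := hagree _ _ (by rw [hca', p12a]) (by rw [hcb', p12b])
    (by rw [hcgc, p12c])
  -- fixed by two implies fixed by the third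
  have h3_a : ∀ x, b x = x → c x = x → a x = x := by
    intro x hb hc'
    have := hcx x
    rw [hb] at this
    rw [← this]; exact hc'
  have h3_b : ∀ x, a x = x → c x = x → b x = x := by
    intro x ha hc'
    have := hcx x
    rw [hc'] at this
    have h2 := congrArg a this
    rw [hI2' a (hJI haJ), ha] at h2
    exact h2.symm
  have h3_c : ∀ x, a x = x → b x = x → c x = x := by
    intro x ha hb
    rw [hcx, hb, ha]
  have hbroad1 : ¬ NB e1 := fun h =>
    broad_aux hP a b c h3_a (fun x hx => (hga x).mp hx) hbgb hcgc e1 e2 e3 h h1b h1c h2a h2b'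
      h3a h3c'
  have hbroad2 : ¬ NB e2 := fun h =>
    broad_aux hP b a c h3_b (fun x hx => (hgb x).mp hx) haga hcgc e2 e1 e3 h h2a h2c h1b h1a'
      h3b h3c'
  have hbroad3 : ¬ NB e3 := fun h =>
    broad_aux hP c a b h3_c (fun x hx => (hgc x).mp hx) haga hbgb e3 e1 e2 h h3a h3b h1c h1a'
      h2c h2b'
  -- the element `z`
  have hzI : e1 * e2 * e3 ∈ I := mul_mem (mul_mem he1I he2I) he3I
  have hzfix : ∀ x, (e1 * e2 * e3) x = x → x = 1 := by
    have hle : Fx (e1 * e2 * e3) ≤ ⊥ := by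
      apply gen_fix J hJnc hcopJ (Fx (e1 * e2 * e3))
      · intro T hT x hx
        rw [mem_Fx] at hx ⊢
        rw [hcommx _ hzI T (hJI hT), hx]
      · intro T hT hT1 x hx hTx
        rw [mem_Fx] at hx
        rw [mem_bot]
        rcases hJmem T hT with h | h | h | h
        · exact absurd h hT1
        · rw [h] at hTx
          have := inv_zpowers _ pza ((hga x).mp hTx)
          exact eq_one_of_eq_inv hp2 hP (hx.symm.trans this)
        · rw [h] at hTx
          have := inv_zpowers _ pzb ((hgb x).mp hTx)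
          exact eq_one_of_eq_inv hp2 hP (hx.symm.trans this)
        · rw [h] at hTx
          have := inv_zpowers _ pzc ((hgc x).mp hTx)
          exact eq_one_of_eq_inv hp2 hP (hx.symm.trans this)
    intro x hx
    exact mem_bot.mp (hle (mem_Fx.mpr hx))
  have hzinv := inv_of_fpf _ (hI2' _ hzI) hzfix
  have hcomm := comm_of_inv _ hzinv
  have hNBz : NB (e1 * e2 * e3) := by
    refine ⟨1, fun x => ⟨fun h => ?_, fun h => ?_⟩⟩
    · rw [hzfix x h]; exact one_mem _
    · rw [zpowers_one_eq_bot, mem_bot] at h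
      rw [h, map_one]
  refine ⟨e1, e2, e3, he1I, he2I, he3I, ?_, ?_, ?_, ?_, ?_, ?_, hbroad1, hbroad2, hbroad3, ?_, ?_, ?_,
    hNBz, ?_, hcomm, ⟨ga, gb, gc, hgen⟩, ?_⟩
  · intro h; apply h1a'; rw [h]; rfl
  · intro h; apply h2b'; rw [h]; rfl
  · intro h; apply h3c'; rw [h]; rfl
  · intro h; apply h1a'; rw [h]; exact h2a
  · intro h; apply h1a'; rw [h]; exact h3a
  · intro h; apply h2b'; rw [h]; exact h3b
  · rw [← ha_eq]; exact ⟨ga, hga⟩
  · rw [← hb_eq]; exact ⟨gb, hgb⟩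
  · rw [← hc_eq]; exact ⟨gc, hgc⟩
  · intro T hT
    rcases hsa T hT with ha' | ha' <;> rcases hsb T hT with hb' | hb' <;>
      rcases hsc T hT with hc' | hc'
    · left
      exact hagree T 1 ha' hb' hc'
    · right; right; right; left
      exact hagree T e3 (by rw [ha', h3a]) (by rw [hb', h3b]) (by rw [hc', h3c])
    · right; right; left
      exact hagree T e2 (by rw [ha', h2a]) (by rw [hb', h2b]) (by rw [hc', h2c])
    · right; right; right; right; left
      exact hagree T _ (by rw [ha', p23a]) (by rw [hb', p23b]) (by rw [hc', p23c])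
    · right; left
      exact hagree T e1 (by rw [ha', h1a]) (by rw [hb', h1b]) (by rw [hc', h1c])
    · right; right; right; right; right; left
      exact hagree T _ (by rw [ha', p13a]) (by rw [hb', p13b]) (by rw [hc', p13c])
    · right; right; right; right; right; right; left
      exact hagree T _ (by rw [ha', p12a]) (by rw [hb', p12b]) (by rw [hc', p12c])
    · right; right; right; right; right; right; right
      exact hagree T _ (by rw [ha', pza]) (by rw [hb', pzb]) (by rw [hc', pzc])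
  · exact not_two_gen hp2 hP hcomm hga1 hgb1 hgc1 e1 e2 e3 h1a h1b h1c h2a h2b h2c h3a h3b h3c

end Cfsg.Agent.Helper3.Broad
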