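import Mathlib
import Cfsg.Prelude.Def_LieExceptional
import Cfsg.Agent.Helper21.BswDefs2
import Cfsg.Agent.S0731
import Cfsg.Agent.S0493
import Cfsg.Agent.S0494
import Cfsg.Agent.S0253

/-!
BSW piece ZB: from the refined conclusion `ConclX` to `PSL(2, F)` via the landed Zassenhaus theorem S0731.
-/

set_option autoImplicit false
set_option linter.unusedSectionVars false
set_option linter.unusedVariables false
set_option linter.style.haveILetI false

namespace Cfsg.Agent.Helper3.BswZas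

universe u
variable {G : Type u} [Group G]

/-- The "Borel" data: `N(Q) = Q ⋊ D`, `Q` self-centralizing (TI-like), `D` abelian. -/
structure FData (Q D : Subgroup G) : Prop where
  hcent : ∀ x ∈ Q, x ≠ 1 → Subgroup.centralizer ({x} : Set G) = Q
  hDab : ∀ a ∈ D, ∀ b ∈ D, a * b = b * a
  hinf : Q ⊓ D = ⊥
  hN : Subgroup.normalizer (Q : Set G) = Q ⊔ D

namespace FData

variable {Q D : Subgroup G}

theorem Q_comm (h : FData Q D) {a b : G} (ha : a ∈ Q) (hb : b ∈ Q) : a * b = b * a := by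
  by_cases ha1 : a = 1
  · subst ha1; simp
  · have hb' : b ∈ Subgroup.centralizer ({a} : Set G) := by rw [h.hcent a ha ha1]; exact hb
    rw [Subgroup.mem_centralizer_iff] at hb'
    exact hb' a rfl

theorem Q_le_N (h : FData Q D) : Q ≤ Subgroup.normalizer (Q : Set G) := by
  rw [h.hN]; exact le_sup_left

theorem D_le_N (h : FData Q D) : D ≤ Subgroup.normalizer (Q : Set G) := by
  rw [h.hN]; exact le_sup_right

theorem conj_mem (h : FData Q D) {n a : G} (hn : n ∈ Subgroup.normalizer (Q : Set G)) (ha : a ∈ Q) :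
    n * a * n⁻¹ ∈ Q :=
  (Subgroup.mem_normalizer_iff.mp hn a).mp ha

theorem conj_mem' (h : FData Q D) {n a : G} (hn : n ∈ Subgroup.normalizer (Q : Set G)) (ha : a ∈ Q) :
    n⁻¹ * a * n ∈ Q := by
  have := h.conj_mem (inv_mem hn) ha
  simpa using this

theorem exists_factor (h : FData Q D) {n : G} (hn : n ∈ Subgroup.normalizer (Q : Set G)) :
    ∃ a ∈ Q, ∃ d ∈ D, n = a * d := by
  rw [h.hN] at hn
  have := Subgroup.coe_mul_of_right_le_normalizer_left Q D h.D_le_N
  have hn' : n ∈ ((Q ⊔ D : Subgroup G) : Set G) := hn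
  rw [this] at hn'
  obtain ⟨a, ha, d, hd, rfl⟩ := Set.mem_mul.mp hn'
  exact ⟨a, ha, d, hd, rfl⟩

theorem eq_one_of_mem_mem (h : FData Q D) {x : G} (hQ : x ∈ Q) (hD : x ∈ D) : x = 1 := by
  have : x ∈ Q ⊓ D := ⟨hQ, hD⟩
  rw [h.hinf] at this
  exact Subgroup.mem_bot.mp this


theorem card_N [Finite G] (h : FData Q D) :
    Nat.card (Subgroup.normalizer (Q : Set G)) = Nat.card Q * Nat.card D := by
  classical
  rw [← Nat.card_prod]
  symm
  let f : Q × D → Subgroup.normalizer (Q : Set G) := fun p =>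
    ⟨(p.1 : G) * (p.2 : G), mul_mem (h.Q_le_N p.1.2) (h.D_le_N p.2.2)⟩
  refine Nat.card_congr (Equiv.ofBijective f ⟨?_, ?_⟩)
  · rintro ⟨⟨a, ha⟩, ⟨d, hd⟩⟩ ⟨⟨a', ha'⟩, ⟨d', hd'⟩⟩ hEq
    have hEq' : a * d = a' * d' := congrArg Subtype.val hEq
    have h1 : a'⁻¹ * a = d' * d⁻¹ := by
      have : a'⁻¹ * (a * d) * d⁻¹ = a'⁻¹ * (a' * d') * d⁻¹ := by rw [hEq']
      simpa [mul_assoc] using this
    have h2 : a'⁻¹ * a = 1 :=
      h.eq_one_of_mem_mem (mul_mem (inv_mem ha') ha) (by rw [h1]; exact mul_mem hd' (inv_mem hd))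
    have h3 : a = a' := by
      have := congrArg (fun z => a' * z) h2
      simpa using this
    subst h3
    have h4 : d = d' := mul_left_cancel hEq'
    subst h4
    rfl
  · rintro ⟨n, hn⟩
    obtain ⟨a, ha, d, hd, rfl⟩ := h.exists_factor hn
    exact ⟨(⟨a, ha⟩, ⟨d, hd⟩), rfl⟩

/-- An element of `N(Q)` whose order divides `|Q|` lies in `Q` (as `|Q|`, `|D|` are coprime). -/
theorem mem_Q_of_pow [Finite G] (h : FData Q D) (hcop : Nat.Coprime (Nat.card Q) (Nat.card D))
    {n : G} (hn : n ∈ Subgroup.normalizer (Q : Set G)) (hpow : n ^ Nat.card Q = 1) : n ∈ Q := by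
  classical
  -- the index of `Q` in `N(Q)` is `|D|`
  have hidx : (Q.subgroupOf (Subgroup.normalizer (Q : Set G))).index = Nat.card D := by
    have h1 := Subgroup.card_mul_index (Q.subgroupOf (Subgroup.normalizer (Q : Set G)))
    rw [h.card_N] at h1
    have h2 : Nat.card (Q.subgroupOf (Subgroup.normalizer (Q : Set G))) = Nat.card Q :=
      Nat.card_congr (Subgroup.subgroupOfEquivOfLe h.Q_le_N).toEquiv
    rw [h2] at h1
    have hQpos : 0 < Nat.card Q := Nat.card_pos
    exact Nat.eq_of_mul_eq_mul_left hQpos h1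
  have h3 : (⟨n, hn⟩ : Subgroup.normalizer (Q : Set G)) ^ Nat.card D ∈
      Q.subgroupOf (Subgroup.normalizer (Q : Set G)) := by
    rw [← hidx]
    exact Subgroup.pow_index_mem _ _
  have h4 : n ^ Nat.card D ∈ Q := by
    rw [Subgroup.mem_subgroupOf] at h3
    simpa using h3
  -- Bezout
  have hb := Nat.gcd_eq_gcd_ab (Nat.card Q) (Nat.card D)
  rw [hcop] at hb
  have h5 : n = (n ^ Nat.card Q) ^ (Nat.gcdA (Nat.card Q) (Nat.card D))
      * (n ^ Nat.card D) ^ (Nat.gcdB (Nat.card Q) (Nat.card D)) := by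
    rw [← zpow_natCast n (Nat.card Q), ← zpow_natCast n (Nat.card D), ← zpow_mul, ← zpow_mul,
      ← zpow_add, ← hb]
    simp
  rw [h5, hpow]
  simpa using Subgroup.zpow_mem Q h4 _


theorem smul_mk_eq_iff (H : Subgroup G) (g x : G) :
    g • ((x : G) : G ⧸ H) = ((x : G) : G ⧸ H) ↔ x⁻¹ * g * x ∈ H := by
  rw [MulAction.Quotient.smul_coe, QuotientGroup.eq, smul_eq_mul]
  constructor
  · intro hh
    have := inv_mem hh
    simpa [mul_assoc] using this
  · intro hh
    have := inv_mem hh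
    simpa [mul_assoc] using this

/-- `Q` acts freely off the base point. -/
theorem free [Finite G] (h : FData Q D) (hcop : Nat.Coprime (Nat.card Q) (Nat.card D))
    {y g : G} (hy : y ∈ Q) (hy1 : y ≠ 1)
    (hfix : y • ((g : G) : G ⧸ Subgroup.normalizer (Q : Set G)) = ((g : G) : G ⧸ _)) :
    g ∈ Subgroup.normalizer (Q : Set G) := by
  rw [smul_mk_eq_iff] at hfix
  set z := g⁻¹ * y * g with hz
  have hzpow : z ^ Nat.card Q = 1 := by
    have : z = MulAut.conj g⁻¹ y := by simp [hz]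
    rw [this, ← map_pow]
    have : y ^ Nat.card Q = 1 := by
      have h0 : (⟨y, hy⟩ : Q) ^ Nat.card Q = 1 := pow_card_eq_one'
      have h00 := congrArg Subtype.val h0
      rw [Subgroup.coe_pow] at h00
      exact h00
    rw [this, map_one]
  have hzQ : z ∈ Q := h.mem_Q_of_pow hcop hfix hzpow
  have hz1 : z ≠ 1 := by
    intro hh
    apply hy1
    have : y = g * z * g⁻¹ := by simp [hz, mul_assoc]
    rw [this, hh]; simp
  have hyz : y = g * z * g⁻¹ := by simp [hz, mul_assoc]
  have hCy := h.hcent y hy hy1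
  have hCz := h.hcent z hzQ hz1
  -- g Q g⁻¹ ≤ Q and g⁻¹ Q g ≤ Q
  have h1 : ∀ a ∈ Q, g * a * g⁻¹ ∈ Q := by
    intro a ha
    rw [← hCy, Subgroup.mem_centralizer_iff]
    intro w hw
    rw [Set.mem_singleton_iff] at hw
    subst hw
    have hc : a * z = z * a := h.Q_comm ha hzQ
    rw [hyz]
    calc g * z * g⁻¹ * (g * a * g⁻¹) = g * (z * a) * g⁻¹ := by simp [mul_assoc]
      _ = g * (a * z) * g⁻¹ := by rw [hc]
      _ = g * a * g⁻¹ * (g * z * g⁻¹) := by simp [mul_assoc]
  have h2 : ∀ a ∈ Q, g⁻¹ * a * g ∈ Q := by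
    intro a ha
    rw [← hCz, Subgroup.mem_centralizer_iff]
    intro w hw
    rw [Set.mem_singleton_iff] at hw
    subst hw
    have hc : a * y = y * a := h.Q_comm ha hy
    calc g⁻¹ * y * g * (g⁻¹ * a * g) = g⁻¹ * (y * a) * g := by simp [mul_assoc]
      _ = g⁻¹ * (a * y) * g := by rw [hc]
      _ = g⁻¹ * a * g * (g⁻¹ * y * g) := by simp [mul_assoc]
  rw [Subgroup.mem_normalizer_iff]
  intro a
  constructor
  · exact h1 a
  · intro ha
    have := h2 _ ha
    simpa [mul_assoc] using this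


theorem mk_eq_base_iff (H : Subgroup G) (g : G) :
    ((g : G) : G ⧸ H) = ((1 : G) : G ⧸ H) ↔ g ∈ H := by
  rw [eq_comm, QuotientGroup.eq]; simp

theorem free' [Finite G] (h : FData Q D) (hcop : Nat.Coprime (Nat.card Q) (Nat.card D))
    {y : G} (hy : y ∈ Q) (hy1 : y ≠ 1) (ω : G ⧸ Subgroup.normalizer (Q : Set G))
    (hfix : y • ω = ω) : ω = ((1 : G) : G ⧸ _) := by
  induction ω using QuotientGroup.induction_on with
  | H g =>
    rw [mk_eq_base_iff]
    exact h.free hcop hy hy1 hfix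

theorem card_quot [Finite G] (h : FData Q D) (hq : 2 * Nat.card D + 1 = Nat.card Q)
    (hG : 2 * Nat.card G = Nat.card Q * (Nat.card Q + 1) * (Nat.card Q - 1)) :
    Nat.card (G ⧸ Subgroup.normalizer (Q : Set G)) = Nat.card Q + 1 := by
  have h1 := Subgroup.card_eq_card_quotient_mul_card_subgroup (Subgroup.normalizer (Q : Set G))
  rw [h.card_N] at h1
  rw [h1] at hG
  have hD : 0 < Nat.card D := Nat.card_pos
  have hQ : 0 < Nat.card Q := Nat.card_pos
  have h2 : Nat.card Q - 1 = 2 * Nat.card D := by omega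
  rw [h2] at hG
  have h3 : (2 * Nat.card Q * Nat.card D) * Nat.card (G ⧸ Subgroup.normalizer (Q : Set G))
      = (2 * Nat.card Q * Nat.card D) * (Nat.card Q + 1) := by
    nlinarith [hG]
  exact Nat.eq_of_mul_eq_mul_left (by positivity) h3

theorem coprime_of_eq (hq : 2 * Nat.card D + 1 = Nat.card Q) :
    Nat.Coprime (Nat.card Q) (Nat.card D) := by
  rw [← hq]
  have : Nat.Coprime (Nat.card D * 2 + 1) (Nat.card D) := by
    rw [Nat.coprime_mul_left_add_left]
    exact Nat.coprime_one_left _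
  rwa [mul_comm] at this

/-- `Q` is regular on the points other than the base point. -/
theorem regular [Finite G] (h : FData Q D) (hq : 2 * Nat.card D + 1 = Nat.card Q)
    (hG : 2 * Nat.card G = Nat.card Q * (Nat.card Q + 1) * (Nat.card Q - 1))
    (y z : G ⧸ Subgroup.normalizer (Q : Set G))
    (hy : y ≠ ((1 : G) : G ⧸ _)) (hz : z ≠ ((1 : G) : G ⧸ _)) :
    ∃! u : Q, (u : G) • y = z := by
  classical
  have hcop := coprime_of_eq (Q := Q) (D := D) hq
  have hinj : Function.Injective (fun u : Q => (u : G) • y) := by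
    intro u v huv
    simp only at huv
    by_contra hne
    have h1 : ((v : G)⁻¹ * (u : G)) • y = y := by
      rw [mul_smul, huv, ← mul_smul]; simp
    have h2 : (v : G)⁻¹ * (u : G) ≠ 1 := by
      intro hh
      apply hne
      have : (u : G) = (v : G) := by
        have := congrArg (fun w => (v : G) * w) hh
        simpa using this
      exact Subtype.ext this
    exact hy (h.free' hcop (mul_mem (inv_mem v.2) u.2) h2 y h1)
  have hsub : Set.range (fun u : Q => (u : G) • y) ⊆ ({((1 : G) : G ⧸ _)}ᶜ : Set _) := by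
    rintro w ⟨u, rfl⟩
    simp only [Set.mem_compl_iff, Set.mem_singleton_iff]
    intro hh
    apply hy
    have h1 : (u : G)⁻¹ • ((u : G) • y) = y := by rw [← mul_smul]; simp
    rw [hh] at h1
    rw [← h1, MulAction.Quotient.smul_coe, mk_eq_base_iff]
    simpa using h.Q_le_N (inv_mem u.2)
  have hcardr : (Set.range (fun u : Q => (u : G) • y)).ncard = Nat.card Q := by
    rw [← Nat.card_coe_set_eq]
    exact Nat.card_range_of_injective hinj
  have hcardc : (({((1 : G) : G ⧸ Subgroup.normalizer (Q : Set G))}ᶜ : Set _)).ncard = Nat.card Q := by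
    rw [Set.ncard_compl, Set.ncard_singleton, h.card_quot hq hG]
    simp
  have heq : Set.range (fun u : Q => (u : G) • y) = ({((1 : G) : G ⧸ _)}ᶜ : Set _) :=
    Set.eq_of_subset_of_ncard_le hsub (by rw [hcardr, hcardc]) (Set.toFinite _)
  have hz' : z ∈ Set.range (fun u : Q => (u : G) • y) := by
    rw [heq]; simpa using hz
  obtain ⟨u, hu⟩ := hz'
  simp only at hu
  refine ⟨u, hu, ?_⟩
  intro v hv
  apply hinj
  simp only
  rw [hv, hu]


theorem exists_smul_base (H : Subgroup G) (ω : G ⧸ H) : ∃ g : G, g • ω = ((1 : G) : G ⧸ H) := by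
  induction ω using QuotientGroup.induction_on with
  | H x =>
    refine ⟨x⁻¹, ?_⟩
    rw [MulAction.Quotient.smul_coe]; simp

/-- 2-transitivity on the cosets of `N(Q)`. -/
theorem two_transitive [Finite G] (h : FData Q D) (hq : 2 * Nat.card D + 1 = Nat.card Q)
    (hG : 2 * Nat.card G = Nat.card Q * (Nat.card Q + 1) * (Nat.card Q - 1)) :
    MulAction.IsMultiplyPretransitive G (G ⧸ Subgroup.normalizer (Q : Set G)) 2 := by
  rw [MulAction.is_two_pretransitive_iff]
  intro a b c d hab hcd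
  obtain ⟨g1, hg1⟩ := exists_smul_base (Subgroup.normalizer (Q : Set G)) a
  obtain ⟨g2, hg2⟩ := exists_smul_base (Subgroup.normalizer (Q : Set G)) c
  have hb : g1 • b ≠ ((1 : G) : G ⧸ _) := by
    intro hh
    apply hab
    have : g1 • a = g1 • b := by rw [hg1, hh]
    exact (MulAction.injective g1) this
  have hd : g2 • d ≠ ((1 : G) : G ⧸ _) := by
    intro hh
    apply hcd
    have : g2 • c = g2 • d := by rw [hg2, hh]
    exact (MulAction.injective g2) this
  obtain ⟨u, hu, -⟩ := h.regular hq hG (g1 • b) (g2 • d) hb hd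
  have huN : (u : G) ∈ Subgroup.normalizer (Q : Set G) := h.Q_le_N u.2
  have hubase : (u : G) • (((1 : G) : G ⧸ Subgroup.normalizer (Q : Set G))) = ((1 : G) : G ⧸ _) := by
    rw [MulAction.Quotient.smul_coe, mk_eq_base_iff]; simpa using huN
  refine ⟨g2⁻¹ * (u : G) * g1, ?_, ?_⟩
  · rw [mul_smul, mul_smul, hg1, hubase, ← hg2, ← mul_smul]; simp
  · rw [mul_smul, mul_smul, hu, ← mul_smul]; simp

/-- A non-identity element of `N(Q)` fixes at most one point besides the base point. -/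
theorem fix_unique [Finite G] (h : FData Q D) (hq : 2 * Nat.card D + 1 = Nat.card Q)
    (hG : 2 * Nat.card G = Nat.card Q * (Nat.card Q + 1) * (Nat.card Q - 1))
    {g : G} (hgN : g ∈ Subgroup.normalizer (Q : Set G)) (hg1 : g ≠ 1)
    {β γ : G ⧸ Subgroup.normalizer (Q : Set G)}
    (hβ : β ≠ ((1 : G) : G ⧸ _)) (hγ : γ ≠ ((1 : G) : G ⧸ _))
    (hgβ : g • β = β) (hgγ : g • γ = γ) : β = γ := by
  classical
  have hcop := coprime_of_eq (Q := Q) (D := D) hq
  by_cases hgQ : g ∈ Q
  · exact absurd (h.free' hcop hgQ hg1 β hgβ) hβ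
  · obtain ⟨b, hb, -⟩ := h.regular hq hG β γ hβ hγ
    by_contra hne
    have hb1 : (b : G) ≠ 1 := by
      intro hh
      apply hne
      rw [← hb, hh, one_smul]
    -- g⁻¹ b⁻¹ g b fixes β and lies in Q
    have h1 : (g⁻¹ * (b : G)⁻¹ * g * (b : G)) • β = β := by
      have e1 : (b : G)⁻¹ • γ = β := by rw [inv_smul_eq_iff, hb]
      have e2 : g⁻¹ • β = β := by rw [inv_smul_eq_iff, hgβ]
      rw [mul_smul, mul_smul, mul_smul, hb, hgγ, e1, e2]
    have h2 : g⁻¹ * (b : G)⁻¹ * g * (b : G) ∈ Q := by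
      have := h.conj_mem' hgN (inv_mem b.2)
      exact mul_mem this b.2
    have h3 : g⁻¹ * (b : G)⁻¹ * g * (b : G) = 1 := by
      by_contra hh
      exact hβ (h.free' hcop h2 hh β h1)
    -- so g commutes with b, g ∈ C(b) = Q
    have h4 : g ∈ Subgroup.centralizer ({(b : G)} : Set G) := by
      rw [Subgroup.mem_centralizer_iff]
      intro w hw
      rw [Set.mem_singleton_iff] at hw
      subst hw
      have : (b : G) * g * (g⁻¹ * (b : G)⁻¹ * g * (b : G)) = (b : G) * g * 1 := by rw [h3]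
      simpa [mul_assoc] using this.symm
    rw [h.hcent b b.2 hb1] at h4
    exact hgQ h4


theorem stab_base (H : Subgroup G) {g : G} :
    g • (((1 : G) : G ⧸ H)) = ((1 : G) : G ⧸ H) ↔ g ∈ H := by
  rw [MulAction.Quotient.smul_coe, mk_eq_base_iff]; simp

/-- No non-identity element fixes three points. -/
theorem three_fix [Finite G] (h : FData Q D) (hq : 2 * Nat.card D + 1 = Nat.card Q)
    (hG : 2 * Nat.card G = Nat.card Q * (Nat.card Q + 1) * (Nat.card Q - 1))
    (g : G) (a b c : G ⧸ Subgroup.normalizer (Q : Set G)) (hab : a ≠ b) (hbc : b ≠ c) (hac : a ≠ c)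
    (ha : g • a = a) (hb : g • b = b) (hc : g • c = c) : g = 1 := by
  by_contra hg1
  obtain ⟨k, hk⟩ := exists_smul_base (Subgroup.normalizer (Q : Set G)) a
  have hfix : ∀ ω : G ⧸ Subgroup.normalizer (Q : Set G), g • ω = ω → (k * g * k⁻¹) • (k • ω) = k • ω := by
    intro ω hω
    rw [← mul_smul]
    simp only [inv_mul_cancel_right]
    rw [mul_smul, hω]
  have hN : k * g * k⁻¹ ∈ Subgroup.normalizer (Q : Set G) := by
    rw [← stab_base]
    have := hfix a ha
    rwa [hk] at this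
  have hne1 : k * g * k⁻¹ ≠ 1 := by
    intro hh
    apply hg1
    have : g = k⁻¹ * (k * g * k⁻¹) * k := by simp [mul_assoc]
    rw [this, hh]; simp
  have hkb : k • b ≠ ((1 : G) : G ⧸ _) := by
    rw [← hk]
    intro hh
    exact hab ((MulAction.injective k) hh).symm
  have hkc : k • c ≠ ((1 : G) : G ⧸ _) := by
    rw [← hk]
    intro hh
    exact hac ((MulAction.injective k) hh).symm
  have := h.fix_unique hq hG hN hne1 hkb hkc (hfix b hb) (hfix c hc)
  exact hbc ((MulAction.injective k) this)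

/-- The inverting involution does not normalize `Q`. -/
theorem u_not_mem (h : FData Q D) {u d0 : G} (hd0 : d0 ∈ D) (hd02 : d0 * d0 ≠ 1)
    (hinv : ∀ d ∈ D, u * d * u⁻¹ = d⁻¹) : u ∉ Subgroup.normalizer (Q : Set G) := by
  intro hu
  obtain ⟨a, ha, d1, hd1, rfl⟩ := h.exists_factor hu
  have h1 := hinv d0 hd0
  have h2 : a * d0 * a⁻¹ = d0⁻¹ := by
    rw [← h1]
    have hc : d1 * d0 = d0 * d1 := h.hDab d1 hd1 d0 hd0
    calc a * d0 * a⁻¹ = a * (d0 * d1) * d1⁻¹ * a⁻¹ := by simp [mul_assoc]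
      _ = a * (d1 * d0) * d1⁻¹ * a⁻¹ := by rw [hc]
      _ = a * d1 * d0 * (a * d1)⁻¹ := by simp [mul_assoc]
  have h3 : a * (d0 * a⁻¹ * d0⁻¹) = (d0 * d0)⁻¹ := by
    calc a * (d0 * a⁻¹ * d0⁻¹) = (a * d0 * a⁻¹) * d0⁻¹ := by simp [mul_assoc]
      _ = d0⁻¹ * d0⁻¹ := by rw [h2]
      _ = (d0 * d0)⁻¹ := by simp
  have h4 : (d0 * d0)⁻¹ ∈ Q := by
    rw [← h3]
    exact mul_mem ha (h.conj_mem (h.D_le_N hd0) (inv_mem ha))
  have h5 : (d0 * d0)⁻¹ ∈ D := inv_mem (mul_mem hd0 hd0)
  have h6 := h.eq_one_of_mem_mem h4 h5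
  exact hd02 (inv_eq_one.mp h6)

theorem faithful [IsSimpleGroup G] (H : Subgroup G) {u : G} (hu : u ∉ H) :
    FaithfulSMul G (G ⧸ H) := by
  constructor
  intro g1 g2 hh
  have hker : (MulAction.toPermHom G (G ⧸ H)).ker = ⊥ := by
    rcases (MulAction.toPermHom G (G ⧸ H)).normal_ker.eq_bot_or_eq_top with h1 | h1
    · exact h1
    · exfalso
      apply hu
      have hm : u ∈ (MulAction.toPermHom G (G ⧸ H)).ker := by rw [h1]; trivial
      rw [MonoidHom.mem_ker] at hm
      have := congrArg (fun σ => σ (((1 : G) : G ⧸ H))) hm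
      simp only [MulAction.toPermHom_apply, MulAction.toPerm_apply, Equiv.Perm.coe_one, id_eq] at this
      exact (stab_base H).mp this
  have hm : g2⁻¹ * g1 ∈ (MulAction.toPermHom G (G ⧸ H)).ker := by
    rw [MonoidHom.mem_ker]
    ext ω
    simp only [MulAction.toPermHom_apply, MulAction.toPerm_apply, Equiv.Perm.coe_one, id_eq]
    rw [mul_smul, hh ω, ← mul_smul]; simp
  rw [hker, Subgroup.mem_bot] at hm
  have := congrArg (fun z => g2 * z) hm
  simpa using this

/-- The coset action on `G ⧸ N(Q)` makes `G` a Zassenhaus group. -/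
theorem isZassenhaus [Finite G] [IsSimpleGroup G] (h : FData Q D)
    (hq : 2 * Nat.card D + 1 = Nat.card Q)
    (hG : 2 * Nat.card G = Nat.card Q * (Nat.card Q + 1) * (Nat.card Q - 1))
    {u d0 : G} (hd0 : d0 ∈ D) (hd02 : d0 * d0 ≠ 1)
    (hinv : ∀ d ∈ D, u * d * u⁻¹ = d⁻¹) :
    Cfsg.IsZassenhausGroup G (G ⧸ Subgroup.normalizer (Q : Set G)) := by
  have huN := h.u_not_mem hd0 hd02 hinv
  have hd01 : d0 ≠ 1 := by
    rintro rfl
    exact hd02 (by simp)
  have hd0fix : d0 • (((1 : G) : G ⧸ Subgroup.normalizer (Q : Set G))) = ((1 : G) : G ⧸ _) :=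
    (stab_base _).mpr (h.D_le_N hd0)
  have hune : ((u : G) : G ⧸ Subgroup.normalizer (Q : Set G)) ≠ ((1 : G) : G ⧸ _) := by
    rw [Ne, mk_eq_base_iff]; exact huN
  refine ⟨faithful _ huN, h.two_transitive hq hG, h.three_fix hq hG, ?_, ?_⟩
  · refine ⟨d0, hd01, ((1 : G) : G ⧸ _), ((u : G) : G ⧸ _), hune.symm, hd0fix, ?_⟩
    rw [smul_mk_eq_iff]
    have h1 := hinv d0 hd0
    have h2 : u⁻¹ * d0 * u = d0⁻¹ := by
      have : d0 = u⁻¹ * d0⁻¹ * u := by rw [← h1]; simp [mul_assoc]
      have h3 : d0⁻¹ = (u⁻¹ * d0⁻¹ * u)⁻¹ := by rw [← this]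
      rw [h3]; simp [mul_assoc]
    rw [h2]
    exact h.D_le_N (inv_mem hd0)
  · intro N' hN' htr
    rcases hN'.eq_bot_or_eq_top with h1 | h1
    · exfalso
      subst h1
      obtain ⟨n, hn⟩ := htr.exists_smul_eq (((1 : G) : G ⧸ Subgroup.normalizer (Q : Set G)))
        ((u : G) : G ⧸ _)
      have hn1 : (n : G) = 1 := Subgroup.mem_bot.mp n.2
      rw [Subgroup.smul_def, hn1, one_smul] at hn
      exact hune hn.symm
    · subst h1
      refine ⟨((1 : G) : G ⧸ _), ?_⟩
      intro hbot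
      have hm : (⟨d0, Subgroup.mem_top d0⟩ : (⊤ : Subgroup G)) ∈ (⊥ : Subgroup (⊤ : Subgroup G)) := by
        rw [← hbot]
        exact MulAction.mem_stabilizer_iff.mpr hd0fix
      rw [Subgroup.mem_bot] at hm
      exact hd01 (congrArg Subtype.val hm)

end FData


theorem card_of_sharp3 {G Ω : Type*} [Group G] [Finite G] [MulAction G Ω] [Finite Ω]
    (h3 : MulAction.IsMultiplyPretransitive G Ω 3)
    (hsharp : ∀ t : Fin 3 ↪ Ω, MulAction.stabilizer G t = ⊥) (hcard : 3 ≤ Nat.card Ω) :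
    Nat.card G = (Nat.card Ω).descFactorial 3 := by
  classical
  haveI := Fintype.ofFinite Ω
  obtain ⟨x0⟩ : Nonempty (Fin 3 ↪ Ω) :=
    Function.Embedding.nonempty_of_card_le (by simpa [Nat.card_eq_fintype_card] using hcard)
  haveI : MulAction.IsPretransitive G (Fin 3 ↪ Ω) := h3
  have h := MulAction.index_stabilizer_of_transitive G x0
  rw [hsharp x0, Subgroup.index_bot, Nat.card_eq_fintype_card (α := Fin 3 ↪ Ω),
    Fintype.card_embedding_eq, Fintype.card_fin] at h
  rw [h, Nat.card_eq_fintype_card]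

end Cfsg.Agent.Helper3.BswZas

namespace Cfsg.Agent.Helper21.Bsw

open Cfsg.Agent.Helper3.BswZas

universe u
variable {G : Type u} [Group G] [Finite G]

/-- BSW piece ZB: a simple group satisfying `ConclX` is `PSL(2, F)` for a finite field of odd order. -/
theorem psl_of_conclX [IsSimpleGroup G] (h : ConclX G) :
    ∃ (F : Type) (_ : Field F) (_ : Fintype F), Odd (Fintype.card F) ∧
      Nonempty (G ≃* Matrix.ProjectiveSpecialLinearGroup (Fin 2) F) := by
  classical
  obtain ⟨Q, D, hG, hcent, hDab, hq, hinf, hN, hX, hlast⟩ := h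
  have hF : FData Q D := by
    refine ⟨hcent, ?_, hinf, hN⟩
    intro a ha b hb
    have := hDab.is_comm.comm (⟨a, ha⟩ : D) ⟨b, hb⟩
    exact congrArg Subtype.val this
  have hDpos : 0 < Nat.card D := Nat.card_pos
  rcases hlast with hle | ⟨d0, hd0, hd02⟩
  · have hcases : Nat.card D = 1 ∨ Nat.card D = 2 := by omega
    rcases hcases with h1 | h2
    · -- |G| = 12 : impossible
      exfalso
      have hq3 : Nat.card Q = 3 := by omega
      rw [hq3] at hG
      have hG12 : Nat.card G = 12 := by omega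
      have hnc : ¬ IsCyclic G := by
        intro hc
        letI : CommGroup G := IsCyclic.commGroup
        have hp : (Nat.card G).Prime := IsSimpleGroup.prime_card
        rw [hG12] at hp
        norm_num at hp
      have := Cfsg.Agent.S0493.result hnc (by omega)
      omega
    · -- |G| = 60 : A5 = PSL(2,5)
      have hq5 : Nat.card Q = 5 := by omega
      rw [hq5] at hG
      have hG60 : Nat.card G = 60 := by omega
      obtain ⟨e1⟩ := Cfsg.Agent.S0494.result hG60
      haveI : Fact (Nat.Prime 5) := ⟨by norm_num⟩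
      have hc5 : Fintype.card (ZMod 5) = 5 := ZMod.card 5
      obtain ⟨e2⟩ := Cfsg.Agent.S0253.result (F := ZMod 5) hc5
      refine ⟨ZMod 5, inferInstance, inferInstance, ?_, ⟨e1.trans e2.symm⟩⟩
      rw [hc5]; decide
  · -- generic case: Zassenhaus group on the cosets of N(Q)
    have hd01 : d0 ≠ 1 := by
      rintro rfl
      exact hd02 (by simp)
    have hDne : D ≠ ⊥ := by
      intro hh
      rw [hh, Subgroup.mem_bot] at hd0
      exact hd01 hd0
    obtain ⟨-, u, hu2, huD, hinv, -⟩ := hX D le_rfl hDne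
    have hZ := hF.isZassenhaus hq hG hd0 hd02 hinv
    have hst : MulAction.stabilizer G (((1 : G) : G ⧸ Subgroup.normalizer (Q : Set G)))
        = Subgroup.normalizer (Q : Set G) := MulAction.stabilizer_quotient _
    have hFle : Q ≤ MulAction.stabilizer G (((1 : G) : G ⧸ Subgroup.normalizer (Q : Set G))) := by
      rw [hst]; exact hF.Q_le_N
    have hFn : (Q.subgroupOf
        (MulAction.stabilizer G (((1 : G) : G ⧸ Subgroup.normalizer (Q : Set G))))).Normal := by
      rw [hst]; exact Subgroup.normal_in_normalizer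
    have hFab : IsMulCommutative Q := ⟨⟨fun a b => Subtype.ext (hF.Q_comm a.2 b.2)⟩⟩
    have hreg := hF.regular hq hG
    rcases Cfsg.Agent.S0731.result hZ (((1 : G) : G ⧸ Subgroup.normalizer (Q : Set G))) Q hFle hFn hFab
      hreg with ⟨h3, hsharp⟩ | ⟨K, iK, iK', hchar, hiso⟩
    · exfalso
      have hcardΩ := hF.card_quot hq hG
      have hc := card_of_sharp3 h3 hsharp (by rw [hcardΩ]; omega)
      rw [hcardΩ] at hc
      have hQpos : 0 < Nat.card Q := Nat.card_pos
      obtain ⟨k, hk⟩ : ∃ k, Nat.card Q = k + 1 := ⟨Nat.card Q - 1, by omega⟩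
      rw [hk] at hc hG
      simp only [Nat.descFactorial_succ, Nat.descFactorial_zero] at hc
      have e1 : k + 1 + 1 - 2 = k := by omega
      have e2 : k + 1 + 1 - 1 = k + 1 := by omega
      have e3 : k + 1 - 1 = k := by omega
      rw [e1, e2] at hc
      rw [e3] at hG
      simp only [Nat.sub_zero, mul_one] at hc
      have hGpos : 0 < Nat.card G := Nat.card_pos
      nlinarith [hc, hG, hGpos]
    · refine ⟨K, iK, iK', ?_, hiso⟩
      have := FiniteField.odd_card_of_char_ne_two hchar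
      exact Nat.odd_iff.mpr this

end Cfsg.Agent.Helper21.Bsw
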