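import Mathlib
import Cfsg.Agent.Helper23.CMDefs
import Cfsg.Agent.Helper24.Abelian

set_option autoImplicit false

/-!
# S4756 piece SYLC: if `G'` is a `p`-group and `G` is not, the Sylow `p`-subgroup is normal and has an
abelian complement
-/

namespace Cfsg.Agent.Helper23.CM

open Cfsg Cfsg.Agent.Helper24

universe u

variable {G : Type u} [Group G] [Finite G]

/-- FW9a -/
theorem exists_sylow_complement (p : ℕ) [Fact p.Prime] (hP : IsPGroup p ↥(commutator G))
    (hnotp : ¬ IsPGroup p G) :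
    ∃ (P : Sylow p G) (A : Subgroup G), commutator G ≤ (P : Subgroup G) ∧
      (P : Subgroup G).Normal ∧ A ≠ ⊥ ∧ (Nat.card ↥A).Coprime p ∧
      A ⊔ (P : Subgroup G) = ⊤ ∧ (∀ a ∈ A, ∀ b ∈ A, a * b = b * a) := by
  have hp : p.Prime := Fact.out
  obtain ⟨P, hle⟩ := hP.exists_le_sylow
  have hcomm : ∀ g h : G, g * h * g⁻¹ * h⁻¹ ∈ commutator G := by
    intro g h
    rw [commutator_def]
    exact Subgroup.commutator_mem_commutator (Subgroup.mem_top g) (Subgroup.mem_top h)
  have hPn : (P : Subgroup G).Normal := by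
    refine ⟨fun x hx g => ?_⟩
    have h1 : g * x * g⁻¹ = (g * x * g⁻¹ * x⁻¹) * x := by group
    rw [h1]
    exact mul_mem (hle (hcomm g x)) hx
  have := hPn
  obtain ⟨A, hA⟩ := Subgroup.exists_right_complement'_of_coprime (N := (P : Subgroup G))
    P.card_coprime_index
  have hcard : Nat.card ↥(P : Subgroup G) * Nat.card ↥A = Nat.card G := hA.card_mul_card
  have hdisj : Disjoint (P : Subgroup G) A := hA.disjoint
  refine ⟨P, A, hle, hPn, ?_, ?_, ?_, ?_⟩
  · intro hbot
    apply hnotp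
    rw [hbot, Subgroup.card_bot, mul_one] at hcard
    have htop : (P : Subgroup G) = ⊤ := Subgroup.eq_top_of_card_eq _ hcard
    have h1 : IsPGroup p ↥(⊤ : Subgroup G) := htop ▸ P.2
    exact IsPGroup.of_equiv h1 Subgroup.topEquiv
  · have h1 : Nat.card ↥A = (P : Subgroup G).index := by
      have h2 := Subgroup.card_mul_index (P : Subgroup G)
      have hpos : 0 < Nat.card ↥(P : Subgroup G) := Nat.card_pos
      exact Nat.eq_of_mul_eq_mul_left hpos (by rw [hcard, h2])
    rw [h1]
    exact ((Nat.Prime.coprime_iff_not_dvd hp).2 P.not_dvd_index).symm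
  · rw [sup_comm]; exact hA.sup_eq_top
  · intro a ha b hb
    have h1 : a * b * a⁻¹ * b⁻¹ ∈ (P : Subgroup G) := hle (hcomm a b)
    have h2 : a * b * a⁻¹ * b⁻¹ ∈ A := mul_mem (mul_mem (mul_mem ha hb) (inv_mem ha)) (inv_mem hb)
    have h3 : a * b * a⁻¹ * b⁻¹ = 1 := by
      have := Subgroup.disjoint_def.1 hdisj h1 h2
      exact this
    have h4 : a * b = (a * b * a⁻¹ * b⁻¹) * (b * a) := by group
    rw [h4, h3, one_mul]

end Cfsg.Agent.Helper23.CM
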