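import Mathlib
import Cfsg.Agent.Helper3.CPDefs
import Cfsg.Agent.Helper3.CPBasic

set_option autoImplicit false
set_option linter.unusedSectionVars false

/-!
# S4016 piece CFGX, part a: elementary facts about the local structure `Loc p P L d`
-/

namespace Cfsg.Agent.Helper3.CPX

open Subgroup Cfsg.Agent.Helper3.CP

universe u

variable {G : Type u} [Group G] [Finite G] {p : ℕ} [Fact p.Prime]
variable {P : Sylow p G} {L : Subgroup G} {d : ℕ}

theorem L_le_normalizer (hLA : LocA p P L) : L ≤ normalizer ((P : Subgroup G) : Set G) := by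
  intro a ha
  rw [mem_normalizer_iff]
  intro y
  constructor
  · intro hy
    rw [hLA.LP_comm a ha y hy, mul_inv_cancel_right]; exact hy
  · intro hy
    have h1 := hLA.LP_comm a ha _ hy
    -- a * (a y a⁻¹) = (a y a⁻¹) * a  ⇒  a y = a y a⁻¹ a ... so y = a y a⁻¹
    have h2 : a * y * a⁻¹ = y := by
      have : a * (a * y * a⁻¹) = a * y := by rw [h1]; group
      exact mul_left_cancel this
    rw [← h2]; exact hy

theorem K_le_normalizer (hLA : LocA p P L) :
    L ⊔ (P : Subgroup G) ≤ normalizer ((P : Subgroup G) : Set G) :=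
  sup_le (L_le_normalizer hLA) le_normalizer

/-- elements of `K = L ⊔ P` are products -/
theorem exists_mul_of_mem_K (hLA : LocA p P L) {x : G} (hx : x ∈ L ⊔ (P : Subgroup G)) :
    ∃ l ∈ L, ∃ y ∈ (P : Subgroup G), x = l * y := by
  have h1 : x ∈ ((L ⊔ (P : Subgroup G) : Subgroup G) : Set G) := hx
  rw [coe_mul_of_left_le_normalizer_right L (P : Subgroup G) (L_le_normalizer hLA)] at h1
  obtain ⟨l, hl, y, hy, hly⟩ := Set.mem_mul.mp h1
  exact ⟨l, hl, y, hy, hly.symm⟩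

/-- `L ⊓ P = ⊥` -/
theorem inf_eq_bot (hLA : LocA p P L) {x : G} (hxL : x ∈ L) (hxP : x ∈ (P : Subgroup G)) :
    x = 1 := by
  have hp : p.Prime := Fact.out
  have h1 : orderOf x ∣ Nat.card ↥L := by
    have := orderOf_dvd_natCard (⟨x, hxL⟩ : L)
    rwa [Subgroup.orderOf_mk] at this
  obtain ⟨k, hk⟩ := (IsPGroup.iff_orderOf.1 P.2) ⟨x, hxP⟩
  rw [Subgroup.orderOf_mk] at hk
  rcases Nat.eq_zero_or_pos k with h0 | h0
  · rw [h0, pow_zero] at hk; exact orderOf_eq_one_iff.1 hk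
  · exfalso
    apply hLA.L_card
    rw [hk] at h1
    exact (dvd_pow_self p h0.ne').trans h1

/-- a `p'`-element of `K = L ⊔ P` lies in `L` -/
theorem mem_L_of_coprime (hLA : LocA p P L) {x : G} (hx : x ∈ L ⊔ (P : Subgroup G)) (m : ℕ)
    (hm : m.Coprime p) (hxm : x ^ m = 1) : x ∈ L := by
  have hp : p.Prime := Fact.out
  obtain ⟨l, hl, y, hy, rfl⟩ := exists_mul_of_mem_K hLA hx
  have hcomm : Commute l y := hLA.LP_comm l hl y hy
  rw [hcomm.mul_pow] at hxm
  have hym : y ^ m ∈ L := by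
    have : y ^ m = (l ^ m)⁻¹ := eq_inv_of_mul_eq_one_right hxm
    rw [this]; exact inv_mem (pow_mem hl m)
  have hym1 : y ^ m = 1 := inf_eq_bot hLA hym (pow_mem hy m)
  have hy1 : y = 1 := by
    obtain ⟨k, hk⟩ := (IsPGroup.iff_orderOf.1 P.2) ⟨y, hy⟩
    rw [Subgroup.orderOf_mk] at hk
    have h1 : orderOf y ∣ m := orderOf_dvd_of_pow_eq_one hym1
    have h2 : orderOf y ∣ p ^ k := by rw [hk]
    have h3 : orderOf y = 1 :=
      Nat.eq_one_of_dvd_coprimes (Nat.Coprime.pow_right k hm) h1 h2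
    exact orderOf_eq_one_iff.1 h3
  rw [hy1, mul_one]; exact hl

/-- a `p`-element of `K = L ⊔ P` lies in `P` -/
theorem mem_P_of_ppow (hLA : LocA p P L) {x : G} (hx : x ∈ L ⊔ (P : Subgroup G))
    (hxo : ∃ k : ℕ, orderOf x = p ^ k) : x ∈ (P : Subgroup G) :=
  mem_sylow_of_mem_normalizer P x (K_le_normalizer hLA hx) hxo

/-- `K = L ⊔ P` centralizes `P` -/
theorem K_commute_P (hLA : LocA p P L)
    (hPc : ∀ a ∈ (P : Subgroup G), ∀ b ∈ (P : Subgroup G), a * b = b * a) {x : G}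
    (hx : x ∈ L ⊔ (P : Subgroup G)) {y : G} (hy : y ∈ (P : Subgroup G)) : x * y = y * x := by
  obtain ⟨l, hl, y', hy', rfl⟩ := exists_mul_of_mem_K hLA hx
  rw [mul_assoc, hPc y' hy' y hy, ← mul_assoc, hLA.LP_comm l hl y hy, mul_assoc]

/-- an element normalizing `N(P)` lies in `N(P)` -/
theorem mem_normalizer_of_normalizes (P : Sylow p G) (v : G)
    (hv : ∀ n ∈ normalizer ((P : Subgroup G) : Set G),
      v * n * v⁻¹ ∈ normalizer ((P : Subgroup G) : Set G)) :
    v ∈ normalizer ((P : Subgroup G) : Set G) := by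
  apply mem_normalizer_of_conj_mem
  intro y hy
  apply mem_sylow_of_mem_normalizer P _ (hv y (le_normalizer hy))
  obtain ⟨k, hk⟩ := (IsPGroup.iff_orderOf.1 P.2) ⟨y, hy⟩
  rw [Subgroup.orderOf_mk] at hk
  refine ⟨k, ?_⟩
  rw [← hk]
  have : v * y * v⁻¹ = MulAut.conj v y := by simp
  rw [this, MulEquiv.orderOf_eq]

/-- XB: for `v ∉ N(P)`, `L ∩ vLv⁻¹ = 1` -/
theorem eq_one_of_conj_mem (hL : Loc p P L d) (v : G)
    (hv : v ∉ normalizer ((P : Subgroup G) : Set G)) {x : G} (hx : x ∈ L)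
    (hvx : v * x * v⁻¹ ∈ L) : x = 1 := by
  by_contra hx1
  apply hv
  have hx1' : v * x * v⁻¹ ≠ 1 := by
    intro h
    apply hx1
    have : x = v⁻¹ * (v * x * v⁻¹) * v := by group
    rw [this, h]; group
  have h1 := hL.cent_L x hx hx1
  have h2 := hL.cent_L _ hvx hx1'
  apply mem_normalizer_of_normalizes P
  intro n hn
  rw [← h2, mem_centralizer_iff]
  intro z hz
  rw [Set.mem_singleton_iff] at hz
  subst hz
  rw [← h1, mem_centralizer_iff] at hn
  have h3 := hn x (Set.mem_singleton x)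
  calc v * x * v⁻¹ * (v * n * v⁻¹) = v * (x * n) * v⁻¹ := by group
    _ = v * (n * x) * v⁻¹ := by rw [h3]
    _ = v * n * v⁻¹ * (v * x * v⁻¹) := by group

end Cfsg.Agent.Helper3.CPX
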