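import Mathlib
import Cfsg.Agent.Helper3.CPDefs
import Cfsg.Agent.Helper3.CPBasic
import Cfsg.Agent.Helper3.CPCFGXa
import Cfsg.Agent.Helper17.CPBURN

set_option autoImplicit false
set_option linter.unusedSectionVars false

/-!
# S4016 piece CFGX, part b: the setup `(R, u)` for an element `g ∈ L` of prime order `r`
-/

namespace Cfsg.Agent.Helper3.CPX

open Subgroup Cfsg.Agent.Helper3.CP

universe u

variable {G : Type u} [Group G] [Finite G] {p : ℕ} [Fact p.Prime]
variable {P : Sylow p G} {L : Subgroup G} {d : ℕ}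

/-- in a finite cyclic group, an element killed by `r` lies in the subgroup generated by any element
of order `r` -/
theorem mem_zpowers_of_isCyclic {H : Type*} [Group H] [Finite H] [IsCyclic H] (r : ℕ)
    (hr : 0 < r) (g x : H) (hg : orderOf g = r) (hx : x ^ r = 1) : x ∈ zpowers g := by
  classical
  have : Fintype H := Fintype.ofFinite H
  have hle := IsCyclic.card_pow_eq_one_le (α := H) (n := r) hr
  set S : Finset H := Finset.univ.filter (fun a : H => a ^ r = 1) with hS
  set T : Finset H := (Finset.range r).image (fun i => g ^ i) with hT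
  have hTcard : T.card = r := by
    rw [hT, Finset.card_image_of_injOn, Finset.card_range]
    intro i hi j hj hij
    simp only [Finset.coe_range, Set.mem_Iio] at hi hj
    rw [← hg] at hi hj
    exact pow_injOn_Iio_orderOf hi hj hij
  have hTS : T ⊆ S := by
    intro a ha
    rw [hT, Finset.mem_image] at ha
    obtain ⟨i, -, rfl⟩ := ha
    rw [hS, Finset.mem_filter]
    refine ⟨Finset.mem_univ _, ?_⟩
    rw [← pow_mul, mul_comm, pow_mul, ← hg, pow_orderOf_eq_one, one_pow]
  have hEq : T = S := Finset.eq_of_subset_of_card_le hTS (by rw [hTcard]; exact hle)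
  have hxS : x ∈ S := by rw [hS, Finset.mem_filter]; exact ⟨Finset.mem_univ _, hx⟩
  rw [← hEq, hT, Finset.mem_image] at hxS
  obtain ⟨i, -, rfl⟩ := hxS
  exact pow_mem (mem_zpowers g) i

/-- the data attached to an element `g ∈ L` of prime order `r` -/
structure Setup (p : ℕ) (P : Sylow p G) (L : Subgroup G) (r : ℕ) (g : G) (R : Sylow r G) (u : G) :
    Prop where
  g_mem : g ∈ (R : Subgroup G)
  R_le : (R : Subgroup G) ≤ normalizer ((P : Subgroup G) : Set G)
  R_comm : ∀ a ∈ (R : Subgroup G), ∀ b ∈ (R : Subgroup G), a * b = b * a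
  u_norm : u ∈ normalizer ((R : Subgroup G) : Set G)
  u_ord : ∃ k : ℕ, orderOf u = p ^ k
  u_ne : u ≠ 1
  not_mem : ∀ v ∈ zpowers u, v ≠ 1 → v ∉ normalizer ((P : Subgroup G) : Set G)

theorem exists_setup (h : Ctx p G) (hL : Loc p P L d) (r : ℕ) [Fact r.Prime] (g : G) (hg : g ∈ L)
    (hgo : orderOf g = r) : ∃ (R : Sylow r G) (u : G), Setup p P L r g R u := by
  have hp : p.Prime := Fact.out
  have hr : r.Prime := Fact.out
  have hLA : LocA p P L := hL.toLocA
  have hrp : r ≠ p := by
    intro hrp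
    apply hL.L_card
    have h1 : orderOf g ∣ Nat.card ↥L := by
      have := orderOf_dvd_natCard (⟨g, hg⟩ : L)
      rwa [Subgroup.orderOf_mk] at this
    rw [hgo, hrp] at h1
    exact h1
  have hg1 : g ≠ 1 := by
    intro h1; rw [h1, orderOf_one] at hgo; exact hr.one_lt.ne hgo
  have hPc : ∀ a ∈ (P : Subgroup G), ∀ b ∈ (P : Subgroup G), a * b = b * a := by
    intro a ha b hb
    have := (h.hyp.1 P)
    have h1 := mul_comm' (⟨a, ha⟩ : (P : Subgroup G)) ⟨b, hb⟩
    exact congrArg Subtype.val h1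
  have hz : IsPGroup r ↥(zpowers g) := by
    apply IsPGroup.of_card (n := 1)
    rw [Nat.card_zpowers, hgo, pow_one]
  obtain ⟨R, hR⟩ := hz.exists_le_sylow
  have hgR : g ∈ (R : Subgroup G) := hR (mem_zpowers g)
  have hRcard : ¬ p ∣ Nat.card ↥(R : Subgroup G) := by
    obtain ⟨a, ha⟩ := IsPGroup.iff_card.1 R.2
    rw [ha]
    intro hd
    have := (Nat.prime_dvd_prime_iff_eq hp hr).1 (hp.dvd_of_dvd_pow hd)
    exact hrp this.symm
  have hRc : ∀ a ∈ (R : Subgroup G), ∀ b ∈ (R : Subgroup G), a * b = b * a :=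
    h.hyp.2 _ hRcard
  have hRN : (R : Subgroup G) ≤ normalizer ((P : Subgroup G) : Set G) := by
    intro x hx
    rw [← hL.cent_L g hg hg1, mem_centralizer_iff]
    intro z hz
    rw [Set.mem_singleton_iff] at hz
    subst hz
    exact hRc z hgR x hx
  have hRbot : (R : Subgroup G) ≠ ⊥ := by
    intro hb
    rw [hb, mem_bot] at hgR
    exact hg1 hgR
  obtain ⟨u, huN, huC, huo⟩ := h.exists_pelement r hrp R hRbot
  have hu1 : u ≠ 1 := by
    intro h1; apply huC; rw [h1]; exact one_mem _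
  refine ⟨R, u, hgR, hRN, hRc, huN, huo, hu1, ?_⟩
  intro v hvU hv1 hvN
  apply huC
  -- v is a p-element of N(P), so v ∈ P
  have hvo : ∃ k : ℕ, orderOf v = p ^ k := by
    obtain ⟨k, hk⟩ := huo
    obtain ⟨j, hj⟩ := mem_zpowers_iff.1 hvU
    have h1 : orderOf v ∣ p ^ k := by
      rw [← hk, ← hj]
      exact orderOf_dvd_of_pow_eq_one (by rw [← zpow_natCast, ← zpow_mul, mul_comm, zpow_mul,
        zpow_natCast, pow_orderOf_eq_one, one_zpow])
    obtain ⟨i, -, hi⟩ := (Nat.dvd_prime_pow hp).1 h1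
    exact ⟨i, hi⟩
  have hvP : v ∈ (P : Subgroup G) := mem_sylow_of_mem_normalizer P v hvN hvo
  have hCv := hLA.cent_P v hvP hv1
  -- u commutes with v
  have huv : u * v = v * u := by
    obtain ⟨j, hj⟩ := mem_zpowers_iff.1 hvU
    rw [← hj]
    exact ((Commute.refl u).zpow_right j).eq
  have huK : u ∈ L ⊔ (P : Subgroup G) := by
    rw [← hCv, mem_centralizer_iff]
    intro z hz
    rw [Set.mem_singleton_iff] at hz
    subst hz
    exact huv.symm
  have huP : u ∈ (P : Subgroup G) := mem_P_of_ppow hLA huK huo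
  -- every x ∈ R commutes with v, hence lies in K, hence commutes with u
  rw [mem_centralizer_iff]
  intro x hx
  have hxN := hRN hx
  have hvR : v ∈ normalizer ((R : Subgroup G) : Set G) := by
    have : zpowers u ≤ normalizer ((R : Subgroup G) : Set G) := by rw [zpowers_le]; exact huN
    exact this hvU
  set c := x * v * x⁻¹ * v⁻¹ with hc
  have hcP : c ∈ (P : Subgroup G) :=
    mul_mem ((mem_normalizer_iff.1 hxN v).1 hvP) (inv_mem hvP)
  have hcR : c ∈ (R : Subgroup G) := by
    have h1 : v * x⁻¹ * v⁻¹ ∈ (R : Subgroup G) := (mem_normalizer_iff.1 hvR x⁻¹).1 (inv_mem hx)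
    have : c = x * (v * x⁻¹ * v⁻¹) := by rw [hc]; group
    rw [this]; exact mul_mem hx h1
  have hc1 : c = 1 := by
    obtain ⟨a, ha⟩ := (IsPGroup.iff_orderOf.1 R.2) ⟨c, hcR⟩
    obtain ⟨b, hb⟩ := (IsPGroup.iff_orderOf.1 P.2) ⟨c, hcP⟩
    rw [Subgroup.orderOf_mk] at ha hb
    have h1 : orderOf c ∣ r ^ a := by rw [ha]
    have h2 : orderOf c ∣ p ^ b := by rw [hb]
    have hcop : Nat.Coprime (r ^ a) (p ^ b) :=
      Nat.Coprime.pow a b ((Nat.coprime_primes hr hp).2 hrp)
    exact orderOf_eq_one_iff.1 (Nat.eq_one_of_dvd_coprimes hcop h1 h2)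
  have hxv : x * v = v * x := by
    have : x * v * x⁻¹ * v⁻¹ = 1 := hc1
    have h2 : x * v * x⁻¹ = v := by
      rw [mul_inv_eq_one] at this; exact this
    exact mul_inv_eq_iff_eq_mul.1 h2
  have hxK : x ∈ L ⊔ (P : Subgroup G) := by
    rw [← hCv, mem_centralizer_iff]
    intro z hz
    rw [Set.mem_singleton_iff] at hz
    subst hz
    exact hxv.symm
  exact K_commute_P hLA hPc hxK huP

end Cfsg.Agent.Helper3.CPX
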