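import Mathlib
import Cfsg.Agent.Helper3.CPDefs
import Cfsg.Agent.Helper3.CPBasic
import Cfsg.Agent.Helper3.CPCFGXa
import Cfsg.Agent.Helper3.CPCFGXb

set_option autoImplicit false
set_option linter.unusedSectionVars false

/-!
# S4016 piece CFGX, part c: counting conjugates of `g` inside `R`
-/

namespace Cfsg.Agent.Helper3.CPX

open Subgroup Cfsg.Agent.Helper3.CP

universe u

variable {G : Type u} [Group G] [Finite G] {p : ℕ} [Fact p.Prime]
variable {P : Sylow p G} {L : Subgroup G} {d : ℕ}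

theorem conj_pow' (v x : G) (m : ℕ) : (v * x * v⁻¹) ^ m = v * x ^ m * v⁻¹ := by
  induction m with
  | zero => simp
  | succ k ih => rw [pow_succ, ih, pow_succ]; group

theorem conj_zpow' (v x : G) (m : ℤ) : (v * x * v⁻¹) ^ m = v * x ^ m * v⁻¹ := by
  have : v * x * v⁻¹ = MulAut.conj v x := by simp
  rw [this, ← map_zpow]; simp

/-- C1 -/
theorem conj_not_mem_K (hL : Loc p P L d) {r : ℕ} {g : G} {R : Sylow r G} {u : G}
    (hS : Setup p P L r g R u) {v : G} (hv : v ∈ zpowers u) (hv1 : v ≠ 1) {x : G} (hx : x ∈ L)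
    (hx1 : x ≠ 1) (m : ℕ) (hm : m.Coprime p) (hxm : x ^ m = 1) :
    v * x * v⁻¹ ∉ L ⊔ (P : Subgroup G) := by
  intro hK
  have h1 : (v * x * v⁻¹) ^ m = 1 := by rw [conj_pow', hxm]; group
  have h2 := mem_L_of_coprime hL.toLocA hK m hm h1
  exact hx1 (eq_one_of_conj_mem hL v (hS.not_mem v hv hv1) hx h2)

/-- elements of `R` are killed by a power of `r`, which is prime to `p` -/
theorem exists_coprime_pow_eq_one {r : ℕ} [Fact r.Prime] (hrp : r ≠ p) (R : Sylow r G) {x : G}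
    (hx : x ∈ (R : Subgroup G)) : ∃ m : ℕ, m.Coprime p ∧ x ^ m = 1 := by
  have hp : p.Prime := Fact.out
  have hr : r.Prime := Fact.out
  obtain ⟨a, ha⟩ := (IsPGroup.iff_orderOf.1 R.2) ⟨x, hx⟩
  rw [Subgroup.orderOf_mk] at ha
  refine ⟨r ^ a, Nat.Coprime.pow_left a ((Nat.coprime_primes hr hp).2 hrp), ?_⟩
  rw [← ha, pow_orderOf_eq_one]

/-- C3: the `r`-torsion of `L ⊓ R` is `⟨g⟩` -/
theorem mem_zpowers_of_mem_L (hL : Loc p P L d) {r : ℕ} [Fact r.Prime] (hrp : r ≠ p) {g : G}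
    (hg : g ∈ L) (hgo : orderOf g = r) {R : Sylow r G} {u : G}
    (hS : Setup p P L r g R u) {x : G} (hxL : x ∈ L) (hxR : x ∈ (R : Subgroup G))
    (hxr : x ^ r = 1) : x ∈ zpowers g := by
  have hr : r.Prime := Fact.out
  set M : Subgroup G := (L ⊓ (R : Subgroup G)).map (MulAut.conj u).toMonoidHom with hM
  have hMR : M ≤ (R : Subgroup G) := by
    rintro y ⟨c, hc, rfl⟩
    have : (MulAut.conj u).toMonoidHom c = u * c * u⁻¹ := by simp
    rw [this]
    exact (mem_normalizer_iff.1 hS.u_norm c).1 hc.2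
  have hMK : M ⊓ (L ⊔ (P : Subgroup G)) = ⊥ := by
    rw [eq_bot_iff]
    rintro y ⟨⟨c, hc, rfl⟩, hyK⟩
    have hcu : (MulAut.conj u).toMonoidHom c = u * c * u⁻¹ := by simp
    rw [mem_bot]
    by_cases hc1 : c = 1
    · rw [hc1]; simp
    · exfalso
      obtain ⟨m, hm, hcm⟩ := exists_coprime_pow_eq_one hrp R hc.2
      have hyK' : (MulAut.conj u).toMonoidHom c ∈ L ⊔ (P : Subgroup G) := hyK
      rw [hcu] at hyK'
      exact conj_not_mem_K hL hS (mem_zpowers u) hS.u_ne hc.1 hc1 m hm hcm hyK'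
  have hcycM : IsCyclic ↥M := (hL.cyc M (hMR.trans hS.R_le) hMK).1
  have e : ↥(L ⊓ (R : Subgroup G)) ≃* ↥M :=
    (L ⊓ (R : Subgroup G)).equivMapOfInjective (MulAut.conj u).toMonoidHom
      (MulAut.conj u).injective
  have hcyc : IsCyclic ↥(L ⊓ (R : Subgroup G)) := isCyclic_of_surjective e.symm e.symm.surjective
  have hgm : g ∈ L ⊓ (R : Subgroup G) := ⟨hg, hS.g_mem⟩
  have hxm : x ∈ L ⊓ (R : Subgroup G) := ⟨hxL, hxR⟩
  have h1 := mem_zpowers_of_isCyclic (H := ↥(L ⊓ (R : Subgroup G))) r hr.pos ⟨g, hgm⟩ ⟨x, hxm⟩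
    (by rw [Subgroup.orderOf_mk]; exact hgo) (by apply Subtype.ext; simpa using hxr)
  obtain ⟨k, hk⟩ := mem_zpowers_iff.1 h1
  refine mem_zpowers_iff.2 ⟨k, ?_⟩
  have := congrArg Subtype.val hk
  simpa using this

/-- C2 -/
theorem r_dvd_d (hL : Loc p P L d) {r : ℕ} [Fact r.Prime] (hrp : r ≠ p) {g : G}
    (hg : g ∈ L) (hgo : orderOf g = r) {R : Sylow r G} {u : G}
    (hS : Setup p P L r g R u) : r ∣ d := by
  have hp : p.Prime := Fact.out
  have hr : r.Prime := Fact.out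
  set g' := u * g * u⁻¹ with hg'
  have hg'R : g' ∈ (R : Subgroup G) := (mem_normalizer_iff.1 hS.u_norm g).1 hS.g_mem
  have hg'o : orderOf g' = r := by
    have : g' = MulAut.conj u g := by simp [hg']
    rw [this, MulEquiv.orderOf_eq, hgo]
  have hB : zpowers g' ⊓ (L ⊔ (P : Subgroup G)) = ⊥ := by
    rw [eq_bot_iff]
    rintro y ⟨hy, hyK⟩
    rw [mem_bot]
    obtain ⟨k, rfl⟩ := mem_zpowers_iff.1 hy
    by_contra hy1
    rw [hg', conj_zpow'] at hyK hy1
    have hgk1 : g ^ k ≠ 1 := by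
      intro h; apply hy1; rw [h]; group
    have hgkr : (g ^ k) ^ r = 1 := by
      rw [← zpow_natCast, ← zpow_mul, mul_comm, zpow_mul, zpow_natCast, ← hgo, pow_orderOf_eq_one,
        one_zpow]
    exact conj_not_mem_K hL hS (mem_zpowers u) hS.u_ne (zpow_mem hg k) hgk1 r
      ((Nat.coprime_primes hr hp).2 hrp) hgkr hyK
  have h1 := (hL.cyc (zpowers g') ((zpowers_le.2 hg'R).trans hS.R_le) hB).2
  rwa [Nat.card_zpowers, hg'o] at h1

end Cfsg.Agent.Helper3.CPX
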