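import Mathlib
import Cfsg.Agent.Helper3.CPDefs
import Cfsg.Agent.Helper3.CPBasic
import Cfsg.Agent.Helper3.CPCFGXa
import Cfsg.Agent.Helper3.CPCFGXb
import Cfsg.Agent.Helper3.CPCFGXc

set_option autoImplicit false
set_option linter.unusedSectionVars false

/-!
# S4016 piece CFGX, part d: all conjugates `v g v⁻¹` (`v ∈ ⟨u⟩`) lie in `⟨g, u g u⁻¹⟩`
-/

namespace Cfsg.Agent.Helper3.CPX

open Subgroup Cfsg.Agent.Helper3.CP

universe u

variable {G : Type u} [Group G] [Finite G] {p : ℕ} [Fact p.Prime]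
variable {P : Sylow p G} {L : Subgroup G} {d : ℕ}

/-- elements of `⟨a⟩ ⊔ ⟨b⟩` for commuting `a`, `b` -/
theorem exists_zpow_mul_zpow {a b : G} (hab : Commute a b) {x : G}
    (hx : x ∈ zpowers a ⊔ zpowers b) : ∃ i j : ℤ, x = a ^ i * b ^ j := by
  have hle : zpowers a ≤ normalizer ((zpowers b : Subgroup G) : Set G) := by
    rw [zpowers_le]
    rw [mem_normalizer_iff]
    intro y
    constructor
    · intro hy
      obtain ⟨k, rfl⟩ := mem_zpowers_iff.1 hy
      have : a * b ^ k * a⁻¹ = b ^ k := by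
        rw [(hab.zpow_right k).eq, mul_inv_cancel_right]
      rw [this]; exact hy
    · intro hy
      obtain ⟨k, hk⟩ := mem_zpowers_iff.1 hy
      have : y = b ^ k := by
        have h1 : y = a⁻¹ * (a * y * a⁻¹) * a := by group
        rw [h1, ← hk]
        have h2 : a⁻¹ * b ^ k * a = b ^ k := by
          have := (hab.zpow_right k).inv_left
          rw [this.eq, inv_mul_cancel_right]
        exact h2
      rw [this]; exact zpow_mem (mem_zpowers b) k
  have h1 : x ∈ ((zpowers a ⊔ zpowers b : Subgroup G) : Set G) := hx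
  rw [coe_mul_of_left_le_normalizer_right _ _ hle] at h1
  obtain ⟨y, hy, z, hz, hyz⟩ := Set.mem_mul.mp h1
  obtain ⟨i, rfl⟩ := mem_zpowers_iff.1 hy
  obtain ⟨j, rfl⟩ := mem_zpowers_iff.1 hz
  exact ⟨i, j, hyz.symm⟩

/-- SPAN -/
theorem conj_mem_span (hL : Loc p P L d) {r : ℕ} [Fact r.Prime] (hrp : r ≠ p) {g : G}
    (hg : g ∈ L) (hgo : orderOf g = r) {R : Sylow r G} {u : G}
    (hS : Setup p P L r g R u) {v : G} (hv : v ∈ zpowers u) :
    ∃ a b : ℤ, v * g * v⁻¹ = g ^ a * (u * g * u⁻¹) ^ b := by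
  have hp : p.Prime := Fact.out
  have hr : r.Prime := Fact.out
  have hcop : r.Coprime p := (Nat.coprime_primes hr hp).2 hrp
  by_cases hv1 : v = 1
  · refine ⟨1, 0, ?_⟩
    rw [hv1]; simp
  set g' := u * g * u⁻¹ with hg'
  set gv := v * g * v⁻¹ with hgv
  have hg'R : g' ∈ (R : Subgroup G) := (mem_normalizer_iff.1 hS.u_norm g).1 hS.g_mem
  have hvN : v ∈ normalizer ((R : Subgroup G) : Set G) := by
    have : zpowers u ≤ normalizer ((R : Subgroup G) : Set G) := by
      rw [zpowers_le]; exact hS.u_norm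
    exact this hv
  have hgvR : gv ∈ (R : Subgroup G) := (mem_normalizer_iff.1 hvN g).1 hS.g_mem
  have hg'o : orderOf g' = r := by
    have : g' = MulAut.conj u g := by simp [hg']
    rw [this, MulEquiv.orderOf_eq, hgo]
  have hgvo : orderOf gv = r := by
    have : gv = MulAut.conj v g := by simp [hgv]
    rw [this, MulEquiv.orderOf_eq, hgo]
  have hc1 : Commute g' gv := hS.R_comm g' hg'R gv hgvR
  have hc2 : Commute g g' := hS.R_comm g hS.g_mem g' hg'R
  have hc3 : Commute g gv := hS.R_comm g hS.g_mem gv hgvR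
  set B : Subgroup G := zpowers g' ⊔ zpowers gv with hB
  have hBR : B ≤ (R : Subgroup G) := sup_le (zpowers_le.2 hg'R) (zpowers_le.2 hgvR)
  by_cases hBK : B ⊓ (L ⊔ (P : Subgroup G)) = ⊥
  · have hcyc : IsCyclic ↥B := (hL.cyc B (hBR.trans hS.R_le) hBK).1
    have hg'B : g' ∈ B := mem_sup_left (mem_zpowers g')
    have hgvB : gv ∈ B := mem_sup_right (mem_zpowers gv)
    have h1 := mem_zpowers_of_isCyclic (H := ↥B) r hr.pos ⟨g', hg'B⟩ ⟨gv, hgvB⟩
      (by rw [Subgroup.orderOf_mk]; exact hg'o)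
      (by apply Subtype.ext; simp only [SubmonoidClass.mk_pow, OneMemClass.coe_one];
          rw [← hgvo, pow_orderOf_eq_one])
    obtain ⟨k, hk⟩ := mem_zpowers_iff.1 h1
    refine ⟨0, k, ?_⟩
    have := congrArg Subtype.val hk
    simp only [SubgroupClass.coe_zpow] at this
    rw [zpow_zero, one_mul, this]
  · -- a nontrivial element of B ∩ K
    have : ∃ x ∈ B ⊓ (L ⊔ (P : Subgroup G)), x ≠ 1 := by
      by_contra hcon
      push Not at hcon
      apply hBK
      rw [eq_bot_iff]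
      intro x hx
      rw [mem_bot]; exact hcon x hx
    obtain ⟨x, ⟨hxB, hxK⟩, hx1⟩ := this
    obtain ⟨i, j, hxij⟩ := exists_zpow_mul_zpow hc1 hxB
    have hxr : x ^ r = 1 := by
      rw [hxij, (hc1.zpow_zpow i j).mul_pow, ← zpow_natCast, ← zpow_natCast, ← zpow_mul, ← zpow_mul,
        mul_comm i, mul_comm j, zpow_mul, zpow_mul, zpow_natCast, zpow_natCast, ← hg'o,
        pow_orderOf_eq_one, hg'o, ← hgvo, pow_orderOf_eq_one, one_zpow, one_zpow, one_mul]
    have hxL : x ∈ L := mem_L_of_coprime hL.toLocA hxK r hcop hxr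
    have hxR : x ∈ (R : Subgroup G) := hBR hxB
    obtain ⟨a, ha⟩ := mem_zpowers_iff.1 (mem_zpowers_of_mem_L hL hrp hg hgo hS hxL hxR hxr)
    -- gv ^ j = g'^(-i) * g^a
    have hgvj : gv ^ j = g' ^ (-i) * g ^ a := by
      rw [ha, hxij, zpow_neg, inv_mul_cancel_left]
    have hgvj1 : gv ^ j ≠ 1 := by
      intro h1
      rw [h1, mul_one] at hxij
      -- x = g'^i = u g^i u⁻¹ ∈ L
      have hgi1 : g ^ i ≠ 1 := by
        intro h2
        apply hx1
        rw [hxij, hg', conj_zpow', h2]; group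
      have hgir : (g ^ i) ^ r = 1 := by
        rw [← zpow_natCast, ← zpow_mul, mul_comm, zpow_mul, zpow_natCast, ← hgo,
          pow_orderOf_eq_one, one_zpow]
      apply conj_not_mem_K hL hS (mem_zpowers u) hS.u_ne (zpow_mem hg i) hgi1 r hcop hgir
      rw [← conj_zpow', ← hg', ← hxij]
      exact hxK
    -- j is prime to r
    have hjr : IsCoprime j (r : ℤ) := by
      have hrZ : Prime (r : ℤ) := Nat.prime_iff_prime_int.1 hr
      rw [isCoprime_comm]
      apply (Prime.coprime_iff_not_dvd hrZ).2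
      intro hdvd
      apply hgvj1
      obtain ⟨c, hc⟩ := hdvd
      rw [hc, zpow_mul, zpow_natCast, ← hgvo, pow_orderOf_eq_one, one_zpow]
    obtain ⟨j', m, hjm⟩ := hjr
    have hgv_eq : gv = (gv ^ j) ^ j' := by
      have h1 : gv ^ (j' * j + m * (r : ℤ)) = gv := by rw [hjm, zpow_one]
      rw [zpow_add, zpow_mul gv m, mul_comm j' j, zpow_mul] at h1
      have h2 : gv ^ m = (gv ^ m) := rfl
      have h3 : (gv ^ m) ^ (r : ℤ) = 1 := by
        rw [← zpow_mul, mul_comm, zpow_mul, zpow_natCast, ← hgvo, pow_orderOf_eq_one, one_zpow]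
      rw [h3, mul_one] at h1
      exact h1.symm
    refine ⟨a * j', -i * j', ?_⟩
    rw [hgv_eq, hgvj, ((hc2.symm.zpow_zpow (-i) a)).mul_zpow, ← zpow_mul, ← zpow_mul]
    exact ((hc2.symm.zpow_zpow (-i * j') (a * j'))).eq

end Cfsg.Agent.Helper3.CPX
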