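import Mathlib
import Cfsg.Agent.Helper3.CPDefs
import Cfsg.Agent.Helper3.CPBasic
import Cfsg.Agent.Helper3.CPCFGXa
import Cfsg.Agent.Helper3.CPCFGXb
import Cfsg.Agent.Helper3.CPCFGXc
import Cfsg.Agent.Helper3.CPCFGXd

set_option autoImplicit false
set_option linter.unusedSectionVars false

/-!
# S4016 piece CFGX, part e: the count `o(u) (r - 1) + 1 ≤ r²` and its arithmetic consequences
-/

namespace Cfsg.Agent.Helper3.CPX

open Subgroup Cfsg.Agent.Helper3.CP

universe u

variable {G : Type u} [Group G] [Finite G] {p : ℕ} [Fact p.Prime]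
variable {P : Sylow p G} {L : Subgroup G} {d : ℕ}

theorem exists_pow_eq_zpow (x : G) {r : ℕ} (hr : 0 < r) (hx : orderOf x = r) (A : ℤ) :
    ∃ k : ℕ, k < r ∧ x ^ A = x ^ k := by
  have hr0 : (r : ℤ) ≠ 0 := by exact_mod_cast hr.ne'
  refine ⟨(A % (r : ℤ)).toNat, ?_, ?_⟩
  · have h1 : A % (r : ℤ) < r := Int.emod_lt_of_pos A (by exact_mod_cast hr)
    have h2 : 0 ≤ A % (r : ℤ) := Int.emod_nonneg A hr0
    omega
  · have h2 : 0 ≤ A % (r : ℤ) := Int.emod_nonneg A hr0
    rw [← zpow_natCast, Int.toNat_of_nonneg h2, ← hx, zpow_mod_orderOf]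

/-- COUNT -/
theorem card_bound (hL : Loc p P L d) {r : ℕ} [Fact r.Prime] (hrp : r ≠ p) {g : G}
    (hg : g ∈ L) (hgo : orderOf g = r) {R : Sylow r G} {u : G}
    (hS : Setup p P L r g R u) : orderOf u * (r - 1) + 1 ≤ r * r := by
  classical
  have hp : p.Prime := Fact.out
  have hr : r.Prime := Fact.out
  set g' := u * g * u⁻¹ with hg'
  have hg'R : g' ∈ (R : Subgroup G) := (mem_normalizer_iff.1 hS.u_norm g).1 hS.g_mem
  have hg'o : orderOf g' = r := by
    have : g' = MulAut.conj u g := by simp [hg']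
    rw [this, MulEquiv.orderOf_eq, hgo]
  have hc2 : Commute g g' := hS.R_comm g hS.g_mem g' hg'R
  set T : Finset G :=
    ((Finset.range r) ×ˢ (Finset.range r)).image (fun ab : ℕ × ℕ => g ^ ab.1 * g' ^ ab.2) with hT
  have hTcard : T.card ≤ r * r := by
    calc T.card ≤ ((Finset.range r) ×ˢ (Finset.range r)).card := Finset.card_image_le
      _ = r * r := by rw [Finset.card_product, Finset.card_range]
  have h1T : (1 : G) ∈ T := by
    rw [hT, Finset.mem_image]
    exact ⟨(0, 0), by simp [hr.pos], by simp⟩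
  set n := orderOf u with hn
  set D : Finset (ℕ × ℕ) := (Finset.range n) ×ˢ (Finset.range (r - 1)) with hD
  set f : ℕ × ℕ → G := fun ai => u ^ ai.1 * g ^ (ai.2 + 1) * (u ^ ai.1)⁻¹ with hf
  have hgpow : ∀ i : ℕ, i < r - 1 → g ^ (i + 1) ≠ 1 := by
    intro i hi
    apply pow_ne_one_of_lt_orderOf (Nat.succ_ne_zero i)
    rw [hgo]; omega
  have hmaps : ∀ ai ∈ D, f ai ∈ T.erase 1 := by
    intro ai hai
    rw [hD, Finset.mem_product, Finset.mem_range, Finset.mem_range] at hai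
    rw [Finset.mem_erase]
    constructor
    · intro h1
      apply hgpow ai.2 hai.2
      have : g ^ (ai.2 + 1) = (u ^ ai.1)⁻¹ * f ai * u ^ ai.1 := by rw [hf]; group
      rw [this, h1]; group
    · obtain ⟨a, b, hab⟩ := conj_mem_span hL hrp hg hgo hS (pow_mem (mem_zpowers u) ai.1)
      have h2 : f ai = (g ^ a * g' ^ b) ^ (ai.2 + 1) := by
        rw [← hab, conj_pow']
      rw [(hc2.zpow_zpow a b).mul_pow, ← zpow_natCast, ← zpow_natCast, ← zpow_mul, ← zpow_mul] at h2
      obtain ⟨k1, hk1, hk1'⟩ := exists_pow_eq_zpow g hr.pos hgo (a * ((ai.2 + 1 : ℕ) : ℤ))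
      obtain ⟨k2, hk2, hk2'⟩ := exists_pow_eq_zpow g' hr.pos hg'o (b * ((ai.2 + 1 : ℕ) : ℤ))
      rw [hk1', hk2'] at h2
      rw [hT, Finset.mem_image]
      exact ⟨(k1, k2), by simp [hk1, hk2], h2.symm⟩
  have hinj : Set.InjOn f (D : Set (ℕ × ℕ)) := by
    intro ai hai bj hbj hfe
    rw [Finset.mem_coe, hD, Finset.mem_product, Finset.mem_range, Finset.mem_range] at hai hbj
    set w := (u ^ bj.1)⁻¹ * u ^ ai.1 with hw
    have hwU : w ∈ zpowers u :=
      mul_mem (inv_mem (pow_mem (mem_zpowers u) _)) (pow_mem (mem_zpowers u) _)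
    have hwg : w * g ^ (ai.2 + 1) * w⁻¹ = g ^ (bj.2 + 1) := by
      have h1 : w * g ^ (ai.2 + 1) * w⁻¹ = (u ^ bj.1)⁻¹ * f ai * u ^ bj.1 := by
        rw [hw, hf]; group
      rw [h1, hfe, hf]; group
    have hw1 : w = 1 := by
      by_contra hw1
      apply hgpow ai.2 hai.2
      apply eq_one_of_conj_mem hL w (hS.not_mem w hwU hw1) (pow_mem hg _)
      rw [hwg]; exact pow_mem hg _
    have hu_eq : u ^ ai.1 = u ^ bj.1 := by
      have : (u ^ bj.1)⁻¹ * u ^ ai.1 = 1 := hw1
      rw [inv_mul_eq_one] at this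
      exact this.symm
    have h1 : ai.1 = bj.1 := pow_injOn_Iio_orderOf (by simpa using hai.1) (by simpa using hbj.1)
      hu_eq
    have hg_eq : g ^ (ai.2 + 1) = g ^ (bj.2 + 1) := by
      rw [hw1] at hwg
      simpa using hwg
    have h2 : ai.2 + 1 = bj.2 + 1 := by
      apply pow_injOn_Iio_orderOf (x := g)
      · simp only [Set.mem_Iio]; rw [hgo]; omega
      · simp only [Set.mem_Iio]; rw [hgo]; omega
      · exact hg_eq
    exact Prod.ext h1 (by omega)
  have hcard := Finset.card_le_card_of_injOn f hmaps hinj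
  rw [hD, Finset.card_product, Finset.card_range, Finset.card_range,
    Finset.card_erase_of_mem h1T] at hcard
  have hTpos : 0 < T.card := Finset.card_pos.2 ⟨1, h1T⟩
  omega

/-- arithmetic: `p = 3`, `r = 2`, `d = 2`, `o(u) = 3` -/
theorem arith (hodd : p ≠ 2) (hL : Loc p P L d) {r : ℕ} [Fact r.Prime] (hrp : r ≠ p) {g : G}
    (hg : g ∈ L) (hgo : orderOf g = r) {R : Sylow r G} {u : G}
    (hS : Setup p P L r g R u) : p = 3 ∧ r = 2 ∧ d = 2 ∧ orderOf u = 3 := by
  have hp : p.Prime := Fact.out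
  have hr : r.Prime := Fact.out
  have h1 := card_bound hL hrp hg hgo hS
  have h2 := r_dvd_d hL hrp hg hgo hS
  have h3 : r ∣ p - 1 := h2.trans hL.d_dvd
  have hp2 : 2 ≤ p := hp.two_le
  have hr2 : 2 ≤ r := hr.two_le
  have h4 : r ≤ p - 1 := Nat.le_of_dvd (by omega) h3
  obtain ⟨k, hk⟩ := hS.u_ord
  have hk0 : k ≠ 0 := by
    intro h0
    rw [h0, pow_zero] at hk
    exact hS.u_ne (orderOf_eq_one_iff.1 hk)
  have hpn : p ≤ orderOf u := by
    rw [hk]
    calc p = p ^ 1 := (pow_one p).symm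
      _ ≤ p ^ k := Nat.pow_le_pow_right hp.pos (Nat.one_le_iff_ne_zero.2 hk0)
  -- n (r-1) + 1 ≤ r*r  ⇒ n ≤ r + 1
  have hn : orderOf u ≤ r + 1 := by
    by_contra hcon
    push Not at hcon
    have h5 : (r + 2) * (r - 1) ≤ orderOf u * (r - 1) := Nat.mul_le_mul_right _ hcon
    have h6 : (r + 2) * (r - 1) + 1 ≤ r * r := by omega
    obtain ⟨r', hr'⟩ : ∃ r', r = r' + 2 := ⟨r - 2, by omega⟩
    have h7 : r - 1 = r' + 1 := by omega
    rw [h7, hr'] at h6
    nlinarith
  have hpr : p = r + 1 := by omega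
  have hnp : orderOf u = p := by omega
  -- p odd so r = p - 1 even prime
  have hr_eq : r = 2 := by
    rcases hp.eq_two_or_odd with h | h
    · exact absurd h hodd
    · have : r % 2 = 0 := by omega
      have h2r : 2 ∣ r := Nat.dvd_of_mod_eq_zero this
      exact ((Nat.prime_dvd_prime_iff_eq Nat.prime_two hr).1 h2r).symm
  have hp3 : p = 3 := by omega
  refine ⟨hp3, hr_eq, ?_, by omega⟩
  have hd2 : d ∣ 2 := by
    have := hL.d_dvd
    rw [hp3] at this
    exact this
  rcases (Nat.dvd_prime Nat.prime_two).1 hd2 with h | h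
  · have := hL.one_lt_d; omega
  · exact h

end Cfsg.Agent.Helper3.CPX
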