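import Mathlib
import Cfsg.Agent.Helper3.CPDefs
import Cfsg.Agent.Helper3.CPBasic
import Cfsg.Agent.Helper3.CPCFGXa
import Cfsg.Agent.Helper3.CPCFGXb
import Cfsg.Agent.Helper3.CPCFGXc
import Cfsg.Agent.Helper3.CPCFGXd
import Cfsg.Agent.Helper3.CPCFGXe

set_option autoImplicit false
set_option linter.unusedSectionVars false

/-!
# S4016 piece CFGX: if `L ≠ 1` then `p = 3`, `d = 2`, `|L| = 2`, and all involutions are conjugate
-/

namespace Cfsg.Agent.Helper3.CPX

open Subgroup Cfsg.Agent.Helper3.CP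

universe u

variable {G : Type u} [Group G] [Finite G] {p : ℕ} [Fact p.Prime]
variable {P : Sylow p G} {L : Subgroup G} {d : ℕ}

/-- `|L ⊔ P| = |L| * |P|` -/
theorem card_K (hLA : LocA p P L) :
    Nat.card ↥(L ⊔ (P : Subgroup G)) = Nat.card ↥L * Nat.card ↥(P : Subgroup G) := by
  have hp : p.Prime := Fact.out
  apply Nat.dvd_antisymm (card_sup_dvd_mul (L_le_normalizer hLA))
  have h1 : Nat.card ↥L ∣ Nat.card ↥(L ⊔ (P : Subgroup G)) := Subgroup.card_dvd_of_le le_sup_left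
  have h2 : Nat.card ↥(P : Subgroup G) ∣ Nat.card ↥(L ⊔ (P : Subgroup G)) :=
    Subgroup.card_dvd_of_le le_sup_right
  obtain ⟨n, hn⟩ := IsPGroup.iff_card.1 P.2
  have hcop : Nat.Coprime (Nat.card ↥L) (Nat.card ↥(P : Subgroup G)) := by
    rw [hn]
    exact Nat.Coprime.pow_right n (((Nat.Prime.coprime_iff_not_dvd hp).2 hLA.L_card).symm)
  exact hcop.mul_dvd_of_dvd_of_dvd h1 h2

/-- when `d = 2`, `K = L ⊔ P` has index two in `N(P)` -/
theorem mul_mem_K (hL : Loc p P L d) (hd2 : d = 2) {a b : G}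
    (ha : a ∈ normalizer ((P : Subgroup G) : Set G))
    (hb : b ∈ normalizer ((P : Subgroup G) : Set G))
    (haK : a ∉ L ⊔ (P : Subgroup G)) (hbK : b ∉ L ⊔ (P : Subgroup G)) :
    a * b ∈ L ⊔ (P : Subgroup G) := by
  set N := normalizer ((P : Subgroup G) : Set G) with hN
  set K := L ⊔ (P : Subgroup G) with hK
  have hKN : K ≤ N := K_le_normalizer hL.toLocA
  have hidx : (K.subgroupOf N).index = 2 := by
    have h1 := Subgroup.index_mul_card (K.subgroupOf N)
    have h2 : Nat.card ↥(K.subgroupOf N) = Nat.card ↥K :=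
      Nat.card_congr (subgroupOfEquivOfLe hKN).toEquiv
    have h3 := hL.card_N
    rw [h2, card_K hL.toLocA] at h1
    rw [hd2] at h3
    have hpos : 0 < Nat.card ↥L * Nat.card ↥(P : Subgroup G) :=
      Nat.mul_pos Nat.card_pos Nat.card_pos
    have : (K.subgroupOf N).index * (Nat.card ↥L * Nat.card ↥(P : Subgroup G)) =
        2 * (Nat.card ↥L * Nat.card ↥(P : Subgroup G)) := by
      rw [h1, h3]; ring
    exact Nat.eq_of_mul_eq_mul_right hpos this
  have h4 := Subgroup.mul_mem_iff_of_index_two hidx (a := (⟨a, ha⟩ : N)) (b := ⟨b, hb⟩)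
  rw [mem_subgroupOf, mem_subgroupOf, mem_subgroupOf] at h4
  exact h4.2 ⟨fun h => absurd h haK, fun h => absurd h hbK⟩

theorem cfgX_aux (h : Ctx p G) (hL : Loc p P L d) (hL1 : L ≠ ⊥) :
    p = 3 ∧ d = 2 ∧ ∃ t s : G, orderOf t = 2 ∧ L = zpowers t ∧ orderOf s = 2 ∧
      s ∈ normalizer ((P : Subgroup G) : Set G) ∧ s ∉ L ⊔ (P : Subgroup G) ∧
      ∀ x y : G, orderOf x = 2 → orderOf y = 2 → IsConj x y := by
  have hp : p.Prime := Fact.out
  have hLA : LocA p P L := hL.toLocA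
  -- every prime divisor of |L| is 2
  have key : ∀ r : ℕ, r.Prime → r ∣ Nat.card ↥L → p = 3 ∧ r = 2 ∧ d = 2 := by
    intro r hr hrL
    have : Fact r.Prime := ⟨hr⟩
    obtain ⟨⟨g, hg⟩, hgo⟩ := exists_prime_orderOf_dvd_card' r hrL
    rw [Subgroup.orderOf_mk] at hgo
    have hrp : r ≠ p := by
      intro hrp
      apply hLA.L_card
      rw [← hrp]; exact hrL
    obtain ⟨R, u, hS⟩ := exists_setup h hL r g hg hgo
    obtain ⟨h1, h2, h3, -⟩ := arith h.odd hL hrp hg hgo hS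
    exact ⟨h1, h2, h3⟩
  have hcardL1 : Nat.card ↥L ≠ 1 := by
    intro hc
    exact hL1 ((Subgroup.card_eq_one).1 hc)
  obtain ⟨r, hr, hrL⟩ := Nat.exists_prime_and_dvd hcardL1
  obtain ⟨hp3, hr2, hd2⟩ := key r hr hrL
  subst hr2
  refine ⟨hp3, hd2, ?_⟩
  have h2p : (2 : ℕ) ≠ p := by omega
  obtain ⟨⟨g, hg⟩, hgo⟩ := exists_prime_orderOf_dvd_card' 2 hrL
  rw [Subgroup.orderOf_mk] at hgo
  obtain ⟨R, u, hS⟩ := exists_setup h hL 2 g hg hgo
  obtain ⟨-, -, -, huo⟩ := arith h.odd hL h2p hg hgo hS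
  have hg1 : g ≠ 1 := by
    intro h1; rw [h1, orderOf_one] at hgo; omega
  have hcop2 : Nat.Coprime 2 p := by rw [hp3]; decide
  have hgg : g ^ 2 = 1 := by rw [← hgo, pow_orderOf_eq_one]
  -- L is a 2-group
  have hLcard : ∃ a : ℕ, Nat.card ↥L = 2 ^ a := by
    refine ⟨_, Nat.eq_prime_pow_of_unique_prime_dvd Nat.card_pos.ne' ?_⟩
    intro q hq hqL
    exact (key q hq hqL).2.1
  have hL2 : IsPGroup 2 ↥L := by
    obtain ⟨a, ha⟩ := hLcard
    exact IsPGroup.of_card ha
  -- L ≤ R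
  have hLR : L ≤ (R : Subgroup G) := by
    have hRL : (R : Subgroup G) ≤ normalizer ((L : Subgroup G) : Set G) := by
      intro w hw
      exact mem_normalizer_of_conj_mem L w (hLA.L_norm w (hS.R_le hw))
    have hsup : IsPGroup 2 ↥((R : Subgroup G) ⊔ L) := IsPGroup.to_sup_of_normal_right' R.2 hL2 hRL
    have := R.3 hsup le_sup_left
    rw [← this]; exact le_sup_right
  -- |L| = 2
  set M : Subgroup G := L.map (MulAut.conj u).toMonoidHom with hM
  have hMR : M ≤ (R : Subgroup G) := by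
    rintro y ⟨c, hc, rfl⟩
    have : (MulAut.conj u).toMonoidHom c = u * c * u⁻¹ := by simp
    rw [this]
    exact (mem_normalizer_iff.1 hS.u_norm c).1 (hLR hc)
  have hMK : M ⊓ (L ⊔ (P : Subgroup G)) = ⊥ := by
    rw [eq_bot_iff]
    rintro y ⟨⟨c, hc, rfl⟩, hyK⟩
    have hcu : (MulAut.conj u).toMonoidHom c = u * c * u⁻¹ := by simp
    rw [mem_bot]
    by_cases hc1 : c = 1
    · rw [hc1]; simp
    · exfalso
      obtain ⟨m, hm, hcm⟩ := exists_coprime_pow_eq_one h2p R (hLR hc)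
      have hyK' : (MulAut.conj u).toMonoidHom c ∈ L ⊔ (P : Subgroup G) := hyK
      rw [hcu] at hyK'
      exact conj_not_mem_K hL hS (mem_zpowers u) hS.u_ne hc hc1 m hm hcm hyK'
  have hMcard : Nat.card ↥M ∣ 2 := by
    have := (hL.cyc M (hMR.trans hS.R_le) hMK).2
    rwa [hd2] at this
  have hML : Nat.card ↥M = Nat.card ↥L :=
    Subgroup.card_map_of_injective (MulAut.conj u).injective
  have hLcard2 : Nat.card ↥L = 2 := by
    rw [hML] at hMcard
    rcases (Nat.dvd_prime Nat.prime_two).1 hMcard with h1 | h1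
    · exact absurd h1 hcardL1
    · exact h1
  have hLeq : L = zpowers g := by
    symm
    apply Subgroup.eq_of_le_of_card_ge (zpowers_le.2 hg)
    rw [Nat.card_zpowers, hgo, hLcard2]
  have hmemL : ∀ x ∈ L, x = 1 ∨ x = g := by
    intro x hx
    rw [hLeq] at hx
    obtain ⟨k, rfl⟩ := mem_zpowers_iff.1 hx
    rcases Int.even_or_odd k with ⟨c, hc⟩ | ⟨c, hc⟩
    · left
      rw [hc, ← two_mul, zpow_mul, zpow_ofNat, hgg, one_zpow]
    · right
      rw [hc, zpow_add, zpow_mul, zpow_ofNat, hgg, one_zpow, one_mul, zpow_one]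
  -- s
  set s := u * g * u⁻¹ with hs
  have hsR : s ∈ (R : Subgroup G) := (mem_normalizer_iff.1 hS.u_norm g).1 hS.g_mem
  have hso : orderOf s = 2 := by
    have : s = MulAut.conj u g := by simp [hs]
    rw [this, MulEquiv.orderOf_eq, hgo]
  have hsK : s ∉ L ⊔ (P : Subgroup G) :=
    conj_not_mem_K hL hS (mem_zpowers u) hS.u_ne hg hg1 2 hcop2 hgg
  have hss : s * s = 1 := by rw [← pow_two, ← hso, pow_orderOf_eq_one]
  have hsinv : s⁻¹ = s := inv_eq_of_mul_eq_one_right hss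
  -- classification of the involutions of R
  have hclass : ∀ x ∈ (R : Subgroup G), orderOf x = 2 → x = g ∨ x = s ∨ x = g * s := by
    intro x hxR hxo
    have hx1 : x ≠ 1 := by
      intro h1; rw [h1, orderOf_one] at hxo; omega
    have hxx : x ^ 2 = 1 := by rw [← hxo, pow_orderOf_eq_one]
    by_cases hxK : x ∈ L ⊔ (P : Subgroup G)
    · have hxL := mem_L_of_coprime hLA hxK 2 hcop2 hxx
      rcases hmemL x hxL with h1 | h1
      · exact absurd h1 hx1
      · exact Or.inl h1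
    · have hxsK := mul_mem_K hL hd2 (hS.R_le hxR) (hS.R_le hsR) hxK hsK
      have hxs2 : (x * s) ^ 2 = 1 := by
        have hc : Commute x s := hS.R_comm x hxR s hsR
        rw [hc.mul_pow, hxx, ← hso, pow_orderOf_eq_one, one_mul]
      have hxsL := mem_L_of_coprime hLA hxsK 2 hcop2 hxs2
      rcases hmemL _ hxsL with h1 | h1
      · right; left
        have : x = s⁻¹ := eq_inv_of_mul_eq_one_left h1
        rw [this, hsinv]
      · right; right
        have : x = g * s⁻¹ := eq_mul_inv_of_mul_eq h1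
        rw [this, hsinv]
  -- u² g u⁻² = g s
  have hu2 : u ^ 2 ≠ 1 := by
    intro h1
    have := orderOf_dvd_of_pow_eq_one h1
    rw [huo] at this
    omega
  have hu2U : u ^ 2 ∈ zpowers u := pow_mem (mem_zpowers u) 2
  set s2 := u ^ 2 * g * (u ^ 2)⁻¹ with hs2
  have hs2R : s2 ∈ (R : Subgroup G) := by
    have : u ^ 2 ∈ normalizer ((R : Subgroup G) : Set G) := pow_mem hS.u_norm 2
    exact (mem_normalizer_iff.1 this g).1 hS.g_mem
  have hs2o : orderOf s2 = 2 := by
    have : s2 = MulAut.conj (u ^ 2) g := by rw [hs2, MulAut.conj_apply]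
    rw [this, MulEquiv.orderOf_eq, hgo]
  have hs2K : s2 ∉ L ⊔ (P : Subgroup G) :=
    conj_not_mem_K hL hS hu2U hu2 hg hg1 2 hcop2 hgg
  have hs2eq : s2 = g * s := by
    rcases hclass s2 hs2R hs2o with h1 | h1 | h1
    · exfalso; apply hs2K; rw [h1]; exact mem_sup_left hg
    · exfalso
      -- u² g u⁻² = u g u⁻¹ ⇒ u g u⁻¹ = g
      have h2 : u * g * u⁻¹ = g := by
        have : u⁻¹ * s2 * u = u⁻¹ * s * u := by rw [h1]
        rw [hs2, hs] at this
        have h3 : u⁻¹ * (u ^ 2 * g * (u ^ 2)⁻¹) * u = u * g * u⁻¹ := by group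
        have h4 : u⁻¹ * (u * g * u⁻¹) * u = g := by group
        rw [h3, h4] at this
        exact this
      apply hsK
      rw [hs, h2]; exact mem_sup_left hg
    · exact h1
  -- conjugacy
  have hconjg : ∀ x : G, orderOf x = 2 → IsConj g x := by
    intro x hxo
    have hz : IsPGroup 2 ↥(zpowers x) := by
      apply IsPGroup.of_card (n := 1)
      rw [Nat.card_zpowers, hxo, pow_one]
    obtain ⟨R', hR'⟩ := hz.exists_le_sylow
    obtain ⟨c, hc⟩ := MulAction.exists_smul_eq G R' R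
    have hxR' : x ∈ (R' : Subgroup G) := hR' (mem_zpowers x)
    have hcx : c * x * c⁻¹ ∈ (R : Subgroup G) := by
      rw [← hc, Sylow.coe_subgroup_smul]
      have := Subgroup.smul_mem_pointwise_smul x (MulAut.conj c) (R' : Subgroup G) hxR'
      simpa using this
    have hcxo : orderOf (c * x * c⁻¹) = 2 := by
      have : c * x * c⁻¹ = MulAut.conj c x := by simp
      rw [this, MulEquiv.orderOf_eq, hxo]
    have hback : ∀ y : G, IsConj g y → c * x * c⁻¹ = y → IsConj g x := by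
      intro y hy hxy
      have h1 : IsConj x y := by
        rw [isConj_iff]; exact ⟨c, hxy⟩
      exact hy.trans h1.symm
    rcases hclass _ hcx hcxo with h1 | h1 | h1
    · exact hback g (IsConj.refl g) h1
    · exact hback s (isConj_iff.2 ⟨u, rfl⟩) h1
    · refine hback (g * s) ?_ h1
      rw [← hs2eq]
      exact isConj_iff.2 ⟨u ^ 2, rfl⟩
  refine ⟨g, s, hgo, hLeq, hso, hS.R_le hsR, hsK, ?_⟩
  intro x y hx hy
  exact (hconjg x hx).symm.trans (hconjg y hy)

end Cfsg.Agent.Helper3.CPX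

namespace Cfsg.Agent.Helper3.CP

open Subgroup

universe u

variable {G : Type u} [Group G] [Finite G] {p : ℕ} [Fact p.Prime]

/-- CFGX -/
theorem Ctx.cfgX (h : Ctx p G) (P : Sylow p G) (L : Subgroup G) (d : ℕ) (hL : Loc p P L d)
    (hL1 : L ≠ ⊥) :
    p = 3 ∧ d = 2 ∧ ∃ t s : G, orderOf t = 2 ∧ L = zpowers t ∧ orderOf s = 2 ∧
      s ∈ normalizer ((P : Subgroup G) : Set G) ∧ s ∉ L ⊔ (P : Subgroup G) ∧
      ∀ x y : G, orderOf x = 2 → orderOf y = 2 → IsConj x y :=
  Cfsg.Agent.Helper3.CPX.cfgX_aux h hL hL1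

end Cfsg.Agent.Helper3.CP
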