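import Mathlib
import Cfsg.Agent.Helper3.CPDefs
import Cfsg.Agent.Helper3.CPBasic
import Cfsg.Agent.Helper3.CPCFGX
import Cfsg.Agent.Helper18.CPBSWXa
import Cfsg.Agent.Helper23.CPBSWXb
import Cfsg.Agent.Helper17.CPBURN
import Cfsg.Agent.Helper26.CPCONGa
import Cfsg.Agent.Helper26.CPCONGb
import Cfsg.Agent.Helper7.CPINH
import Cfsg.Agent.Helper20.CPLOCa
import Cfsg.Agent.Helper23.CPLOCb
import Cfsg.Agent.Helper17.CPLOCc
import Cfsg.Agent.Helper20.CPNPCZ
import Cfsg.Agent.Helper26.CPNRM
import Cfsg.Agent.Helper7.CPP2
import Cfsg.Agent.Helper26.CPQP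
import Cfsg.Agent.Helper7.CPQPP
import Cfsg.Agent.Helper18.CPR1A
import Cfsg.Agent.Helper18.CPR1B
import Cfsg.Agent.Helper17.CPSIM0

set_option autoImplicit false

/-!
# S4016: assembly
-/

namespace Cfsg.Agent.Helper3.CP

open Subgroup

universe u

variable {G : Type u} [Group G] [Finite G] {p : ℕ} [Fact p.Prime]

/-- HYP0: the hypotheses of S4016 give `Hyp` -/
theorem hyp_of (P : Sylow p G) (hcyc : IsCyclic ↥(P : Subgroup G))
    (hab : ∀ H : Subgroup G, ¬ p ∣ Nat.card ↥H → IsMulCommutative ↥H) : Hyp p G := by
  refine ⟨fun P' => ?_, fun H hH a ha b hb => ?_⟩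
  · obtain ⟨g, hg⟩ := MulAction.exists_smul_eq G P P'
    have e : ↥(P : Subgroup G) ≃* ↥(P' : Subgroup G) := by
      rw [← hg]
      exact P.equivSMul g
    exact isCyclic_of_surjective e e.surjective
  · have := hab H hH
    have h1 := mul_comm' (⟨a, ha⟩ : H) ⟨b, hb⟩
    exact congrArg Subtype.val h1

/-- the simple case is impossible -/
theorem Ctx.false (h : Ctx p G) : False := by
  have hp : p.Prime := Fact.out
  obtain ⟨P⟩ : Nonempty (Sylow p G) := inferInstance
  obtain ⟨hPbot, hNC⟩ := h.sylow_facts P
  -- an element of order p in P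
  have hcardP : p ∣ Nat.card ↥(P : Subgroup G) := by
    obtain ⟨n, hn⟩ := IsPGroup.iff_card.1 P.2
    rcases Nat.eq_zero_or_pos n with h0 | h0
    · exfalso
      apply hPbot
      rw [h0, pow_zero] at hn
      exact (Subgroup.card_eq_one).1 hn
    · rw [hn]; exact dvd_pow_self p h0.ne'
  obtain ⟨⟨z, hzP⟩, hzo⟩ := exists_prime_orderOf_dvd_card' p hcardP
  rw [Subgroup.orderOf_mk] at hzo
  have hz1 : z ≠ 1 := by
    intro h1; rw [h1, orderOf_one] at hzo; exact hp.one_lt.ne hzo
  obtain ⟨L, hLz, hLp, hLn, hLall, hLP⟩ := exists_compl_centralizer h.hyp P z hzP hz1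
  have hLA : LocA p P L := locA_of_compl h.hyp P hNC z hzP hzo L hLz hLp hLn hLall hLP
  obtain ⟨d, hcardN, hd, hd1, hcyc⟩ := exists_locB h.hyp h.odd P L hLA hNC
  have hL : Loc p P L d :=
    { toLocA := hLA
      cent_L := h.cent_L P L hLA hNC
      card_N := hcardN
      d_dvd := hd
      one_lt_d := hd1
      fpf := by
        intro w hw hwK y hy hwy
        by_contra hy1
        apply hwK
        rw [← hLA.cent_P y hy hy1, mem_centralizer_iff]
        intro x hx
        rw [Set.mem_singleton_iff] at hx
        subst hx
        exact hwy.symm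
      cyc := hcyc }
  by_cases hL1 : L = ⊥
  · subst hL1
    apply false_of_card_sylow_modEq_one P d hL
    intro r _ hrp R
    by_cases hR : (R : Subgroup G) = ⊥
    · rw [hR, Subgroup.card_bot]
    · obtain ⟨u, huN, huC, huo⟩ := h.exists_pelement r hrp R hR
      have hu1 : u ≠ 1 := by
        intro h1; apply huC; rw [h1]; exact one_mem _
      exact card_sylow_modEq_one P d hL r hrp R u huN hu1 huo
  · obtain ⟨hp3, hd2, t, s, ht, hLt, hs, hsN, hsK, hconj⟩ := h.cfgX P L d hL hL1
    obtain ⟨Q, D, hcard, hCQ, hDab, hDQ, hQD, hNQ, hX⟩ :=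
      exists_QD P L d hL hd2 t s ht hLt hs hsN hsK hconj
    have htL : t ∈ L := by rw [hLt]; exact mem_zpowers t
    exact false_of_QD h.hyp hp3 P L hLA t ht htL Q D hcard hCQ hDab hDQ hQD hNQ hX

/-- the main theorem, by strong induction on the order -/
theorem concl_of_hyp_aux : ∀ (n : ℕ) (G : Type u) [Group G] [Finite G],
    Nat.card G = n → Hyp p G → Concl p G := by
  intro n
  induction n using Nat.strong_induction_on with
  | _ n ih =>
    intro G _ _ hn hyp
    by_cases hsimple : ∃ N : Subgroup G, N.Normal ∧ N ≠ ⊥ ∧ N ≠ ⊤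
    · obtain ⟨N, hNn, hNbot, hNtop⟩ := hsimple
      have hcardN : Nat.card ↥N < n := by
        rw [← hn]
        have hle : Nat.card ↥N ≤ Nat.card G := Subgroup.card_le_card_group N
        rcases hle.lt_or_eq with hlt | heq
        · exact hlt
        · exact absurd (Subgroup.eq_top_of_card_eq N heq) hNtop
      have hCN : Concl p ↥N := ih _ hcardN ↥N rfl (hyp.subgroup N)
      obtain ⟨M, hMn, hMbot, hM⟩ := exists_normal_of_concl N hNbot hCN
      have hquot : ∀ M : Subgroup G, M.Normal → M ≠ ⊥ → Nat.card (G ⧸ M) < n := by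
        intro M _ hMb
        rw [← hn, ← Subgroup.index_eq_card, ← Subgroup.card_mul_index M]
        have h1 : 1 < Nat.card ↥M := by
          rcases Nat.lt_or_ge 1 (Nat.card ↥M) with h | h
          · exact h
          · exfalso
            have hpos : 0 < Nat.card ↥M := Nat.card_pos
            have : Nat.card ↥M = 1 := by omega
            exact hMb ((Subgroup.card_eq_one).1 this)
        have h2 : 0 < M.index := Nat.pos_of_ne_zero M.index_ne_zero_of_finite
        nlinarith
      by_cases hcore : ∀ M : Subgroup G, M.Normal → ¬ p ∣ Nat.card ↥M → M = ⊥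
      · rcases hM with hM | hM
        · exact absurd (hcore M hMn hM) hMbot
        · exact concl_of_quot_p hyp M hM hcore
            (ih _ (hquot M hMn hMbot) (G ⧸ M) rfl (hyp.quot_p M hM))
      · push Not at hcore
        obtain ⟨M', hM'n, hM'p, hM'bot⟩ := hcore
        exact concl_of_quot_pprime hyp M' hM'p
          (ih _ (hquot M' hM'n hM'bot) (G ⧸ M') rfl (hyp.quot_pprime M' hM'p))
    · push Not at hsimple
      by_cases hcomm : ∀ a b : G, a * b = b * a
      · right
        intro P
        refine ⟨fun x hx g => ?_⟩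
        rw [hcomm g x, mul_inv_cancel_right]
        exact hx
      · by_cases hp2 : p = 2
        · subst hp2
          exact concl_two hyp
        · exfalso
          have hnt : Nontrivial G := by
            by_contra hnt
            rw [not_nontrivial_iff_subsingleton] at hnt
            exact hcomm (fun a b => Subsingleton.elim _ _)
          have hs : IsSimpleGroup G :=
            { exists_pair_ne := hnt.exists_pair_ne
              eq_bot_or_eq_top_of_normal := fun N hN => by
                by_contra hcon
                push Not at hcon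
                exact hcon.2 (hsimple N hN hcon.1) }
          have hctx : Ctx p G :=
            { hyp := hyp
              simple := hs
              nonab := hcomm
              ih := fun K hK => by
                have hcardK : Nat.card ↥K < n := by
                  rw [← hn]
                  have hle : Nat.card ↥K ≤ Nat.card G := Subgroup.card_le_card_group K
                  rcases hle.lt_or_eq with hlt | heq
                  · exact hlt
                  · exact absurd (Subgroup.eq_top_of_card_eq K heq) hK
                exact ih _ hcardK ↥K rfl (hyp.subgroup K)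
              odd := hp2 }
          exact hctx.false

theorem concl_of_hyp (h : Hyp p G) : Concl p G := concl_of_hyp_aux (Nat.card G) G rfl h

end Cfsg.Agent.Helper3.CP
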