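import Mathlib

set_option autoImplicit false

namespace Cfsg.Agent.Helper3

open scoped Pointwise

variable {G : Type*} [Group G]

/-- a nontrivial normal subgroup supplements a core-free maximal subgroup -/
theorem sup_eq_top_of_coreFree {U : Subgroup G} (hU : IsCoatom U) (hcore : U.normalCore = ⊥)
    (N : Subgroup G) [N.Normal] (hN : N ≠ ⊥) : U ⊔ N = ⊤ := by
  have hNU : ¬ N ≤ U := by
    intro h
    apply hN
    have : N ≤ U.normalCore := Subgroup.normal_le_normalCore.mpr h
    rw [hcore] at this
    exact le_bot_iff.mp this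
  have hlt : U < U ⊔ N := by
    apply lt_of_le_of_ne le_sup_left
    intro h
    apply hNU
    rw [h]; exact le_sup_right
  exact hU.2 _ hlt

/-- elementwise version -/
theorem exists_mul_of_coreFree {U : Subgroup G} (hU : IsCoatom U) (hcore : U.normalCore = ⊥)
    (N : Subgroup G) [N.Normal] (hN : N ≠ ⊥) (g : G) : ∃ u ∈ U, ∃ n ∈ N, g = u * n := by
  have h := sup_eq_top_of_coreFree hU hcore N hN
  have hg : g ∈ U ⊔ N := by rw [h]; trivial
  have hset : ((U ⊔ N : Subgroup G) : Set G) = (U : Set G) * (N : Set G) := Subgroup.mul_normal U N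
  have hg' : g ∈ (U : Set G) * (N : Set G) := by rw [← hset]; exact hg
  obtain ⟨u, hu, n, hn, rfl⟩ := hg'
  exact ⟨u, hu, n, hn, rfl⟩

/-- a normal subgroup contained in a core-free subgroup is trivial -/
theorem eq_bot_of_normal_le_coreFree {U : Subgroup G} (hcore : U.normalCore = ⊥)
    (D : Subgroup G) [D.Normal] (hD : D ≤ U) : D = ⊥ := by
  have : D ≤ U.normalCore := Subgroup.normal_le_normalCore.mpr hD
  rw [hcore] at this
  exact le_bot_iff.mp this

/-- the centralizer of a nontrivial normal subgroup meets a core-free maximal subgroup trivially -/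
theorem centralizer_inf_coreFree {U : Subgroup G} (hU : IsCoatom U) (hcore : U.normalCore = ⊥)
    (N : Subgroup G) [N.Normal] (hN : N ≠ ⊥) : Subgroup.centralizer (N : Set G) ⊓ U = ⊥ := by
  have hn : (Subgroup.centralizer (N : Set G) ⊓ U).Normal := by
    constructor
    intro d hd g
    obtain ⟨u, hu, n, hn, rfl⟩ := exists_mul_of_coreFree hU hcore N hN g
    have hdc : n * d * n⁻¹ = d := by
      have := (Subgroup.mem_centralizer_iff.mp hd.1) n hn
      rw [this]; simp
    have e : u * n * d * (u * n)⁻¹ = u * d * u⁻¹ := by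
      calc u * n * d * (u * n)⁻¹ = u * (n * d * n⁻¹) * u⁻¹ := by group
        _ = u * d * u⁻¹ := by rw [hdc]
    rw [e]
    refine ⟨?_, U.mul_mem (U.mul_mem hu hd.2) (U.inv_mem hu)⟩
    exact (inferInstance : (Subgroup.centralizer (N : Set G)).Normal).conj_mem d hd.1 u
  exact eq_bot_of_normal_le_coreFree hcore _ inf_le_right

end Cfsg.Agent.Helper3
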