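import Mathlib

/-!
# The affine group `x ↦ c x + v` with multipliers in a subgroup of the units

Helper file for S3599 (critical groups with the same spectrum).
-/

set_option autoImplicit false

namespace Cfsg.Agent.Helper3.Crit

/-- The group of affine maps `x ↦ c x + v` of a field `F` with `c` in the subgroup `C` of `Fˣ`. -/
@[ext] structure Aff (F : Type) [Field F] (C : Subgroup Fˣ) where
  /-- translation part -/
  v : F
  /-- linear part -/
  c : C

namespace Aff

variable {F : Type} [Field F] {C : Subgroup Fˣ}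

instance : Mul (Aff F C) := ⟨fun a b => ⟨a.v + ((a.c : Fˣ) : F) * b.v, a.c * b.c⟩⟩
instance : One (Aff F C) := ⟨⟨0, 1⟩⟩
instance : Inv (Aff F C) := ⟨fun a => ⟨-((((a.c)⁻¹ : C) : Fˣ) : F) * a.v, (a.c)⁻¹⟩⟩

@[simp] lemma mul_v (a b : Aff F C) : (a * b).v = a.v + ((a.c : Fˣ) : F) * b.v := rfl
@[simp] lemma mul_c (a b : Aff F C) : (a * b).c = a.c * b.c := rfl
@[simp] lemma one_v : (1 : Aff F C).v = 0 := rfl
@[simp] lemma one_c : (1 : Aff F C).c = 1 := rfl
@[simp] lemma inv_v (a : Aff F C) : (a⁻¹).v = -((((a.c)⁻¹ : C) : Fˣ) : F) * a.v := rfl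
@[simp] lemma inv_c (a : Aff F C) : (a⁻¹).c = (a.c)⁻¹ := rfl

instance : Group (Aff F C) where
  mul_assoc a b c := by
    ext
    · simp only [mul_v, mul_c, Subgroup.coe_mul, Units.val_mul]; ring
    · simp [mul_assoc]
  one_mul a := by ext <;> simp
  mul_one a := by ext <;> simp
  inv_mul_cancel a := by
    ext
    · simp
    · simp

/-- The projection onto the linear part. -/
def cHom : Aff F C →* C where
  toFun a := a.c
  map_one' := rfl
  map_mul' _ _ := rfl

@[simp] lemma cHom_apply (a : Aff F C) : cHom a = a.c := rfl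

/-- The translation subgroup as a map. -/
def tr (v : F) : Aff F C := ⟨v, 1⟩

@[simp] lemma tr_v (v : F) : (tr v : Aff F C).v = v := rfl
@[simp] lemma tr_c (v : F) : (tr v : Aff F C).c = 1 := rfl

lemma tr_add (v w : F) : (tr (v + w) : Aff F C) = tr v * tr w := by
  ext <;> simp

lemma tr_zero : (tr 0 : Aff F C) = 1 := rfl

lemma tr_injective : Function.Injective (tr : F → Aff F C) := by
  intro v w h
  have := congrArg Aff.v h
  simpa using this

lemma eq_tr_of_c_eq_one {a : Aff F C} (h : a.c = 1) : a = tr a.v := by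
  ext <;> simp [h]

/-- conjugating a translation. -/
lemma conj_tr (a : Aff F C) (w : F) : a * tr w * a⁻¹ = tr (((a.c : Fˣ) : F) * w) := by
  ext
  · simp only [mul_v, mul_c, tr_v, tr_c, inv_v, mul_one, Subgroup.coe_inv, Units.val_inv_eq_inv_val]
    have h0 : (((a.c : Fˣ) : F)) ≠ 0 := Units.ne_zero _
    field_simp
    ring
  · simp

/-- power formula. -/
lemma pow_eq (a : Aff F C) (n : ℕ) :
    a ^ n = ⟨(∑ i ∈ Finset.range n, (((a.c : Fˣ) : F)) ^ i) * a.v, a.c ^ n⟩ := by
  induction n with
  | zero => ext <;> simp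
  | succ n ih =>
    rw [pow_succ, ih]
    ext
    · simp only [mul_v, Finset.sum_range_succ, Subgroup.coe_pow, Units.val_pow_eq_pow_val]
      ring
    · simp [pow_succ]

lemma tr_pow (v : F) (n : ℕ) : (tr v : Aff F C) ^ n = tr ((n : F) * v) := by
  rw [pow_eq]
  ext <;> simp

/-- the equivalence with the product, for counting. -/
def equivProd : Aff F C ≃ F × C where
  toFun a := (a.v, a.c)
  invFun x := ⟨x.1, x.2⟩
  left_inv _ := rfl
  right_inv _ := rfl

instance [Finite F] : Finite (Aff F C) := Finite.of_equiv _ equivProd.symm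

lemma card_eq [Finite F] : Nat.card (Aff F C) = Nat.card F * Nat.card C := by
  rw [Nat.card_congr equivProd, Nat.card_prod]

end Aff

end Cfsg.Agent.Helper3.Crit
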