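import Cfsg.Agent.Helper3.CritA

/-!
# Minimal Frobenius groups `F ⋊ C`, `|F| = P^k`, `|C| = R`, `k` the order of `P` mod `R`

Helper file for S3599.
-/

set_option autoImplicit false

namespace Cfsg.Agent.Helper3.Crit

open Aff

section addsub

variable {F : Type} [Field F] [Finite F]

/-- An additive subgroup of a finite field stable under multiplication by a nontrivial `R`-th root
of unity has order `≡ 1 mod R`. -/
lemma card_addSubgroup_modEq_one {R : ℕ} [Fact R.Prime] (W : AddSubgroup F) (c : Fˣ) (hc : c ≠ 1)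
    (hcR : c ^ R = 1) (hstab : ∀ w ∈ W, (c : F) * w ∈ W) : Nat.card W ≡ 1 [MOD R] := by
  classical
  haveI : Fintype W := Fintype.ofFinite W
  let f : Function.End W := fun w => ⟨(c : F) * w, hstab w w.2⟩
  have hpow : ∀ (n : ℕ) (w : W), (((f ^ n) w : W) : F) = ((c : F)) ^ n * w := by
    intro n
    induction n with
    | zero =>
      intro w
      rw [pow_zero, pow_zero, one_mul]
      rfl
    | succ n ih =>
      intro w
      rw [pow_succ]
      show (((f ^ n) (f w) : W) : F) = _
      rw [ih]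
      simp only [f]
      rw [pow_succ]; ring
  have hfR : f ^ R ^ 1 = 1 := by
    rw [pow_one]
    funext w
    apply Subtype.ext
    rw [hpow]
    have : ((c : F)) ^ R = 1 := by
      rw [← Units.val_pow_eq_pow_val, hcR, Units.val_one]
    rw [this, one_mul]
    rfl
  have key := Equiv.Perm.card_fixedPoints_modEq (p := R) (n := 1) hfR
  have hfix : Fintype.card (Function.fixedPoints f) = 1 := by
    rw [Fintype.card_eq_one_iff]
    refine ⟨⟨0, ?_⟩, ?_⟩
    · show f 0 = 0
      ext; simp [f]
    · rintro ⟨w, hw⟩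
      have h1 : f w = w := hw
      have h2 : (c : F) * (w : F) = w := congrArg Subtype.val h1
      have h3 : ((c : F) - 1) * (w : F) = 0 := by rw [sub_mul, h2, one_mul, sub_self]
      have h4 : ((c : F) - 1) ≠ 0 := by
        intro h
        apply hc
        ext
        rw [Units.val_one]
        exact sub_eq_zero.mp h
      have h5 : (w : F) = 0 := (mul_eq_zero.mp h3).resolve_left h4
      ext
      exact h5
  rw [Nat.card_eq_fintype_card]
  rw [hfix] at key
  exact key

/-- Irreducibility: a nonzero additive subgroup stable under `c` is everything, when `|F| = P^k`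
and `k` divides every `m` with `P^m ≡ 1 mod R`. -/
lemma addSubgroup_eq_top {P R k : ℕ} [Fact P.Prime] [Fact R.Prime] (hF : Nat.card F = P ^ k)
    (hk : ∀ m : ℕ, P ^ m ≡ 1 [MOD R] → k ∣ m) (W : AddSubgroup F) (hW : W ≠ ⊥) (c : Fˣ)
    (hc : c ≠ 1) (hcR : c ^ R = 1) (hstab : ∀ w ∈ W, (c : F) * w ∈ W) : W = ⊤ := by
  have hP : P.Prime := Fact.out
  have h1 := card_addSubgroup_modEq_one W c hc hcR hstab
  have hdvd : Nat.card W ∣ P ^ k := by
    rw [← hF]
    exact AddSubgroup.card_addSubgroup_dvd_card W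
  obtain ⟨m, hmk, hm⟩ := (Nat.dvd_prime_pow hP).1 hdvd
  rw [hm] at h1
  have hkm := hk m h1
  have hm0 : m ≠ 0 := by
    rintro rfl
    apply hW
    rw [pow_zero] at hm
    exact (AddSubgroup.eq_bot_iff_card W).2 hm
  have hmk' : m = k := le_antisymm hmk (Nat.le_of_dvd (Nat.pos_of_ne_zero hm0) hkm)
  apply AddSubgroup.eq_top_of_card_eq
  rw [hm, hmk', hF]

end addsub

section frob

variable {F : Type} [Field F] [Finite F] {C : Subgroup Fˣ} {P R k : ℕ} [Fact P.Prime]
  [Fact R.Prime]

/-- translations have order `P`. -/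
lemma orderOf_tr [CharP F P] {v : F} (hv : v ≠ 0) : orderOf (tr v : Aff F C) = P := by
  apply orderOf_eq_prime
  · rw [tr_pow, CharP.cast_eq_zero, zero_mul]; rfl
  · intro h
    apply hv
    have := congrArg Aff.v h
    simpa using this

/-- elements with nontrivial linear part have order `R`. -/
lemma orderOf_of_c_ne_one (hC : Nat.card C = R) {a : Aff F C} (ha : a.c ≠ 1) : orderOf a = R := by
  apply orderOf_eq_prime
  · rw [pow_eq]
    have hcR : a.c ^ R = 1 := by rw [← hC]; exact pow_card_eq_one'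
    have hcR' : (((a.c : Fˣ) : F)) ^ R = 1 := by
      have := congrArg (fun x : C => ((x : Fˣ) : F)) hcR
      simpa using this
    have hne : (((a.c : Fˣ) : F)) - 1 ≠ 0 := by
      intro h
      apply ha
      ext
      simpa using sub_eq_zero.mp h
    have hsum : (∑ i ∈ Finset.range R, (((a.c : Fˣ) : F)) ^ i) = 0 := by
      have := geom_sum_mul (((a.c : Fˣ) : F)) R
      rw [hcR', sub_self] at this
      exact (mul_eq_zero.mp this).resolve_right hne
    ext
    · simp [hsum]
    · simp [hcR]
  · intro h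
    apply ha
    have := congrArg Aff.c h
    simpa using this

lemma orderOf_mem (hPR : P ≠ R) [CharP F P] (hC : Nat.card C = R) (a : Aff F C) :
    orderOf a = 1 ∨ orderOf a = P ∨ orderOf a = R := by
  by_cases hc : a.c = 1
  · by_cases hv : a.v = 0
    · left
      rw [orderOf_eq_one_iff]
      ext <;> simp [hc, hv]
    · right; left
      rw [eq_tr_of_c_eq_one hc]
      exact orderOf_tr hv
  · right; right
    exact orderOf_of_c_ne_one hC hc

lemma exists_c_ne_one (hC : Nat.card C = R) : ∃ c : C, c ≠ 1 := by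
  have hR : R.Prime := Fact.out
  by_contra h
  push Not at h
  have : Nat.card C = 1 := by
    rw [Nat.card_eq_one_iff_unique]
    exact ⟨⟨fun a b => by rw [h a, h b]⟩, ⟨1⟩⟩
  rw [hC] at this
  exact hR.one_lt.ne' this

/-- the spectrum. -/
lemma range_orderOf [CharP F P] (hC : Nat.card C = R) :
    Set.range (orderOf : Aff F C → ℕ) = {1, P, R} := by
  by_cases hPR : P = R
  · ext n
    subst hPR
    simp only [Set.mem_range, Set.mem_insert_iff, Set.mem_singleton_iff]
    constructor
    · rintro ⟨a, rfl⟩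
      by_cases hc : a.c = 1
      · by_cases hv : a.v = 0
        · left
          rw [orderOf_eq_one_iff]
          ext <;> simp [hc, hv]
        · right; left
          rw [eq_tr_of_c_eq_one hc]
          exact orderOf_tr hv
      · right; left
        exact orderOf_of_c_ne_one hC hc
    · rintro (rfl | rfl | rfl)
      · exact ⟨1, orderOf_one⟩
      · exact ⟨tr 1, orderOf_tr one_ne_zero⟩
      · exact ⟨tr 1, orderOf_tr one_ne_zero⟩
  · ext n
    simp only [Set.mem_range, Set.mem_insert_iff, Set.mem_singleton_iff]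
    constructor
    · rintro ⟨a, rfl⟩
      exact orderOf_mem hPR hC a
    · rintro (rfl | rfl | rfl)
      · exact ⟨1, orderOf_one⟩
      · exact ⟨tr 1, orderOf_tr one_ne_zero⟩
      · obtain ⟨c, hc⟩ := exists_c_ne_one hC
        exact ⟨⟨0, c⟩, orderOf_of_c_ne_one hC (a := ⟨0, c⟩) hc⟩

/-- the translation subgroup. -/
def trSub (F : Type) [Field F] (C : Subgroup Fˣ) : Subgroup (Aff F C) := (cHom (F := F) (C := C)).ker

lemma mem_trSub {a : Aff F C} : a ∈ trSub F C ↔ a.c = 1 := by
  rw [trSub, MonoidHom.mem_ker, cHom_apply]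

lemma card_trSub : Nat.card (trSub F C) = Nat.card F := by
  symm
  apply Nat.card_congr
  refine Equiv.ofBijective (fun v => ⟨tr v, by rw [mem_trSub]; rfl⟩) ⟨?_, ?_⟩
  · intro v w h
    exact tr_injective (congrArg Subtype.val h)
  · rintro ⟨a, ha⟩
    rw [mem_trSub] at ha
    exact ⟨a.v, Subtype.ext (eq_tr_of_c_eq_one ha).symm⟩

/-- the additive subgroup of translations inside a subgroup. -/
def trIn (H : Subgroup (Aff F C)) : AddSubgroup F where
  carrier := {v | (tr v : Aff F C) ∈ H}
  zero_mem' := by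
    show (tr 0 : Aff F C) ∈ H
    rw [tr_zero]; exact H.one_mem
  add_mem' := by
    intro v w hv hw
    show (tr (v + w) : Aff F C) ∈ H
    rw [tr_add]; exact H.mul_mem hv hw
  neg_mem' := by
    intro v hv
    show (tr (-v) : Aff F C) ∈ H
    have : (tr (-v) : Aff F C) = (tr v)⁻¹ := by
      ext <;> simp
    rw [this]; exact H.inv_mem hv

lemma mem_trIn {H : Subgroup (Aff F C)} {v : F} : v ∈ trIn H ↔ (tr v : Aff F C) ∈ H := Iff.rfl

lemma trIn_stab {H : Subgroup (Aff F C)} {a : Aff F C} (ha : a ∈ Subgroup.normalizer (H : Set (Aff F C)))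
    {w : F} (hw : w ∈ trIn H) : ((a.c : Fˣ) : F) * w ∈ trIn H := by
  rw [mem_trIn, ← conj_tr]
  exact (Subgroup.mem_normalizer_iff.mp ha _).mp hw

lemma trSub_le_of_trIn_eq_top {H : Subgroup (Aff F C)} (h : trIn H = ⊤) : trSub F C ≤ H := by
  intro a ha
  rw [mem_trSub] at ha
  rw [eq_tr_of_c_eq_one ha, ← mem_trIn, h]
  trivial

/-- minimality: a subgroup of order divisible by `P` and `R` is everything. -/
lemma eq_top_of_dvd [CharP F P] (hPR : P ≠ R) (hF : Nat.card F = P ^ k)
    (hk : ∀ m : ℕ, P ^ m ≡ 1 [MOD R] → k ∣ m) (hC : Nat.card C = R)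
    (H : Subgroup (Aff F C)) (hP : P ∣ Nat.card H) (hR : R ∣ Nat.card H) : H = ⊤ := by
  have hPp : P.Prime := Fact.out
  have hRp : R.Prime := Fact.out
  obtain ⟨x, hx⟩ := exists_prime_orderOf_dvd_card' P hP
  obtain ⟨h, hh⟩ := exists_prime_orderOf_dvd_card' R hR
  have hx' : orderOf (x : Aff F C) = P := by rw [Subgroup.orderOf_coe]; exact hx
  have hh' : orderOf (h : Aff F C) = R := by rw [Subgroup.orderOf_coe]; exact hh
  -- x is a nonzero translation
  have hxc : (x : Aff F C).c = 1 := by
    by_contra hne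
    rw [orderOf_of_c_ne_one hC hne] at hx'
    exact hPR hx'.symm
  have hxv : (x : Aff F C).v ≠ 0 := by
    intro h0
    have : (x : Aff F C) = 1 := by ext <;> simp [hxc, h0]
    rw [this, orderOf_one] at hx'
    exact hPp.one_lt.ne hx'
  -- h has nontrivial linear part
  have hhc : (h : Aff F C).c ≠ 1 := by
    intro hc
    by_cases hv : (h : Aff F C).v = 0
    · have : (h : Aff F C) = 1 := by ext <;> simp [hc, hv]
      rw [this, orderOf_one] at hh'
      exact hRp.one_lt.ne hh'
    · rw [eq_tr_of_c_eq_one hc, orderOf_tr hv] at hh'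
      exact hPR hh'
  have hW : trIn H ≠ ⊥ := by
    intro hbot
    have : (x : Aff F C).v ∈ trIn H := by
      rw [mem_trIn, ← eq_tr_of_c_eq_one hxc]; exact x.2
    rw [hbot, AddSubgroup.mem_bot] at this
    exact hxv this
  have hcR : ((h : Aff F C).c : Fˣ) ^ R = 1 := by
    have h1 : (h : Aff F C).c ^ R = 1 := by rw [← hC]; exact pow_card_eq_one'
    have := congrArg (fun x : C => (x : Fˣ)) h1
    simpa using this
  have hc1 : ((h : Aff F C).c : Fˣ) ≠ 1 := by
    intro h1
    apply hhc
    ext
    rw [h1]; rfl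
  have htop : trIn H = ⊤ := by
    apply addSubgroup_eq_top hF hk (trIn H) hW _ hc1 hcR
    intro w hw
    exact trIn_stab (Subgroup.le_normalizer h.2) hw
  have hT := trSub_le_of_trIn_eq_top htop
  -- now everything
  rw [eq_top_iff]
  intro a _
  have hcyc : (h : Aff F C).c ∈ Subgroup.zpowers (h : Aff F C).c := Subgroup.mem_zpowers _
  have hmem : a.c ∈ Subgroup.zpowers (h : Aff F C).c := mem_zpowers_of_prime_card hC hhc
  obtain ⟨i, hi⟩ := Subgroup.mem_zpowers_iff.mp hmem
  have h2 : a * ((h : Aff F C) ^ i)⁻¹ ∈ trSub F C := by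
    rw [mem_trSub, mul_c, inv_c]
    have : ((h : Aff F C) ^ i).c = (h : Aff F C).c ^ i := map_zpow (cHom (F := F) (C := C)) _ i
    rw [this, hi, mul_inv_cancel]
  have h3 : a * ((h : Aff F C) ^ i)⁻¹ ∈ H := hT h2
  have h4 : ((h : Aff F C) ^ i) ∈ H := H.zpow_mem h.2 i
  have := H.mul_mem h3 h4
  simpa using this

/-- a nontrivial normal subgroup contains all translations. -/
lemma card_dvd_of_normal [CharP F P] (hF : Nat.card F = P ^ k)
    (hk : ∀ m : ℕ, P ^ m ≡ 1 [MOD R] → k ∣ m) (hC : Nat.card C = R)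
    (N : Subgroup (Aff F C)) [N.Normal] (hN : N ≠ ⊥) : P ^ k ∣ Nat.card N := by
  obtain ⟨c, hc⟩ := exists_c_ne_one (F := F) hC
  have hcR : (c : Fˣ) ^ R = 1 := by
    have h1 : c ^ R = 1 := by rw [← hC]; exact pow_card_eq_one'
    have := congrArg (fun x : C => (x : Fˣ)) h1
    simpa using this
  have hc1 : (c : Fˣ) ≠ 1 := by
    intro h1
    apply hc
    ext
    rw [h1]; rfl
  have hnorm : Subgroup.normalizer (N : Set (Aff F C)) = ⊤ := Subgroup.normalizer_eq_top_iff.mpr inferInstance
  have hW : trIn N ≠ ⊥ := by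
    obtain ⟨n, hn, hn1⟩ : ∃ n ∈ N, n ≠ (1 : Aff F C) :=
      (Subgroup.bot_or_exists_ne_one N).resolve_left hN
    by_cases hnc : n.c = 1
    · intro hbot
      have hv : n.v ∈ trIn N := by rw [mem_trIn, ← eq_tr_of_c_eq_one hnc]; exact hn
      rw [hbot, AddSubgroup.mem_bot] at hv
      apply hn1
      ext <;> simp [hnc, hv]
    · intro hbot
      -- commutator with tr 1
      have hcomm : (tr 1 : Aff F C) * n * (tr 1)⁻¹ * n⁻¹ ∈ N := by
        have h1 : (tr 1 : Aff F C) * n * (tr 1)⁻¹ ∈ N := Subgroup.Normal.conj_mem inferInstance n hn _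
        exact N.mul_mem h1 (N.inv_mem hn)
      have heq : (tr 1 : Aff F C) * n * (tr 1)⁻¹ * n⁻¹ = tr (1 - ((n.c : Fˣ) : F)) := by
        ext
        · simp only [mul_v, mul_c, tr_v, tr_c, inv_v, inv_c, one_mul, mul_one, inv_one,
            Subgroup.coe_one, Units.val_one, Subgroup.coe_inv, Units.val_inv_eq_inv_val,
            Subgroup.coe_mul, Units.val_mul]
          have h0 : (((n.c : Fˣ) : F)) ≠ 0 := Units.ne_zero _
          field_simp
          ring
        · simp
      rw [heq, ← mem_trIn, hbot, AddSubgroup.mem_bot] at hcomm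
      apply hnc
      ext
      have : ((n.c : Fˣ) : F) = 1 := (sub_eq_zero.mp hcomm).symm
      simpa using this
  have htop : trIn N = ⊤ := by
    apply addSubgroup_eq_top hF hk (trIn N) hW _ hc1 hcR
    intro w hw
    have := trIn_stab (H := N) (a := ⟨0, c⟩) (by rw [hnorm]; trivial) hw
    simpa using this
  have hT := trSub_le_of_trIn_eq_top htop
  have := Subgroup.card_dvd_of_le hT
  rwa [card_trSub, hF] at this

lemma card_aff (hF : Nat.card F = P ^ k) (hC : Nat.card C = R) :
    Nat.card (Aff F C) = P ^ k * R := by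
  rw [card_eq, hF, hC]

end frob

end Cfsg.Agent.Helper3.Crit
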