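import Mathlib

/-!
# Products of groups of pairwise coprime orders `P^k R` which are "minimal"

Helper file for S3599: spectrum and criticality of a direct product.
-/

set_option autoImplicit false

namespace Cfsg.Agent.Helper3.Crit

/-- The data for the product construction. -/
structure ProdData {ι : Type} [Fintype ι] [DecidableEq ι] (X : ι → Type) [∀ i, Group (X i)]
    [∀ i, Finite (X i)] (P R k : ι → ℕ) : Prop where
  hP : ∀ i, (P i).Prime
  hR : ∀ i, (R i).Prime
  hPR : ∀ i j, P i ≠ R j
  hPP : ∀ i j, P i = P j → i = j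
  hRR : ∀ i j, R i = R j → i = j
  hcard : ∀ i, Nat.card (X i) = P i ^ k i * R i
  hspec : ∀ i, Set.range (orderOf : X i → ℕ) = {1, P i, R i}
  hmin : ∀ i (H : Subgroup (X i)), P i ∣ Nat.card H → R i ∣ Nat.card H → H = ⊤
  hnrm : ∀ i (N : Subgroup (X i)), N.Normal → N ≠ ⊥ → P i ^ k i ∣ Nat.card N

/-- the target spectrum. -/
def specSet {ι : Type} [Fintype ι] (P R : ι → ℕ) : Set ℕ :=
  {m : ℕ | ∃ c : ι → ℕ, (∀ j, c j = 1 ∨ c j = P j ∨ c j = R j) ∧ m = ∏ j, c j}

namespace ProdData

variable {ι : Type} [Fintype ι] [DecidableEq ι] {X : ι → Type} [∀ i, Group (X i)]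
  [∀ i, Finite (X i)] {P R k : ι → ℕ}

lemma coprime_of_mem (D : ProdData X P R k) {i j : ι} (hij : i ≠ j) {a b : ℕ}
    (ha : a = 1 ∨ a = P i ∨ a = R i) (hb : b = 1 ∨ b = P j ∨ b = R j) : Nat.Coprime a b := by
  rcases ha with rfl | rfl | rfl
  · exact Nat.coprime_one_left _
  · rcases hb with rfl | rfl | rfl
    · exact Nat.coprime_one_right _
    · exact (Nat.coprime_primes (D.hP i) (D.hP j)).2 fun h => hij (D.hPP i j h)
    · exact (Nat.coprime_primes (D.hP i) (D.hR j)).2 (D.hPR i j)
  · rcases hb with rfl | rfl | rfl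
    · exact Nat.coprime_one_right _
    · exact (Nat.coprime_primes (D.hR i) (D.hP j)).2 fun h => D.hPR j i h.symm
    · exact (Nat.coprime_primes (D.hR i) (D.hR j)).2 fun h => hij (D.hRR i j h)

lemma orderOf_mem (D : ProdData X P R k) (i : ι) (x : X i) :
    orderOf x = 1 ∨ orderOf x = P i ∨ orderOf x = R i := by
  have : orderOf x ∈ Set.range (orderOf : X i → ℕ) := ⟨x, rfl⟩
  rw [D.hspec i] at this
  simpa using this

lemma orderOf_pi (D : ProdData X P R k) (g : ∀ i, X i) : orderOf g = ∏ i, orderOf (g i) := by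
  rw [Pi.orderOf]
  apply Finset.lcm_eq_prod
  intro i _ j _ hij
  exact D.coprime_of_mem hij (D.orderOf_mem i (g i)) (D.orderOf_mem j (g j))

/-- the spectrum of the product. -/
lemma range_orderOf (D : ProdData X P R k) :
    Set.range (orderOf : (∀ i, X i) → ℕ) = specSet P R := by
  ext m
  constructor
  · rintro ⟨g, rfl⟩
    exact ⟨fun i => orderOf (g i), fun j => D.orderOf_mem j (g j), D.orderOf_pi g⟩
  · rintro ⟨c, hc, rfl⟩
    have : ∀ i, ∃ x : X i, orderOf x = c i := by
      intro i
      have : c i ∈ Set.range (orderOf : X i → ℕ) := by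
        rw [D.hspec i]
        simpa using hc i
      exact this
    choose g hg using this
    refine ⟨g, ?_⟩
    rw [D.orderOf_pi]
    exact Finset.prod_congr rfl fun i _ => hg i

lemma coprime_card (D : ProdData X P R k) {i j : ι} (hij : i ≠ j) :
    Nat.Coprime (Nat.card (X i)) (Nat.card (X j)) := by
  rw [D.hcard i, D.hcard j]
  apply Nat.Coprime.mul_left
  · apply Nat.Coprime.pow_left
    apply Nat.Coprime.mul_right
    · apply Nat.Coprime.pow_right
      exact D.coprime_of_mem hij (Or.inr (Or.inl rfl)) (Or.inr (Or.inl rfl))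
    · exact D.coprime_of_mem hij (Or.inr (Or.inl rfl)) (Or.inr (Or.inr rfl))
  · apply Nat.Coprime.mul_right
    · apply Nat.Coprime.pow_right
      exact D.coprime_of_mem hij (Or.inr (Or.inr rfl)) (Or.inr (Or.inl rfl))
    · exact D.coprime_of_mem hij (Or.inr (Or.inr rfl)) (Or.inr (Or.inr rfl))

/-- a prime `q ∈ {P j, R j}` is coprime to the order of `X i`, `i ≠ j`. -/
lemma coprime_card_of_mem (D : ProdData X P R k) {i j : ι} (hij : i ≠ j) {q : ℕ}
    (hq : q = P j ∨ q = R j) : Nat.Coprime (Nat.card (X i)) q := by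
  rw [D.hcard i]
  have hq' : q = 1 ∨ q = P j ∨ q = R j := Or.inr hq
  apply Nat.Coprime.mul_left
  · apply Nat.Coprime.pow_left
    exact D.coprime_of_mem hij (Or.inr (Or.inl rfl)) hq'
  · exact D.coprime_of_mem hij (Or.inr (Or.inr rfl)) hq'

lemma card_pi (D : ProdData X P R k) : Nat.card (∀ i, X i) = ∏ i, Nat.card (X i) :=
  Nat.card_pi

lemma mem_specSet_P (D : ProdData X P R k) (j : ι) : P j ∈ specSet P R := by
  refine ⟨fun i => if i = j then P j else 1, ?_, ?_⟩
  · intro i
    by_cases h : i = j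
    · subst h; simp
    · simp [h]
  · simp

lemma mem_specSet_R (D : ProdData X P R k) (j : ι) : R j ∈ specSet P R := by
  refine ⟨fun i => if i = j then R j else 1, ?_, ?_⟩
  · intro i
    by_cases h : i = j
    · subst h; simp
    · simp [h]
  · simp

/-- elements of the product with trivial `j`-th coordinate have order prime to `q ∈ {P j, R j}`. -/
lemma coprime_orderOf (D : ProdData X P R k) {j : ι} {q : ℕ} (hq : q = P j ∨ q = R j)
    (hqp : q.Prime) (g : ∀ i, X i) (hg : g j = 1) : Nat.Coprime (orderOf g) q := by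
  rw [D.orderOf_pi]
  apply Nat.Coprime.prod_left
  intro i _
  by_cases hij : i = j
  · subst hij
    rw [hg, orderOf_one]
    exact Nat.coprime_one_left _
  · exact D.coprime_of_mem hij (D.orderOf_mem i (g i)) (Or.inr hq)

/-- the projection of a subgroup whose order is divisible by `P j` and `R j` is onto. -/
lemma range_eq_top (D : ProdData X P R k) (H : Subgroup (∀ i, X i)) (j : ι)
    (hPj : P j ∣ Nat.card H) (hRj : R j ∣ Nat.card H) :
    ((Pi.evalMonoidHom X j).comp H.subtype).range = ⊤ := by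
  set f : H →* X j := (Pi.evalMonoidHom X j).comp H.subtype with hf
  have hcard : Nat.card f.ker * Nat.card f.range = Nat.card H := by
    rw [← Subgroup.index_ker]
    exact Subgroup.card_mul_index _
  have hker : ∀ q : ℕ, q.Prime → (q = P j ∨ q = R j) → ¬ q ∣ Nat.card f.ker := by
    intro q hqp hq hdvd
    haveI : Fact q.Prime := ⟨hqp⟩
    obtain ⟨x, hx⟩ := exists_prime_orderOf_dvd_card' q hdvd
    have hx1 : orderOf ((x : H) : ∀ i, X i) = q := by
      rw [Subgroup.orderOf_coe, Subgroup.orderOf_coe]; exact hx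
    have hxj : ((x : H) : ∀ i, X i) j = 1 := by
      have := x.2
      rw [MonoidHom.mem_ker] at this
      exact this
    have := D.coprime_orderOf hq hqp _ hxj
    rw [hx1, Nat.coprime_self] at this
    exact hqp.one_lt.ne' this
  apply D.hmin j
  · rw [← hcard] at hPj
    exact ((D.hP j).dvd_mul.1 hPj).resolve_left (hker _ (D.hP j) (Or.inl rfl))
  · rw [← hcard] at hRj
    exact ((D.hR j).dvd_mul.1 hRj).resolve_left (hker _ (D.hR j) (Or.inr rfl))

/-- criticality. -/
lemma critical (D : ProdData X P R k) (H : Subgroup (∀ i, X i)) (N : Subgroup H) [N.Normal]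
    (hHN : H ≠ ⊤ ∨ N ≠ ⊥) : Set.range (orderOf : (H ⧸ N) → ℕ) ≠ specSet P R := by
  intro hspec
  have hquot : Nat.card (H ⧸ N) * Nat.card N = Nat.card H :=
    (Subgroup.card_eq_card_quotient_mul_card_subgroup N).symm
  -- every P j, R j divides |H/N|
  have hdvdP : ∀ j, P j ∣ Nat.card (H ⧸ N) := by
    intro j
    have : P j ∈ Set.range (orderOf : (H ⧸ N) → ℕ) := by rw [hspec]; exact D.mem_specSet_P j
    obtain ⟨x, hx⟩ := this
    rw [← hx]; exact orderOf_dvd_natCard x
  have hdvdR : ∀ j, R j ∣ Nat.card (H ⧸ N) := by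
    intro j
    have : R j ∈ Set.range (orderOf : (H ⧸ N) → ℕ) := by rw [hspec]; exact D.mem_specSet_R j
    obtain ⟨x, hx⟩ := this
    rw [← hx]; exact orderOf_dvd_natCard x
  have hHP : ∀ j, P j ∣ Nat.card H := fun j => (hdvdP j).trans ⟨_, hquot.symm⟩
  have hHR : ∀ j, R j ∣ Nat.card H := fun j => (hdvdR j).trans ⟨_, hquot.symm⟩
  have hrange := fun j => D.range_eq_top H j (hHP j) (hHR j)
  -- |X j| divides |H|
  have hXH : ∀ j, Nat.card (X j) ∣ Nat.card H := by
    intro j
    have h1 := Subgroup.card_range_dvd ((Pi.evalMonoidHom X j).comp H.subtype)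
    rw [hrange j, Subgroup.card_top] at h1
    exact h1
  have hGH : Nat.card (∀ i, X i) ∣ Nat.card H := by
    rw [D.card_pi]
    apply Fintype.prod_dvd_of_isRelPrime
    · intro i j hij
      exact Nat.coprime_iff_isRelPrime.mp (D.coprime_card hij)
    · exact hXH
  have hHtop : H = ⊤ := by
    apply Subgroup.eq_top_of_le_card
    exact Nat.le_of_dvd Nat.card_pos hGH
  rcases hHN with h | hN
  · exact h hHtop
  -- N is nontrivial: find a coordinate
  obtain ⟨n, hnN, hn1⟩ : ∃ n ∈ N, n ≠ (1 : H) := (Subgroup.bot_or_exists_ne_one N).resolve_left hN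
  have : ∃ j, ((n : H) : ∀ i, X i) j ≠ 1 := by
    by_contra hall
    push Not at hall
    apply hn1
    apply Subtype.ext
    funext j
    exact hall j
  obtain ⟨j, hj⟩ := this
  set f : H →* X j := (Pi.evalMonoidHom X j).comp H.subtype with hf
  have hsurj : Function.Surjective f := MonoidHom.range_eq_top.mp (hrange j)
  have hnormal : (N.map f).Normal := Subgroup.Normal.map inferInstance f hsurj
  have hne : N.map f ≠ ⊥ := by
    intro hbot
    have : f n ∈ N.map f := Subgroup.mem_map_of_mem f hnN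
    rw [hbot, Subgroup.mem_bot] at this
    exact hj this
  have h1 : P j ^ k j ∣ Nat.card N :=
    (D.hnrm j (N.map f) hnormal hne).trans (Subgroup.card_map_dvd N f)
  have h2 : P j ^ (k j + 1) ∣ Nat.card H := by
    rw [← hquot, pow_succ, mul_comm]
    exact Nat.mul_dvd_mul (hdvdP j) h1
  have h3 : P j ^ (k j + 1) ∣ Nat.card (∀ i, X i) :=
    h2.trans (Subgroup.card_subgroup_dvd_card H)
  rw [D.card_pi, ← Finset.mul_prod_erase Finset.univ _ (Finset.mem_univ j)] at h3
  have hcop : Nat.Coprime (P j ^ (k j + 1)) (∏ i ∈ Finset.univ.erase j, Nat.card (X i)) := by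
    apply Nat.Coprime.pow_left
    apply Nat.Coprime.prod_right
    intro i hi
    have hij : i ≠ j := Finset.ne_of_mem_erase hi
    exact (D.coprime_card_of_mem hij (Or.inl rfl)).symm
  have h4 : P j ^ (k j + 1) ∣ Nat.card (X j) := hcop.dvd_of_dvd_mul_right h3
  rw [D.hcard j, pow_succ] at h4
  have h5 : P j ∣ R j := Nat.dvd_of_mul_dvd_mul_left (pow_pos (D.hP j).pos _) h4
  have h6 : P j = R j := (Nat.prime_dvd_prime_iff_eq (D.hP j) (D.hR j)).mp h5
  exact D.hPR j j h6

end ProdData

end Cfsg.Agent.Helper3.Crit
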