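import Cfsg.Agent.Helper3.CritB
import Cfsg.Agent.Helper3.CritC

/-!
# The minimal Frobenius groups over Galois fields and the assembly for S3599
-/

set_option autoImplicit false

namespace Cfsg.Agent.Helper3.Crit

/-- the order of `P` modulo `R`. -/
noncomputable def frobK (P R : ℕ) : ℕ := orderOf ((P : ZMod R))

lemma frobK_pos {P R : ℕ} (hP : P.Prime) (hR : R.Prime) (hPR : P ≠ R) : 0 < frobK P R := by
  haveI : Fact R.Prime := ⟨hR⟩
  rw [frobK, orderOf_pos_iff, isOfFinOrder_iff_pow_eq_one]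
  refine ⟨R - 1, Nat.sub_pos_of_lt hR.one_lt, ?_⟩
  apply ZMod.pow_card_sub_one_eq_one
  intro h
  rw [ZMod.natCast_eq_zero_iff] at h
  exact hPR ((Nat.prime_dvd_prime_iff_eq hR hP).mp h).symm

lemma frobK_dvd {P R : ℕ} {m : ℕ} (h : P ^ m ≡ 1 [MOD R]) : frobK P R ∣ m := by
  rw [frobK]
  apply orderOf_dvd_of_pow_eq_one
  have := (ZMod.natCast_eq_natCast_iff (P ^ m) 1 R).2 h
  simpa using this

lemma dvd_pow_frobK_sub_one (P R : ℕ) (hP : P.Prime) : R ∣ P ^ frobK P R - 1 := by
  have h1 : ((P : ZMod R)) ^ frobK P R = 1 := pow_orderOf_eq_one _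
  have h2 : ((P ^ frobK P R : ℕ) : ZMod R) = ((1 : ℕ) : ZMod R) := by
    push_cast
    exact h1
  have h3 := (ZMod.natCast_eq_natCast_iff _ _ _).1 h2
  exact (Nat.modEq_iff_dvd' (Nat.one_le_pow _ _ hP.pos)).1 h3.symm

/-- the field. -/
noncomputable abbrev FrobF (P R : ℕ) [Fact P.Prime] : Type := GaloisField P (frobK P R)

/-- the group of `R`-th roots of unity. -/
noncomputable abbrev FrobC (P R : ℕ) [Fact P.Prime] : Subgroup (FrobF P R)ˣ :=
  (powMonoidHom R : (FrobF P R)ˣ →* (FrobF P R)ˣ).ker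

/-- the minimal Frobenius group. -/
noncomputable abbrev FrobG (P R : ℕ) [Fact P.Prime] : Type := Aff (FrobF P R) (FrobC P R)

section facts

variable {P R : ℕ} [Fact P.Prime]

lemma card_frobF (hR : R.Prime) (hPR : P ≠ R) : Nat.card (FrobF P R) = P ^ frobK P R :=
  GaloisField.card P _ (frobK_pos Fact.out hR hPR).ne'

lemma card_frobC (hR : R.Prime) (hPR : P ≠ R) : Nat.card (FrobC P R) = R := by
  have hP : P.Prime := Fact.out
  rw [IsCyclic.card_powMonoidHom_ker, Nat.card_units, card_frobF hR hPR]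
  exact Nat.gcd_eq_right (dvd_pow_frobK_sub_one P R hP)

lemma card_frobG (hR : R.Prime) (hPR : P ≠ R) : Nat.card (FrobG P R) = P ^ frobK P R * R := by
  haveI : Fact R.Prime := ⟨hR⟩
  exact card_aff (card_frobF hR hPR) (card_frobC hR hPR)

end facts

/-- the other element of `Fin 2`. -/
def oth (i : Fin 2) : Fin 2 := i + 1

lemma oth_cases (i : Fin 2) : (i = 0 ∧ oth i = 1) ∨ (i = 1 ∧ oth i = 0) := by
  fin_cases i
  · left; exact ⟨rfl, rfl⟩
  · right; exact ⟨rfl, rfl⟩

lemma oth_ne (i : Fin 2) : oth i ≠ i := by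
  rcases oth_cases i with ⟨h1, h2⟩ | ⟨h1, h2⟩ <;> rw [h2, h1] <;> decide

lemma eq_oth_of_ne {i i' : Fin 2} (h : i ≠ i') : i' = oth i := by
  fin_cases i <;> fin_cases i' <;> first | rfl | exact absurd rfl h

section family

variable {s : ℕ} (p : Fin s → Fin 2 → ℕ) (hp : ∀ j i, (p j i).Prime)

/-- the `j`-th factor for the bit vector `a`. -/
abbrev GX (a : Fin s → Fin 2) (j : Fin s) : Type :=
  @FrobG (p j (a j)) (p j (oth (a j))) ⟨hp j (a j)⟩

variable (hinj : ∀ j i j' i', p j i = p j' i' → j = j' ∧ i = i')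
include hinj

lemma prodData (a : Fin s → Fin 2) :
    ProdData (GX p hp a) (fun j => p j (a j)) (fun j => p j (oth (a j)))
      (fun j => frobK (p j (a j)) (p j (oth (a j)))) := by
  have hne : ∀ j, p j (a j) ≠ p j (oth (a j)) := fun j h => oth_ne (a j) ((hinj _ _ _ _ h).2).symm
  refine ⟨fun j => hp _ _, fun j => hp _ _, ?_, ?_, ?_, ?_, ?_, ?_, ?_⟩
  · intro i j h
    have := hinj _ _ _ _ h
    obtain ⟨rfl, h2⟩ := this
    exact oth_ne _ h2.symm
  · intro i j h
    exact (hinj _ _ _ _ h).1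
  · intro i j h
    exact (hinj _ _ _ _ h).1
  · intro j
    haveI : Fact (p j (a j)).Prime := ⟨hp _ _⟩
    exact card_frobG (hp _ _) (hne j)
  · intro j
    haveI : Fact (p j (a j)).Prime := ⟨hp _ _⟩
    haveI : Fact (p j (oth (a j))).Prime := ⟨hp _ _⟩
    exact range_orderOf (F := FrobF (p j (a j)) (p j (oth (a j)))) (card_frobC (hp _ _) (hne j))
  · intro j H h1 h2
    haveI : Fact (p j (a j)).Prime := ⟨hp _ _⟩
    haveI : Fact (p j (oth (a j))).Prime := ⟨hp _ _⟩
    exact eq_top_of_dvd (F := FrobF (p j (a j)) (p j (oth (a j)))) (hne j)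
      (card_frobF (hp _ _) (hne j)) (fun m hm => frobK_dvd hm) (card_frobC (hp _ _) (hne j)) H h1 h2
  · intro j N hN hN1
    haveI : Fact (p j (a j)).Prime := ⟨hp _ _⟩
    haveI : Fact (p j (oth (a j))).Prime := ⟨hp _ _⟩
    haveI := hN
    exact card_dvd_of_normal (F := FrobF (p j (a j)) (p j (oth (a j))))
      (card_frobF (hp _ _) (hne j)) (fun m hm => frobK_dvd hm) (card_frobC (hp _ _) (hne j)) N hN1

/-- the spectrum set of the statement agrees with `specSet`. -/
lemma specSet_eq (a : Fin s → Fin 2) :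
    specSet (fun j => p j (a j)) (fun j => p j (oth (a j))) =
      {m : ℕ | ∃ c : Fin s → ℕ, (∀ j, c j = 1 ∨ c j = p j 0 ∨ c j = p j 1) ∧ m = ∏ j, c j} := by
  ext m
  simp only [specSet, Set.mem_setOf_eq]
  constructor
  · rintro ⟨c, hc, rfl⟩
    refine ⟨c, fun j => ?_, rfl⟩
    rcases oth_cases (a j) with ⟨h1, h2⟩ | ⟨h1, h2⟩
    · rcases hc j with h | h | h
      · exact Or.inl h
      · right; left; rw [h, h1]
      · right; right; rw [h, h2]
    · rcases hc j with h | h | h
      · exact Or.inl h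
      · right; right; rw [h, h1]
      · right; left; rw [h, h2]
  · rintro ⟨c, hc, rfl⟩
    refine ⟨c, fun j => ?_, rfl⟩
    rcases oth_cases (a j) with ⟨h1, h2⟩ | ⟨h1, h2⟩
    · rcases hc j with h | h | h
      · exact Or.inl h
      · right; left; rw [h, h1]
      · right; right; rw [h, h2]
    · rcases hc j with h | h | h
      · exact Or.inl h
      · right; right; rw [h, h2]
      · right; left; rw [h, h1]

/-- different bit vectors give groups of different orders. -/
lemma card_ne {a b : Fin s → Fin 2} (hab : a ≠ b) :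
    Nat.card (∀ j, GX p hp a j) ≠ Nat.card (∀ j, GX p hp b j) := by
  obtain ⟨j, hj⟩ : ∃ j, a j ≠ b j := by
    by_contra h
    push Not at h
    exact hab (funext h)
  have hb : b j = oth (a j) := eq_oth_of_ne hj
  have ha : a j = oth (b j) := eq_oth_of_ne (Ne.symm hj)
  have Da := prodData p hp hinj a
  have Db := prodData p hp hinj b
  set P := p j (a j) with hP
  set R := p j (b j) with hR
  have hPp : P.Prime := hp _ _
  have hRp : R.Prime := hp _ _
  have hPR : P ≠ R := fun h => hj (hinj _ _ _ _ h).2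
  intro heq
  rw [Da.card_pi, Db.card_pi, ← Finset.mul_prod_erase Finset.univ _ (Finset.mem_univ j),
    ← Finset.mul_prod_erase Finset.univ (fun i => Nat.card (GX p hp b i)) (Finset.mem_univ j)] at heq
  have hca : Nat.card (GX p hp a j) = P ^ frobK P R * R := by
    have := Da.hcard j
    simp only [← hb] at this
    exact this
  have hcb : Nat.card (GX p hp b j) = R ^ frobK R P * P := by
    have := Db.hcard j
    simp only [← ha] at this
    exact this
  rw [hca, hcb] at heq
  -- coprimality of the rest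
  have hcopa : ∀ q, (q = P ∨ q = R) →
      Nat.Coprime (∏ i ∈ Finset.univ.erase j, Nat.card (GX p hp a i)) q := by
    intro q hq
    apply Nat.Coprime.prod_left
    intro i hi
    apply Da.coprime_card_of_mem (Finset.ne_of_mem_erase hi) (j := j)
    rcases hq with rfl | rfl
    · exact Or.inl rfl
    · right; show p j (b j) = p j (oth (a j)); rw [hb]
  have hcopb : ∀ q, (q = P ∨ q = R) →
      Nat.Coprime (∏ i ∈ Finset.univ.erase j, Nat.card (GX p hp b i)) q := by
    intro q hq
    apply Nat.Coprime.prod_left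
    intro i hi
    apply Db.coprime_card_of_mem (Finset.ne_of_mem_erase hi) (j := j)
    rcases hq with rfl | rfl
    · right; show p j (a j) = p j (oth (b j)); rw [ha]
    · exact Or.inl rfl
  have hcPR : Nat.Coprime P R := (Nat.coprime_primes hPp hRp).2 hPR
  -- P-part: P ^ frobK P R divides P * (stuff coprime to P)
  have h1 : P ^ frobK P R ∣ P := by
    have hd : P ^ frobK P R ∣ R ^ frobK R P * P * ∏ i ∈ Finset.univ.erase j, Nat.card (GX p hp b i) := by
      rw [← heq, mul_assoc]
      exact dvd_mul_right _ _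
    have hc1 : Nat.Coprime (P ^ frobK P R) (∏ i ∈ Finset.univ.erase j, Nat.card (GX p hp b i)) :=
      Nat.Coprime.pow_left _ (hcopb P (Or.inl rfl)).symm
    have hd2 := hc1.dvd_of_dvd_mul_right hd
    have hc2 : Nat.Coprime (P ^ frobK P R) (R ^ frobK R P) :=
      Nat.Coprime.pow _ _ hcPR
    exact hc2.dvd_of_dvd_mul_left hd2
  have h2 : R ^ frobK R P ∣ R := by
    have hd : R ^ frobK R P ∣ P ^ frobK P R * R * ∏ i ∈ Finset.univ.erase j, Nat.card (GX p hp a i) := by
      rw [heq, mul_assoc]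
      exact dvd_mul_right _ _
    have hc1 : Nat.Coprime (R ^ frobK R P) (∏ i ∈ Finset.univ.erase j, Nat.card (GX p hp a i)) :=
      Nat.Coprime.pow_left _ (hcopa R (Or.inr rfl)).symm
    have hd2 := hc1.dvd_of_dvd_mul_right hd
    have hc2 : Nat.Coprime (R ^ frobK R P) (P ^ frobK P R) :=
      Nat.Coprime.pow _ _ hcPR.symm
    exact hc2.dvd_of_dvd_mul_left hd2
  have hk1 : frobK P R = 1 := by
    have hpos := frobK_pos hPp hRp hPR
    have hle : frobK P R ≤ 1 := by
      have := (Nat.pow_dvd_pow_iff_le_right hPp.one_lt).1 (by simpa using h1 : P ^ frobK P R ∣ P ^ 1)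
      exact this
    omega
  have hk2 : frobK R P = 1 := by
    have hpos := frobK_pos hRp hPp hPR.symm
    have hle : frobK R P ≤ 1 := by
      have := (Nat.pow_dvd_pow_iff_le_right hRp.one_lt).1 (by simpa using h2 : R ^ frobK R P ∣ R ^ 1)
      exact this
    omega
  -- P ≡ 1 mod R and R ≡ 1 mod P
  have h3 : R ∣ P - 1 := by
    have := dvd_pow_frobK_sub_one P R hPp
    rwa [hk1, pow_one] at this
  have h4 : P ∣ R - 1 := by
    have := dvd_pow_frobK_sub_one R P hRp
    rwa [hk2, pow_one] at this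
  have h5 : R ≤ P - 1 := Nat.le_of_dvd (Nat.sub_pos_of_lt hPp.one_lt) h3
  have h6 : P ≤ R - 1 := Nat.le_of_dvd (Nat.sub_pos_of_lt hRp.one_lt) h4
  have := hPp.one_lt
  omega

end family

end Cfsg.Agent.Helper3.Crit
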