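import Mathlib
import Cfsg.Agent.Helper26.QuadStable
import Cfsg.Agent.Helper23.HallHigman
import Cfsg.Agent.Helper10.SolvPSolv
import Cfsg.Agent.Helper14.PCore
import Cfsg.Agent.Helper21.FrattiniAut
import Cfsg.Agent.Helper1.PGroup

set_option autoImplicit false
set_option linter.style.haveILetI false
open Cfsg

/-! Solvable groups with abelian Sylow 2-subgroups (e.g. of odd order), `O_{p'} = 1`, `p` odd:
a Sylow `p`-subgroup with cyclic derived subgroup is normal (via `p`-stability). -/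

namespace Cfsg.Agent.Helper3.CyclicDerived

open Cfsg.Agent.Helper26 Cfsg.Agent.Helper21.FrattiniAut
open scoped IsMulCommutative
open scoped commutatorElement

section cyclic

variable {Y : Type*} [Group Y] {p : ℕ} [hp : Fact p.Prime]

theorem conj_pow_zpow (a w : Y) (j : ℤ) (h : a * w * a⁻¹ = w ^ j) (k : ℕ) :
    a ^ k * w * (a ^ k)⁻¹ = w ^ (j ^ k) := by
  induction k with
  | zero => simp
  | succ n ih =>
    have h1 : a ^ (n + 1) * w * (a ^ (n + 1))⁻¹ = a * (a ^ n * w * (a ^ n)⁻¹) * a⁻¹ := by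
      rw [pow_succ']; group
    rw [h1, ih]
    have h2 : a * w ^ (j ^ n) * a⁻¹ = (a * w * a⁻¹) ^ (j ^ n) := by
      have := map_zpow (MulAut.conj a) w (j ^ n)
      simpa [MulAut.conj_apply] using this
    rw [h2, h, ← zpow_mul, pow_succ']

/-- a `p`-element normalizing a cyclic `p`-group `⟨c⟩` acts on it as `w ↦ w^(1+pm)` -/
theorem exists_comm_eq_pow (c a : Y) (ha : ∃ e : ℕ, a ^ (p ^ e) = 1)
    (hn : a * c * a⁻¹ ∈ Subgroup.zpowers c) (hc : ∃ n : ℕ, orderOf c = p ^ n) :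
    ∃ m : ℤ, ∀ w ∈ Subgroup.zpowers c, a * w * a⁻¹ * w⁻¹ = (w ^ m) ^ p := by
  obtain ⟨j, hj⟩ := Subgroup.mem_zpowers_iff.mp hn
  obtain ⟨e, he⟩ := ha
  obtain ⟨n, hcn⟩ := hc
  by_cases hc1 : c = 1
  · refine ⟨0, ?_⟩
    intro w hw
    rw [hc1, Subgroup.zpowers_one_eq_bot, Subgroup.mem_bot] at hw
    rw [hw]; simp
  have hn1 : n ≠ 0 := by
    intro h0
    rw [h0, pow_zero, orderOf_eq_one_iff] at hcn
    exact hc1 hcn
  have h1 := conj_pow_zpow a c j hj.symm (p ^ e)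
  rw [he] at h1
  have h2 : c ^ (j ^ (p ^ e) - 1) = 1 := by
    rw [zpow_sub, zpow_one, ← h1]; simp
  have h3 : (orderOf c : ℤ) ∣ j ^ (p ^ e) - 1 := orderOf_dvd_iff_zpow_eq_one.mpr h2
  have h4 : (p : ℤ) ∣ j ^ (p ^ e) - 1 := by
    refine Dvd.dvd.trans ?_ h3
    rw [hcn]
    push_cast
    exact dvd_pow_self _ hn1
  have h5 : ((j ^ (p ^ e) - 1 : ℤ) : ZMod p) = 0 := (ZMod.intCast_zmod_eq_zero_iff_dvd _ _).mpr h4
  push_cast at h5
  rw [ZMod.pow_card_pow] at h5
  have h6 : (p : ℤ) ∣ j - 1 := by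
    apply (ZMod.intCast_zmod_eq_zero_iff_dvd _ _).mp
    push_cast
    exact h5
  obtain ⟨m, hm⟩ := h6
  refine ⟨m, ?_⟩
  intro w hw
  obtain ⟨i, rfl⟩ := Subgroup.mem_zpowers_iff.mp hw
  have h7 : a * c ^ i * a⁻¹ = (c ^ i) ^ j := by
    have := map_zpow (MulAut.conj a) c i
    have h8 : a * c ^ i * a⁻¹ = (a * c * a⁻¹) ^ i := by simpa [MulAut.conj_apply] using this
    rw [h8, ← hj, ← zpow_mul, ← zpow_mul, mul_comm]
  rw [h7]
  have hj' : j = 1 + p * m := by linarith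
  rw [hj', zpow_add, zpow_one]
  generalize c ^ i = w
  have h9 : w * w ^ ((p : ℤ) * m) = w ^ ((p : ℤ) * m) * w := ((Commute.refl w).zpow_right _).eq
  rw [h9, mul_inv_cancel_right, zpow_mul', zpow_natCast]

end cyclic

section main

variable {Y : Type*} [Group Y] [Finite Y] {p : ℕ} [hp : Fact p.Prime]

/-- elements of a Sylow `p`-subgroup with "cyclic derived subgroup" lie in `O_p` -/
theorem mem_pCore_of_cyclic (hp2 : p ≠ 2) (h2 : Ab2 Y)
    (hcent : Subgroup.centralizer (pCore p Y : Set Y) ≤ pCore p Y)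
    (P : Subgroup Y) (hP : IsPGroup p P) (hQP : pCore p Y ≤ P) (c : Y) (hcP : c ∈ P)
    (hcomm : ∀ x ∈ P, ∀ y ∈ P, x * y * x⁻¹ * y⁻¹ ∈ Subgroup.zpowers c)
    (a : Y) (haP : a ∈ P) : a ∈ pCore p Y := by
  haveI hQn : (pCore p Y).Normal := Cfsg.Agent.Helper14.pCore_normal p
  have hQp : IsPGroup p ↥(pCore p Y) := Cfsg.Agent.Helper14.pCore_isPGroup p
  haveI : IsMulCommutative (↥(pCore p Y) ⧸ frattini ↥(pCore p Y)) := by
    refine ⟨⟨?_⟩⟩
    intro x y
    induction x using QuotientGroup.induction_on with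
    | H x =>
      induction y using QuotientGroup.induction_on with
      | H y =>
        rw [← QuotientGroup.mk_mul, ← QuotientGroup.mk_mul, QuotientGroup.eq]
        apply Cfsg.Agent.Helper1.IsPGroup.commutator_le_frattini hQp
        rw [commutator_def]
        have h1 : (x * y)⁻¹ * (y * x) = ⁅y⁻¹, x⁻¹⁆ := by
          rw [commutatorElement_def]; group
        rw [h1]
        exact Subgroup.commutator_mem_commutator (Subgroup.mem_top _) (Subgroup.mem_top _)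
  have hV : ∀ v : ↥(pCore p Y) ⧸ frattini ↥(pCore p Y), v ^ p = 1 := by
    intro v
    induction v using QuotientGroup.induction_on with
    | H x =>
      rw [← QuotientGroup.mk_pow, QuotientGroup.eq_one_iff]
      exact Cfsg.Agent.Helper1.IsPGroup.pow_mem_frattini hQp x
  -- the representation on the Frattini quotient
  obtain ⟨ρ, hρ⟩ : ∃ ρ : Y →* MulAut (↥(pCore p Y) ⧸ frattini ↥(pCore p Y)),
      ρ = (frattiniQuotHom ↥(pCore p Y)).comp (MulAut.conjNormal (H := pCore p Y)) := ⟨_, rfl⟩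
  have hρa : ∀ (g : Y) (q : ↥(pCore p Y)),
      ρ g (q : ↥(pCore p Y) ⧸ frattini ↥(pCore p Y)) =
        ((MulAut.conjNormal g q : ↥(pCore p Y)) : ↥(pCore p Y) ⧸ frattini ↥(pCore p Y)) := by
    intro g q
    rw [hρ]
    rfl
  -- `a` and `c` are `p`-elements, `a` normalizes `⟨c⟩`
  have hpow : ∀ x ∈ P, ∃ e : ℕ, x ^ (p ^ e) = 1 := by
    intro x hx
    obtain ⟨e, he⟩ := hP ⟨x, hx⟩
    exact ⟨e, by simpa using congrArg Subtype.val he⟩
  have hcord : ∃ n : ℕ, orderOf c = p ^ n := by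
    obtain ⟨e, he⟩ := hpow c hcP
    obtain ⟨n, -, hn⟩ := (Nat.dvd_prime_pow hp.out).mp (orderOf_dvd_of_pow_eq_one he)
    exact ⟨n, hn⟩
  have hnorm : a * c * a⁻¹ ∈ Subgroup.zpowers c := by
    have h1 := hcomm a haP c hcP
    have h2 : a * c * a⁻¹ = (a * c * a⁻¹ * c⁻¹) * c := by group
    rw [h2]
    exact Subgroup.mul_mem _ h1 (Subgroup.mem_zpowers c)
  obtain ⟨m, hm⟩ := exists_comm_eq_pow c a (hpow a haP) hnorm hcord
  -- quadratic action
  have hquad : ∀ v : ↥(pCore p Y) ⧸ frattini ↥(pCore p Y), ρ a (ρ a v / v) = ρ a v / v := by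
    intro v
    induction v using QuotientGroup.induction_on with
    | H q =>
      rw [hρa, ← QuotientGroup.mk_div, hρa, QuotientGroup.eq]
      -- w = a q a⁻¹ q⁻¹
      obtain ⟨w, hw⟩ : ∃ w : ↥(pCore p Y), w = MulAut.conjNormal a q / q := ⟨_, rfl⟩
      rw [← hw]
      have hwv : (w : Y) = a * (q : Y) * a⁻¹ * (q : Y)⁻¹ := by
        rw [hw, Subgroup.coe_div, MulAut.conjNormal_apply, div_eq_mul_inv]
      have hwc : (w : Y) ∈ Subgroup.zpowers c := by
        rw [hwv]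
        exact hcomm a haP q (hQP q.2)
      have h1 := hm (w : Y) hwc
      have h2 : w⁻¹ * MulAut.conjNormal a w = (w ^ m) ^ p := by
        apply Subtype.ext
        rw [Subgroup.coe_mul, Subgroup.coe_inv, MulAut.conjNormal_apply, Subgroup.coe_pow,
          Subgroup.coe_zpow]
        have h3 : (w : Y)⁻¹ * (a * (w : Y) * a⁻¹) =
            (w : Y)⁻¹ * (a * (w : Y) * a⁻¹ * (w : Y)⁻¹) * (w : Y) := by group
        rw [h3, h1]
        have h4 : Commute (w : Y) (((w : Y) ^ m) ^ p) :=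
          ((Commute.refl (w : Y)).zpow_right m).pow_right p
        calc (w : Y)⁻¹ * ((w : Y) ^ m) ^ p * (w : Y)
            = (w : Y)⁻¹ * ((w : Y) * ((w : Y) ^ m) ^ p) := by rw [h4.eq]; group
          _ = ((w : Y) ^ m) ^ p := by group
      have h5 : (MulAut.conjNormal a w)⁻¹ * w = ((w ^ m) ^ p)⁻¹ := by
        rw [← h2]; group
      rw [h5]
      exact Subgroup.inv_mem _ (Cfsg.Agent.Helper1.IsPGroup.pow_mem_frattini hQp _)
  obtain ⟨D, hDn, -, hDp, haD⟩ := exists_normal_of_quad_mul hp2 hV ρ h2 a hquad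
  -- `D` is a `p`-group
  have hDpg : IsPGroup p D := by
    rintro ⟨d, hd⟩
    obtain ⟨k, hk⟩ := hDp d hd
    have h1 : MulAut.conjNormal (H := pCore p Y) (d ^ p ^ k) ∈ (frattiniQuotHom ↥(pCore p Y)).ker := by
      rw [hρ] at hk
      exact hk
    rw [mem_ker_frattiniQuotHom_iff] at h1
    obtain ⟨j, hj⟩ := exists_pow_eq_one_of_mem_ker ↥(pCore p Y) hQp _ h1
    rw [← map_pow] at hj
    have h2 : (d ^ p ^ k) ^ p ^ j ∈ Subgroup.centralizer (pCore p Y : Set Y) := by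
      rw [Subgroup.mem_centralizer_iff]
      intro q hq
      have h3 := congrArg (fun f : MulAut ↥(pCore p Y) => ((f ⟨q, hq⟩ : ↥(pCore p Y)) : Y)) hj
      simp only [MulAut.conjNormal_apply, MulAut.one_apply] at h3
      calc q * (d ^ p ^ k) ^ p ^ j
          = ((d ^ p ^ k) ^ p ^ j * q * ((d ^ p ^ k) ^ p ^ j)⁻¹) * (d ^ p ^ k) ^ p ^ j := by rw [h3]
        _ = (d ^ p ^ k) ^ p ^ j * q := by group
    obtain ⟨l, hl⟩ := hQp ⟨_, hcent h2⟩
    have h4 : ((d ^ p ^ k) ^ p ^ j) ^ p ^ l = 1 := by simpa using congrArg Subtype.val hl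
    refine ⟨k + j + l, ?_⟩
    apply Subtype.ext
    rw [Subgroup.coe_pow, Subgroup.coe_one]
    show d ^ p ^ (k + j + l) = 1
    rw [pow_add, pow_add, pow_mul, pow_mul]
    exact h4
  exact Cfsg.Agent.Helper14.le_pCore p hDn hDpg haD

end main

end Cfsg.Agent.Helper3.CyclicDerived
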