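import Mathlib
import Cfsg.Agent.Helper8.D8Main
import Cfsg.Agent.Helper6.QuatSquare

set_option autoImplicit false
set_option linter.style.haveILetI false
set_option linter.unusedSectionVars false

/-! A finite group without subgroups of index `2` in which the centralizer of an involution is
dihedral of order `8` is simple of order `168` or `360`. -/

namespace Cfsg.Agent.Helper3.D8S

open Cfsg.Agent.Helper8.D8 DihedralGroup Subgroup
open scoped commutatorElement

variable {G : Type*} [Group G] [Finite G] (t : G)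
  (e : Subgroup.centralizer ({t} : Set G) ≃* DihedralGroup 4)
  (hno2 : ∀ H : Subgroup G, H.index ≠ 2) (ht : orderOf t = 2)

include e hno2 in
theorem all_conj' (ht1 : t ≠ 1) (x y : G) (hx : orderOf x = 2) (hy : orderOf y = 2) :
    IsConj x y := by
  obtain ⟨S, hS⟩ := exists_sylow t e ht1
  let eS : (S : Subgroup G) ≃* DihedralGroup 4 := (MulEquiv.subgroupCongr hS).trans e
  exact Cfsg.Agent.Helper18.DihFusion.all_conj_of_conj_into_rot S 4 eS (by norm_num)
    (Cfsg.Agent.Helper18.DihFusion.conj_into_rot S 4 eS hno2) x y hx hy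

include ht in
theorem t_ne_one : t ≠ 1 := by
  rintro rfl
  rw [orderOf_one] at ht
  omega

theorem orderOf_two_of {w : G} (hw : w * w = 1) (hw1 : w ≠ 1) : orderOf w = 2 := by
  haveI : Fact (Nat.Prime 2) := ⟨Nat.prime_two⟩
  exact orderOf_eq_prime (by rw [pow_two]; exact hw) hw1

include e hno2 ht in
/-- centralizers of involutions are `2`-groups of exponent dividing `8` -/
theorem pow_eight_of_commute {w y : G} (hw : orderOf w = 2) (hy : y * w = w * y) :
    y ^ 8 = 1 := by
  have ht1 := t_ne_one t ht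
  obtain ⟨c, hc⟩ := isConj_iff.mp (all_conj' t e hno2 ht1 t w ht hw)
  have h1 : (c⁻¹ * y * c) * t = t * (c⁻¹ * y * c) := by
    have h2 : t = c⁻¹ * w * c := by rw [← hc]; group
    rw [h2]
    calc c⁻¹ * y * c * (c⁻¹ * w * c) = c⁻¹ * (y * w) * c := by group
      _ = c⁻¹ * (w * y) * c := by rw [hy]
      _ = c⁻¹ * w * c * (c⁻¹ * y * c) := by group
  have h3 : c⁻¹ * y * c ∈ Subgroup.centralizer ({t} : Set G) :=
    Subgroup.mem_centralizer_singleton_iff.mpr h1
  have h4 : (⟨c⁻¹ * y * c, h3⟩ : Subgroup.centralizer ({t} : Set G)) ^ 8 = 1 := by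
    rw [← card_centralizer t e]
    exact pow_card_eq_one'
  have h5 : (c⁻¹ * y * c) ^ 8 = 1 := congrArg Subtype.val h4
  have h6 : (c⁻¹ * y * c) ^ 8 = c⁻¹ * y ^ 8 * c := by
    have := conj_pow (a := c⁻¹) (b := y) (i := 8)
    rw [inv_inv] at this
    exact this
  rw [h6] at h5
  have : y ^ 8 = c * (c⁻¹ * y ^ 8 * c) * c⁻¹ := by group
  rw [this, h5]; group

include e hno2 ht in
/-- normal subgroups of odd order are trivial -/
theorem odd_normal (N : Subgroup G) [N.Normal] (hN : ¬ 2 ∣ Nat.card N) : N = ⊥ := by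
  have ht1 := t_ne_one t ht
  have hfpf : ∀ w : G, orderOf w = 2 → ∀ n ∈ N, w * n = n * w → n = 1 := by
    intro w hw n hn hc
    have h8 : n ^ 8 = 1 := pow_eight_of_commute t e hno2 ht hw hc.symm
    have hN' : n ^ Nat.card N = 1 := by
      have : (⟨n, hn⟩ : N) ^ Nat.card N = 1 := pow_card_eq_one'
      exact congrArg Subtype.val this
    have hcop : Nat.Coprime 8 (Nat.card N) := by
      have : Nat.Coprime 2 (Nat.card N) := (Nat.Prime.coprime_iff_not_dvd Nat.prime_two).mpr hN
      exact Nat.Coprime.pow_left 3 this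
    have h1 : orderOf n ∣ Nat.gcd 8 (Nat.card N) :=
      Nat.dvd_gcd (orderOf_dvd_of_pow_eq_one h8) (orderOf_dvd_of_pow_eq_one hN')
    rw [hcop] at h1
    exact orderOf_eq_one_iff.mp (Nat.dvd_one.mp h1)
  have hinv : ∀ w : G, w * w = 1 → w ≠ 1 → ∀ n ∈ N, w * n * w⁻¹ = n⁻¹ := by
    intro w hw hw1
    exact Cfsg.Agent.Helper6.QuatSquare.conj_eq_inv_of_fpf' N hw
      (hfpf w (orderOf_two_of hw hw1))
  -- three involutions
  set v : G := emb t e (sr 0) with hv
  have hvv : v * v = 1 := by rw [hv, ← map_mul, sr_mul_self, map_one]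
  have hv1 : v ≠ 1 := by
    intro h
    have := emb_injective t e (h.trans (map_one _).symm)
    exact absurd this (by decide)
  have htt : t * t = 1 := by
    have := pow_orderOf_eq_one t
    rw [ht, pow_two] at this
    exact this
  have htv : t * v = emb t e (r 2 * sr 0) := by rw [map_mul, emb_r2 t e ht1]
  have htv2 : (t * v) * (t * v) = 1 := by
    rw [htv, ← map_mul]
    have : (r 2 * sr 0 : DihedralGroup 4) * (r 2 * sr 0) = 1 := by decide
    rw [this, map_one]
  have htv1 : t * v ≠ 1 := by
    intro h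
    rw [htv] at h
    have := emb_injective t e (h.trans (map_one _).symm)
    exact absurd this (by decide)
  rw [eq_bot_iff]
  intro n hn
  rw [mem_bot]
  have e1 := hinv t htt ht1 n hn
  have e2 := hinv v hvv hv1 n hn
  have e3 := hinv (t * v) htv2 htv1 n hn
  have e1' := hinv t htt ht1 n⁻¹ (N.inv_mem hn)
  have e4 : (t * v) * n * (t * v)⁻¹ = n := by
    calc (t * v) * n * (t * v)⁻¹ = t * (v * n * v⁻¹) * t⁻¹ := by group
      _ = n := by rw [e2, e1', inv_inv]
  have hnn : n * n = 1 := by
    have : n = n⁻¹ := e4.symm.trans e3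
    calc n * n = n * n⁻¹ := by rw [← this]
      _ = 1 := mul_inv_cancel n
  by_contra hn1
  have ho : orderOf n = 2 := orderOf_two_of hnn hn1
  apply hN
  rw [← ho]
  have : orderOf (⟨n, hn⟩ : N) ∣ Nat.card N := orderOf_dvd_natCard _
  rwa [← Subgroup.orderOf_coe] at this

include e ht in
/-- the centralizer of `t` is self-normalizing -/
theorem normalizer_le (ht1 : t ≠ 1) :
    normalizer ((centralizer ({t} : Set G) : Subgroup G) : Set G) ≤ centralizer ({t} : Set G) := by
  intro x hx
  rw [mem_normalizer_iff] at hx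
  have hz : x * t * x⁻¹ ∈ centralizer ({t} : Set G) := (hx t).mp (t_mem t)
  obtain ⟨w, hw⟩ := (mem_iff t e _).mp hz
  have hwc : ∀ y, w * y = y * w := by
    intro y
    apply emb_injective t e
    rw [map_mul, map_mul, hw]
    -- emb y ∈ C(t), so x⁻¹ (emb y) x ∈ C(t)
    have h1 : x⁻¹ * emb t e y * x ∈ centralizer ({t} : Set G) := by
      have h2 := (hx (x⁻¹ * emb t e y * x)).mpr
      apply h2
      have : x * (x⁻¹ * emb t e y * x) * x⁻¹ = emb t e y := by group
      rw [this]
      exact emb_mem t e y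
    have h3 := mem_centralizer_singleton_iff.mp h1
    calc x * t * x⁻¹ * emb t e y = x * (t * (x⁻¹ * emb t e y * x)) * x⁻¹ := by group
      _ = x * ((x⁻¹ * emb t e y * x) * t) * x⁻¹ := by rw [h3]
      _ = emb t e y * (x * t * x⁻¹) := by group
  rcases center_d8 w hwc with h | h
  · exfalso
    apply ht1
    rw [h, map_one] at hw
    have : t = x⁻¹ * (x * t * x⁻¹) * x := by group
    rw [this, ← hw]; group
  · rw [h, emb_r2 t e ht1] at hw
    rw [mem_centralizer_singleton_iff]
    have : x * t = (x * t * x⁻¹) * x := by group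
    rw [this, ← hw]

include e hno2 ht in
/-- normal subgroups of even order are everything -/
theorem even_normal (N : Subgroup G) [N.Normal] (hN : 2 ∣ Nat.card N) : N = ⊤ := by
  haveI : Fact (Nat.Prime 2) := ⟨Nat.prime_two⟩
  have ht1 := t_ne_one t ht
  obtain ⟨u, hu⟩ := exists_prime_orderOf_dvd_card' (G := ↥N) 2 hN
  have hu' : orderOf (u : G) = 2 := by rw [Subgroup.orderOf_coe]; exact hu
  have hall : ∀ w : G, orderOf w = 2 → w ∈ N := by
    intro w hw
    obtain ⟨c, hc⟩ := isConj_iff.mp (all_conj' t e hno2 ht1 (u : G) w hu' hw)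
    rw [← hc]
    exact Subgroup.Normal.conj_mem inferInstance _ u.2 c
  have hsr : ∀ i : ZMod 4, emb t e (sr i) ∈ N := by
    intro i
    apply hall
    rw [orderOf_emb, orderOf_sr]
  have hCN : centralizer ({t} : Set G) ≤ N := by
    intro x hx
    obtain ⟨y, rfl⟩ := (mem_iff t e x).mp hx
    cases y with
    | r i =>
      have : (r i : DihedralGroup 4) = sr 0 * sr i := by rw [sr_mul_sr, sub_zero]
      rw [this, map_mul]
      exact N.mul_mem (hsr 0) (hsr i)
    | sr i => exact hsr i
  obtain ⟨S, hS⟩ := exists_sylow t e ht1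
  have hSN : (S : Subgroup G) ≤ N := by rw [hS]; exact hCN
  have hfr := Sylow.normalizer_sup_eq_top (S.subtype hSN)
  have hmap : (((S.subtype hSN : Sylow 2 ↥N) : Subgroup ↥N).map N.subtype) = (S : Subgroup G) := by
    rw [Sylow.coe_subtype, Subgroup.map_subgroupOf_eq_of_le hSN]
  rw [hmap, hS] at hfr
  rw [eq_top_iff, ← hfr]
  exact sup_le ((normalizer_le t e ht ht1).trans hCN) le_rfl

include e hno2 ht in
theorem isSimpleGroup : IsSimpleGroup G := by
  have ht1 := t_ne_one t ht
  haveI : Nontrivial G := ⟨⟨t, 1, ht1⟩⟩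
  refine ⟨fun N hN => ?_⟩
  haveI := hN
  by_cases h2 : 2 ∣ Nat.card N
  · right; exact even_normal t e hno2 ht N h2
  · left; exact odd_normal t e hno2 ht N h2

include e hno2 ht in
theorem perfect : commutator G = ⊤ := by
  haveI := isSimpleGroup t e hno2 ht
  rcases (inferInstance : (commutator G).Normal).eq_bot_or_eq_top with h | h
  · exfalso
    have h1 : ⁅emb t e (sr 0), emb t e (r 1)⁆ ∈ commutator G :=
      Subgroup.commutator_mem_commutator (Subgroup.mem_top _) (Subgroup.mem_top _)
    rw [h, mem_bot, commutatorElement_eq_one_iff_mul_comm, ← map_mul, ← map_mul] at h1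
    have := emb_injective t e h1
    exact absurd this (by decide)
  · exact h

include e hno2 ht in
theorem card_cases : Nat.card G = 168 ∨ Nat.card G = 360 :=
  card_eq_168_or_360 t e (perfect t e hno2 ht) ht

end Cfsg.Agent.Helper3.D8S
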