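import Mathlib
import Cfsg.Agent.Helper3.D8Simple
import Cfsg.Agent.Helper18.QD8
import Cfsg.Agent.Helper9.NPC

set_option autoImplicit false
set_option linter.style.haveILetI false
set_option linter.unusedSectionVars false

/-! Groups with an involution whose centralizer is dihedral of order `8`: fusion of involutions,
the `2`-nilpotent case and the simple case. -/

namespace Cfsg.Agent.Helper3.D8C

open Cfsg.Agent.Helper8.D8 DihedralGroup Subgroup

theorem d4_invol : ∀ y : DihedralGroup 4, y * y = 1 → y ≠ 1 →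
    y = r 2 ∨ y = sr 0 ∨ y = sr 1 ∨ y = sr 2 ∨ y = sr 3 := by decide

theorem d4_klein : ∀ y₁ y₂ : DihedralGroup 4, y₁ ≠ 1 → y₂ ≠ 1 → y₁ ≠ y₂ → y₁ * y₁ = 1 →
    y₂ * y₂ = 1 → y₁ * y₂ = y₂ * y₁ → r 2 = y₁ ∨ r 2 = y₂ ∨ r 2 = y₁ * y₂ := by decide

theorem d4_conj0 : (r 1 : DihedralGroup 4) * sr 0 * (r 1)⁻¹ = sr 2 := by decide
theorem d4_conj1 : (r 1 : DihedralGroup 4) * sr 1 * (r 1)⁻¹ = sr 3 := by decide

variable {G : Type*} [Group G] [Finite G] (z : G)
  (e : Subgroup.centralizer ({z} : Set G) ≃* DihedralGroup 4) (hz : orderOf z = 2)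

/-- `z` is conjugate to `emb (sr 0)` -/
def P0 : Prop := IsConj z (emb z e (sr 0))
/-- `z` is conjugate to `emb (sr 1)` -/
def P1 : Prop := IsConj z (emb z e (sr 1))

theorem conj_sr02 : IsConj (emb z e (sr 0)) (emb z e (sr 2)) := by
  rw [isConj_iff]
  refine ⟨emb z e (r 1), ?_⟩
  rw [← map_inv, ← map_mul, ← map_mul, d4_conj0]

theorem conj_sr13 : IsConj (emb z e (sr 1)) (emb z e (sr 3)) := by
  rw [isConj_iff]
  refine ⟨emb z e (r 1), ?_⟩
  rw [← map_inv, ← map_mul, ← map_mul, d4_conj1]

include hz in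
/-- involutions in `C(z)` -/
theorem invol_cases {w : G} (hw : orderOf w = 2) (hwz : w * z = z * w) :
    w = z ∨ w = emb z e (sr 0) ∨ w = emb z e (sr 1) ∨ w = emb z e (sr 2) ∨
      w = emb z e (sr 3) := by
  have hz1 := Cfsg.Agent.Helper3.D8S.t_ne_one z hz
  obtain ⟨y, rfl⟩ := (comm_iff z e w).mp hwz
  rw [orderOf_emb] at hw
  have hy1 : y ≠ 1 := by
    rintro rfl
    rw [orderOf_one] at hw
    omega
  have hyy : y * y = 1 := by
    have := pow_orderOf_eq_one y
    rwa [hw, pow_two] at this
  rcases d4_invol y hyy hy1 with h | h | h | h | h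
  · left; rw [h, emb_r2 z e hz1]
  · right; left; rw [h]
  · right; right; left; rw [h]
  · right; right; right; left; rw [h]
  · right; right; right; right; rw [h]

include hz in
/-- every involution is conjugate to `z`, `emb (sr 0)` or `emb (sr 1)` -/
theorem invol_conj {w : G} (hw : orderOf w = 2) :
    IsConj z w ∨ IsConj (emb z e (sr 0)) w ∨ IsConj (emb z e (sr 1)) w := by
  have hz1 := Cfsg.Agent.Helper3.D8S.t_ne_one z hz
  obtain ⟨S, hS⟩ := exists_sylow z e hz1
  obtain ⟨g, hg⟩ := Cfsg.Agent.Helper18.QD.exists_conj_mem_sylow S w 1 (by rw [hw, pow_one])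
  rw [hS, mem_centralizer_singleton_iff] at hg
  have hw' : orderOf (g * w * g⁻¹) = 2 := by
    have := orderOf_injective (MulAut.conj g).toMonoidHom (MulAut.conj g).injective w
    rw [← hw, ← this]; rfl
  have hback : IsConj (g * w * g⁻¹) w := by
    rw [isConj_iff]
    exact ⟨g⁻¹, by group⟩
  rcases invol_cases z e hz hw' hg with h | h | h | h | h
  · left; rw [← h]; exact hback
  · right; left; rw [← h]; exact hback
  · right; right; rw [← h]; exact hback
  · right; left
    exact (conj_sr02 z e).trans (by rw [← h]; exact hback)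
  · right; right
    exact (conj_sr13 z e).trans (by rw [← h]; exact hback)

include hz in
theorem all_conj (h0 : P0 z e) (h1 : P1 z e) (a b : G) (ha : orderOf a = 2)
    (hb : orderOf b = 2) : IsConj a b := by
  have key : ∀ w : G, orderOf w = 2 → IsConj z w := by
    intro w hw
    rcases invol_conj z e hz hw with h | h | h
    · exact h
    · exact IsConj.trans h0 h
    · exact IsConj.trans h1 h
  exact (key a ha).symm.trans (key b hb)

include hz in
/-- the simple case -/
theorem simple_case (h0 : P0 z e) (h1 : P1 z e) :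
    IsSimpleGroup G ∧ (Nat.card G = 168 ∨ Nat.card G = 360) := by
  have hz1 := Cfsg.Agent.Helper3.D8S.t_ne_one z hz
  obtain ⟨S, hS⟩ := exists_sylow z e hz1
  let eS : (S : Subgroup G) ≃* DihedralGroup 4 := (MulEquiv.subgroupCongr hS).trans e
  have hno2 := (Cfsg.Agent.Helper18.DihFusion.fusion_simple_of_all_conj S 4 eS (by norm_num)
    (all_conj z e hz h0 h1)).1
  exact ⟨Cfsg.Agent.Helper3.D8S.isSimpleGroup z e hno2 hz,
    Cfsg.Agent.Helper3.D8S.card_cases z e hno2 hz⟩

include hz in
/-- the `2`-nilpotent case -/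
theorem nilpotent_case (h0 : ¬ P0 z e) (h1 : ¬ P1 z e) :
    Subgroup.centralizer ({z} : Set G) ⊔ Cfsg.oddCore G = ⊤ := by
  haveI : Fact (Nat.Prime 2) := ⟨Nat.prime_two⟩
  have hz1 := Cfsg.Agent.Helper3.D8S.t_ne_one z hz
  obtain ⟨S, hS⟩ := exists_sylow z e hz1
  let eS : (S : Subgroup G) ≃* DihedralGroup 4 := (MulEquiv.subgroupCongr hS).trans e
  have hnpc : Cfsg.HasNormalPComplement 2 G := by
    rw [Cfsg.Agent.Helper18.DihSylow.main S 4 eS]
    intro U hUS hU
    rw [hS] at hUS
    apply le_antisymm _ (sup_le (Subgroup.centralizer_le_normalizer _) inf_le_right)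
    refine le_trans ?_ le_sup_right
    refine le_inf ?_ le_rfl
    rw [hS]
    -- N(U) ≤ C(z)
    have hexp : ∀ u : U, u * u = 1 := by
      intro u
      have := Monoid.pow_exponent_eq_one u
      rwa [IsKleinFour.exponent_two, pow_two] at this
    -- z ∈ U
    have hzU : z ∈ U := by
      haveI : Fintype U := Fintype.ofFinite _
      have h3 : 2 < Fintype.card U := by
        rw [← Nat.card_eq_fintype_card, IsKleinFour.card_four]; norm_num
      obtain ⟨a, b, c, hab, hac, hbc⟩ := Fintype.two_lt_card_iff.mp h3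
      -- two distinct nonidentity elements
      obtain ⟨u₁, u₂, hu₁, hu₂, hu₁₂⟩ : ∃ u₁ u₂ : U, u₁ ≠ 1 ∧ u₂ ≠ 1 ∧ u₁ ≠ u₂ := by
        by_cases ha : a = 1
        · exact ⟨b, c, fun h => hab (ha.trans h.symm), fun h => hac (ha.trans h.symm), hbc⟩
        · by_cases hb : b = 1
          · exact ⟨a, c, ha, fun h => hbc (hb.trans h.symm), hac⟩
          · exact ⟨a, b, ha, hb, hab⟩
      obtain ⟨y₁, hy₁⟩ := (mem_iff z e _).mp (hUS u₁.2)
      obtain ⟨y₂, hy₂⟩ := (mem_iff z e _).mp (hUS u₂.2)
      have hinj := emb_injective z e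
      have e1 : y₁ ≠ 1 := by
        rintro rfl
        rw [map_one] at hy₁
        exact hu₁ (Subtype.ext hy₁.symm)
      have e2 : y₂ ≠ 1 := by
        rintro rfl
        rw [map_one] at hy₂
        exact hu₂ (Subtype.ext hy₂.symm)
      have e3 : y₁ ≠ y₂ := by
        rintro rfl
        exact hu₁₂ (Subtype.ext (hy₁.symm.trans hy₂))
      have e4 : y₁ * y₁ = 1 := by
        apply hinj
        rw [map_mul, hy₁, map_one]
        exact congrArg Subtype.val (hexp u₁)
      have e5 : y₂ * y₂ = 1 := by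
        apply hinj
        rw [map_mul, hy₂, map_one]
        exact congrArg Subtype.val (hexp u₂)
      have hcomm : u₁ * u₂ = u₂ * u₁ := by
        have h12 := hexp (u₁ * u₂)
        have h11 := hexp u₁
        have h22 := hexp u₂
        calc u₁ * u₂ = (u₂ * u₂) * (u₁ * u₂) * (u₁ * u₁) := by rw [h11, h22, one_mul, mul_one]
          _ = u₂ * (u₂ * u₁) * (u₂ * u₁) * u₁ := by group
          _ = u₂ * ((u₂ * u₁) * (u₂ * u₁)) * u₁ := by group
          _ = u₂ * u₁ := by rw [hexp (u₂ * u₁), mul_one]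
      have e6 : y₁ * y₂ = y₂ * y₁ := by
        apply hinj
        rw [map_mul, map_mul, hy₁, hy₂]
        exact congrArg Subtype.val hcomm
      rcases d4_klein y₁ y₂ e1 e2 e3 e4 e5 e6 with h | h | h
      · have : z = u₁ := by rw [← hy₁, ← h, emb_r2 z e hz1]
        rw [this]; exact u₁.2
      · have : z = u₂ := by rw [← hy₂, ← h, emb_r2 z e hz1]
        rw [this]; exact u₂.2
      · have : z = u₁ * u₂ := by rw [← hy₁, ← hy₂, ← map_mul, ← h, emb_r2 z e hz1]
        rw [this]; exact U.mul_mem u₁.2 u₂.2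
    intro g hg
    rw [mem_normalizer_iff] at hg
    have hgz : g * z * g⁻¹ ∈ U := (hg z).mp hzU
    have hcomm : (g * z * g⁻¹) * z = z * (g * z * g⁻¹) :=
      mem_centralizer_singleton_iff.mp (hUS hgz)
    have hord : orderOf (g * z * g⁻¹) = 2 := by
      have := orderOf_injective (MulAut.conj g).toMonoidHom (MulAut.conj g).injective z
      rw [← hz, ← this]; rfl
    have hconj : IsConj z (g * z * g⁻¹) := isConj_iff.mpr ⟨g, rfl⟩
    rw [mem_centralizer_singleton_iff]
    rcases invol_cases z e hz hord hcomm with h | h | h | h | h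
    · calc g * z = (g * z * g⁻¹) * g := by group
        _ = z * g := by rw [h]
    · exact absurd (h ▸ hconj : IsConj z (emb z e (sr 0))) h0
    · exact absurd (h ▸ hconj : IsConj z (emb z e (sr 1))) h1
    · exfalso
      apply h0
      exact (h ▸ hconj : IsConj z (emb z e (sr 2))).trans (conj_sr02 z e).symm
    · exfalso
      apply h1
      exact (h ▸ hconj : IsConj z (emb z e (sr 3))).trans (conj_sr13 z e).symm
  obtain ⟨N, hN, hc⟩ := (Cfsg.Agent.Helper9.hasNormalPComplement_iff S).mp hnpc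
  have hcard := hc.card_mul_card
  have hS8 : Nat.card (S : Subgroup G) = 8 := by rw [hS]; exact card_centralizer z e
  have hNodd : (Nat.card N).Coprime 2 := by
    rw [Nat.coprime_two_right]
    by_contra hodd
    rw [Nat.not_odd_iff_even, even_iff_two_dvd] at hodd
    have h16 : 2 * Nat.card (S : Subgroup G) ∣ Nat.card G := by
      rw [← hcard]
      exact Nat.mul_dvd_mul hodd dvd_rfl
    have hidx := S.not_dvd_index
    apply hidx
    have h2 := (S : Subgroup G).card_mul_index
    rw [← h2] at h16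
    have hpos : 0 < Nat.card (S : Subgroup G) := Nat.card_pos
    rw [mul_comm 2] at h16
    exact (Nat.mul_dvd_mul_iff_left hpos).mp h16
  have hle : N ≤ Cfsg.oddCore G := by
    apply le_sSup
    exact ⟨hN, hNodd⟩
  rw [eq_top_iff, ← hc.sup_eq_top, ← hS, sup_comm]
  exact sup_le_sup_left hle _

end Cfsg.Agent.Helper3.D8C
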