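import Mathlib
import Cfsg.Agent.Helper3.D8Class1
import Cfsg.Agent.Helper3.V4Count6

set_option autoImplicit false
set_option linter.style.haveILetI false
set_option linter.unusedSectionVars false

/-! The mixed fusion case: `z` is conjugate to `emb (sr 0)` but not to `emb (sr 1)`. Then `G` has a
subgroup of index `2` of order `12` or `60`. -/

namespace Cfsg.Agent.Helper3.D8C

open Cfsg.Agent.Helper8.D8 DihedralGroup Subgroup

/-- the linear character of `D₈` with kernel `{1, r², s, sr²}` -/
def chiFun : DihedralGroup 4 → ℤˣ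
  | r i => if i = 0 ∨ i = 2 then 1 else -1
  | sr i => if i = 0 ∨ i = 2 then 1 else -1

def chi : DihedralGroup 4 →* ℤˣ := MonoidHom.mk' chiFun (by decide)

theorem chi_apply (y : DihedralGroup 4) : chi y = chiFun y := rfl

theorem chi_invol : ∀ w : DihedralGroup 4, chiFun w = 1 → w * w = 1 → w ≠ 1 →
    w = r 2 ∨ w = sr 0 ∨ w = sr 2 := by decide

theorem chi_sq : ∀ w : DihedralGroup 4, chiFun w = 1 → w * w = 1 := by decide

theorem chi_card : Fintype.card {y : DihedralGroup 4 // chiFun y = 1} = 4 := by decide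

theorem chi_neg : ∀ w : DihedralGroup 4, chiFun w ≠ 1 → chiFun (w * (sr 1)⁻¹) = 1 := by decide

theorem chi_gen : ∀ w : DihedralGroup 4, chiFun w = 1 →
    w = 1 ∨ w = r 2 ∨ w = sr 0 ∨ w = sr 2 := by decide

variable {G : Type*} [Group G] [Finite G] (z : G)
  (e : Subgroup.centralizer ({z} : Set G) ≃* DihedralGroup 4) (hz : orderOf z = 2)

include hz in
/-- Thompson transfer gives a subgroup of index `2` -/
theorem exists_index_two (h0 : P0 z e) (h1 : ¬ P1 z e) : ∃ H : Subgroup G, H.index = 2 := by
  haveI : Fact (Nat.Prime 2) := ⟨Nat.prime_two⟩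
  by_contra hcon
  push Not at hcon
  have hz1 := Cfsg.Agent.Helper3.D8S.t_ne_one z hz
  obtain ⟨S, hS⟩ := exists_sylow z e hz1
  let eS : (S : Subgroup G) ≃* DihedralGroup 4 := (MulEquiv.subgroupCongr hS).trans e
  have hSodd : Odd (S : Subgroup G).index := by
    rw [← Nat.not_even_iff_odd, even_iff_two_dvd]; exact S.not_dvd_index
  set M' : Subgroup (S : Subgroup G) := (chi.comp eS.toMonoidHom).ker with hM'def
  have hM' : M'.index = 2 := by
    rw [hM'def, index_ker]
    have hsurj : Function.Surjective (chi.comp eS.toMonoidHom) := by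
      intro u
      rcases Int.units_eq_one_or u with rfl | rfl
      · exact ⟨1, map_one _⟩
      · refine ⟨eS.symm (r 1), ?_⟩
        rw [MonoidHom.comp_apply]
        show chi (eS (eS.symm (r 1))) = -1
        rw [MulEquiv.apply_symm_apply]
        rfl
    rw [MonoidHom.range_eq_top.mpr hsurj, Subgroup.card_top, Nat.card_eq_fintype_card]
    rfl
  obtain ⟨g, hmem, hker⟩ := Cfsg.Agent.Helper16.thompson_transfer_general hcon (S : Subgroup G)
    hSodd M' hM' (emb z e (sr 1)) 1 le_rfl (by rw [orderOf_emb, orderOf_sr, pow_one])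
    (fun y hy => by
      rw [Nat.sub_self, pow_zero]
      have hy1 : y ≠ 1 := by
        rintro rfl
        exact hy (Subgroup.one_mem _)
      have h0' : orderOf (y : G) ≠ 0 := (orderOf_pos _).ne'
      have h1' : orderOf (y : G) ≠ 1 := by
        rw [Ne, orderOf_eq_one_iff]
        exact fun h => hy1 (Subtype.ext h)
      omega)
  -- the element w of D₈
  have hmemC : g * emb z e (sr 1) * g⁻¹ ∈ centralizer ({z} : Set G) := hS ▸ hmem
  set w : DihedralGroup 4 := e ⟨g * emb z e (sr 1) * g⁻¹, hmemC⟩ with hw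
  have hembw : emb z e w = g * emb z e (sr 1) * g⁻¹ := by
    rw [hw, emb_e]
  have hchi : chiFun w = 1 := by
    have : (chi.comp eS.toMonoidHom) ⟨g * emb z e (sr 1) * g⁻¹, hmem⟩ = 1 := hker
    exact this
  have hord : orderOf (g * emb z e (sr 1) * g⁻¹) = 2 := by
    have := orderOf_injective (MulAut.conj g).toMonoidHom (MulAut.conj g).injective
      (emb z e (sr 1))
    rw [orderOf_emb, orderOf_sr] at this
    rw [← this]; rfl
  rw [← hembw, orderOf_emb] at hord
  have hw1 : w ≠ 1 := by
    intro h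
    rw [h, orderOf_one] at hord
    omega
  have hww : w * w = 1 := by
    have := pow_orderOf_eq_one w
    rwa [hord, pow_two] at this
  have hconj : IsConj (emb z e (sr 1)) (emb z e w) := by
    rw [hembw, isConj_iff]
    exact ⟨g, rfl⟩
  apply h1
  rcases chi_invol w hchi hww hw1 with h | h | h
  · rw [h, emb_r2 z e hz1] at hconj
    exact hconj.symm
  · rw [h] at hconj
    exact IsConj.trans h0 hconj.symm
  · rw [h] at hconj
    exact (IsConj.trans h0 (conj_sr02 z e)).trans hconj.symm

section index2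

variable {H : Subgroup G} (hH : H.index = 2) (h0 : P0 z e)

include e hH in
theorem z_mem : z ∈ H := by
  by_cases hz1 : z = 1
  · rw [hz1]; exact H.one_mem
  · have h1 : emb z e (r 2) = emb z e (r 1) * emb z e (r 1) := by
      rw [← map_mul, r_mul_r]; rfl
    have h2 : emb z e (r 2) ∈ H := by
      rw [h1]
      exact mul_self_mem_of_index_two hH _
    rwa [emb_r2 z e hz1] at h2

include hH h0 in
theorem sr0_mem : emb z e (sr 0) ∈ H := by
  haveI := normal_of_index_eq_two hH
  obtain ⟨g, hg⟩ := isConj_iff.mp h0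
  rw [← hg]
  exact Subgroup.Normal.conj_mem inferInstance _ (z_mem z e hH) g

include hH h0 in
theorem sr2_mem : emb z e (sr 2) ∈ H := by
  haveI := normal_of_index_eq_two hH
  obtain ⟨g, hg⟩ := isConj_iff.mp (conj_sr02 z e)
  rw [← hg]
  exact Subgroup.Normal.conj_mem inferInstance _ (sr0_mem z e hH h0) g

include hH h0 in
theorem mem_of_chi {y : DihedralGroup 4} (hy : chiFun y = 1) : emb z e y ∈ H := by
  rcases chi_gen y hy with h | h | h | h
  · rw [h, map_one]; exact H.one_mem
  · by_cases hz1 : z = 1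
    · have : emb z e y ∈ centralizer ({z} : Set G) := emb_mem z e y
      rw [h]
      have h2 : emb z e (r 2) = emb z e (r 1) * emb z e (r 1) := by
        rw [← map_mul, r_mul_r]; rfl
      rw [h2]
      exact mul_self_mem_of_index_two hH _
    · rw [h, emb_r2 z e hz1]; exact z_mem z e hH
  · rw [h]; exact sr0_mem z e hH h0
  · rw [h]; exact sr2_mem z e hH h0

include hz hH h0 in
theorem sr1_not_mem : emb z e (sr 1) ∉ H := by
  haveI : Fact (Nat.Prime 2) := ⟨Nat.prime_two⟩
  intro hmem
  have hz1 := Cfsg.Agent.Helper3.D8S.t_ne_one z hz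
  -- C(z) ≤ H
  have hle : centralizer ({z} : Set G) ≤ H := by
    intro x hx
    obtain ⟨y, rfl⟩ := (mem_iff z e x).mp hx
    by_cases hy : chiFun y = 1
    · exact mem_of_chi z e hH h0 hy
    · have h2 := mem_of_chi z e hH h0 (chi_neg y hy)
      have h3 : emb z e y = emb z e (y * (sr 1)⁻¹) * emb z e (sr 1) := by
        rw [← map_mul]; congr 1; group
      rw [h3]
      exact H.mul_mem h2 hmem
  obtain ⟨S, hS⟩ := exists_sylow z e hz1
  have h8 : Nat.card ↥(centralizer ({z} : Set G)) = 8 := card_centralizer z e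
  have hd : 8 ∣ Nat.card H := by
    rw [← h8]
    exact Subgroup.card_dvd_of_le hle
  have hcard := H.card_mul_index
  rw [hH] at hcard
  have h16 : 16 ∣ Nat.card G := by
    rw [← hcard]
    obtain ⟨k, hk⟩ := hd
    exact ⟨k, by rw [hk]; ring⟩
  have hidx := S.not_dvd_index
  apply hidx
  have h2 := (S : Subgroup G).card_mul_index
  rw [hS, h8] at h2
  rw [← h2] at h16
  rw [hS]
  have : (8 : ℕ) * 2 ∣ 8 * (centralizer ({z} : Set G)).index := h16
  exact (Nat.mul_dvd_mul_iff_left (by norm_num)).mp this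

include hz hH h0 in
theorem emb_mem_iff (y : DihedralGroup 4) : emb z e y ∈ H ↔ chiFun y = 1 := by
  constructor
  · intro hy
    by_contra hne
    have h2 := mem_of_chi z e hH h0 (chi_neg y hne)
    apply sr1_not_mem z e hz hH h0
    have h3 : emb z e (sr 1) = (emb z e (y * (sr 1)⁻¹))⁻¹ * emb z e y := by
      rw [← map_inv, ← map_mul]; congr 1; group
    rw [h3]
    exact H.mul_mem (H.inv_mem h2) hy
  · exact mem_of_chi z e hH h0

include hz hH h0 in
/-- the subgroup of index `2` satisfies the hypotheses of the counting theorem -/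
theorem hyp_H : Cfsg.Agent.Helper3.V4C.Hyp ↥H := by
  classical
  haveI := normal_of_index_eq_two hH
  have hzH := z_mem z e hH
  have hz1 := Cfsg.Agent.Helper3.D8S.t_ne_one z hz
  have hu' := sr1_not_mem z e hz hH h0
  have hucomm : emb z e (sr 1) * z = z * emb z e (sr 1) :=
    mem_centralizer_singleton_iff.mp (emb_mem z e (sr 1))
  have hz' : orderOf (⟨z, hzH⟩ : H) = 2 := by
    rw [← Subgroup.orderOf_coe]; exact hz
  -- conjugacy of involutions in H
  have key : ∀ w : H, orderOf w = 2 → ∃ k : H, k * ⟨z, hzH⟩ * k⁻¹ = w := by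
    intro w hw
    have hwG : orderOf (w : G) = 2 := by rw [Subgroup.orderOf_coe]; exact hw
    have hconj : IsConj z (w : G) := by
      rcases invol_conj z e hz hwG with h | h | h
      · exact h
      · exact IsConj.trans h0 h
      · exfalso
        obtain ⟨g, hg⟩ := isConj_iff.mp h.symm
        apply hu'
        rw [← hg]
        exact Subgroup.Normal.conj_mem inferInstance _ w.2 g
    obtain ⟨g, hg⟩ := isConj_iff.mp hconj
    by_cases hgH : g ∈ H
    · exact ⟨⟨g, hgH⟩, Subtype.ext hg⟩
    · have hgu : g * emb z e (sr 1) ∈ H := by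
        rw [mul_mem_iff_of_index_two hH]
        exact ⟨fun h => absurd h hgH, fun h => absurd h hu'⟩
      refine ⟨⟨g * emb z e (sr 1), hgu⟩, Subtype.ext ?_⟩
      show g * emb z e (sr 1) * z * (g * emb z e (sr 1))⁻¹ = w
      rw [← hg]
      calc g * emb z e (sr 1) * z * (g * emb z e (sr 1))⁻¹
          = g * (emb z e (sr 1) * z) * (emb z e (sr 1))⁻¹ * g⁻¹ := by group
        _ = g * (z * emb z e (sr 1)) * (emb z e (sr 1))⁻¹ * g⁻¹ := by rw [hucomm]
        _ = g * z * g⁻¹ := by group
  refine Cfsg.Agent.Helper3.V4C.Hyp.of_one hz' ?_ ?_ ?_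
  · -- the centralizer has order 4
    rw [← chi_card, ← Nat.card_eq_fintype_card]
    symm
    apply Nat.card_congr
    refine Equiv.ofBijective (fun y => ⟨⟨emb z e y.1, (emb_mem_iff z e hz hH h0 y.1).mpr y.2⟩, ?_⟩)
      ⟨?_, ?_⟩
    · rw [mem_centralizer_singleton_iff]
      apply Subtype.ext
      exact mem_centralizer_singleton_iff.mp (emb_mem z e y.1)
    · intro y y' hyy
      have h1 : emb z e y.1 = emb z e y'.1 := congrArg (fun c => ((c.1 : H) : G)) hyy
      exact Subtype.ext (emb_injective z e h1)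
    · rintro ⟨c, hc⟩
      have hc' : (c : G) * z = z * (c : G) :=
        congrArg Subtype.val (mem_centralizer_singleton_iff.mp hc)
      obtain ⟨y, hy⟩ := (comm_iff z e _).mp hc'
      have hychi : chiFun y = 1 := (emb_mem_iff z e hz hH h0 y).mp (hy ▸ c.2)
      refine ⟨⟨y, hychi⟩, ?_⟩
      apply Subtype.ext
      apply Subtype.ext
      exact hy
  · intro c hc
    have hc' : (c : G) * z = z * (c : G) := congrArg Subtype.val hc
    obtain ⟨y, hy⟩ := (comm_iff z e _).mp hc'
    have hychi : chiFun y = 1 := (emb_mem_iff z e hz hH h0 y).mp (hy ▸ c.2)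
    apply Subtype.ext
    show (c : G) * (c : G) = 1
    rw [← hy, ← map_mul, chi_sq y hychi, map_one]
  · intro s t hs ht
    obtain ⟨k₁, hk₁⟩ := key s hs
    obtain ⟨k₂, hk₂⟩ := key t ht
    rw [isConj_iff]
    refine ⟨k₂ * k₁⁻¹, ?_⟩
    rw [← hk₁, ← hk₂]
    group

include hz hH h0 in
theorem card_H : Nat.card H = 12 ∨ Nat.card H = 60 := by
  classical
  haveI : Fintype H := Fintype.ofFinite _
  have hzH := z_mem z e hH
  have hz' : orderOf (⟨z, hzH⟩ : H) = 2 := by
    rw [← Subgroup.orderOf_coe]; exact hz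
  rw [Nat.card_eq_fintype_card]
  exact Cfsg.Agent.Helper3.V4C.card_eq (hyp_H z e hz hH h0) hz'

end index2

end Cfsg.Agent.Helper3.D8C
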