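import Mathlib
import Cfsg.Agent.Helper3.D8Class2
import Cfsg.Agent.Helper3.V4Count7
import Cfsg.Agent.Helper18.Klein3

set_option autoImplicit false
set_option linter.style.haveILetI false
set_option linter.unusedSectionVars false

/-! The mixed fusion case, continued: identification of `G` as `S₄` or `S₅`. -/

namespace Cfsg.Agent.Helper3.D8C

open Cfsg.Agent.Helper8.D8 DihedralGroup Subgroup

variable {G : Type*} [Group G] [Finite G] (z : G)
  (e : Subgroup.centralizer ({z} : Set G) ≃* DihedralGroup 4) (hz : orderOf z = 2)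

include e in
/-- centralizers of conjugates of `z` have exponent dividing `8` -/
theorem pow_eight_of_conj {w y : G} (hw : IsConj z w) (hy : y * w = w * y) : y ^ 8 = 1 := by
  obtain ⟨c, hc⟩ := isConj_iff.mp hw
  have h1 : (c⁻¹ * y * c) * z = z * (c⁻¹ * y * c) := by
    have h2 : z = c⁻¹ * w * c := by rw [← hc]; group
    rw [h2]
    calc c⁻¹ * y * c * (c⁻¹ * w * c) = c⁻¹ * (y * w) * c := by group
      _ = c⁻¹ * (w * y) * c := by rw [hy]
      _ = c⁻¹ * w * c * (c⁻¹ * y * c) := by group
  have h3 : c⁻¹ * y * c ∈ Subgroup.centralizer ({z} : Set G) :=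
    Subgroup.mem_centralizer_singleton_iff.mpr h1
  have h4 : (⟨c⁻¹ * y * c, h3⟩ : Subgroup.centralizer ({z} : Set G)) ^ 8 = 1 := by
    rw [← card_centralizer z e]
    exact pow_card_eq_one'
  have h5 : (c⁻¹ * y * c) ^ 8 = 1 := congrArg Subtype.val h4
  have h6 : (c⁻¹ * y * c) ^ 8 = c⁻¹ * y ^ 8 * c := by
    have := conj_pow (a := c⁻¹) (b := y) (i := 8)
    rw [inv_inv] at this
    exact this
  rw [h6] at h5
  have : y ^ 8 = c * (c⁻¹ * y ^ 8 * c) * c⁻¹ := by group
  rw [this, h5]; group

include e in
/-- an element of odd order commuting with a conjugate of `z` is trivial -/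
theorem eq_one_of_conj_of_odd {w y : G} (hw : IsConj z w) (hy : y * w = w * y) {n : ℕ}
    (hn : ¬ 2 ∣ n) (hyn : y ^ n = 1) : y = 1 := by
  have h8 : y ^ 8 = 1 := pow_eight_of_conj z e hw hy
  have hcop : Nat.Coprime 8 n := by
    have : Nat.Coprime 2 n := (Nat.Prime.coprime_iff_not_dvd Nat.prime_two).mpr hn
    exact Nat.Coprime.pow_left 3 this
  have h1 : orderOf y ∣ Nat.gcd 8 n :=
    Nat.dvd_gcd (orderOf_dvd_of_pow_eq_one h8) (orderOf_dvd_of_pow_eq_one hyn)
  rw [hcop] at h1
  exact orderOf_eq_one_iff.mp (Nat.dvd_one.mp h1)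

include hz in
/-- in the mixed case, normal subgroups of odd order are trivial -/
theorem odd_normal' (h0 : P0 z e) (N : Subgroup G) [N.Normal] (hN : ¬ 2 ∣ Nat.card N) :
    N = ⊥ := by
  have hz1 := Cfsg.Agent.Helper3.D8S.t_ne_one z hz
  have hfpf : ∀ w : G, IsConj z w → ∀ n ∈ N, w * n = n * w → n = 1 := by
    intro w hw n hn hc
    have hN' : n ^ Nat.card N = 1 := by
      have : (⟨n, hn⟩ : N) ^ Nat.card N = 1 := pow_card_eq_one'
      exact congrArg Subtype.val this
    exact eq_one_of_conj_of_odd z e hw hc.symm hN hN'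
  have hinv : ∀ w : G, w * w = 1 → IsConj z w → ∀ n ∈ N, w * n * w⁻¹ = n⁻¹ := by
    intro w hw hwc
    exact Cfsg.Agent.Helper6.QuatSquare.conj_eq_inv_of_fpf' N hw (hfpf w hwc)
  set v : G := emb z e (sr 0) with hv
  have hvv : v * v = 1 := by rw [hv, ← map_mul, sr_mul_self, map_one]
  have hzz : z * z = 1 := by
    have := pow_orderOf_eq_one z
    rw [hz, pow_two] at this
    exact this
  have hzv : z * v = emb z e (sr 2) := by
    have h2 : emb z e (sr 2) = emb z e (r 2) * emb z e (sr 0) := by
      rw [← map_mul]; rfl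
    rw [h2, emb_r2 z e hz1]
  have hzv2 : (z * v) * (z * v) = 1 := by
    rw [hzv, ← map_mul, sr_mul_self, map_one]
  have hzvc : IsConj z (z * v) := by
    rw [hzv]
    exact IsConj.trans h0 (conj_sr02 z e)
  rw [eq_bot_iff]
  intro n hn
  rw [mem_bot]
  have e1 := hinv z hzz (IsConj.refl z) n hn
  have e2 := hinv v hvv h0 n hn
  have e3 := hinv (z * v) hzv2 hzvc n hn
  have e1' := hinv z hzz (IsConj.refl z) n⁻¹ (N.inv_mem hn)
  have e4 : (z * v) * n * (z * v)⁻¹ = n := by
    calc (z * v) * n * (z * v)⁻¹ = z * (v * n * v⁻¹) * z⁻¹ := by group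
      _ = n := by rw [e2, e1', inv_inv]
  have hnn : n * n = 1 := by
    have : n = n⁻¹ := e4.symm.trans e3
    calc n * n = n * n⁻¹ := by rw [← this]
      _ = 1 := mul_inv_cancel n
  by_contra hn1
  have ho : orderOf n = 2 := Cfsg.Agent.Helper3.D8S.orderOf_two_of hnn hn1
  apply hN
  rw [← ho]
  have : orderOf (⟨n, hn⟩ : N) ∣ Nat.card N := orderOf_dvd_natCard _
  rwa [← Subgroup.orderOf_coe] at this

section index2

variable {H : Subgroup G} (hH : H.index = 2) (h0 : P0 z e)

include hz h0 in
/-- no element of order `3` commutes with an involution, when `|G| = 24` -/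
theorem no_six (hG : Nat.card G = 24) (g : G) : orderOf g ≠ 6 := by
  intro hg
  have hz1 := Cfsg.Agent.Helper3.D8S.t_ne_one z hz
  have ha : orderOf (g ^ 3) = 2 := by
    rw [orderOf_pow_of_dvd (by norm_num) (by rw [hg]; norm_num), hg]
  have hb : orderOf (g ^ 2) = 3 := by
    rw [orderOf_pow_of_dvd (by norm_num) (by rw [hg]; norm_num), hg]
  have hab : g ^ 2 * g ^ 3 = g ^ 3 * g ^ 2 := ((Commute.refl g).pow_pow 2 3).eq
  have hb3 : (g ^ 2) ^ 3 = 1 := by rw [← hb]; exact pow_orderOf_eq_one _
  have hb1 : g ^ 2 ≠ 1 := by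
    intro h
    rw [h, orderOf_one] at hb
    omega
  rcases invol_conj z e hz ha with h | h | h
  · exact hb1 (eq_one_of_conj_of_odd z e h hab (by norm_num) hb3)
  · exact hb1 (eq_one_of_conj_of_odd z e (IsConj.trans h0 h) hab (by norm_num) hb3)
  · obtain ⟨c, hc⟩ := isConj_iff.mp h
    set u : G := emb z e (sr 1) with hu
    have huu : u * u = 1 := by rw [hu, ← map_mul, sr_mul_self, map_one]
    have hu1 : u ≠ 1 := by
      intro h'
      have := emb_injective z e (h'.trans (map_one _).symm)
      exact absurd this (by decide)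
    have hzz : z * z = 1 := by
      have := pow_orderOf_eq_one z
      rw [hz, pow_two] at this
      exact this
    have huz : u * z = z * u := mem_centralizer_singleton_iff.mp (emb_mem z e (sr 1))
    have hzu : z ≠ u := by
      intro h'
      have h'' : emb z e (r 2) = emb z e (sr 1) := (emb_r2 z e hz1).trans h'
      have := emb_injective z e h''
      exact absurd this (by decide)
    set b' : G := c⁻¹ * g ^ 2 * c with hb'
    have hb'u : b' * u = u * b' := by
      have h2 : u = c⁻¹ * g ^ 3 * c := by rw [← hc]; group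
      rw [hb', h2]
      calc c⁻¹ * g ^ 2 * c * (c⁻¹ * g ^ 3 * c) = c⁻¹ * (g ^ 2 * g ^ 3) * c := by group
        _ = c⁻¹ * (g ^ 3 * g ^ 2) * c := by rw [hab]
        _ = c⁻¹ * g ^ 3 * c * (c⁻¹ * g ^ 2 * c) := by group
    have hb'o : orderOf b' = 3 := by
      have := orderOf_injective (MulAut.conj c⁻¹).toMonoidHom (MulAut.conj c⁻¹).injective (g ^ 2)
      rw [← hb, ← this]
      show orderOf (c⁻¹ * g ^ 2 * c) = orderOf (c⁻¹ * g ^ 2 * c⁻¹⁻¹)
      rw [inv_inv]
    have hb'mem : b' ∈ centralizer ({u} : Set G) := mem_centralizer_singleton_iff.mpr hb'u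
    have hzmem : z ∈ centralizer ({u} : Set G) := mem_centralizer_singleton_iff.mpr huz.symm
    have humem : u ∈ centralizer ({u} : Set G) := mem_centralizer_singleton_iff.mpr rfl
    have h3 : 3 ∣ Nat.card (centralizer ({u} : Set G)) := by
      have : orderOf (⟨b', hb'mem⟩ : centralizer ({u} : Set G)) ∣ _ := orderOf_dvd_natCard _
      rwa [← Subgroup.orderOf_coe, hb'o] at this
    have h4 : 4 ∣ Nat.card (centralizer ({u} : Set G)) := by
      have hle : kleinOf z u hzz huu huz.symm ≤ centralizer ({u} : Set G) := kleinOf_le hzmem humem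
      have := Subgroup.card_dvd_of_le hle
      rwa [card_kleinOf hz1 hu1 hzu] at this
    have h12 : 12 ∣ Nat.card (centralizer ({u} : Set G)) :=
      Nat.Coprime.mul_dvd_of_dvd_of_dvd (by norm_num : Nat.Coprime 3 4) h3 h4
    have hci := (centralizer ({u} : Set G)).card_mul_index
    rw [hG] at hci
    have hnormal : (centralizer ({u} : Set G)).Normal := by
      obtain ⟨k, hk⟩ := h12
      rw [hk] at hci
      have hk0 : k ≠ 0 := by
        rintro rfl
        omega
      have hidx : (centralizer ({u} : Set G)).index = 1 ∨ (centralizer ({u} : Set G)).index = 2 := by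
        have hi0 : (centralizer ({u} : Set G)).index ≠ 0 := by
          intro h'
          rw [h'] at hci
          omega
        have : k * (centralizer ({u} : Set G)).index = 2 := by
          have : 12 * (k * (centralizer ({u} : Set G)).index) = 12 * 2 := by
            rw [← mul_assoc, hci]
          omega
        have hdvd : (centralizer ({u} : Set G)).index ∣ 2 := ⟨k, by rw [← this]; ring⟩
        rcases (Nat.dvd_prime Nat.prime_two).mp hdvd with h' | h'
        · exact Or.inl h'
        · exact Or.inr h'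
      rcases hidx with h' | h'
      · rw [Subgroup.index_eq_one] at h'
        rw [h']
        infer_instance
      · exact normal_of_index_eq_two h'
    obtain ⟨g', hg'⟩ := isConj_iff.mp h0
    have hmem : emb z e (sr 0) ∈ centralizer ({u} : Set G) := by
      rw [← hg']
      exact hnormal.conj_mem _ hzmem g'
    rw [mem_centralizer_singleton_iff, hu, ← map_mul, ← map_mul] at hmem
    have := emb_injective z e hmem
    exact absurd this (by decide)

include hz hH h0 in
theorem equiv_S4 (h12 : Nat.card H = 12) : Nonempty (G ≃* Equiv.Perm (Fin 4)) := by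
  haveI : Fact (Nat.Prime 3) := ⟨Nat.prime_three⟩
  have hG : Nat.card G = 24 := by
    have := H.card_mul_index
    rw [hH, h12] at this
    omega
  apply Cfsg.Agent.Helper18.Klein.nonempty_equiv_S4 hG
  · intro hss
    obtain ⟨P⟩ : Nonempty (Sylow 3 G) := inferInstance
    haveI : (P : Subgroup G).Normal := Sylow.normal_of_subsingleton P
    have hP := (Cfsg.Agent.Helper18.Klein.sylow_card_of 3 8 hG (by norm_num) P).1
    have := odd_normal' z e hz h0 (P : Subgroup G) (by rw [hP]; norm_num)
    rw [this, Subgroup.card_bot] at hP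
    omega
  · exact no_six z e hz h0 hG

include hz hH h0 in
theorem mem_V_iff (x : G) : x ∈ centralizer ({z} : Set G) ⊓ H ↔
    x = 1 ∨ x = z ∨ x = emb z e (sr 0) ∨ x = emb z e (sr 2) := by
  have hz1 := Cfsg.Agent.Helper3.D8S.t_ne_one z hz
  constructor
  · rintro ⟨hx1, hx2⟩
    obtain ⟨y, rfl⟩ := (mem_iff z e x).mp hx1
    have hy := (emb_mem_iff z e hz hH h0 y).mp hx2
    rcases chi_gen y hy with h | h | h | h
    · left; rw [h, map_one]
    · right; left; rw [h, emb_r2 z e hz1]
    · right; right; left; rw [h]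
    · right; right; right; rw [h]
  · rintro (h | h | h | h)
    · rw [h]; exact one_mem _
    · rw [h]; exact ⟨t_mem z, z_mem z e hH⟩
    · rw [h]; exact ⟨emb_mem z e _, sr0_mem z e hH h0⟩
    · rw [h]; exact ⟨emb_mem z e _, sr2_mem z e hH h0⟩

include hz hH h0 in
/-- elements of `C(z) ∩ H` commute with `emb (sr 0)` -/
theorem V_comm_sr0 {x : G} (hx : x ∈ centralizer ({z} : Set G) ⊓ H) :
    x * emb z e (sr 0) = emb z e (sr 0) * x := by
  rcases (mem_V_iff z e hz hH h0 x).mp hx with h | h | h | h
  · rw [h, one_mul, mul_one]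
  · rw [h]; exact (mem_centralizer_singleton_iff.mp (emb_mem z e (sr 0))).symm
  · rw [h]
  · rw [h, ← map_mul, ← map_mul]; rfl

include hH in
theorem cent_le_normalizer :
    centralizer ({z} : Set G) ≤
      normalizer (((centralizer ({z} : Set G) ⊓ H : Subgroup G)) : Set G) := by
  haveI := normal_of_index_eq_two hH
  intro c hc
  apply mem_normalizer_fintype
  intro n hn
  have hn' : n ∈ centralizer ({z} : Set G) ⊓ H := hn
  obtain ⟨hn1, hn2⟩ := Subgroup.mem_inf.mp hn'
  show c * n * c⁻¹ ∈ centralizer ({z} : Set G) ⊓ H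
  exact Subgroup.mem_inf.mpr
    ⟨mul_mem (mul_mem hc hn1) (inv_mem hc), Subgroup.Normal.conj_mem inferInstance _ hn2 c⟩

include hz hH h0 in
theorem conj_mem_normalizer {g : G} (hg : g * z * g⁻¹ = emb z e (sr 0)) :
    g ∈ normalizer (((centralizer ({z} : Set G) ⊓ H : Subgroup G)) : Set G) := by
  haveI := normal_of_index_eq_two hH
  have : g⁻¹ ∈ normalizer (((centralizer ({z} : Set G) ⊓ H : Subgroup G)) : Set G) := by
    apply mem_normalizer_fintype
    intro n hn
    have hn' : n ∈ centralizer ({z} : Set G) ⊓ H := hn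
    have hcomm := V_comm_sr0 z e hz hH h0 hn'
    show g⁻¹ * n * g⁻¹⁻¹ ∈ centralizer ({z} : Set G) ⊓ H
    refine Subgroup.mem_inf.mpr ⟨?_, Subgroup.Normal.conj_mem inferInstance _ hn'.2 g⁻¹⟩
    rw [mem_centralizer_singleton_iff, inv_inv]
    have hz' : z = g⁻¹ * emb z e (sr 0) * g := by rw [← hg]; group
    calc g⁻¹ * n * g * z = g⁻¹ * n * g * (g⁻¹ * emb z e (sr 0) * g) := by rw [← hz']
      _ = g⁻¹ * (n * emb z e (sr 0)) * g := by group
      _ = g⁻¹ * (emb z e (sr 0) * n) * g := by rw [hcomm]
      _ = (g⁻¹ * emb z e (sr 0) * g) * (g⁻¹ * n * g) := by group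
      _ = z * (g⁻¹ * n * g) := by rw [← hz']
  have h2 := inv_mem this
  rwa [inv_inv] at h2

include hz hH h0 in
/-- the normalizer of `C(z) ∩ H` has order `24` -/
theorem card_normalizer_V (hG : Nat.card G = 120) :
    Nat.card (normalizer (((centralizer ({z} : Set G) ⊓ H : Subgroup G)) : Set G)) = 24 := by
  have hz1 := Cfsg.Agent.Helper3.D8S.t_ne_one z hz
  set M := normalizer (((centralizer ({z} : Set G) ⊓ H : Subgroup G)) : Set G) with hM
  have hCM : centralizer ({z} : Set G) ≤ M := cent_le_normalizer z hH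
  obtain ⟨g, hg⟩ := isConj_iff.mp h0
  obtain ⟨g₂, hg₂⟩ := isConj_iff.mp (IsConj.trans h0 (conj_sr02 z e))
  have hgM : g ∈ M := conj_mem_normalizer z e hz hH h0 hg
  have hgC : g ∉ centralizer ({z} : Set G) := by
    intro hmem
    rw [mem_centralizer_singleton_iff] at hmem
    have h1 : g * z * g⁻¹ = z := by rw [hmem]; group
    have h2 : emb z e (sr 0) = emb z e (r 2) := by rw [← hg, h1, emb_r2 z e hz1]
    have := emb_injective z e h2
    exact absurd this (by decide)
  have h8 : Nat.card (centralizer ({z} : Set G)) = 8 := card_centralizer z e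
  have hdvd8 : 8 ∣ Nat.card M := by
    rw [← h8]; exact Subgroup.card_dvd_of_le hCM
  have hdvd : Nat.card M ∣ 120 := by
    rw [← hG]; exact Subgroup.card_subgroup_dvd_card M
  have hne8 : Nat.card M ≠ 8 := by
    intro h
    have : centralizer ({z} : Set G) = M :=
      Subgroup.eq_of_le_of_card_ge hCM (by rw [h8, h])
    exact hgC (this ▸ hgM)
  have hzV : z ∈ centralizer ({z} : Set G) ⊓ H := ⟨t_mem z, z_mem z e hH⟩
  have hle : Nat.card M ≤ 24 := by
    have hsub : (M : Set G) ⊆ ((centralizer ({z} : Set G) : Subgroup G) : Set G) ∪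
        (fun c => g * c) '' ((centralizer ({z} : Set G) : Subgroup G) : Set G) ∪
        (fun c => g₂ * c) '' ((centralizer ({z} : Set G) : Subgroup G) : Set G) := by
      intro m hm
      have hmz : m * z * m⁻¹ ∈ centralizer ({z} : Set G) ⊓ H :=
        (mem_normalizer_iff.mp hm z).mp hzV
      have key : ∀ k : G, k * z * k⁻¹ = m * z * m⁻¹ → k⁻¹ * m ∈ centralizer ({z} : Set G) := by
        intro k hk
        rw [mem_centralizer_singleton_iff]
        have : z = k⁻¹ * (m * z * m⁻¹) * k := by rw [← hk]; group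
        calc k⁻¹ * m * z = k⁻¹ * (m * z * m⁻¹) * k * (k⁻¹ * m) := by group
          _ = z * (k⁻¹ * m) := by rw [← this]
      rcases (mem_V_iff z e hz hH h0 _).mp hmz with h | h | h | h
      · exfalso
        apply hz1
        have : z = m⁻¹ * (m * z * m⁻¹) * m := by group
        rw [this, h]; group
      · left; left
        have := key 1 (by rw [h]; group)
        rwa [inv_one, one_mul] at this
      · left; right
        exact ⟨g⁻¹ * m, key g (by rw [h, hg]), by group⟩
      · right
        exact ⟨g₂⁻¹ * m, key g₂ (by rw [h, hg₂]), by group⟩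
    have hcardM : Nat.card M = (M : Set G).ncard := by
      rw [← Nat.card_coe_set_eq]; rfl
    have hcardC : (((centralizer ({z} : Set G) : Subgroup G)) : Set G).ncard = 8 := by
      rw [← h8, ← Nat.card_coe_set_eq]; rfl
    rw [hcardM]
    refine (Set.ncard_le_ncard hsub (Set.toFinite _)).trans ?_
    refine (Set.ncard_union_le _ _).trans ?_
    have h1 := Set.ncard_union_le ((centralizer ({z} : Set G) : Subgroup G) : Set G)
      ((fun c => g * c) '' ((centralizer ({z} : Set G) : Subgroup G) : Set G))
    rw [Set.ncard_image_of_injective _ (mul_right_injective g), hcardC] at h1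
    rw [Set.ncard_image_of_injective _ (mul_right_injective g₂), hcardC]
    omega
  obtain ⟨k, hk⟩ := hdvd8
  rw [hk] at hdvd hne8 hle ⊢
  have hk3 : k ≤ 3 := by omega
  interval_cases k
  · omega
  · omega
  · exfalso; revert hdvd; norm_num
  · rfl

include hz hH h0 in
/-- a normal subgroup meeting `H` trivially is trivial -/
theorem normal_disjoint (K : Subgroup G) [K.Normal] (hKH : K ⊓ H = ⊥) : K = ⊥ := by
  haveI := normal_of_index_eq_two hH
  have hz1 := Cfsg.Agent.Helper3.D8S.t_ne_one z hz
  rw [eq_bot_iff]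
  intro k hk
  rw [mem_bot]
  by_contra hk1
  have hkk : k * k = 1 := by
    have : k * k ∈ K ⊓ H := ⟨K.mul_mem hk hk, mul_self_mem_of_index_two hH k⟩
    rwa [hKH, mem_bot] at this
  have hko : orderOf k = 2 := Cfsg.Agent.Helper3.D8S.orderOf_two_of hkk hk1
  have hkH : k ∉ H := by
    intro h
    have : k ∈ K ⊓ H := ⟨hk, h⟩
    rw [hKH, mem_bot] at this
    exact hk1 this
  have hconj : IsConj (emb z e (sr 1)) k := by
    rcases invol_conj z e hz hko with h | h | h
    · exfalso
      obtain ⟨c, hc⟩ := isConj_iff.mp h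
      apply hkH
      rw [← hc]
      exact Subgroup.Normal.conj_mem inferInstance _ (z_mem z e hH) c
    · exfalso
      obtain ⟨c, hc⟩ := isConj_iff.mp h
      apply hkH
      rw [← hc]
      exact Subgroup.Normal.conj_mem inferInstance _ (sr0_mem z e hH h0) c
    · exact h
  obtain ⟨c, hc⟩ := isConj_iff.mp hconj.symm
  have hu : emb z e (sr 1) ∈ K := by
    rw [← hc]
    exact Subgroup.Normal.conj_mem inferInstance _ hk c
  obtain ⟨c', hc'⟩ := isConj_iff.mp (conj_sr13 z e)
  have hu3 : emb z e (sr 3) ∈ K := by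
    rw [← hc']
    exact Subgroup.Normal.conj_mem inferInstance _ hu c'
  have hzK : z ∈ K := by
    have h2 : emb z e (r 2) = emb z e (sr 1) * emb z e (sr 3) := by
      rw [← map_mul]; rfl
    rw [← emb_r2 z e hz1, h2]
    exact K.mul_mem hu hu3
  have : z ∈ K ⊓ H := ⟨hzK, z_mem z e hH⟩
  rw [hKH, mem_bot] at this
  exact hz1 this

include hz hH h0 in
theorem equiv_S5 (h60 : Nat.card H = 60) : Nonempty (G ≃* Equiv.Perm (Fin 5)) := by
  haveI hHn := normal_of_index_eq_two hH
  have hG : Nat.card G = 120 := by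
    have := H.card_mul_index
    rw [hH, h60] at this
    omega
  have hzH := z_mem z e hH
  have hz' : orderOf (⟨z, hzH⟩ : H) = 2 := by
    rw [← Subgroup.orderOf_coe]; exact hz
  obtain ⟨eA⟩ := Cfsg.Agent.Helper3.V4C.Hyp.equiv_A5 (hyp_H z e hz hH h0) hz' h60
  haveI : IsSimpleGroup (alternatingGroup (Fin 5)) := alternatingGroup.isSimpleGroup (by simp)
  haveI hsimple : IsSimpleGroup ↥H := MulEquiv.isSimpleGroup eA
  set M := normalizer (((centralizer ({z} : Set G) ⊓ H : Subgroup G)) : Set G) with hM
  have hM24 : Nat.card M = 24 := card_normalizer_V z e hz hH h0 hG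
  have hidx : M.index = 5 := by
    have := M.card_mul_index
    rw [hM24, hG] at this
    omega
  -- the core is trivial
  have hcore : M.normalCore = ⊥ := by
    apply normal_disjoint z e hz hH h0
    have hnorm : (M.normalCore.subgroupOf H).Normal := inferInstance
    rcases hnorm.eq_bot_or_eq_top with h | h
    · rw [Subgroup.subgroupOf_eq_bot] at h
      exact disjoint_iff.mp h
    · exfalso
      rw [Subgroup.subgroupOf_eq_top] at h
      have hle : H ≤ M := h.trans (Subgroup.normalCore_le M)
      have := Subgroup.card_dvd_of_le hle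
      rw [h60, hM24] at this
      omega
  have hinj : Function.Injective (MulAction.toPermHom G (G ⧸ M)) := by
    rw [← MonoidHom.ker_eq_bot_iff, ← Subgroup.normalCore_eq_ker]
    exact hcore
  have h5 : Nat.card (G ⧸ M) = 5 := by rw [← Subgroup.index_eq_card]; exact hidx
  let ε : (G ⧸ M) ≃ Fin 5 := Finite.equivFinOfCardEq h5
  let ψ : G →* Equiv.Perm (Fin 5) :=
    (Equiv.permCongrHom ε).toMonoidHom.comp (MulAction.toPermHom G (G ⧸ M))
  have hψ : Function.Injective ψ := (Equiv.permCongrHom ε).injective.comp hinj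
  have hbij : Function.Bijective ψ := by
    apply Function.Injective.bijective_of_nat_card_le hψ
    rw [hG, Nat.card_perm, Nat.card_eq_fintype_card, Fintype.card_fin]
    decide
  exact ⟨MulEquiv.ofBijective ψ hbij⟩

end index2

include hz in
/-- the mixed case -/
theorem mixed_case (h0 : P0 z e) (h1 : ¬ P1 z e) :
    Nonempty (G ≃* Equiv.Perm (Fin 4)) ∨ Nonempty (G ≃* Equiv.Perm (Fin 5)) := by
  obtain ⟨H, hH⟩ := exists_index_two z e hz h0 h1
  rcases card_H z e hz hH h0 with h | h
  · exact Or.inl (equiv_S4 z e hz hH h0 h)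
  · exact Or.inr (equiv_S5 z e hz hH h0 h)

/-- the outer automorphism of `D₈` exchanging the two classes of noncentral involutions -/
def swapFun : DihedralGroup 4 → DihedralGroup 4
  | r i => r i
  | sr i => sr (i + 1)

def swapInv : DihedralGroup 4 → DihedralGroup 4
  | r i => r i
  | sr i => sr (i - 1)

def swap : DihedralGroup 4 ≃* DihedralGroup 4 where
  toFun := swapFun
  invFun := swapInv
  left_inv := by decide
  right_inv := by decide
  map_mul' := by decide

theorem emb_swap (y : DihedralGroup 4) : emb z (e.trans swap) y = emb z e (swapInv y) := rfl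

include e hz in
/-- the classification of groups with an involution whose centralizer is dihedral of order `8` -/
theorem classification :
    Subgroup.centralizer ({z} : Set G) ⊔ Cfsg.oddCore G = ⊤ ∨
      Nonempty (G ≃* Equiv.Perm (Fin 4)) ∨ Nonempty (G ≃* Equiv.Perm (Fin 5)) ∨
      (IsSimpleGroup G ∧ (Nat.card G = 168 ∨ Nat.card G = 360)) := by
  by_cases h0 : P0 z e
  · by_cases h1 : P1 z e
    · right; right; right
      exact simple_case z e hz h0 h1
    · rcases mixed_case z e hz h0 h1 with h | h
      · right; left; exact h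
      · right; right; left; exact h
  · by_cases h1 : P1 z e
    · have h0' : P0 z (e.trans swap) := by
        unfold P0
        rw [emb_swap]
        exact IsConj.trans h1 (conj_sr13 z e)
      have h1' : ¬ P1 z (e.trans swap) := by
        unfold P1
        rw [emb_swap]
        exact h0
      rcases mixed_case z (e.trans swap) hz h0' h1' with h | h
      · right; left; exact h
      · right; right; left; exact h
    · left
      exact nilpotent_case z e hz h0 h1

end Cfsg.Agent.Helper3.D8C
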