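import Mathlib
import Cfsg.Agent.Helper10.Alperin
import Cfsg.Agent.Helper10.AG
import Cfsg.Agent.Helper10.PResidual
import Cfsg.Agent.Helper18.DihSylow

set_option autoImplicit false
set_option linter.style.haveILetI false
open Cfsg

/-! Groups with dihedral Sylow 2-subgroup `S`: two Klein four-subgroups of `S` which are conjugate
in the group are already conjugate in `S` (via Alperin's fusion theorem: the automizers of the
non-Klein subgroups of `S` are 2-groups). -/

namespace Cfsg.Agent.Helper3.DihKlein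

open Cfsg.Agent.Helper10 Cfsg.Agent.Helper14 Cfsg.Agent.Helper18.DihSylow

variable {X : Type*} [Group X] [Finite X]

/-- if `Aut(T)` is a 2-group and `N_S(T)` is Sylow in `N(T)`, then `N(T) = C(T) N_S(T)` -/
theorem exists_mul_of_aut_pgroup (S T : Subgroup X) (hS : IsPGroup 2 S)
    (hA : IsPGroup 2 (MulAut T)) (hext : IsExt 2 S T) (x : X)
    (hx : x ∈ Subgroup.normalizer (T : Set X)) :
    ∃ c ∈ Subgroup.centralizer (T : Set X), ∃ s ∈ S, x = c * s := by
  haveI : Fact (Nat.Prime 2) := ⟨Nat.prime_two⟩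
  have hRp : IsPGroup 2 ↥((S ⊓ Subgroup.normalizer (T : Set X)).subgroupOf
      (Subgroup.normalizer (T : Set X))) := (hS.to_le inf_le_left).comap_subtype
  obtain ⟨s, hs, u, hu, h⟩ := exists_sylow_mul_pResidual (hRp.toSylow hext)
    (⟨x, hx⟩⁻¹ : ↥(Subgroup.normalizer (T : Set X)))
  have hs' : (s : X) ∈ S := by
    have h1 : s ∈ (S ⊓ Subgroup.normalizer (T : Set X)).subgroupOf
        (Subgroup.normalizer (T : Set X)) := hs
    exact (Subgroup.mem_subgroupOf.mp h1).1
  have hu' : (u : X) ∈ Subgroup.centralizer (T : Set X) := by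
    have hle : pResidual 2 ↥(Subgroup.normalizer (T : Set X)) ≤
        (Subgroup.centralizer (T : Set X)).subgroupOf (Subgroup.normalizer (T : Set X)) := by
      unfold pResidual
      rw [Subgroup.closure_le]
      intro g hg
      rw [SetLike.mem_coe, Subgroup.mem_subgroupOf]
      apply mem_centralizer_of_aut_pgroup T hA g g.2
      rw [Subgroup.orderOf_coe]
      exact hg
    exact Subgroup.mem_subgroupOf.mp (hle hu)
  refine ⟨(u : X)⁻¹, Subgroup.inv_mem _ hu', (s : X)⁻¹, Subgroup.inv_mem _ hs', ?_⟩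
  have h2 : x⁻¹ = (s : X) * (u : X) := congrArg Subtype.val h
  calc x = (x⁻¹)⁻¹ := (inv_inv x).symm
    _ = (u : X)⁻¹ * (s : X)⁻¹ := by rw [h2, mul_inv_rev]

theorem isKleinFour_map_cj (U : Subgroup X) (hU : IsKleinFour U) (g : X) :
    IsKleinFour (U.map (cj g)) := by
  apply isKleinFour_of_card_of_sq'
  · rw [Subgroup.card_map_of_injective (cj_injective g)]
    exact hU.card_four
  · rintro _ ⟨u, hu, rfl⟩
    have h1 := IsKleinFour.mul_self (⟨u, hu⟩ : U)
    have h2 : u * u = 1 := congrArg Subtype.val h1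
    rw [← map_mul, h2, map_one]

/-- one step of an Alperin decomposition moves a Klein four-subgroup to an `S`-conjugate -/
theorem step (S : Sylow 2 X) (m a : ℕ) (eS : (S : Subgroup X) ≃* DihedralGroup m)
    (hSa : Nat.card (S : Subgroup X) = 2 ^ a) (T : Subgroup X) (hT : T ∈ tameFam 2 S) (x : X)
    (hx : x ∈ Subgroup.normalizer (T : Set X)) (U : Subgroup X) (hU : IsKleinFour U)
    (hUT : U ≤ T) : ∃ s ∈ (S : Subgroup X), rc x (U : Set X) = rc s (U : Set X) := by
  have hTS : T ≤ (S : Subgroup X) := tameFam_le hT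
  obtain ⟨Q, hTQ, hext, -⟩ := hT
  rcases subgroup_dichotomy (S : Subgroup X) m eS a hSa T hTS with hA | hK
  · obtain ⟨c, hc, s, hs, rfl⟩ := exists_mul_of_aut_pgroup (S : Subgroup X) T S.isPGroup' hA hext x hx
    refine ⟨s, hs, ?_⟩
    rw [rc_mul]
    have hc' : c ∈ Subgroup.centralizer (U : Set X) :=
      Subgroup.centralizer_le (show (U : Set X) ⊆ (T : Set X) from hUT) hc
    rw [rc_of_mem_centralizer hc']
  · have hUT' : U = T := by
      apply Subgroup.eq_of_le_of_card_ge hUT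
      rw [hU.card_four, hK.card_four]
    refine ⟨1, Subgroup.one_mem _, ?_⟩
    rw [rc_one, hUT', rc_of_mem_normalizer hx]

/-- an Alperin decomposition moves a Klein four-subgroup of `S` to an `S`-conjugate -/
theorem dec_conj (S : Sylow 2 X) (m a : ℕ) (eS : (S : Subgroup X) ≃* DihedralGroup m)
    (hSa : Nat.card (S : Subgroup X) = 2 ^ a) :
    ∀ (l : List (Subgroup X × X)) (U : Subgroup X), IsKleinFour U → U ≤ (S : Subgroup X) →
      Dec (tameFam 2 S) (U : Set X) l →
      ∃ s ∈ (S : Subgroup X), rc (lprod l) (U : Set X) = rc s (U : Set X) := by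
  intro l
  induction l with
  | nil =>
    intro U _ _ _
    exact ⟨1, Subgroup.one_mem _, by rw [lprod_nil]⟩
  | cons e l ih =>
    obtain ⟨T, x⟩ := e
    intro U hU hUS hd
    obtain ⟨hT, hx, hUT, hd'⟩ := hd
    obtain ⟨s₁, hs₁, h1⟩ := step S m a eS hSa T hT x hx U hU hUT
    have h2 : rc s₁ (U : Set X) = ((U.map (cj s₁⁻¹) : Subgroup X) : Set X) := rc_coe s₁ U
    rw [h1, h2] at hd'
    have hUS' : U.map (cj s₁⁻¹) ≤ (S : Subgroup X) := by
      rintro _ ⟨u, hu, rfl⟩
      rw [cj_apply]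
      exact Subgroup.mul_mem _ (Subgroup.mul_mem _ (Subgroup.inv_mem _ hs₁) (hUS hu))
        (Subgroup.inv_mem _ (Subgroup.inv_mem _ hs₁))
    obtain ⟨s₂, hs₂, h3⟩ := ih (U.map (cj s₁⁻¹)) (isKleinFour_map_cj U hU s₁⁻¹) hUS' hd'
    refine ⟨s₁ * s₂, Subgroup.mul_mem _ hs₁ hs₂, ?_⟩
    rw [lprod_cons, rc_mul, h1, h2, h3, ← h2, ← rc_mul]

/-- Klein four-subgroups of a dihedral Sylow 2-subgroup `S` that are conjugate in `X` are
conjugate in `S` -/
theorem klein_conj_in_sylow (S : Sylow 2 X) (m a : ℕ) (eS : (S : Subgroup X) ≃* DihedralGroup m)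
    (hSa : Nat.card (S : Subgroup X) = 2 ^ a) (U V : Subgroup X) (hU : IsKleinFour U)
    (hUS : U ≤ (S : Subgroup X)) (hVS : V ≤ (S : Subgroup X)) (x : X)
    (hx : U.map (cj x) = V) : ∃ s ∈ (S : Subgroup X), U.map (cj s) = V := by
  haveI : Fact (Nat.Prime 2) := ⟨Nat.prime_two⟩
  have h1 : rc x⁻¹ (U : Set X) = (V : Set X) := by
    rw [rc_coe, inv_inv, hx]
  have hA : (U : Set X) ⊆ ((S : Subgroup X) : Set X) := hUS
  have hAg : rc x⁻¹ (U : Set X) ⊆ ((S : Subgroup X) : Set X) := by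
    rw [h1]; exact hVS
  obtain ⟨l, hd, -, hl⟩ := alperin_tame S (U : Set X) x⁻¹ hA hAg
  obtain ⟨s, hs, h2⟩ := dec_conj S m a eS hSa l U hU hUS hd
  refine ⟨s⁻¹, Subgroup.inv_mem _ hs, ?_⟩
  apply SetLike.coe_injective
  rw [← h1, ← hl, h2, rc_coe]

end Cfsg.Agent.Helper3.DihKlein
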