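import Mathlib

set_option autoImplicit false

namespace Cfsg.Agent.Helper3

open DihedralGroup

/-- the additive hom `ZMod n →+ Additive G` sending `1` to `x`, when `x ^ n = 1`. -/
noncomputable def zmodPowHom {G : Type*} [Group G] (n : ℕ) (x : G) (hx : x ^ n = 1) :
    ZMod n →+ Additive G :=
  ZMod.lift n ⟨zmultiplesHom (Additive G) (Additive.ofMul x), by
    show (n : ℤ) • Additive.ofMul x = 0
    rw [natCast_zsmul, ← ofMul_pow, hx]; rfl⟩

theorem zmodPowHom_intCast {G : Type*} [Group G] (n : ℕ) (x : G) (hx : x ^ n = 1) (k : ℤ) :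
    (zmodPowHom n x hx (k : ZMod n)).toMul = x ^ k := by
  unfold zmodPowHom
  rw [ZMod.lift_coe]
  show (k • Additive.ofMul x).toMul = x ^ k
  rw [← ofMul_zpow]; rfl

theorem zmodPowHom_one {G : Type*} [Group G] (n : ℕ) (x : G) (hx : x ^ n = 1) :
    (zmodPowHom n x hx (1 : ZMod n)).toMul = x := by
  have := zmodPowHom_intCast n x hx 1
  simpa using this

/-- conjugation by `y` inverts the image of `zmodPowHom` when it inverts `x`. -/
theorem zmodPowHom_conj {G : Type*} [Group G] (n : ℕ) (x y : G) (hx : x ^ n = 1)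
    (hxy : y * x * y⁻¹ = x⁻¹) (i : ZMod n) :
    y * (zmodPowHom n x hx i).toMul * y⁻¹ = ((zmodPowHom n x hx i).toMul)⁻¹ := by
  obtain ⟨k, rfl⟩ := ZMod.intCast_surjective i
  rw [zmodPowHom_intCast]
  have : y * x ^ k * y⁻¹ = (y * x * y⁻¹) ^ k := (conj_zpow).symm
  rw [this, hxy, inv_zpow]

/-- the function underlying `dihedralLift`. -/
noncomputable def dihedralLiftFun {G : Type*} [Group G] (n : ℕ) (x y : G) (hx : x ^ n = 1) :
    DihedralGroup n → G
  | r i => (zmodPowHom n x hx i).toMul
  | sr i => y * (zmodPowHom n x hx i).toMul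

/-- universal property of the dihedral group: `r 1 ↦ x`, `sr 0 ↦ y`. -/
noncomputable def dihedralLift {G : Type*} [Group G] (n : ℕ) (x y : G) (hx : x ^ n = 1)
    (hy : y * y = 1) (hxy : y * x * y⁻¹ = x⁻¹) : DihedralGroup n →* G :=
  MonoidHom.mk' (dihedralLiftFun n x y hx) (by
    have hyinv : y⁻¹ = y := inv_eq_of_mul_eq_one_left hy
    have key : ∀ i : ZMod n, (zmodPowHom n x hx i).toMul * y
        = y * ((zmodPowHom n x hx i).toMul)⁻¹ := by
      intro i
      have h := zmodPowHom_conj n x y hx hxy i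
      rw [hyinv] at h
      rw [← h, ← mul_assoc, ← mul_assoc, hy, one_mul]
    intro a b
    cases a with
    | r i =>
      cases b with
      | r j =>
        show (zmodPowHom n x hx (i + j)).toMul = _ * _
        rw [map_add]; rfl
      | sr j =>
        show y * (zmodPowHom n x hx (j - i)).toMul = (zmodPowHom n x hx i).toMul * (y * _)
        rw [← mul_assoc, key i, sub_eq_neg_add, map_add, map_neg, mul_assoc]
        rfl
    | sr i =>
      cases b with
      | r j =>
        show y * (zmodPowHom n x hx (i + j)).toMul = y * _ * _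
        rw [map_add, mul_assoc]; rfl
      | sr j =>
        show (zmodPowHom n x hx (j - i)).toMul = y * (zmodPowHom n x hx i).toMul * (y * _)
        rw [mul_assoc y, ← mul_assoc _ y, key i, mul_assoc y, ← mul_assoc y y, hy, one_mul,
          sub_eq_neg_add, map_add, map_neg]
        rfl)

theorem dihedralLift_r {G : Type*} [Group G] (n : ℕ) (x y : G) (hx : x ^ n = 1)
    (hy : y * y = 1) (hxy : y * x * y⁻¹ = x⁻¹) (k : ℤ) :
    dihedralLift n x y hx hy hxy (r (k : ZMod n)) = x ^ k :=
  zmodPowHom_intCast n x hx k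

theorem dihedralLift_sr {G : Type*} [Group G] (n : ℕ) (x y : G) (hx : x ^ n = 1)
    (hy : y * y = 1) (hxy : y * x * y⁻¹ = x⁻¹) (k : ℤ) :
    dihedralLift n x y hx hy hxy (sr (k : ZMod n)) = y * x ^ k := by
  show y * (zmodPowHom n x hx (k : ZMod n)).toMul = _
  rw [zmodPowHom_intCast]

end Cfsg.Agent.Helper3
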