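import Mathlib
import Cfsg.Agent.Helper3.ES2

set_option autoImplicit false
set_option linter.style.haveILetI false

/-! Double centralizer property in extraspecial 2-groups: `C(C(U)) = U` for `Z ≤ U`. -/

namespace Cfsg.Agent.Helper3.ES2

variable {E : Type*} [Group E] {z : E}

/-- an element commuting with `S` commutes with the subgroup generated by `z` and `S` -/
theorem comm_closure (h : ES2 E z) {S : Set E} {g : E} (hg : ∀ v ∈ S, g * v = v * g) {w : E}
    (hw : w ∈ Subgroup.closure (insert z S)) : g * w = w * g := by
  have hle : Subgroup.closure (insert z S) ≤ Subgroup.centralizer {g} := by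
    rw [Subgroup.closure_le]
    intro v hv
    rw [SetLike.mem_coe, Subgroup.mem_centralizer_singleton_iff]
    rcases hv with rfl | hv
    · exact (h.central g).symm
    · exact (hg v hv).symm
  exact (Subgroup.mem_centralizer_singleton_iff.mp (hle hw)).symm

theorem double_centralizer_finset [DecidableEq E] (h : ES2 E z) (S : Finset E) :
    ∀ x : E, (∀ g : E, (∀ v ∈ S, g * v = v * g) → g * x = x * g) →
      x ∈ Subgroup.closure (insert z (S : Set E)) := by
  induction S using Finset.induction_on with
  | empty =>
    intro x hx
    have hc : ∀ g : E, x * g = g * x := fun g => (hx g (by simp)).symm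
    rcases h.center_sub x hc with h1 | h1
    · rw [h1]; exact Subgroup.one_mem _
    · rw [h1]; exact Subgroup.subset_closure (Set.mem_insert _ _)
  | insert w S hwS ih =>
    have hmono : Subgroup.closure (insert z (S : Set E)) ≤
        Subgroup.closure (insert z ((insert w S : Finset E) : Set E)) := by
      apply Subgroup.closure_mono
      intro v hv
      rcases hv with rfl | hv
      · exact Set.mem_insert _ _
      · exact Set.mem_insert_of_mem _ (by simp [hv])
    have hwmem : w ∈ Subgroup.closure (insert z ((insert w S : Finset E) : Set E)) :=
      Subgroup.subset_closure (Set.mem_insert_of_mem _ (by simp))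
    by_cases hw : w ∈ Subgroup.closure (insert z (S : Set E))
    · -- `w` is redundant
      intro x hx
      apply hmono
      apply ih
      intro g hg
      apply hx
      intro v hv
      rcases Finset.mem_insert.mp hv with rfl | hv
      · exact comm_closure h (S := (S : Set E)) (fun v hv => hg v hv) hw
      · exact hg v hv
    · -- some `a` commutes with `S` but not with `w`
      have hex : ∃ a : E, (∀ v ∈ S, a * v = v * a) ∧ a * w ≠ w * a := by
        by_contra hcon
        push Not at hcon
        exact hw (ih w hcon)
      obtain ⟨a, haS, haw⟩ := hex
      have haw' : a * w = w * a * z := h.eq_mul_z haw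
      -- key: elements commuting with `a` and with `C(S+w)` lie in `closure (z, S)`
      have key : ∀ x : E, a * x = x * a →
          (∀ g : E, (∀ v ∈ insert w S, g * v = v * g) → g * x = x * g) →
          x ∈ Subgroup.closure (insert z (S : Set E)) := by
        intro x hax hx
        apply ih
        intro g hg
        by_cases hgw : g * w = w * g
        · apply hx
          intro v hv
          rcases Finset.mem_insert.mp hv with rfl | hv
          · exact hgw
          · exact hg v hv
        · have hgw' : g * w = w * g * z := h.eq_mul_z hgw
          -- a⁻¹ g commutes with w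
          have h1 : w * (a⁻¹ * g) = a⁻¹ * g * w := inv_mul_comm h.central haw' hgw'
          have h2 : ∀ v ∈ S, (a⁻¹ * g) * v = v * (a⁻¹ * g) := by
            intro v hv
            have e1 := haS v hv
            have e2 := hg v hv
            have e3 : a⁻¹ * v = v * a⁻¹ := by
              calc a⁻¹ * v = a⁻¹ * (v * a) * a⁻¹ := by group
                _ = a⁻¹ * (a * v) * a⁻¹ := by rw [e1]
                _ = v * a⁻¹ := by group
            calc a⁻¹ * g * v = a⁻¹ * (g * v) := by group
              _ = a⁻¹ * (v * g) := by rw [e2]
              _ = (a⁻¹ * v) * g := by group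
              _ = v * a⁻¹ * g := by rw [e3]
              _ = v * (a⁻¹ * g) := by group
          have h3 : (a⁻¹ * g) * x = x * (a⁻¹ * g) := by
            apply hx
            intro v hv
            rcases Finset.mem_insert.mp hv with rfl | hv
            · exact h1.symm
            · exact h2 v hv
          calc g * x = a * ((a⁻¹ * g) * x) := by group
            _ = a * (x * (a⁻¹ * g)) := by rw [h3]
            _ = (a * x) * (a⁻¹ * g) := by group
            _ = x * a * (a⁻¹ * g) := by rw [hax]
            _ = x * g := by group
      intro x hx
      by_cases hax : a * x = x * a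
      · exact hmono (key x hax hx)
      · have hax' : a * x = x * a * z := h.eq_mul_z hax
        -- w⁻¹ x commutes with a
        have h1 : a * (w⁻¹ * x) = w⁻¹ * x * a := by
          have e1 : w * a = a * w * z := h.eq_mul_z (fun hh => haw hh.symm)
          have e2 : x * a = a * x * z := h.eq_mul_z (fun hh => hax hh.symm)
          exact inv_mul_comm h.central e1 e2
        have h2 : ∀ g : E, (∀ v ∈ insert w S, g * v = v * g) → g * (w⁻¹ * x) = (w⁻¹ * x) * g := by
          intro g hg
          have e1 := hg w (Finset.mem_insert_self _ _)
          have e2 := hx g hg
          have e3 : g * w⁻¹ = w⁻¹ * g := by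
            calc g * w⁻¹ = w⁻¹ * (w * g) * w⁻¹ := by group
              _ = w⁻¹ * (g * w) * w⁻¹ := by rw [e1]
              _ = w⁻¹ * g := by group
          calc g * (w⁻¹ * x) = (g * w⁻¹) * x := by group
            _ = w⁻¹ * g * x := by rw [e3]
            _ = w⁻¹ * (g * x) := by group
            _ = w⁻¹ * (x * g) := by rw [e2]
            _ = w⁻¹ * x * g := by group
        have h3 := hmono (key (w⁻¹ * x) h1 h2)
        have : x = w * (w⁻¹ * x) := by group
        rw [this]
        exact Subgroup.mul_mem _ hwmem h3

/-- double centralizer property: an element commuting with `C_E(U)` lies in `U`, for `z ∈ U` -/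
theorem double_centralizer [Finite E] (h : ES2 E z) (U : Subgroup E) (hz : z ∈ U) (x : E)
    (hx : ∀ g : E, (∀ v ∈ U, g * v = v * g) → g * x = x * g) : x ∈ U := by
  classical
  haveI : Fintype E := Fintype.ofFinite E
  have h1 := double_centralizer_finset h (Finset.univ.filter (fun v => v ∈ U)) x (by
    intro g hg
    apply hx
    intro v hv
    exact hg v (by simp [hv]))
  have hle : Subgroup.closure (insert z ((Finset.univ.filter (fun v => v ∈ U) : Finset E) : Set E))
      ≤ U := by
    rw [Subgroup.closure_le]
    intro v hv
    rcases hv with rfl | hv
    · exact hz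
    · simpa using hv
  exact hle h1

end Cfsg.Agent.Helper3.ES2
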