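import Mathlib
import Cfsg.Agent.Lead.TraceId

set_option autoImplicit false
set_option linter.style.haveILetI false
set_option linter.unusedSectionVars false

/-! Directness of the decomposition of an abelian group under `Z_p × Z_p = ⟨x⟩ × ⟨u⟩` with `u`
fixed-point-free: the fixed point subgroups of the `x u^j` are independent. -/

namespace Cfsg.Agent.Helper3.ESMod

open Finset Cfsg.Agent.Lead

section abstract

variable {N V : Type*} [Group N] [CommGroup V] [MulDistribMulAction N V]

theorem trc_mul (r : ℕ) (z : N) (v w : V) : trc r z (v * w) = trc r z v * trc r z w := by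
  unfold trc
  rw [← Finset.prod_mul_distrib]
  apply Finset.prod_congr rfl
  intro i _
  rw [smul_mul']

theorem trc_one (r : ℕ) (z : N) : trc r z (1 : V) = 1 := by
  unfold trc
  apply Finset.prod_eq_one
  intro i _
  rw [smul_one]

/-- the trace as a monoid hom -/
def trcHom (r : ℕ) (z : N) : V →* V where
  toFun := trc r z
  map_one' := trc_one r z
  map_mul' := trc_mul r z

theorem trc_prod (r : ℕ) (z : N) (s : Finset ℕ) (a : ℕ → V) :
    trc r z (∏ j ∈ s, a j) = ∏ j ∈ s, trc r z (a j) :=
  map_prod (trcHom r z) a s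

theorem trc_of_fixed (r : ℕ) (z : N) (v : V) (h : z • v = v) : trc r z v = v ^ r := by
  unfold trc
  have : ∀ i, (z ^ i) • v = v := by
    intro i
    induction i with
    | zero => rw [pow_zero, one_smul]
    | succ k ih => rw [pow_succ, mul_smul, h, ih]
  rw [Finset.prod_congr rfl (fun i _ => this i), Finset.prod_const, Finset.card_range]

/-- if a power `u ^ d` (`d` prime to `p`, `u ^ p = 1`) fixes `t`, so does `u` -/
theorem smul_eq_of_zpow_smul_eq {p : ℕ} (hp : p.Prime) {u : N} (hu : u ^ p = 1) {d : ℤ}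
    (hd0 : d ≠ 0) (hdp : |d| < p) {t : V} (h : (u ^ d) • t = t) : u • t = t := by
  have hnd : ¬ (p : ℤ) ∣ d := fun hdvd => hd0 (Int.eq_zero_of_abs_lt_dvd hdvd hdp)
  have hcop : IsCoprime (p : ℤ) d :=
    ((Nat.prime_iff_prime_int.mp hp).irreducible.coprime_iff_not_dvd).mpr hnd
  obtain ⟨a, b, hab⟩ := hcop
  have hmem : u ^ d ∈ MulAction.stabilizer N t := h
  have h1 : (u ^ d) ^ b ∈ MulAction.stabilizer N t := zpow_mem hmem b
  have h2 : (u ^ d) ^ b = u := by
    rw [← zpow_mul]
    have : d * b = 1 - a * p := by linarith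
    rw [this, zpow_sub, zpow_one, mul_comm a, zpow_mul, zpow_natCast, hu, one_zpow, inv_one,
      mul_one]
  rw [h2] at h1
  exact h1

/-- Directness. -/
theorem eq_one_of_prod_eq_one {p : ℕ} (hp : p.Prime) {x u : N} (hxu : Commute x u)
    (hx : x ^ p = 1) (hu : u ^ p = 1) (hfpf : ∀ v : V, u • v = v → v = 1)
    (htors : ∀ v : V, v ^ p = 1 → v = 1) (a : ℕ → V)
    (ha : ∀ j < p, (x * u ^ j) • a j = a j) (hprod : ∏ j ∈ range p, a j = 1) :
    ∀ i < p, a i = 1 := by
  intro i hi
  set c : N := x * u ^ i with hc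
  have hcp : c ^ p = 1 := by
    rw [hc, (hxu.pow_right i).mul_pow, hx, ← pow_mul, mul_comm, pow_mul, hu, one_pow, one_mul]
  have h1 := congrArg (trc p c) hprod
  rw [trc_prod, trc_one] at h1
  have h2 : ∀ j ∈ range p, j ≠ i → trc p c (a j) = 1 := by
    intro j hj hji
    rw [Finset.mem_range] at hj
    set w : N := u ^ i * (u ^ j)⁻¹ with hw
    have hwc : c = w * (x * u ^ j) := by
      rw [hc, hw]
      have e1 : Commute x (u ^ i) := hxu.pow_right i
      have e2 : Commute (u ^ i) (u ^ j) := (Commute.refl u).pow_pow i j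
      calc x * u ^ i = u ^ i * x := e1.eq
        _ = u ^ i * (u ^ j)⁻¹ * (u ^ j * x) := by group
        _ = u ^ i * (u ^ j)⁻¹ * (x * u ^ j) := by rw [(hxu.pow_right j).eq]
    have hwcomm : Commute w (x * u ^ j) := by
      rw [hw]
      have e1 : Commute (u ^ i) (x * u ^ j) :=
        ((hxu.pow_right i).symm).mul_right ((Commute.refl u).pow_pow i j)
      have e2 : Commute (u ^ j) (x * u ^ j) :=
        ((hxu.pow_right j).symm).mul_right ((Commute.refl u).pow_pow j j)
      exact e1.mul_left e2.inv_left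
    have hstep : ∀ v : V, (x * u ^ j) • v = v → c • v = w • v ∧ (x * u ^ j) • (w • v) = w • v := by
      intro v hv
      constructor
      · rw [hwc, mul_smul, hv]
      · rw [← mul_smul, ← hwcomm.eq, mul_smul, hv]
    have hpow : ∀ k : ℕ, (c ^ k) • a j = (w ^ k) • a j ∧
        (x * u ^ j) • ((w ^ k) • a j) = (w ^ k) • a j := by
      intro k
      induction k with
      | zero => simp only [pow_zero, one_smul]; exact ⟨trivial, ha j hj⟩
      | succ k ih =>
        obtain ⟨ih1, ih2⟩ := ih
        have := hstep _ ih2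
        constructor
        · rw [pow_succ', mul_smul, ih1, this.1, ← mul_smul, ← pow_succ']
        · have e : (w ^ (k + 1)) • a j = w • ((w ^ k) • a j) := by rw [pow_succ', mul_smul]
          rw [e]; exact this.2
    have htr : trc p c (a j) = trc p w (a j) := by
      unfold trc
      exact Finset.prod_congr rfl (fun k _ => (hpow k).1)
    have hwp : w ^ p = 1 := by
      rw [hw, ((Commute.refl u).pow_pow i j).inv_right.mul_pow, inv_pow, ← pow_mul, ← pow_mul,
        mul_comm i, mul_comm j, pow_mul, pow_mul, hu, one_pow, one_pow, inv_one, mul_one]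
    have hfix : w • trc p w (a j) = trc p w (a j) := smul_trc hwp _
    have hwz : w = u ^ ((i : ℤ) - (j : ℤ)) := by
      rw [hw, zpow_sub, zpow_natCast, zpow_natCast]
    rw [htr]
    apply hfpf
    have hfix' : (u ^ ((i : ℤ) - (j : ℤ))) • trc p w (a j) = trc p w (a j) := by
      rw [← hwz]; exact hfix
    refine smul_eq_of_zpow_smul_eq hp hu ?_ ?_ hfix'
    · intro h
      apply hji
      omega
    · rw [abs_lt]
      constructor <;> omega
  rw [Finset.prod_eq_single i (fun j hj hji => h2 j hj hji)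
    (fun h => absurd (Finset.mem_range.mpr hi) h)] at h1
  have h3 : trc p c (a i) = a i ^ p := trc_of_fixed p c (a i) (ha i hi)
  rw [h3] at h1
  exact htors _ h1

/-- Counting: `|C_V(x)|^p ≤ |V|` when `y` moves `x` to `x u` with `u` fixed-point-free. -/
theorem card_fixed_pow_le [Finite V] {p : ℕ} (hp : p.Prime) {x y u : N} (hxu : Commute x u)
    (hyu : Commute y u) (hyx : y * x * y⁻¹ = x * u) (hx : x ^ p = 1) (hu : u ^ p = 1)
    (hfpf : ∀ v : V, u • v = v → v = 1) (htors : ∀ v : V, v ^ p = 1 → v = 1)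
    (V₀ : Subgroup V) (hV₀ : ∀ v, v ∈ V₀ ↔ x • v = v) : Nat.card V₀ ^ p ≤ Nat.card V := by
  classical
  have hyx' : y * x = x * u * y := by rw [← hyx]; group
  have hconj : ∀ j : ℕ, y ^ j * x = x * u ^ j * y ^ j := by
    intro j
    induction j with
    | zero => simp
    | succ j ih =>
      have e1 : Commute y (u ^ j) := hyu.pow_right j
      calc y ^ (j + 1) * x = y * (y ^ j * x) := by rw [pow_succ']; group
        _ = y * (x * u ^ j * y ^ j) := by rw [ih]
        _ = (y * x) * u ^ j * y ^ j := by group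
        _ = x * u * (y * u ^ j) * y ^ j := by rw [hyx']; group
        _ = x * u * (u ^ j * y) * y ^ j := by rw [e1.eq]
        _ = x * u ^ (j + 1) * y ^ (j + 1) := by rw [pow_succ' u j, pow_succ' y j]; group
  have hfixj : ∀ j : ℕ, ∀ v ∈ V₀, (x * u ^ j) • ((y ^ j) • v) = (y ^ j) • v := by
    intro j v hv
    rw [← mul_smul, ← hconj j, mul_smul, (hV₀ v).mp hv]
  let a : (Fin p → V₀) → ℕ → V := fun f j =>
    if h : j < p then (y ^ j) • ((f ⟨j, h⟩ : V₀) : V) else 1
  let Φ : (Fin p → V₀) → V := fun f => ∏ j ∈ range p, a f j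
  have hinj : Function.Injective Φ := by
    intro f g hfg
    have hprod : ∏ j ∈ range p, a f j * (a g j)⁻¹ = 1 := by
      rw [Finset.prod_mul_distrib, Finset.prod_inv_distrib]
      have : ∏ j ∈ range p, a f j = ∏ j ∈ range p, a g j := hfg
      rw [this, mul_inv_cancel]
    have hb : ∀ j < p, (x * u ^ j) • (a f j * (a g j)⁻¹) = a f j * (a g j)⁻¹ := by
      intro j hj
      simp only [a, dif_pos hj]
      rw [← smul_inv', ← smul_mul']
      have hmem : ((f ⟨j, hj⟩ : V₀) : V) * ((g ⟨j, hj⟩ : V₀) : V)⁻¹ ∈ V₀ :=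
        V₀.mul_mem (f ⟨j, hj⟩).2 (V₀.inv_mem (g ⟨j, hj⟩).2)
      exact hfixj j _ hmem
    have hone := eq_one_of_prod_eq_one hp hxu hx hu hfpf htors
      (fun j => a f j * (a g j)⁻¹) hb hprod
    funext ⟨j, hj⟩
    have h1 := hone j hj
    simp only [a, dif_pos hj] at h1
    have h2 : (y ^ j) • ((f ⟨j, hj⟩ : V₀) : V) = (y ^ j) • ((g ⟨j, hj⟩ : V₀) : V) :=
      mul_inv_eq_one.mp h1
    exact Subtype.ext (smul_left_cancel _ h2)
  have := Nat.card_le_card_of_injective Φ hinj
  rwa [Nat.card_fun, Nat.card_fin] at this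

end abstract

section concrete

open Subgroup
open scoped IsMulCommutative

variable {G : Type*} [Group G]

theorem pow_mul_eq_of_conj {x y u : G} (hyu : y * u = u * y) (hyx : y * x * y⁻¹ = x * u) (j : ℕ) :
    y ^ j * x = x * u ^ j * y ^ j := by
  have hyx' : y * x = x * u * y := by rw [← hyx]; group
  induction j with
  | zero => simp
  | succ j ih =>
    have e1 : Commute y (u ^ j) := (show Commute y u from hyu).pow_right j
    calc y ^ (j + 1) * x = y * (y ^ j * x) := by rw [pow_succ']; group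
      _ = y * (x * u ^ j * y ^ j) := by rw [ih]
      _ = (y * x) * u ^ j * y ^ j := by group
      _ = x * u * (y * u ^ j) * y ^ j := by rw [hyx']; group
      _ = x * u * (u ^ j * y) * y ^ j := by rw [e1.eq]
      _ = x * u ^ (j + 1) * y ^ (j + 1) := by rw [pow_succ' u j, pow_succ' y j]; group

theorem card_centralizer_pow_le (A : Subgroup G) [IsMulCommutative A] [Finite A] {p : ℕ}
    (hp : p.Prime) {x y u : G} (hxA : x ∈ normalizer (A : Set G))
    (hyA : y ∈ normalizer (A : Set G)) (huA : u ∈ normalizer (A : Set G))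
    (hxu : x * u = u * x) (hyu : y * u = u * y) (hyx : y * x * y⁻¹ = x * u)
    (hx : x ^ p = 1) (hu : u ^ p = 1) (hfpf : A ⊓ centralizer {u} = ⊥)
    (hcop : (Nat.card A).Coprime p) :
    Nat.card ↥(A ⊓ centralizer {x}) ^ p ≤ Nat.card A := by
  set x' : normalizer (A : Set G) := ⟨x, hxA⟩ with hx'
  set y' : normalizer (A : Set G) := ⟨y, hyA⟩ with hy'
  set u' : normalizer (A : Set G) := ⟨u, huA⟩ with hu'
  set V₀ : Subgroup A := (A ⊓ centralizer {x}).subgroupOf A with hV₀
  have hcard : Nat.card V₀ = Nat.card ↥(A ⊓ centralizer {x}) :=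
    Nat.card_congr (Subgroup.subgroupOfEquivOfLe inf_le_left).toEquiv
  have hmem : ∀ v : A, v ∈ V₀ ↔ x' • v = v := by
    intro v
    rw [hV₀, mem_subgroupOf, Subgroup.mem_inf, mem_centralizer_singleton_iff]
    constructor
    · rintro ⟨-, h⟩
      apply Subtype.ext
      rw [coe_normalizer_smul]
      show x * (v : G) * x⁻¹ = v
      rw [← h]; group
    · intro h
      refine ⟨v.2, ?_⟩
      have h1 := congrArg (fun w : A => (w : G)) h
      simp only [coe_normalizer_smul] at h1
      have h2 : x * (v : G) * x⁻¹ = v := h1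
      calc (v : G) * x = (x * (v : G) * x⁻¹) * x := by rw [h2]
        _ = x * v := by group
  have hfpf' : ∀ v : A, u' • v = v → v = 1 := by
    intro v h
    have h1 := congrArg (fun w : A => (w : G)) h
    simp only [coe_normalizer_smul] at h1
    have h2 : u * (v : G) * u⁻¹ = v := h1
    have h3 : (v : G) ∈ A ⊓ centralizer {u} := by
      refine ⟨v.2, ?_⟩
      show (v : G) ∈ centralizer {u}
      rw [mem_centralizer_singleton_iff]
      calc (v : G) * u = (u * (v : G) * u⁻¹) * u := by rw [h2]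
        _ = u * v := by group
    rw [hfpf, mem_bot] at h3
    exact Subtype.ext h3
  have htors : ∀ v : A, v ^ p = 1 → v = 1 := by
    intro v hv
    have h1 : orderOf v ∣ p := orderOf_dvd_of_pow_eq_one hv
    have h2 : orderOf v ∣ Nat.card A := orderOf_dvd_natCard v
    have h3 : orderOf v ∣ 1 := by
      have := Nat.dvd_gcd h2 h1
      rwa [hcop] at this
    exact orderOf_eq_one_iff.mp (Nat.dvd_one.mp h3)
  have key := card_fixed_pow_le (N := normalizer (A : Set G)) (V := A) hp
    (x := x') (y := y') (u := u') (Subtype.ext hxu) (Subtype.ext hyu)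
    (Subtype.ext (by simpa using hyx)) (Subtype.ext (by simpa using hx))
    (Subtype.ext (by simpa using hu)) hfpf' htors V₀ hmem
  rwa [hcard] at key

theorem inf_centralizer_ne_bot (A : Subgroup G) [IsMulCommutative A] [Finite A] {p : ℕ}
    (hp : p.Prime) {x y u : G} (hxA : x ∈ normalizer (A : Set G))
    (hyA : y ∈ normalizer (A : Set G)) (huA : u ∈ normalizer (A : Set G))
    (hxu : x * u = u * x) (hyu : y * u = u * y) (hyx : y * x * y⁻¹ = x * u)
    (hx : x ^ p = 1) (hu : u ^ p = 1) (hfpf : A ⊓ centralizer {u} = ⊥)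
    (hcop : (Nat.card A).Coprime p) (hA : A ≠ ⊥) : A ⊓ centralizer {x} ≠ ⊥ := by
  intro h
  apply hA
  rw [eq_bot_iff]
  refine abelian_le_of_centralizers_le A hp hxA huA hxu hx hu hcop ⊥ (le_of_eq hfpf) ?_
  intro j _
  rintro a ⟨haA, haC⟩
  rw [mem_bot]
  have hconj := pow_mul_eq_of_conj hyu hyx j
  -- `b = y^{-j} a y^j` lies in `A ∩ C(x)`
  have hyjA : y ^ j ∈ normalizer (A : Set G) := pow_mem hyA j
  have hb : (y ^ j)⁻¹ * a * y ^ j ∈ A ⊓ centralizer {x} := by
    refine ⟨?_, ?_⟩
    · have := (mem_normalizer_iff.mp (inv_mem hyjA) a).mp haA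
      simpa using this
    · show (y ^ j)⁻¹ * a * y ^ j ∈ centralizer {x}
      rw [mem_centralizer_singleton_iff]
      have hac : a * (x * u ^ j) = (x * u ^ j) * a := by
        have := mem_centralizer_singleton_iff.mp haC
        exact this
      calc (y ^ j)⁻¹ * a * y ^ j * x = (y ^ j)⁻¹ * a * (y ^ j * x) := by group
        _ = (y ^ j)⁻¹ * (a * (x * u ^ j)) * y ^ j := by rw [hconj]; group
        _ = (y ^ j)⁻¹ * ((x * u ^ j) * a) * y ^ j := by rw [hac]
        _ = (y ^ j)⁻¹ * (x * u ^ j * y ^ j) * ((y ^ j)⁻¹ * a * y ^ j) := by group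
        _ = (y ^ j)⁻¹ * (y ^ j * x) * ((y ^ j)⁻¹ * a * y ^ j) := by rw [hconj]
        _ = x * ((y ^ j)⁻¹ * a * y ^ j) := by group
  rw [h, mem_bot] at hb
  have : a = y ^ j * ((y ^ j)⁻¹ * a * y ^ j) * (y ^ j)⁻¹ := by group
  rw [this, hb]; group

end concrete

end Cfsg.Agent.Helper3.ESMod
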