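import Mathlib
import Cfsg.Agent.Helper3.ESMod1

set_option autoImplicit false
set_option linter.style.haveILetI false
set_option linter.unusedSectionVars false

/-! Extraspecial-like subgroups `E ≤ G` (class 2, centre `⟨z⟩` of order `p`, `E/⟨z⟩` of exponent
`p`): descent to `C_E(x) ∩ C_E(y)` for a noncommuting pair. -/

namespace Cfsg.Agent.Helper3.ESMod

open Subgroup
open scoped commutatorElement

variable {G : Type*} [Group G] [Finite G]

structure ESC (p : ℕ) (E : Subgroup G) (z : G) : Prop where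
  zE : z ∈ E
  zord : orderOf z = p
  zc : ∀ e ∈ E, e * z = z * e
  comm : ∀ a ∈ E, ∀ b ∈ E, ⁅a, b⁆ ∈ zpowers z
  pw : ∀ a ∈ E, a ^ p ∈ zpowers z
  cen : ∀ a ∈ E, (∀ b ∈ E, a * b = b * a) → a ∈ zpowers z

namespace ESC

variable {p : ℕ} {E : Subgroup G} {z : G}

theorem zp (h : ESC p E z) : z ^ p = 1 := by
  rw [← h.zord]; exact pow_orderOf_eq_one z

theorem zpowers_le (h : ESC p E z) : zpowers z ≤ E := by
  rw [Subgroup.zpowers_le]; exact h.zE

theorem central (h : ESC p E z) {t : G} (ht : t ∈ zpowers z) {e : G} (he : e ∈ E) :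
    e * t = t * e := by
  obtain ⟨k, rfl⟩ := mem_zpowers_iff.mp ht
  exact ((show Commute e z from h.zc e he).zpow_right k).eq

theorem tp (h : ESC p E z) {t : G} (ht : t ∈ zpowers z) : t ^ p = 1 := by
  obtain ⟨k, rfl⟩ := mem_zpowers_iff.mp ht
  rw [← zpow_natCast, ← zpow_mul, mul_comm, zpow_mul, zpow_natCast, h.zp, one_zpow]

/-- any nonidentity element of `⟨z⟩` generates it -/
theorem zpowers_eq [hp : Fact p.Prime] (h : ESC p E z) {u : G} (hu : u ∈ zpowers z) (hu1 : u ≠ 1) :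
    zpowers u = zpowers z := by
  have hle : zpowers u ≤ zpowers z := by rw [Subgroup.zpowers_le]; exact hu
  have hou : orderOf u = p := by
    rcases (Nat.dvd_prime hp.out).mp (orderOf_dvd_of_pow_eq_one (h.tp hu)) with h1 | h1
    · exact absurd (orderOf_eq_one_iff.mp h1) hu1
    · exact h1
  apply Subgroup.eq_of_le_of_card_ge hle
  rw [Nat.card_zpowers, Nat.card_zpowers, hou, h.zord]

theorem of_gen [hp : Fact p.Prime] (h : ESC p E z) {u : G} (hu : u ∈ zpowers z) (hu1 : u ≠ 1) :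
    ESC p E u := by
  have heq := h.zpowers_eq hu hu1
  refine ⟨h.zpowers_le hu, ?_, fun e he => h.central hu he, ?_, ?_, ?_⟩
  · rcases (Nat.dvd_prime hp.out).mp (orderOf_dvd_of_pow_eq_one (h.tp hu)) with h1 | h1
    · exact absurd (orderOf_eq_one_iff.mp h1) hu1
    · exact h1
  · intro a ha b hb; rw [heq]; exact h.comm a ha b hb
  · intro a ha; rw [heq]; exact h.pw a ha
  · intro a ha hc; rw [heq]; exact h.cen a ha hc

/-- a non-central element has a non-commuting partner -/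
theorem exists_noncomm (h : ESC p E z) {x : G} (hx : x ∈ E) (hxz : x ∉ zpowers z) :
    ∃ y ∈ E, y * x * y⁻¹ ≠ x := by
  by_contra hcon
  push Not at hcon
  apply hxz
  apply h.cen x hx
  intro b hb
  have := hcon b hb
  calc x * b = (b * x * b⁻¹) * b := by rw [this]
    _ = b * x := by group

/-- the twist `x⁻¹ (e x e⁻¹)` lies in `⟨z⟩` -/
theorem twist_mem (h : ESC p E z) {x e : G} (hx : x ∈ E) (he : e ∈ E) :
    x⁻¹ * (e * x * e⁻¹) ∈ zpowers z := by
  have := h.comm x⁻¹ (inv_mem hx) e he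
  rw [commutatorElement_def, inv_inv] at this
  have e1 : x⁻¹ * (e * x * e⁻¹) = x⁻¹ * e * x * e⁻¹ := by group
  rw [e1]; exact this

theorem exists_pow_lt [hp : Fact p.Prime] (h : ESC p E z) {t : G} (ht : t ∈ zpowers z) :
    ∃ a < p, t = z ^ a := by
  obtain ⟨k, rfl⟩ := mem_zpowers_iff.mp ht
  have hp0 : (p : ℤ) ≠ 0 := by exact_mod_cast hp.out.ne_zero
  have hppos : (0 : ℤ) < p := by exact_mod_cast hp.out.pos
  have h0 : 0 ≤ k % (p : ℤ) := Int.emod_nonneg k hp0
  have hlt : k % (p : ℤ) < p := Int.emod_lt_of_pos k hppos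
  refine ⟨(k % (p : ℤ)).toNat, by omega, ?_⟩
  rw [← zpow_natCast, Int.toNat_of_nonneg h0, ← h.zord, zpow_mod_orderOf]

section pair

variable {u x y : G}

theorem conj_x (h : ESC p E u) (hx : x ∈ E) (hy : y ∈ E) (hyx : y * x * y⁻¹ = x * u) :
    x * y * x⁻¹ = y * u⁻¹ := by
  have hyu : y * u = u * y := h.zc y hy
  have h1 : y * x = x * u * y := by rw [← hyx]; group
  have h2 : x * y = y * x * u⁻¹ := by
    rw [h1]
    calc x * y = x * (u * y) * u⁻¹ := by rw [← hyu]; group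
      _ = x * u * y * u⁻¹ := by group
  rw [h2]
  have hxu : x * u⁻¹ = u⁻¹ * x := by
    have := h.zc x hx
    calc x * u⁻¹ = u⁻¹ * (u * x) * u⁻¹ := by group
      _ = u⁻¹ * (x * u) * u⁻¹ := by rw [this]
      _ = u⁻¹ * x := by group
  calc y * x * u⁻¹ * x⁻¹ = y * (x * u⁻¹) * x⁻¹ := by group
    _ = y * (u⁻¹ * x) * x⁻¹ := by rw [hxu]
    _ = y * u⁻¹ := by group

theorem exists_decomp [hp : Fact p.Prime] (h : ESC p E u) (hx : x ∈ E) (hy : y ∈ E)
    (hyx : y * x * y⁻¹ = x * u) {e : G} (he : e ∈ E) :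
    ∃ i < p, ∃ j < p, e * x ^ i * y ^ j ∈ centralizer {x} ⊓ centralizer {y} := by
  obtain ⟨a, ha, hta⟩ := h.exists_pow_lt (h.twist_mem hx he)
  obtain ⟨b, hb, htb⟩ := h.exists_pow_lt (h.twist_mem hy he)
  have F4 : e * x = x * u ^ a * e := by rw [← hta]; group
  have G4 : e * y = y * u ^ b * e := by rw [← htb]; group
  have hcen : ∀ k : ℕ, ∀ g ∈ E, g * u ^ k = u ^ k * g := fun k g hg =>
    h.central (pow_mem (mem_zpowers u) k) hg
  have hcen' : ∀ k : ℕ, ∀ g ∈ E, g * (u⁻¹) ^ k = (u⁻¹) ^ k * g := fun k g hg =>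
    h.central (pow_mem (inv_mem (mem_zpowers u)) k) hg
  set j : ℕ := if a = 0 then 0 else p - a with hj
  have hjp : j < p := by
    rw [hj]; split_ifs with h0
    · exact hp.out.pos
    · omega
  have hpow : u ^ a * u ^ j = 1 := by
    rw [hj]; split_ifs with h0
    · rw [h0, pow_zero, one_mul]
    · rw [← pow_add, show a + (p - a) = p by omega, h.zp]
  have hpow' : u ^ b * (u⁻¹) ^ b = 1 := by rw [inv_pow, mul_inv_cancel]
  have F1 := pow_mul_eq_of_conj (h.zc y hy) hyx j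
  have hxu' : x * u⁻¹ = u⁻¹ * x := h.central (inv_mem (mem_zpowers u)) hx
  have G1 := pow_mul_eq_of_conj hxu' (conj_x h hx hy hyx) b
  have hxi : x ^ b ∈ E := pow_mem hx b
  refine ⟨b, hb, j, hjp, ?_, ?_⟩
  · show e * x ^ b * y ^ j ∈ centralizer {x}
    rw [mem_centralizer_singleton_iff]
    calc e * x ^ b * y ^ j * x = e * x ^ b * (y ^ j * x) := by group
      _ = e * x ^ b * (x * u ^ j * y ^ j) := by rw [F1]
      _ = e * (x ^ b * x) * u ^ j * y ^ j := by group
      _ = e * (x * x ^ b) * u ^ j * y ^ j := by rw [pow_mul_comm']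
      _ = (e * x) * (x ^ b * u ^ j) * y ^ j := by group
      _ = (x * u ^ a * e) * (u ^ j * x ^ b) * y ^ j := by rw [F4, hcen j _ hxi]
      _ = x * u ^ a * (e * u ^ j) * x ^ b * y ^ j := by group
      _ = x * u ^ a * (u ^ j * e) * x ^ b * y ^ j := by rw [hcen j e he]
      _ = x * (u ^ a * u ^ j) * (e * x ^ b * y ^ j) := by group
      _ = x * (e * x ^ b * y ^ j) := by rw [hpow, mul_one]
  · show e * x ^ b * y ^ j ∈ centralizer {y}
    rw [mem_centralizer_singleton_iff]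
    calc e * x ^ b * y ^ j * y = e * x ^ b * (y ^ j * y) := by group
      _ = e * x ^ b * (y * y ^ j) := by rw [pow_mul_comm']
      _ = e * (x ^ b * y) * y ^ j := by group
      _ = e * (y * (u⁻¹) ^ b * x ^ b) * y ^ j := by rw [G1]
      _ = (e * y) * ((u⁻¹) ^ b * x ^ b) * y ^ j := by group
      _ = (y * u ^ b * e) * ((u⁻¹) ^ b * x ^ b) * y ^ j := by rw [G4]
      _ = y * u ^ b * (e * (u⁻¹) ^ b) * x ^ b * y ^ j := by group
      _ = y * u ^ b * ((u⁻¹) ^ b * e) * x ^ b * y ^ j := by rw [hcen' b e he]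
      _ = y * (u ^ b * (u⁻¹) ^ b) * (e * x ^ b * y ^ j) := by group
      _ = y * (e * x ^ b * y ^ j) := by rw [hpow', mul_one]

theorem sub [hp : Fact p.Prime] (h : ESC p E u) (hx : x ∈ E) (hy : y ∈ E)
    (hyx : y * x * y⁻¹ = x * u) : ESC p (E ⊓ centralizer {x} ⊓ centralizer {y}) u := by
  refine ⟨⟨⟨h.zE, ?_⟩, ?_⟩, h.zord, fun e he => h.zc e he.1.1,
    fun a ha b hb => h.comm a ha.1.1 b hb.1.1, fun a ha => h.pw a ha.1.1, ?_⟩
  · show u ∈ centralizer {x}
    rw [mem_centralizer_singleton_iff]; exact (h.zc x hx).symm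
  · show u ∈ centralizer {y}
    rw [mem_centralizer_singleton_iff]; exact (h.zc y hy).symm
  · intro a ha hcomm
    apply h.cen a ha.1.1
    intro b hb
    obtain ⟨i, -, j, -, hij⟩ := exists_decomp h hx hy hyx hb
    have hb' : b * x ^ i * y ^ j ∈ E ⊓ centralizer {x} ⊓ centralizer {y} :=
      ⟨⟨E.mul_mem (E.mul_mem hb (pow_mem hx i)) (pow_mem hy j), hij.1⟩, hij.2⟩
    have h1 : a * (b * x ^ i * y ^ j) = (b * x ^ i * y ^ j) * a := hcomm _ hb'
    have hax : a * x = x * a := mem_centralizer_singleton_iff.mp ha.1.2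
    have hay : a * y = y * a := mem_centralizer_singleton_iff.mp ha.2
    have haxi : a * x ^ i = x ^ i * a := ((show Commute a x from hax).pow_right i).eq
    have hayj : a * y ^ j = y ^ j * a := ((show Commute a y from hay).pow_right j).eq
    have h2 : a * b * (x ^ i * y ^ j) = b * a * (x ^ i * y ^ j) := by
      calc a * b * (x ^ i * y ^ j) = a * (b * x ^ i * y ^ j) := by group
        _ = (b * x ^ i * y ^ j) * a := h1
        _ = b * x ^ i * (y ^ j * a) := by group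
        _ = b * x ^ i * (a * y ^ j) := by rw [hayj]
        _ = b * (x ^ i * a) * y ^ j := by group
        _ = b * (a * x ^ i) * y ^ j := by rw [haxi]
        _ = b * a * (x ^ i * y ^ j) := by group
    exact mul_right_cancel h2

theorem card_le [hp : Fact p.Prime] (h : ESC p E u) (hx : x ∈ E) (hy : y ∈ E)
    (hyx : y * x * y⁻¹ = x * u) :
    Nat.card E ≤ p * p * Nat.card ↥(E ⊓ centralizer {x} ⊓ centralizer {y}) := by
  let f : Fin p × Fin p × ↥(E ⊓ centralizer {x} ⊓ centralizer {y}) → E := fun t =>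
    ⟨(t.2.2 : G) * (x ^ (t.1 : ℕ) * y ^ (t.2.1 : ℕ))⁻¹,
      E.mul_mem t.2.2.2.1.1 (E.inv_mem (E.mul_mem (pow_mem hx _) (pow_mem hy _)))⟩
  have hf : Function.Surjective f := by
    rintro ⟨e, he⟩
    obtain ⟨i, hi, j, hj, hij⟩ := exists_decomp h hx hy hyx he
    refine ⟨(⟨i, hi⟩, ⟨j, hj⟩, ⟨e * x ^ i * y ^ j,
      ⟨⟨E.mul_mem (E.mul_mem he (pow_mem hx i)) (pow_mem hy j), hij.1⟩, hij.2⟩⟩), ?_⟩
    apply Subtype.ext
    simp only [f]
    group
  have := Nat.card_le_card_of_surjective f hf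
  simpa [Nat.card_prod, mul_assoc] using this

end pair

end ESC

end Cfsg.Agent.Helper3.ESMod
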