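import Mathlib
import Cfsg.Agent.Helper3.ESMod2
import Cfsg.Agent.Helper21.MetaCop1

set_option autoImplicit false
set_option linter.style.haveILetI false
set_option linter.unusedSectionVars false

/-! Existence of non-central elements of order `p` in extraspecial-like subgroups. -/

namespace Cfsg.Agent.Helper3.ESMod

open Subgroup
open scoped commutatorElement

variable {G : Type*} [Group G] [Finite G]

namespace ESC

variable {p : ℕ} {E : Subgroup G} {z : G}

theorem card_zpowers (h : ESC p E z) : Nat.card ↥(zpowers z) = p := by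
  rw [Nat.card_zpowers, h.zord]

theorem exists_notMem_of_card_lt (h : ESC p E z) (K : Subgroup G) (hK : p < Nat.card K) :
    ∃ t ∈ K, t ∉ zpowers z := by
  by_contra hcon
  push Not at hcon
  have hle : K ≤ zpowers z := hcon
  have := Subgroup.card_le_of_le hle
  rw [h.card_zpowers] at this
  omega

theorem coe_comm_mem (h : ESC p E z) (a b : ↥E) : ((⁅a, b⁆ : ↥E) : G) ∈ zpowers z := by
  have := h.comm a a.2 b b.2
  simpa [commutatorElement_def] using this

/-- `p` odd, `|E| > p²`: there is a noncentral element of order `p`. -/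
theorem exists_order_p_odd [hp : Fact p.Prime] (h : ESC p E z) (hp2 : p ≠ 2)
    (hcard : p * p < Nat.card E) : ∃ x ∈ E, x ∉ zpowers z ∧ x ^ p = 1 := by
  have hcl : commutator ↥E ≤ center ↥E := by
    rw [commutator_def, Subgroup.commutator_def, Subgroup.closure_le]
    rintro _ ⟨a, -, b, -, rfl⟩
    rw [SetLike.mem_coe, mem_center_iff]
    intro g
    apply Subtype.ext
    have := h.central (h.coe_comm_mem a b) g.2
    simpa using this
  have hexp : ∀ a b : ↥E, ⁅a, b⁆ ^ p = 1 := by
    intro a b
    apply Subtype.ext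
    simpa using h.tp (h.coe_comm_mem a b)
  set φ := Cfsg.Agent.Helper21.MetaCop.powHom hcl hp.out hp2 hexp with hφ
  have hφa : ∀ x : ↥E, φ x = x ^ p := fun x => rfl
  set Z' : Subgroup ↥E := (zpowers z).subgroupOf E with hZ'
  have hZcard : Nat.card Z' = p := by
    rw [hZ', Nat.card_congr (Subgroup.subgroupOfEquivOfLe h.zpowers_le).toEquiv, h.card_zpowers]
  by_contra hcon
  push Not at hcon
  have hker : φ.ker ≤ Z' := by
    intro x hx
    rw [MonoidHom.mem_ker, hφa] at hx
    rw [hZ', mem_subgroupOf]
    by_contra hxz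
    apply hcon x x.2 hxz
    have := congrArg (fun t : ↥E => (t : G)) hx
    simpa using this
  have hrange : φ.range ≤ Z' := by
    rintro _ ⟨x, rfl⟩
    rw [hφa, hZ', mem_subgroupOf]
    simpa using h.pw x x.2
  have h1 := Subgroup.card_le_of_le hker
  have h2 := Subgroup.card_le_of_le hrange
  have h3 := Subgroup.card_mul_index φ.ker
  rw [Subgroup.index_ker] at h3
  rw [hZcard] at h1 h2
  have : Nat.card ↥E ≤ p * p := by
    rw [← h3]; exact Nat.mul_le_mul h1 h2
  omega

theorem mem_two (h : ESC 2 E z) {t : G} (ht : t ∈ zpowers z) : t = 1 ∨ t = z := by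
  haveI : Fact (Nat.Prime 2) := ⟨Nat.prime_two⟩
  obtain ⟨a, ha, rfl⟩ := h.exists_pow_lt ht
  interval_cases a
  · left; simp
  · right; simp

/-- `p = 2`, `|E| > 8`: there is a noncentral involution. -/
theorem exists_invol (h : ESC 2 E z) (hcard : 8 < Nat.card E) :
    ∃ x ∈ E, x ∉ zpowers z ∧ x ^ 2 = 1 := by
  haveI : Fact (Nat.Prime 2) := ⟨Nat.prime_two⟩
  obtain ⟨x, hxE, hxz⟩ := h.exists_notMem_of_card_lt E (by omega)
  by_cases hx2 : x ^ 2 = 1
  · exact ⟨x, hxE, hxz, hx2⟩
  have hx2z : x ^ 2 = z := by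
    rcases h.mem_two (h.pw x hxE) with h1 | h1
    · exact absurd h1 hx2
    · exact h1
  obtain ⟨y, hyE, hyx⟩ := h.exists_noncomm hxE hxz
  have hu : x⁻¹ * (y * x * y⁻¹) = z := by
    rcases h.mem_two (h.twist_mem hxE hyE) with h1 | h1
    · exfalso; apply hyx
      calc y * x * y⁻¹ = x * (x⁻¹ * (y * x * y⁻¹)) := by group
        _ = x := by rw [h1, mul_one]
    · exact h1
  have hyx' : y * x * y⁻¹ = x * z := by rw [← hu]; group
  have hc := h.card_le hxE hyE hyx'
  obtain ⟨t, htE, htz⟩ := h.exists_notMem_of_card_lt (E ⊓ centralizer {x} ⊓ centralizer {y})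
    (by omega)
  have htx : t * x = x * t := mem_centralizer_singleton_iff.mp htE.1.2
  have hty : t * y = y * t := mem_centralizer_singleton_iff.mp htE.2
  by_cases ht2 : t ^ 2 = 1
  · exact ⟨t, htE.1.1, htz, ht2⟩
  have ht2z : t ^ 2 = z := by
    rcases h.mem_two (h.pw t htE.1.1) with h1 | h1
    · exact absurd h1 ht2
    · exact h1
  refine ⟨x * t, E.mul_mem hxE htE.1.1, ?_, ?_⟩
  · intro hmem
    apply hyx
    have h1 : y * (x * t) = (x * t) * y := h.central hmem hyE
    have h2 : y * x * t = x * y * t := by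
      calc y * x * t = y * (x * t) := by group
        _ = (x * t) * y := h1
        _ = x * (t * y) := by group
        _ = x * (y * t) := by rw [hty]
        _ = x * y * t := by group
    have h3 : y * x = x * y := mul_right_cancel h2
    rw [h3]; group
  · have hcomm : Commute x t := (show t * x = x * t from htx).symm
    rw [hcomm.mul_pow, hx2z, ht2z, ← pow_two, h.zp]

end ESC

end Cfsg.Agent.Helper3.ESMod
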