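import Mathlib
import Cfsg.Agent.Helper3.ESMod3

set_option autoImplicit false
set_option linter.style.haveILetI false
set_option linter.unusedSectionVars false

/-! Lower bound for the order of an abelian `r`-group on which an extraspecial-like subgroup acts
with fixed-point-free centre. -/

namespace Cfsg.Agent.Helper3.ESMod

open Subgroup
open scoped commutatorElement

variable {G : Type*} [Group G] [Finite G]

theorem isPGroup_of_exp {r : ℕ} (A : Subgroup G) (hexp : ∀ a ∈ A, a ^ r = 1) : IsPGroup r A := by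
  intro a
  refine ⟨1, Subtype.ext ?_⟩
  simpa using hexp a a.2

theorem isMulCommutative_of_comm (A : Subgroup G) (hAc : ∀ a ∈ A, ∀ b ∈ A, a * b = b * a) :
    IsMulCommutative A :=
  ⟨⟨fun a b => Subtype.ext (hAc a a.2 b b.2)⟩⟩

/-- base case: a fixed-point-free element of order `p` on a nontrivial `r`-group `A` forces
`p ∣ |A| - 1`. -/
theorem card_modEq_one_of_fpf {p : ℕ} [hp : Fact p.Prime] (A : Subgroup G) {z : G}
    (hz : z ∈ normalizer (A : Set G)) (hzp : z ^ p = 1) (hfpf : A ⊓ centralizer {z} = ⊥) :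
    Nat.card A ≡ 1 [MOD p] := by
  set z' : normalizer (A : Set G) := ⟨z, hz⟩ with hz'
  have hz'p : z' ^ p = 1 := Subtype.ext (by simpa using hzp)
  have hZ : IsPGroup p ↥(zpowers z') := by
    rintro ⟨t, ht⟩
    obtain ⟨k, rfl⟩ := mem_zpowers_iff.mp ht
    refine ⟨1, Subtype.ext ?_⟩
    show (z' ^ k) ^ p ^ 1 = 1
    rw [pow_one, ← zpow_natCast, ← zpow_mul, mul_comm, zpow_mul, zpow_natCast, hz'p, one_zpow]
  have hmod := hZ.card_modEq_card_fixedPoints (↥A)
  have hfix : Nat.card ↥(MulAction.fixedPoints ↥(zpowers z') ↥A) = 1 := by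
    rw [Nat.card_eq_one_iff_unique]
    refine ⟨⟨?_⟩, ⟨⟨1, ?_⟩⟩⟩
    · rintro ⟨a, ha⟩ ⟨b, hb⟩
      have key : ∀ v : ↥A, v ∈ MulAction.fixedPoints ↥(zpowers z') ↥A → v = 1 := by
        intro v hv
        have h1 : z' • v = v := hv ⟨z', mem_zpowers z'⟩
        have h2 := congrArg (fun w : A => (w : G)) h1
        simp only [Cfsg.Agent.Lead.coe_normalizer_smul] at h2
        have h3 : z * (v : G) * z⁻¹ = v := h2
        have h4 : (v : G) ∈ A ⊓ centralizer {z} := by
          refine ⟨v.2, ?_⟩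
          show (v : G) ∈ centralizer {z}
          rw [mem_centralizer_singleton_iff]
          calc (v : G) * z = (z * (v : G) * z⁻¹) * z := by rw [h3]
            _ = z * v := by group
        rw [hfpf, mem_bot] at h4
        exact Subtype.ext h4
      apply Subtype.ext
      exact (key a ha).trans (key b hb).symm
    · intro g
      exact smul_one g
  rw [hfix] at hmod
  exact hmod

theorem base_bound {p r : ℕ} [hp : Fact p.Prime] [hr : Fact r.Prime] (n : ℕ)
    (hmin : ∀ k : ℕ, 1 ≤ k → p ∣ r ^ k - 1 → n ≤ k) (A : Subgroup G) {z : G}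
    (hz : z ∈ normalizer (A : Set G)) (hzp : z ^ p = 1) (hexp : ∀ a ∈ A, a ^ r = 1)
    (hfpf : A ⊓ centralizer {z} = ⊥) (hA : A ≠ ⊥) : r ^ n ≤ Nat.card A := by
  obtain ⟨k, hk⟩ := (isPGroup_of_exp A hexp).exists_card_eq
  have h1 : 1 < Nat.card A := (Subgroup.one_lt_card_iff_ne_bot A).mpr hA
  have hk1 : 1 ≤ k := by
    rcases Nat.eq_zero_or_pos k with h0 | h0
    · rw [h0, pow_zero] at hk; omega
    · exact h0
  have hmod := card_modEq_one_of_fpf (p := p) A hz hzp hfpf
  rw [hk] at hmod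
  have hdvd : p ∣ r ^ k - 1 := (Nat.modEq_iff_dvd' (by rw [← hk]; omega)).mp hmod.symm
  rw [hk]
  exact Nat.pow_le_pow_right hr.out.pos (hmin k hk1 hdvd)

/-- In a cyclic `A`, the commutator of two normalizing elements centralizes `A`. -/
theorem comm_centralizes_of_cyclic (A : Subgroup G) {g : G} (hg : ∀ a ∈ A, a ∈ zpowers g)
    (hgA : g ∈ A) {x y : G} (hx : x ∈ normalizer (A : Set G)) (hy : y ∈ normalizer (A : Set G)) :
    (x * y) * g * (x * y)⁻¹ = (y * x) * g * (y * x)⁻¹ := by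
  have h1 : x * g * x⁻¹ ∈ zpowers g := hg _ ((mem_normalizer_iff.mp hx g).mp hgA)
  have h2 : y * g * y⁻¹ ∈ zpowers g := hg _ ((mem_normalizer_iff.mp hy g).mp hgA)
  obtain ⟨i, hi⟩ := mem_zpowers_iff.mp h1
  obtain ⟨j, hj⟩ := mem_zpowers_iff.mp h2
  have cz : ∀ (t : G) (k : ℤ), t * g ^ k * t⁻¹ = (t * g * t⁻¹) ^ k := by
    intro t k
    rw [_root_.conj_zpow]
  calc (x * y) * g * (x * y)⁻¹ = x * (y * g * y⁻¹) * x⁻¹ := by group
    _ = x * g ^ j * x⁻¹ := by rw [hj]
    _ = (x * g * x⁻¹) ^ j := cz x j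
    _ = (g ^ i) ^ j := by rw [hi]
    _ = (g ^ j) ^ i := by rw [← zpow_mul, ← zpow_mul, mul_comm]
    _ = (y * g * y⁻¹) ^ i := by rw [hj]
    _ = y * g ^ i * y⁻¹ := (cz y i).symm
    _ = y * (x * g * x⁻¹) * y⁻¹ := by rw [hi]
    _ = (y * x) * g * (y * x)⁻¹ := by group

end Cfsg.Agent.Helper3.ESMod
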