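import Mathlib
import Cfsg.Agent.Helper3.ESMod4

set_option autoImplicit false
set_option linter.style.haveILetI false
set_option linter.unusedSectionVars false

/-! Main bound: an extraspecial-like subgroup `E` of order at least `p^(2w+1)` whose centre acts
fixed-point-freely on an abelian group `A` of exponent `r` forces `|A| ≥ r^(n p^w)`. -/

namespace Cfsg.Agent.Helper3.ESMod

open Subgroup
open scoped commutatorElement

variable {G : Type*} [Group G] [Finite G]

/-- the small case `p = 2`, `|E| ≥ 8`: `|A| ≥ r²`. -/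
theorem two_bound {r : ℕ} [hr : Fact r.Prime] {E A : Subgroup G} {z : G} (h : ESC 2 E z)
    (hcard : 8 ≤ Nat.card E) (hexp : ∀ a ∈ A, a ^ r = 1)
    (hnorm : E ≤ normalizer (A : Set G)) (hfpf : A ⊓ centralizer {z} = ⊥) (hA : A ≠ ⊥) :
    r ^ 2 ≤ Nat.card A := by
  haveI : Fact (Nat.Prime 2) := ⟨Nat.prime_two⟩
  obtain ⟨k, hk⟩ := (isPGroup_of_exp A hexp).exists_card_eq
  have h1 : 1 < Nat.card A := (Subgroup.one_lt_card_iff_ne_bot A).mpr hA
  have hk1 : 1 ≤ k := by
    rcases Nat.eq_zero_or_pos k with h0 | h0
    · rw [h0, pow_zero] at hk; omega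
    · exact h0
  rcases Nat.lt_or_ge 1 k with hk2 | hk2
  · rw [hk]; exact Nat.pow_le_pow_right hr.out.pos hk2
  exfalso
  have hk' : k = 1 := le_antisymm hk2 hk1
  rw [hk', pow_one] at hk
  -- `A` is cyclic of prime order
  haveI : Fact (Nat.card ↥A).Prime := ⟨by rw [hk]; exact hr.out⟩
  haveI hcyc : IsCyclic ↥A := isCyclic_of_prime_card rfl
  obtain ⟨g, hg⟩ := hcyc.exists_generator
  have hgen : ∀ a ∈ A, a ∈ zpowers (g : G) := by
    intro a ha
    obtain ⟨i, hi⟩ := mem_zpowers_iff.mp (hg ⟨a, ha⟩)
    refine mem_zpowers_iff.mpr ⟨i, ?_⟩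
    have := congrArg (fun t : ↥A => (t : G)) hi
    simpa using this
  obtain ⟨x, hxE, hxz⟩ := h.exists_notMem_of_card_lt E (by omega)
  obtain ⟨y, hyE, hyx⟩ := h.exists_noncomm hxE hxz
  have hu : x⁻¹ * (y * x * y⁻¹) = z := by
    rcases h.mem_two (h.twist_mem hxE hyE) with h1 | h1
    · exfalso; apply hyx
      calc y * x * y⁻¹ = x * (x⁻¹ * (y * x * y⁻¹)) := by group
        _ = x := by rw [h1, mul_one]
    · exact h1
  have hcc := comm_centralizes_of_cyclic A hgen g.2 (hnorm hxE) (hnorm hyE)
  -- `(x y)⁻¹ (y x) = z` up to centrality, so `z` commutes with `g`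
  have hyxz : y * x = x * y * z := by
    have h1 : y * x = x * z * y := by rw [← hu]; group
    rw [h1]
    calc x * z * y = x * (z * y) := by group
      _ = x * (y * z) := by rw [h.zc y hyE]
      _ = x * y * z := by group
  rw [hyxz] at hcc
  have hzg : z * (g : G) * z⁻¹ = g := by
    have h2 : (x * y) * (g : G) * (x * y)⁻¹ = (x * y) * (z * g * z⁻¹) * (x * y)⁻¹ := by
      rw [hcc]; group
    have h3 := mul_left_cancel (mul_right_cancel h2)
    exact h3.symm
  have hmem : (g : G) ∈ A ⊓ centralizer {z} := by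
    refine ⟨g.2, ?_⟩
    show (g : G) ∈ centralizer {z}
    rw [mem_centralizer_singleton_iff]
    calc (g : G) * z = (z * (g : G) * z⁻¹) * z := by rw [hzg]
      _ = z * g := by group
  rw [hfpf, mem_bot] at hmem
  -- then `A` is trivial
  apply hA
  rw [eq_bot_iff]
  intro a ha
  have := hgen a ha
  rw [hmem, zpowers_one_eq_bot] at this
  exact this

theorem main_bound {p r : ℕ} [hp : Fact p.Prime] [hr : Fact r.Prime] (hpr : p ≠ r) (n : ℕ)
    (hdiv : p ∣ r ^ n - 1) (hn : 1 ≤ n)
    (hmin : ∀ k : ℕ, 1 ≤ k → p ∣ r ^ k - 1 → n ≤ k) (w : ℕ) :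
    ∀ (E A : Subgroup G) (z : G), ESC p E z → p ^ (2 * w + 1) ≤ Nat.card E →
      (∀ a ∈ A, ∀ b ∈ A, a * b = b * a) → (∀ a ∈ A, a ^ r = 1) →
      E ≤ normalizer (A : Set G) → A ⊓ centralizer {z} = ⊥ → A ≠ ⊥ →
      r ^ (n * p ^ w) ≤ Nat.card A := by
  induction w with
  | zero =>
    intro E A z h _ _ hexp hnorm hfpf hA
    rw [pow_zero, mul_one]
    exact base_bound n hmin A (hnorm h.zE) h.zp hexp hfpf hA
  | succ w ih =>
    intro E A z h hcard hAc hexp hnorm hfpf hA
    have hp1 : 1 < p := hp.out.one_lt
    have hcard3 : p ^ 3 ≤ Nat.card E :=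
      le_trans (Nat.pow_le_pow_right hp.out.pos (by omega)) hcard
    by_cases hex : ∃ x ∈ E, x ∉ zpowers z ∧ x ^ p = 1
    · -- Case I
      obtain ⟨x, hxE, hxz, hxp⟩ := hex
      obtain ⟨y, hyE, hyx⟩ := h.exists_noncomm hxE hxz
      set u : G := x⁻¹ * (y * x * y⁻¹) with hu
      have huz : u ∈ zpowers z := h.twist_mem hxE hyE
      have hu1 : u ≠ 1 := by
        intro h1
        apply hyx
        calc y * x * y⁻¹ = x * u := by rw [hu]; group
          _ = x := by rw [h1, mul_one]
      have hyx' : y * x * y⁻¹ = x * u := by rw [hu]; group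
      have h' : ESC p E u := h.of_gen huz hu1
      have hzu : z ∈ zpowers u := by rw [h.zpowers_eq huz hu1]; exact mem_zpowers z
      have hfpf' : A ⊓ centralizer {u} = ⊥ := by
        rw [eq_bot_iff, ← hfpf]
        rintro a ⟨haA, haC⟩
        refine ⟨haA, ?_⟩
        show a ∈ centralizer {z}
        rw [mem_centralizer_singleton_iff]
        have hau : a * u = u * a := mem_centralizer_singleton_iff.mp haC
        obtain ⟨k, rfl⟩ := mem_zpowers_iff.mp hzu
        exact ((show Commute a u from hau).zpow_right k).eq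
      haveI : IsMulCommutative A := isMulCommutative_of_comm A hAc
      have hcop : (Nat.card A).Coprime p := by
        obtain ⟨k, hk⟩ := (isPGroup_of_exp A hexp).exists_card_eq
        rw [hk]
        apply Nat.Coprime.pow_left
        exact (Nat.coprime_primes hr.out hp.out).mpr (Ne.symm hpr)
      have hxu : x * u = u * x := h'.zc x hxE
      have hyu : y * u = u * y := h'.zc y hyE
      have hA1 := inf_centralizer_ne_bot A hp.out (hnorm hxE) (hnorm hyE) (hnorm h'.zE)
        hxu hyu hyx' hxp h'.zp hfpf' hcop hA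
      have hpow := card_centralizer_pow_le A hp.out (hnorm hxE) (hnorm hyE) (hnorm h'.zE)
        hxu hyu hyx' hxp h'.zp hfpf' hcop
      -- apply the induction hypothesis
      have hsub := h'.sub hxE hyE hyx'
      have hcl := h'.card_le hxE hyE hyx'
      have hcard1 : p ^ (2 * w + 1) ≤ Nat.card ↥(E ⊓ centralizer {x} ⊓ centralizer {y}) := by
        have e1 : p ^ (2 * (w + 1) + 1) = p * p * p ^ (2 * w + 1) := by ring
        rw [e1] at hcard
        have := le_trans hcard hcl
        exact Nat.le_of_mul_le_mul_left this (Nat.mul_pos hp.out.pos hp.out.pos)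
      have hnorm1 : E ⊓ centralizer {x} ⊓ centralizer {y} ≤
          normalizer ((A ⊓ centralizer {x} : Subgroup G) : Set G) := by
        rintro e ⟨⟨heE, hex⟩, -⟩
        have hex' : e * x = x * e := mem_centralizer_singleton_iff.mp hex
        have heN := hnorm heE
        rw [mem_normalizer_iff]
        intro a
        have hiff : ∀ a : G, a ∈ centralizer {x} → e * a * e⁻¹ ∈ centralizer {x} := by
          intro a ha
          exact (centralizer {x}).mul_mem ((centralizer {x}).mul_mem hex ha)
            ((centralizer {x}).inv_mem hex)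
        constructor
        · rintro ⟨haA, haC⟩
          exact ⟨(mem_normalizer_iff.mp heN a).mp haA, hiff a haC⟩
        · rintro ⟨haA, haC⟩
          refine ⟨(mem_normalizer_iff.mp heN a).mpr haA, ?_⟩
          have := (centralizer {x}).mul_mem ((centralizer {x}).mul_mem
            ((centralizer {x}).inv_mem hex) haC) hex
          have e2 : e⁻¹ * (e * a * e⁻¹) * e = a := by group
          rwa [e2] at this
      have hres := ih (E ⊓ centralizer {x} ⊓ centralizer {y}) (A ⊓ centralizer {x}) u hsub hcard1
        (fun a ha b hb => hAc a ha.1 b hb.1) (fun a ha => hexp a ha.1) hnorm1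
        (by
          rw [eq_bot_iff, ← hfpf']
          rintro a ⟨⟨haA, -⟩, haC⟩
          exact ⟨haA, haC⟩) hA1
      calc r ^ (n * p ^ (w + 1)) = (r ^ (n * p ^ w)) ^ p := by rw [← pow_mul]; ring_nf
        _ ≤ Nat.card ↥(A ⊓ centralizer {x}) ^ p := Nat.pow_le_pow_left hres p
        _ ≤ Nat.card A := hpow
    · -- Case II
      have hp2 : p = 2 := by
        by_contra hp2
        apply hex
        apply h.exists_order_p_odd hp2
        have : p * p < p ^ 3 := by
          have : p ^ 3 = p * p * p := by ring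
          rw [this]
          exact lt_mul_of_one_lt_right (Nat.mul_pos hp.out.pos hp.out.pos) hp1
        omega
      subst hp2
      have hlt : ¬ 8 < Nat.card E := fun h8 => hex (h.exists_invol h8)
      have hw : w = 0 := by
        by_contra hw
        have : 2 ^ 5 ≤ 2 ^ (2 * (w + 1) + 1) := Nat.pow_le_pow_right (by norm_num) (by omega)
        omega
      subst hw
      have hn1 : n = 1 := by
        apply le_antisymm _ hn
        apply hmin 1 le_rfl
        rw [pow_one]
        have hodd : r % 2 = 1 := by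
          rcases hr.out.eq_two_or_odd with h2 | h2
          · exact absurd h2.symm hpr
          · exact h2
        omega
      subst hn1
      have := two_bound h (by norm_num at hcard3; exact hcard3) hexp hnorm hfpf hA
      simpa using this

end Cfsg.Agent.Helper3.ESMod
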