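import Mathlib
import Cfsg.Agent.Helper5.Zassenhaus2

set_option autoImplicit false
set_option linter.style.haveILetI false

/-!
# Basic facts on a regular normal subgroup of a point stabiliser of a Zassenhaus group
-/

namespace Cfsg.Agent.Helper3.Feit

open MulAction Cfsg

variable {G Ω : Type*} [Group G] [MulAction G Ω]

/-- A subgroup of the point stabiliser regular on the remaining points has `n - 1` elements and
its non-identity elements fix only the point. -/
theorem kernel_facts [Fintype Ω] {a b : Ω} (hab : a ≠ b)
    (F : Subgroup G) (hFle : F ≤ stabilizer G a)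
    (hreg : ∀ y z : Ω, y ≠ a → z ≠ a → ∃! u : F, (u : G) • y = z) :
    Nat.card F + 1 = Fintype.card Ω ∧ ∀ u ∈ F, u ≠ 1 → ∀ c : Ω, u • c = c → c = a := by
  classical
  have hFa : ∀ u : F, (u : G) • a = a := fun u => hFle u.2
  have hub : ∀ u : F, (u : G) • b ≠ a := by
    intro u h
    have : (u : G) • b = (u : G) • a := by rw [h, hFa u]
    exact hab (smul_left_cancel _ this).symm
  constructor
  · have e : F ≃ {x : Ω // x ≠ a} := Equiv.ofBijective (fun u => ⟨(u : G) • b, hub u⟩) (by
      constructor
      · intro u u' huu'
        have h1 : (u : G) • b = (u' : G) • b := congrArg Subtype.val huu'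
        exact (hreg b ((u' : G) • b) hab.symm (hub u')).unique h1 rfl
      · rintro ⟨x, hx⟩
        obtain ⟨u, hu⟩ := (hreg b x hab.symm hx).exists
        exact ⟨u, Subtype.ext hu⟩)
    rw [Nat.card_congr e, Nat.card_eq_fintype_card, Fintype.card_subtype_compl,
      Fintype.card_subtype_eq]
    have : 1 ≤ Fintype.card Ω := Fintype.card_pos_iff.2 ⟨a⟩
    omega
  · intro u hu hu1 c hc
    by_contra hca
    apply hu1
    have h1 : ((⟨u, hu⟩ : F) : G) • c = c := hc
    have h2 : ((1 : F) : G) • c = c := one_smul _ _
    exact congrArg Subtype.val ((hreg c c hca hca).unique h1 h2)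

end Cfsg.Agent.Helper3.Feit
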