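import Mathlib
import Cfsg.Prelude.Def_HallClasses
import Cfsg.Agent.Helper4.PrimeDegreeIndex
import Cfsg.Agent.Helper24.Burnside

/-!
S3878, counterexamples: symmetric groups without Hall `π`-subgroups.
-/

set_option autoImplicit false
set_option linter.unusedSectionVars false
set_option linter.style.haveILetI false

namespace Cfsg.Agent.Helper3.HallUniv

open Subgroup Equiv Equiv.Perm
open scoped Pointwise

theorem sq_not_dvd_factorial_succ {n : ℕ} (hn : n.Prime) : ¬ n ^ 2 ∣ (n + 1).factorial := by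
  intro h
  rw [Nat.factorial_succ] at h
  have hc : (n ^ 2).Coprime (n + 1) := by
    apply Nat.Coprime.pow_left
    simp
  have h1 : n ^ 2 ∣ n.factorial := hc.dvd_of_dvd_mul_left h
  exact Cfsg.Agent.Helper4.JordanCycle.sq_not_dvd_factorial hn h1

/-- `S_{n+1}` has no Hall `π`-subgroup if `π` contains all primes below the prime `n ≥ 5` but not `n`. -/
theorem not_isEPiGroup_succ (π : Set ℕ) (n : ℕ) (hn : n.Prime) (h5 : 5 ≤ n) (hnπ : n ∉ π)
    (hlt : ∀ p : ℕ, p.Prime → p < n → p ∈ π) :
    ¬ Cfsg.IsEPiGroup π (Equiv.Perm (Fin (n + 1))) := by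
  rintro ⟨H, hH1, hH2⟩
  have hcardG : Nat.card (Perm (Fin (n + 1))) = (n + 1).factorial := by
    rw [Nat.card_eq_fintype_card, Fintype.card_perm, Fintype.card_fin]
  have hmul : Nat.card H * H.index = (n + 1).factorial := by
    rw [← hcardG]; exact H.card_mul_index
  have hnH : ¬ n ∣ Nat.card H := fun h => hnπ (hH1 n hn h)
  have hndvd : n ∣ (n + 1).factorial := (hn.dvd_factorial).2 (by omega)
  have hnidx : n ∣ H.index := by
    rw [← hmul] at hndvd
    exact (hn.dvd_mul.1 hndvd).resolve_left hnH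
  have hidx0 : H.index ≠ 0 := Subgroup.index_ne_zero_of_finite
  have hprime : ∀ {d : ℕ}, d.Prime → d ∣ H.index → d = n := by
    intro d hd hdvd
    have hdπ : d ∉ π := fun h => hH2 d hd h hdvd
    have hdle : d ≤ n + 1 := (hd.dvd_factorial).1 (hdvd.trans (Dvd.intro_left _ hmul))
    have hdge : n ≤ d := by
      by_contra hlt'
      exact hdπ (hlt d hd (by omega))
    rcases Nat.lt_or_ge n d with h | h
    · exfalso
      have hd' : d = n + 1 := by omega
      have hodd : n % 2 = 1 := by
        rcases hn.eq_two_or_odd with h2 | h2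
        · omega
        · exact h2
      have h2d : 2 ∣ d := by omega
      have := (Nat.prime_dvd_prime_iff_eq Nat.prime_two hd).1 h2d
      omega
    · omega
  have hpow := Nat.eq_prime_pow_of_unique_prime_dvd hidx0 hprime
  have hidx : H.index = n := by
    set k := H.index.primeFactorsList.length with hk
    have hk1 : k ≤ 1 := by
      by_contra hk2
      push Not at hk2
      apply sq_not_dvd_factorial_succ hn
      refine dvd_trans (pow_dvd_pow n hk2) ?_
      rw [← hpow]
      exact Dvd.intro_left _ hmul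
    have hk0 : k ≠ 0 := by
      intro h0
      rw [h0, pow_zero] at hpow
      rw [hpow] at hnidx
      exact hn.one_lt.ne' (Nat.dvd_one.mp hnidx)
    have : k = 1 := by omega
    rw [hpow, this, pow_one]
  by_cases hcore : H.normalCore = ⊥
  · have hinj : Function.Injective (MulAction.toPermHom (Perm (Fin (n + 1)))
        (Perm (Fin (n + 1)) ⧸ H)) := by
      rw [← MonoidHom.ker_eq_bot_iff, ← Subgroup.normalCore_eq_ker]
      exact hcore
    have hdvd := Subgroup.card_dvd_of_injective _ hinj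
    have hc : Nat.card (Equiv.Perm (Perm (Fin (n + 1)) ⧸ H)) = n.factorial := by
      rw [Nat.card_perm, ← Subgroup.index_eq_card, hidx]
    rw [hc, hcardG] at hdvd
    have h1 := Nat.le_of_dvd (Nat.factorial_pos n) hdvd
    have h2 : n.factorial < (n + 1).factorial := Nat.factorial_lt_of_lt (by omega) (by omega)
    omega
  · have hnt : Nontrivial H.normalCore := (Subgroup.nontrivial_iff_ne_bot _).2 hcore
    have hle := Equiv.Perm.alternatingGroup_le_of_normal (α := Fin (n + 1))
      (by rw [Nat.card_eq_fintype_card, Fintype.card_fin]; omega) hnt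
    have h1 : alternatingGroup (Fin (n + 1)) ≤ H := hle.trans (Subgroup.normalCore_le H)
    have h2 := Subgroup.index_dvd_of_le h1
    haveI : Nontrivial (Fin (n + 1)) := Fin.nontrivial_iff_two_le.2 (by omega)
    rw [alternatingGroup.index_eq_two, hidx] at h2
    have := Nat.le_of_dvd (by norm_num) h2
    omega

section Frob

variable {α : Type*} [Fintype α] [DecidableEq α]

/-- An element normalizing a regular cyclic group of prime order and fixing two points is
trivial. -/
theorem eq_one_of_two_fixed {n : ℕ} (hn : n.Prime) (hα : Fintype.card α = n) (σ c : Perm α)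
    (hσ : orderOf σ = n) (k : ℤ) (hk : c * σ * c⁻¹ = σ ^ k) (x y : α) (hxy : x ≠ y)
    (hx : c x = x) (hy : c y = y) : c = 1 := by
  have hcyc : σ.IsCycle := isCycle_of_prime_order'' (by rw [hα]; exact hn) (by rw [hσ, hα])
  have hsupp : ∀ z, σ z ≠ z := by
    intro z
    have h1 : σ.support.card = Fintype.card α := by rw [← hcyc.orderOf, hσ, hα]
    have h2 : σ.support = Finset.univ := (Finset.card_eq_iff_eq_univ _).1 h1
    rw [← Perm.mem_support, h2]
    exact Finset.mem_univ z
  -- fixed points of elements commuting with σ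
  have hfix : ∀ τ : Perm α, τ * σ = σ * τ → τ x = x → τ = 1 := by
    intro τ hτ hτx
    ext z
    obtain ⟨i, hi⟩ := hcyc.exists_zpow_eq (hsupp x) (hsupp z)
    have hc : Commute τ σ := hτ
    have h1 : τ * σ ^ i = σ ^ i * τ := (hc.zpow_right i).eq
    have h2 := congrArg (fun ρ : Perm α => ρ x) h1
    simp only [Perm.mul_apply] at h2
    rw [← hi, h2, hτx]
    rfl
  obtain ⟨j, hj⟩ := hcyc.exists_zpow_eq (hsupp x) (hsupp y)
  have hconj : c * σ ^ j * c⁻¹ = (σ ^ k) ^ j := by
    rw [← hk, conj_zpow]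
  have h1 : ((σ ^ k) ^ j) x = y := by
    rw [← hconj, Perm.mul_apply, Perm.mul_apply]
    have : c⁻¹ x = x := by rw [Perm.inv_eq_iff_eq, hx]
    rw [this, hj, hy]
  have hτx : ((σ ^ j)⁻¹ * (σ ^ k) ^ j) x = x := by
    rw [Perm.mul_apply, h1, Perm.inv_eq_iff_eq, hj]
  have hτeq : (σ ^ j)⁻¹ * (σ ^ k) ^ j = σ ^ (k * j - j) := by
    rw [← zpow_mul, ← zpow_neg, ← zpow_add]
    congr 1
    ring
  have hτc : σ ^ (k * j - j) * σ = σ * σ ^ (k * j - j) :=
    ((Commute.refl σ).zpow_left _).eq
  rw [hτeq] at hτx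
  have hτ1 := hfix _ hτc hτx
  have hdvd : ((n : ℕ) : ℤ) ∣ k * j - j := by
    rw [← hσ, orderOf_dvd_iff_zpow_eq_one]
    exact hτ1
  have hfac : k * j - j = (k - 1) * j := by ring
  rw [hfac] at hdvd
  rcases (Nat.prime_iff_prime_int.mp hn).dvd_or_dvd hdvd with h | h
  · have hk1 : σ ^ (k - 1) = 1 := by
      rw [← orderOf_dvd_iff_zpow_eq_one, hσ]
      exact h
    have hkσ : σ ^ k = σ := by
      have : k = (k - 1) + 1 := by ring
      rw [this, zpow_add, hk1, one_mul, zpow_one]
    rw [hkσ] at hk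
    have hcomm : c * σ = σ * c := by
      calc c * σ = c * σ * c⁻¹ * c := by group
        _ = σ * c := by rw [hk]
    exact hfix c hcomm hx
  · exfalso
    have hj1 : σ ^ j = 1 := by
      rw [← orderOf_dvd_iff_zpow_eq_one, hσ]
      exact h
    rw [hj1] at hj
    exact hxy hj

end Frob


/-- A subgroup of index prime to `p` contains a Sylow `p`-subgroup. -/
theorem exists_sylow_le_of_not_dvd_index' {G : Type*} [Group G] [Finite G] {p : ℕ} [Fact p.Prime]
    (H : Subgroup G) (hH : ¬ p ∣ H.index) : ∃ S : Sylow p G, (S : Subgroup G) ≤ H := by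
  obtain ⟨S'⟩ : Nonempty (Sylow p H) := inferInstance
  have hcard : Nat.card ((S' : Subgroup H).map H.subtype) = p ^ (Nat.card G).factorization p := by
    rw [Subgroup.card_subtype, S'.card_eq_multiplicity]
    congr 1
    have h1 : Nat.card G = Nat.card H * H.index := (Subgroup.card_mul_index H).symm
    have hidx : H.index ≠ 0 := Subgroup.index_ne_zero_of_finite
    rw [h1, Nat.factorization_mul Nat.card_pos.ne' hidx]
    have h2 : (H.index).factorization p = 0 := Nat.factorization_eq_zero_of_not_dvd hH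
    simp [h2]
  refine ⟨Sylow.ofCard _ hcard, ?_⟩
  rw [Sylow.coe_ofCard]
  exact Subgroup.map_subtype_le _

/-- For a prime `n ≥ 5` and a prime `p < n`, the symmetric group `S_n` has no Hall `π`-subgroup when
`p` and `n` are the only primes of `π` not exceeding `n`. -/
theorem not_isEPiGroup_prime (π : Set ℕ) (n p : ℕ) (hn : n.Prime) (h5 : 5 ≤ n) (hp : p.Prime)
    (hpn : p < n) (hnπ : n ∈ π) (hpπ : p ∈ π)
    (huniq : ∀ q : ℕ, q.Prime → q < n → q ∈ π → q = p) :
    ¬ Cfsg.IsEPiGroup π (Equiv.Perm (Fin n)) := by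
  rintro ⟨H, hH1, hH2⟩
  haveI : Fact n.Prime := ⟨hn⟩
  haveI : Fact p.Prime := ⟨hp⟩
  haveI : NeZero n := ⟨by omega⟩
  have hcardα : Fintype.card (Fin n) = n := Fintype.card_fin n
  have hcardG : Nat.card (Perm (Fin n)) = n.factorial := by
    rw [Nat.card_eq_fintype_card, Fintype.card_perm, Fintype.card_fin]
  have hmul : Nat.card H * H.index = n.factorial := by
    rw [← hcardG]; exact H.card_mul_index
  have hHdvd : Nat.card H ∣ n.factorial := Dvd.intro _ hmul
  have hprimeH : ∀ d : ℕ, d.Prime → d ∣ Nat.card H → d = p ∨ d = n := by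
    intro d hd hdvd
    have hdπ := hH1 d hd hdvd
    have hdle : d ≤ n := (hd.dvd_factorial).1 (hdvd.trans hHdvd)
    rcases Nat.lt_or_ge d n with h | h
    · left; exact huniq d hd h hdπ
    · right; omega
  have hnH : n ∣ Nat.card H := by
    have h1 : n ∣ n.factorial := (hn.dvd_factorial).2 le_rfl
    rw [← hmul] at h1
    exact (hn.dvd_mul.1 h1).resolve_right (hH2 n hn hnπ)
  have hsq : ¬ n ^ 2 ∣ Nat.card H := fun h =>
    Cfsg.Agent.Helper4.JordanCycle.sq_not_dvd_factorial hn (h.trans hHdvd)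
  -- |H| = p^a * n
  obtain ⟨m, hm⟩ := hnH
  have hm0 : m ≠ 0 := by
    rintro rfl
    rw [mul_zero] at hm
    exact Nat.card_pos.ne' hm
  have hmprime : ∀ {d : ℕ}, d.Prime → d ∣ m → d = p := by
    intro d hd hdvd
    rcases hprimeH d hd (by rw [hm]; exact Dvd.dvd.mul_left hdvd n) with h | h
    · exact h
    · exfalso
      apply hsq
      rw [hm, sq]
      rw [h] at hdvd
      exact Nat.mul_dvd_mul_left n hdvd
  have hmpow := Nat.eq_prime_pow_of_unique_prime_dvd hm0 hmprime
  have hcardH : Nat.card H = p ^ m.primeFactorsList.length * n ^ 1 := by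
    rw [hm, pow_one, mul_comm, ← hmpow]
  have hsolv : Group.IsSolvable H :=
    Cfsg.Agent.Helper24.isSolvable_of_card_eq_prime_pow_mul p n _ 1 hp hn hcardH
  -- an n-cycle in H
  obtain ⟨s, hs⟩ := exists_prime_orderOf_dvd_card' (G := H) n ⟨m, hm⟩
  have hσ : orderOf (s : Perm (Fin n)) = n := by rw [Subgroup.orderOf_coe, hs]
  have hcyc : (s : Perm (Fin n)).IsCycle :=
    isCycle_of_prime_order'' (by rw [hcardα]; exact hn) (by rw [hσ, hcardα])
  have hsupp : ∀ z, (s : Perm (Fin n)) z ≠ z := by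
    intro z
    have h1 : (s : Perm (Fin n)).support.card = Fintype.card (Fin n) := by
      rw [← hcyc.orderOf, hσ, hcardα]
    have h2 : (s : Perm (Fin n)).support = Finset.univ := (Finset.card_eq_iff_eq_univ _).1 h1
    rw [← Perm.mem_support, h2]
    exact Finset.mem_univ z
  haveI htrans : MulAction.IsPretransitive H (Fin n) := by
    refine ⟨fun x y => ?_⟩
    obtain ⟨i, hi⟩ := hcyc.exists_zpow_eq (hsupp x) (hsupp y)
    refine ⟨s ^ i, ?_⟩
    rw [Subgroup.smul_def, Perm.smul_def]
    rw [Subgroup.coe_zpow]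
    exact hi
  -- the normal Sylow n-subgroup
  obtain ⟨P⟩ : Nonempty (Sylow n H) := inferInstance
  haveI hPn : (P : Subgroup H).Normal :=
    Cfsg.Agent.Helper4.PrimeDegreeIndex.sylow_normal_of_solvable hcardα H hsolv P
  have hPcard : Nat.card P = n := Cfsg.Agent.Helper4.PrimeDegree3.sylow_card hcardα H P
  have hsP : s ∈ (P : Subgroup H) := by
    have hpg : IsPGroup n (zpowers s) := IsPGroup.of_card (n := 1) (by
      rw [Nat.card_zpowers, hs, pow_one])
    obtain ⟨Q, hQ⟩ := hpg.exists_le_sylow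
    obtain ⟨g, hg⟩ := MulAction.exists_smul_eq H P Q
    rw [Sylow.smul_eq_of_normal] at hg
    rw [hg]
    exact hQ (mem_zpowers s)
  have hPz : (P : Subgroup H) = zpowers s := by
    symm
    apply Subgroup.eq_of_le_of_card_ge
    · rw [zpowers_le]; exact hsP
    · rw [hPcard, Nat.card_zpowers, hs]
  -- an element of order p with two fixed points, conjugated into H
  have hp2 : p + 2 ≤ n := by
    by_contra hcon
    have hpn1 : n = p + 1 := by omega
    rcases hn.eq_two_or_odd with h2 | h2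
    · omega
    · rcases hp.eq_two_or_odd with h3 | h3
      · omega
      · omega
  set i₀ : Fin n := ⟨p - 1, by omega⟩ with hi₀
  have hi₀0 : i₀ ≠ 0 := by
    intro h
    have := congrArg Fin.val h
    simp only [hi₀, Fin.val_zero] at this
    have := hp.two_le
    omega
  set c₀ : Perm (Fin n) := Fin.cycleRange i₀ with hc₀
  have hct : c₀.cycleType = {p} := by
    rw [hc₀, Fin.cycleType_cycleRange hi₀0]
    congr 1
    simp only [hi₀]
    have := hp.two_le
    omega
  have hc₀ord : orderOf c₀ = p := by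
    rw [← Equiv.Perm.lcm_cycleType, hct]
    simp
  set x₀ : Fin n := ⟨n - 1, by omega⟩ with hx₀
  set y₀ : Fin n := ⟨n - 2, by omega⟩ with hy₀
  have hx₀y₀ : x₀ ≠ y₀ := by
    intro h
    have := congrArg Fin.val h
    simp only [hx₀, hy₀] at this
    omega
  have hfx : c₀ x₀ = x₀ := Fin.cycleRange_of_gt (by
    rw [Fin.lt_def]; simp only [hi₀, hx₀]; omega)
  have hfy : c₀ y₀ = y₀ := Fin.cycleRange_of_gt (by
    rw [Fin.lt_def]; simp only [hi₀, hy₀]; omega)
  obtain ⟨Q₁, hQ₁⟩ := exists_sylow_le_of_not_dvd_index' (p := p) H (hH2 p hp hpπ)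
  have hpg₀ : IsPGroup p (zpowers c₀) := IsPGroup.of_card (n := 1) (by
    rw [Nat.card_zpowers, hc₀ord, pow_one])
  obtain ⟨Q₀, hQ₀⟩ := hpg₀.exists_le_sylow
  obtain ⟨g, hg⟩ := MulAction.exists_smul_eq (Perm (Fin n)) Q₀ Q₁
  have hcH : g * c₀ * g⁻¹ ∈ H := by
    apply hQ₁
    rw [← hg, Sylow.coe_subgroup_smul, Subgroup.mem_smul_pointwise_iff_exists]
    exact ⟨c₀, hQ₀ (mem_zpowers c₀), by rw [MulAut.smul_def, MulAut.conj_apply]⟩
  set c : Perm (Fin n) := g * c₀ * g⁻¹ with hc
  have hcne : c ≠ 1 := by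
    intro h
    have h1 : c₀ = 1 := by
      have : c₀ = g⁻¹ * c * g := by rw [hc]; group
      rw [this, h]; group
    rw [h1, orderOf_one] at hc₀ord
    exact hp.one_lt.ne hc₀ord
  have hcx : c (g x₀) = g x₀ := by
    rw [hc, Perm.mul_apply, Perm.mul_apply]
    have : g⁻¹ (g x₀) = x₀ := by simp
    rw [this, hfx]
  have hcy : c (g y₀) = g y₀ := by
    rw [hc, Perm.mul_apply, Perm.mul_apply]
    have : g⁻¹ (g y₀) = y₀ := by simp
    rw [this, hfy]
  -- c normalizes ⟨s⟩
  have hconj : (⟨c, hcH⟩ : H) * s * (⟨c, hcH⟩ : H)⁻¹ ∈ (P : Subgroup H) := hPn.conj_mem s hsP _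
  rw [hPz, mem_zpowers_iff] at hconj
  obtain ⟨k, hk⟩ := hconj
  have hk' : c * (s : Perm (Fin n)) * c⁻¹ = (s : Perm (Fin n)) ^ k := by
    have := congrArg (fun w : H => (w : Perm (Fin n))) hk
    simp only [Subgroup.coe_zpow, Subgroup.coe_mul, Subgroup.coe_inv] at this
    exact this.symm
  exact hcne (eq_one_of_two_fixed hn hcardα (s : Perm (Fin n)) c hσ k hk' (g x₀) (g y₀)
    (fun h => hx₀y₀ (g.injective h)) hcx hcy)

end Cfsg.Agent.Helper3.HallUniv
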