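import Mathlib
import Cfsg.Prelude.Def_HallClasses
import Cfsg.Agent.Helper3.HallUnivA
import Cfsg.Agent.Helper3.HallUnivB

/-!
S3878: the Hall properties `E_π`, `D_π` hold in all finite groups iff `π` contains at most one prime
or all primes.
-/

set_option autoImplicit false
set_option linter.unusedSectionVars false
set_option linter.style.haveILetI false

namespace Cfsg.Agent.Helper3.HallUniv

open Subgroup Equiv

theorem cases_of_forall_EPi (π : Set ℕ)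
    (h : ∀ (G : Type) [Group G] [Finite G], Cfsg.IsEPiGroup π G) :
    (∀ p q : ℕ, p.Prime → q.Prime → p ∈ π → q ∈ π → p = q) ∨ ∀ p : ℕ, p.Prime → p ∈ π := by
  by_contra hcon
  push Not at hcon
  obtain ⟨⟨p, q, hp, hq, hpπ, hqπ, hpq⟩, ⟨r, hr, hrπ⟩⟩ := hcon
  let C : ℕ → Prop := fun n =>
    (∃ p q : ℕ, p.Prime ∧ q.Prime ∧ p ∈ π ∧ q ∈ π ∧ p ≠ q ∧ p ≤ n ∧ q ≤ n) ∧
      (∃ r : ℕ, r.Prime ∧ r ∉ π ∧ r ≤ n)
  have hex : ∃ n, C n :=
    ⟨max (max p q) r, ⟨p, q, hp, hq, hpπ, hqπ, hpq,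
      le_trans (le_max_left p q) (le_max_left _ _), le_trans (le_max_right p q) (le_max_left _ _)⟩,
      ⟨r, hr, hrπ, le_max_right _ _⟩⟩
  classical
  set n := Nat.find hex with hn
  have hCn : C n := Nat.find_spec hex
  have hmin : ∀ m < n, ¬ C m := fun m hm => Nat.find_min hex hm
  obtain ⟨⟨p', q', hp', hq', hp'π, hq'π, hp'q', hp'n, hq'n⟩, ⟨r', hr', hr'π, hr'n⟩⟩ := hCn
  have hn1 : 1 ≤ n := by have := hr'.two_le; omega
  have hnot := hmin (n - 1) (by omega)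
  by_cases hnπ : n ∈ π
  · have hr'lt : r' < n := lt_of_le_of_ne hr'n (by rintro rfl; exact hr'π hnπ)
    have hpq_n : p' = n ∨ q' = n := by
      by_contra hc
      push Not at hc
      exact hnot ⟨⟨p', q', hp', hq', hp'π, hq'π, hp'q', by omega, by omega⟩,
        ⟨r', hr', hr'π, by omega⟩⟩
    obtain ⟨p₀, hp₀, hp₀π, hp₀n, hnprime⟩ : ∃ p₀ : ℕ, p₀.Prime ∧ p₀ ∈ π ∧ p₀ < n ∧ n.Prime := by
      rcases hpq_n with h' | h'
      · exact ⟨q', hq', hq'π, lt_of_le_of_ne hq'n (by rw [← h']; exact hp'q'.symm), h' ▸ hp'⟩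
      · exact ⟨p', hp', hp'π, lt_of_le_of_ne hp'n (by rw [← h']; exact hp'q'), h' ▸ hq'⟩
    have huniq : ∀ q₁ : ℕ, q₁.Prime → q₁ < n → q₁ ∈ π → q₁ = p₀ := by
      intro q₁ hq₁ hq₁n hq₁π
      by_contra hne
      exact hnot ⟨⟨q₁, p₀, hq₁, hp₀, hq₁π, hp₀π, hne, by omega, by omega⟩,
        ⟨r', hr', hr'π, by omega⟩⟩
    have h5 : 5 ≤ n := by
      have h1 := hp₀.two_le
      have h2 := hr'.two_le
      have h3 : p₀ ≠ r' := by rintro rfl; exact hr'π hp₀π
      have h4 : n ≠ 4 := by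
        intro h4
        rw [h4] at hnprime
        norm_num at hnprime
      omega
    exact HallUniv.not_isEPiGroup_prime π n p₀ hnprime h5 hp₀ hp₀n hnπ hp₀π huniq
      (h (Perm (Fin n)))
  · have hp'lt : p' < n := lt_of_le_of_ne hp'n (by rintro rfl; exact hnπ hp'π)
    have hq'lt : q' < n := lt_of_le_of_ne hq'n (by rintro rfl; exact hnπ hq'π)
    have hr'eq : r' = n := by
      by_contra hc
      exact hnot ⟨⟨p', q', hp', hq', hp'π, hq'π, hp'q', by omega, by omega⟩,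
        ⟨r', hr', hr'π, by omega⟩⟩
    have hnprime : n.Prime := hr'eq ▸ hr'
    have hlt : ∀ p₁ : ℕ, p₁.Prime → p₁ < n → p₁ ∈ π := by
      intro p₁ hp₁ hp₁n
      by_contra hc
      exact hnot ⟨⟨p', q', hp', hq', hp'π, hq'π, hp'q', by omega, by omega⟩,
        ⟨p₁, hp₁, hc, by omega⟩⟩
    have h5 : 5 ≤ n := by
      have h1 := hp'.two_le
      have h2 := hq'.two_le
      have h4 : n ≠ 4 := by
        intro h4
        rw [h4] at hnprime
        norm_num at hnprime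
      omega
    exact HallUniv.not_isEPiGroup_succ π n hnprime h5 hnπ hlt (h (Perm (Fin (n + 1))))

theorem main (π : Set ℕ) :
    ((∀ (G : Type) [Group G] [Finite G], Cfsg.IsEPiGroup π G) ↔
      ((∀ p q : ℕ, p.Prime → q.Prime → p ∈ π → q ∈ π → p = q) ∨ ∀ p : ℕ, p.Prime → p ∈ π)) ∧
    ((∀ (G : Type) [Group G] [Finite G], Cfsg.IsDPiGroup π G) ↔
      ((∀ p q : ℕ, p.Prime → q.Prime → p ∈ π → q ∈ π → p = q) ∨ ∀ p : ℕ, p.Prime → p ∈ π)) := by
  refine ⟨⟨cases_of_forall_EPi π, ?_⟩, ⟨?_, ?_⟩⟩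
  · rintro (hA | hB) G _ _
    · exact isEPiGroup_of_atMostOne π hA
    · exact isEPiGroup_of_all π hB
  · intro hD
    apply cases_of_forall_EPi π
    intro G _ _
    exact isEPiGroup_of_isDPiGroup π (hD G)
  · rintro (hA | hB) G _ _
    · exact isDPiGroup_of_atMostOne π hA
    · exact isDPiGroup_of_all π hB

end Cfsg.Agent.Helper3.HallUniv
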