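import Mathlib

set_option autoImplicit false
set_option linter.style.haveILetI false

/-! Involutions acting on a normal subgroup `H` whose commutators and squares lie in a central
subgroup `{1, z}` of order two: the "twisted centralizer" `W t = {h ∈ H | h^t ∈ h⟨z⟩}`. -/

namespace Cfsg.Agent.Helper3.InvAct

variable {G : Type*} [Group G]

/-- ambient data: `H` normal in `G`, `z ∈ H` a central involution of `G`, commutators and squares
of `H` in `{1, z}` -/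
structure Amb (H : Subgroup G) (z : G) : Prop where
  zz : z * z = 1
  z1 : z ≠ 1
  zH : z ∈ H
  zc : ∀ g : G, g * z = z * g
  comm : ∀ q ∈ H, ∀ r ∈ H, q * r = r * q ∨ q * r = r * q * z
  sq : ∀ q ∈ H, q * q = 1 ∨ q * q = z
  norm : ∀ g : G, ∀ h ∈ H, g * h * g⁻¹ ∈ H

namespace Amb

variable {H : Subgroup G} {z : G}

theorem zinv (a : Amb H z) : z⁻¹ = z := inv_eq_of_mul_eq_one_left a.zz

theorem zconj (a : Amb H z) (g : G) : g * z * g⁻¹ = z := by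
  rw [a.zc g]; group

theorem conj_cases (a : Amb H z) {q r : G} (hq : q ∈ H) (hr : r ∈ H) :
    q * r * q⁻¹ = r ∨ q * r * q⁻¹ = r * z := by
  rcases a.comm q hq r hr with h1 | h1
  · left; rw [h1]; group
  · right
    rw [h1]
    calc r * q * z * q⁻¹ = r * q * (z * q⁻¹) := by group
      _ = r * q * (q⁻¹ * z) := by rw [a.zc q⁻¹]
      _ = r * z := by group

/-- twisted centralizer -/
def W (a : Amb H z) (t : G) : Subgroup G where
  carrier := {h | h ∈ H ∧ (t * h * t⁻¹ = h ∨ t * h * t⁻¹ = h * z)}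
  one_mem' := ⟨H.one_mem, Or.inl (by group)⟩
  mul_mem' := by
    rintro h1 h2 ⟨hh1, e1⟩ ⟨hh2, e2⟩
    refine ⟨H.mul_mem hh1 hh2, ?_⟩
    have key : t * (h1 * h2) * t⁻¹ = (t * h1 * t⁻¹) * (t * h2 * t⁻¹) := by group
    rw [key]
    rcases e1 with e1 | e1 <;> rcases e2 with e2 | e2 <;> rw [e1, e2]
    · left; rfl
    · right; group
    · right
      calc h1 * z * h2 = h1 * (z * h2) := by group
        _ = h1 * (h2 * z) := by rw [a.zc h2]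
        _ = h1 * h2 * z := by group
    · left
      calc h1 * z * (h2 * z) = h1 * (z * h2) * z := by group
        _ = h1 * (h2 * z) * z := by rw [a.zc h2]
        _ = h1 * h2 * (z * z) := by group
        _ = h1 * h2 := by rw [a.zz, mul_one]
  inv_mem' := by
    rintro h ⟨hh, e⟩
    refine ⟨H.inv_mem hh, ?_⟩
    have key : t * h⁻¹ * t⁻¹ = (t * h * t⁻¹)⁻¹ := by group
    rw [key]
    rcases e with e | e <;> rw [e]
    · left; rfl
    · right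
      rw [mul_inv_rev, a.zinv]
      exact (a.zc h⁻¹).symm

theorem mem_W (a : Amb H z) {t h : G} :
    h ∈ a.W t ↔ h ∈ H ∧ (t * h * t⁻¹ = h ∨ t * h * t⁻¹ = h * z) := Iff.rfl

theorem W_le (a : Amb H z) (t : G) : a.W t ≤ H := fun _ hh => hh.1

theorem z_mem_W (a : Amb H z) (t : G) : z ∈ a.W t := ⟨a.zH, Or.inl (a.zconj t)⟩

/-- the centralizer of `t` in `H` lies in `W t` -/
theorem cent_le_W (a : Amb H z) (t : G) : H ⊓ Subgroup.centralizer {t} ≤ a.W t := by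
  rintro h ⟨hh, hc'⟩
  have hc : h * t = t * h := Subgroup.mem_centralizer_singleton_iff.mp hc'
  refine ⟨hh, Or.inl ?_⟩
  calc t * h * t⁻¹ = (h * t) * t⁻¹ := by rw [hc]
    _ = h := by group

theorem mem_cent_of_mem_W (a : Amb H z) {t h : G} (hh : h ∈ a.W t) (e : t * h * t⁻¹ = h) :
    h ∈ H ⊓ Subgroup.centralizer {t} := by
  refine ⟨hh.1, Subgroup.mem_centralizer_singleton_iff.mpr ?_⟩
  calc h * t = (t * h * t⁻¹) * t := by rw [e]
    _ = t * h := by group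

theorem W_conj (a : Amb H z) (x t : G) {h : G} (hh : h ∈ a.W t) :
    x * h * x⁻¹ ∈ a.W (x * t * x⁻¹) := by
  obtain ⟨hH, e⟩ := hh
  refine ⟨a.norm x h hH, ?_⟩
  have key : (x * t * x⁻¹) * (x * h * x⁻¹) * (x * t * x⁻¹)⁻¹ = x * (t * h * t⁻¹) * x⁻¹ := by group
  rw [key]
  rcases e with e | e <;> rw [e]
  · left; rfl
  · right
    calc x * (h * z) * x⁻¹ = x * h * (z * x⁻¹) := by group
      _ = x * h * (x⁻¹ * z) := by rw [a.zc x⁻¹]
      _ = x * h * x⁻¹ * z := by group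

theorem W_map_conj (a : Amb H z) (x t : G) :
    (a.W t).map (MulAut.conj x).toMonoidHom = a.W (x * t * x⁻¹) := by
  apply le_antisymm
  · rintro _ ⟨h, hh, rfl⟩
    exact a.W_conj x t hh
  · intro h hh
    refine ⟨x⁻¹ * h * x, ?_, by simp [MulAut.conj_apply]; group⟩
    have := a.W_conj x⁻¹ (x * t * x⁻¹) hh
    have e : x⁻¹ * (x * t * x⁻¹) * x⁻¹⁻¹ = t := by group
    rw [e, inv_inv] at this
    exact this

theorem card_W_conj [Finite G] (a : Amb H z) (x t : G) :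
    Nat.card ↥(a.W (x * t * x⁻¹)) = Nat.card ↥(a.W t) := by
  rw [← a.W_map_conj x t]
  exact Subgroup.card_map_of_injective (MulAut.conj x).injective

theorem W_inf_le (a : Amb H z) (t t' : G) : a.W t ⊓ a.W t' ≤ a.W (t * t') := by
  rintro u ⟨⟨hu, e⟩, ⟨-, e'⟩⟩
  refine ⟨hu, ?_⟩
  have key : (t * t') * u * (t * t')⁻¹ = t * (t' * u * t'⁻¹) * t⁻¹ := by group
  rw [key]
  rcases e' with e' | e' <;> rw [e']
  · exact e
  · have k2 : t * (u * z) * t⁻¹ = (t * u * t⁻¹) * (t * z * t⁻¹) := by group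
    rw [k2, a.zconj t]
    rcases e with e | e <;> rw [e]
    · right; rfl
    · left
      rw [mul_assoc, a.zz, mul_one]

/-- the square of `y` centralizes `W y` -/
theorem sq_comm_W (a : Amb H z) {y u : G} (hu : u ∈ a.W y) : Commute (y * y) u := by
  obtain ⟨-, e⟩ := hu
  have key : (y * y) * u * (y * y)⁻¹ = y * (y * u * y⁻¹) * y⁻¹ := by group
  have h1 : (y * y) * u * (y * y)⁻¹ = u := by
    rw [key]
    rcases e with e | e
    · rw [e, e]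
    · rw [e]
      have k2 : y * (u * z) * y⁻¹ = (y * u * y⁻¹) * (y * z * y⁻¹) := by group
      rw [k2, a.zconj y, e, mul_assoc, a.zz, mul_one]
  show (y * y) * u = u * (y * y)
  calc (y * y) * u = ((y * y) * u * (y * y)⁻¹) * (y * y) := by group
    _ = u * (y * y) := by rw [h1]

/-- `[h, t] ∈ W t` for an involution `t` -/
theorem c_mem_W (a : Amb H z) {t : G} (ht : t * t = 1) {h : G} (hh : h ∈ H) :
    h⁻¹ * (t * h * t⁻¹) ∈ a.W t := by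
  have htinv : t⁻¹ = t := inv_eq_of_mul_eq_one_left ht
  have hcH : h⁻¹ * (t * h * t⁻¹) ∈ H := H.mul_mem (H.inv_mem hh) (a.norm t h hh)
  refine ⟨hcH, ?_⟩
  have e1 : t * (h⁻¹ * (t * h * t⁻¹)) * t⁻¹ = (h⁻¹ * (t * h * t⁻¹))⁻¹ := by
    calc t * (h⁻¹ * (t * h * t⁻¹)) * t⁻¹ = (t * h * t⁻¹)⁻¹ * ((t * t) * h * (t * t)⁻¹) := by group
      _ = (t * h * t⁻¹)⁻¹ * h := by rw [ht]; group
      _ = (h⁻¹ * (t * h * t⁻¹))⁻¹ := by group
  rw [e1]
  rcases a.sq _ hcH with h2 | h2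
  · left
    exact inv_eq_of_mul_eq_one_left h2
  · right
    obtain ⟨c, hc⟩ : ∃ c : G, c = h⁻¹ * (t * h * t⁻¹) := ⟨_, rfl⟩
    rw [← hc] at h2 ⊢
    calc c⁻¹ = c⁻¹ * (c * c) * z⁻¹ := by rw [h2]; group
      _ = c * z := by rw [a.zinv]; group

/-- `[h, t]` centralizes `W t` -/
theorem c_comm_W (a : Amb H z) {t : G} {h w : G} (hh : h ∈ H) (hw : w ∈ a.W t) :
    Commute (h⁻¹ * (t * h * t⁻¹)) w := by
  obtain ⟨hwH, ew⟩ := hw
  have e2 : (t * w * t⁻¹) * (t * h * t⁻¹) * (t * w * t⁻¹)⁻¹ = t * (w * h * w⁻¹) * t⁻¹ := by group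
  have e3 : w * (t * h * t⁻¹) * w⁻¹ = t * (w * h * w⁻¹) * t⁻¹ := by
    rcases ew with e | e
    · rw [← e2, e]
    · rw [← e2, e]
      have : (w * z)⁻¹ = w⁻¹ * z := by
        rw [mul_inv_rev, a.zinv]; exact (a.zc w⁻¹).symm
      rw [this]
      calc w * (t * h * t⁻¹) * w⁻¹ = w * (t * h * t⁻¹) * w⁻¹ * (z * z) := by rw [a.zz, mul_one]
        _ = w * ((t * h * t⁻¹ * w⁻¹) * z) * z := by group
        _ = w * (z * (t * h * t⁻¹ * w⁻¹)) * z := by rw [a.zc (t * h * t⁻¹ * w⁻¹)]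
        _ = w * z * (t * h * t⁻¹) * (w⁻¹ * z) := by group
  have h1 : w * (h⁻¹ * (t * h * t⁻¹)) * w⁻¹ = h⁻¹ * (t * h * t⁻¹) := by
    have k : w * (h⁻¹ * (t * h * t⁻¹)) * w⁻¹ = (w * h * w⁻¹)⁻¹ * (w * (t * h * t⁻¹) * w⁻¹) := by
      group
    rw [k, e3]
    rcases a.conj_cases hwH hh with e | e <;> rw [e]
    have k2 : t * (h * z) * t⁻¹ = (t * h * t⁻¹) * (t * z * t⁻¹) := by group
    rw [k2, a.zconj t, mul_inv_rev, a.zinv]
    calc z * h⁻¹ * (t * h * t⁻¹ * z) = (z * (h⁻¹ * (t * h * t⁻¹))) * z := by group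
      _ = ((h⁻¹ * (t * h * t⁻¹)) * z) * z := by rw [a.zc (h⁻¹ * (t * h * t⁻¹))]
      _ = h⁻¹ * (t * h * t⁻¹) := by rw [mul_assoc, a.zz, mul_one]
  show (h⁻¹ * (t * h * t⁻¹)) * w = w * (h⁻¹ * (t * h * t⁻¹))
  calc (h⁻¹ * (t * h * t⁻¹)) * w = (w * (h⁻¹ * (t * h * t⁻¹)) * w⁻¹) * w := by rw [h1]
    _ = w * (h⁻¹ * (t * h * t⁻¹)) := by group

/-- `c(h₁ h₂) ∈ c(h₁) c(h₂) ⟨z⟩` -/
theorem c_mul (a : Amb H z) {t : G} {h1 h2 : G} (hh1 : h1 ∈ H) (hh2 : h2 ∈ H) :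
    (h1 * h2)⁻¹ * (t * (h1 * h2) * t⁻¹) = (h1⁻¹ * (t * h1 * t⁻¹)) * (h2⁻¹ * (t * h2 * t⁻¹)) ∨
    (h1 * h2)⁻¹ * (t * (h1 * h2) * t⁻¹) =
      (h1⁻¹ * (t * h1 * t⁻¹)) * (h2⁻¹ * (t * h2 * t⁻¹)) * z := by
  have hcH : h1⁻¹ * (t * h1 * t⁻¹) ∈ H := H.mul_mem (H.inv_mem hh1) (a.norm t h1 hh1)
  have key : (h1 * h2)⁻¹ * (t * (h1 * h2) * t⁻¹) =
      (h2⁻¹ * (h1⁻¹ * (t * h1 * t⁻¹)) * h2⁻¹⁻¹) * (h2⁻¹ * (t * h2 * t⁻¹)) := by group
  rw [key]
  rcases a.conj_cases (H.inv_mem hh2) hcH with e | e <;> rw [e]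
  · left; rfl
  · right
    calc h1⁻¹ * (t * h1 * t⁻¹) * z * (h2⁻¹ * (t * h2 * t⁻¹))
        = h1⁻¹ * (t * h1 * t⁻¹) * (z * (h2⁻¹ * (t * h2 * t⁻¹))) := by group
      _ = h1⁻¹ * (t * h1 * t⁻¹) * ((h2⁻¹ * (t * h2 * t⁻¹)) * z) := by
          rw [a.zc (h2⁻¹ * (t * h2 * t⁻¹))]
      _ = h1⁻¹ * (t * h1 * t⁻¹) * (h2⁻¹ * (t * h2 * t⁻¹)) * z := by group

end Amb

end Cfsg.Agent.Helper3.InvAct
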