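import Mathlib

set_option autoImplicit false

/-! # K2P chapter B: the pigeonhole lemma for the full-support case (helper3)

Among seven nonzero elements of a finite field four lie in one square class, and the product of four
elements of one square class is a square.  `B.PIGEON` gives the five indices in the shape of
helper1's `B.FOUR`. -/

namespace Cfsg.Agent.K2P

/-- the product of four nonzero elements with the same quadratic character is a square -/
theorem B.PIGEON.aux_sq {F : Type*} [Field F] [Fintype F] [DecidableEq F] {a b c d : F}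
    (ha : a ≠ 0) (hb : b ≠ 0) (hc : c ≠ 0) (hd : d ≠ 0)
    (hab : quadraticChar F b = quadraticChar F a) (hac : quadraticChar F c = quadraticChar F a)
    (had : quadraticChar F d = quadraticChar F a) : IsSquare (a * b * c * d) := by
  have hne : a * b * c * d ≠ 0 := mul_ne_zero (mul_ne_zero (mul_ne_zero ha hb) hc) hd
  rw [← quadraticChar_one_iff_isSquare hne, map_mul, map_mul, map_mul, hab, hac, had]
  have h2 : quadraticChar F a ^ 2 = 1 := quadraticChar_sq_one ha
  calc quadraticChar F a * quadraticChar F a * quadraticChar F a * quadraticChar F a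
      = (quadraticChar F a ^ 2) ^ 2 := by ring
    _ = 1 := by rw [h2]; norm_num

/-- from a finset of at least four indices and `5 ≤ t`: five distinct indices, the first four in it -/
theorem B.PIGEON.aux_pick {t : ℕ} (ht : 5 ≤ t) (T : Finset (Fin t)) (hT : 4 ≤ T.card) :
    ∃ c : Fin 5 → Fin t, Function.Injective c ∧ c 0 ∈ T ∧ c 1 ∈ T ∧ c 2 ∈ T ∧ c 3 ∈ T := by
  classical
  obtain ⟨T', hT'T, hT'c⟩ := Finset.exists_subset_card_eq hT
  have hcompl : (T'ᶜ).Nonempty := by
    rw [← Finset.card_pos, Finset.card_compl, Fintype.card_fin, hT'c]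
    omega
  obtain ⟨p, hp⟩ := hcompl
  rw [Finset.mem_compl] at hp
  set emb := T'.orderEmbOfFin hT'c with hemb
  have hmem : ∀ s : Fin 4, emb s ∈ T' := fun s => Finset.orderEmbOfFin_mem T' hT'c s
  refine ⟨fun s => if h : s.val < 4 then emb ⟨s.val, h⟩ else p, ?_, ?_, ?_, ?_, ?_⟩
  · intro x y hxy
    by_cases hx : x.val < 4 <;> by_cases hy : y.val < 4
    · simp only [hx, hy, dif_pos] at hxy
      have := emb.injective hxy
      ext
      simpa using congrArg Fin.val this
    · simp only [hx, hy, dif_pos, dif_neg, not_false_eq_true] at hxy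
      exact absurd (hxy ▸ hmem _) hp
    · simp only [hx, hy, dif_pos, dif_neg, not_false_eq_true] at hxy
      exact absurd (hxy.symm ▸ hmem _) hp
    · ext
      have := x.isLt
      have := y.isLt
      omega
  · exact hT'T (by simpa using hmem 0)
  · exact hT'T (by simpa using hmem 1)
  · exact hT'T (by simpa using hmem 2)
  · exact hT'T (by simpa using hmem 3)

/-- **B.PIGEON**: among `t ≥ 7` nonzero elements of a finite field there are four whose product is
a square (and a fifth index) -/
theorem B.PIGEON {F : Type*} [Field F] [Fintype F] {t : ℕ} (ht : 7 ≤ t) (n : Fin t → F)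
    (hn : ∀ i, n i ≠ 0) :
    ∃ c : Fin 5 → Fin t, Function.Injective c ∧
      IsSquare (n (c 0) * n (c 1) * n (c 2) * n (c 3)) := by
  classical
  set S : Finset (Fin t) := Finset.univ.filter (fun i => quadraticChar F (n i) = 1) with hS
  set N : Finset (Fin t) := Finset.univ.filter (fun i => ¬ quadraticChar F (n i) = 1) with hN
  have hcard : S.card + N.card = t := by
    rw [hS, hN, Finset.card_filter_add_card_filter_not]
    simp
  have hval : ∀ i ∈ N, quadraticChar F (n i) = -1 := by
    intro i hi
    rw [hN, Finset.mem_filter] at hi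
    rcases quadraticChar_dichotomy (hn i) with h | h
    · exact absurd h hi.2
    · exact h
  by_cases h4 : 4 ≤ S.card
  · obtain ⟨c, hc, h0, h1, h2, h3⟩ := B.PIGEON.aux_pick (by omega) S h4
    refine ⟨c, hc, ?_⟩
    have hv : ∀ i ∈ S, quadraticChar F (n i) = 1 := by
      intro i hi
      rw [hS, Finset.mem_filter] at hi
      exact hi.2
    exact B.PIGEON.aux_sq (hn _) (hn _) (hn _) (hn _)
      (by rw [hv _ h1, hv _ h0]) (by rw [hv _ h2, hv _ h0]) (by rw [hv _ h3, hv _ h0])
  · have h4' : 4 ≤ N.card := by omega
    obtain ⟨c, hc, h0, h1, h2, h3⟩ := B.PIGEON.aux_pick (by omega) N h4'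
    refine ⟨c, hc, ?_⟩
    exact B.PIGEON.aux_sq (hn _) (hn _) (hn _) (hn _)
      (by rw [hval _ h1, hval _ h0]) (by rw [hval _ h2, hval _ h0]) (by rw [hval _ h3, hval _ h0])

end Cfsg.Agent.K2P
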