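import Mathlib
import Cfsg.Agent.Helper18.K2P.Defs
import Cfsg.Agent.Helper18.K2P.QB
import Cfsg.Agent.Helper18.K2P.RACT
import Cfsg.Agent.Helper18.K2P.STAB
import Cfsg.Agent.Helper18.K2P.OMEGA
import Cfsg.Agent.Helper8.K2PG

set_option autoImplicit false
set_option linter.unusedSectionVars false
set_option linter.unusedVariables false

/-! # K2P chapter B support (helper3): a product of four block rotations of different blocks whose
parameters have a square product lies in `M` (`TOR.mem4`); block rotations of different blocks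
commute (`TOR.comm`). -/

namespace Cfsg.Agent.K2P

open Matrix Cfsg.Agent.OC2P Cfsg.Agent.Helper28.Sg Cfsg.Agent.Helper28.Spin
  Cfsg.Agent.Helper12.OrthGen Cfsg.Agent.K2M

variable {F : Type*} [Field F] {t : ℕ} {Q : QuadraticForm F (Fin t × Fin 2 → F)}
  {q : QuadraticForm F (Fin 2 → F)} {e f : Fin 2 → F}

/-- block rotations of different blocks commute -/
theorem TOR.comm (bp : BP Q q e f) {i j : Fin t} (hij : i ≠ j) {a b : F} (ha : a ≠ 0) (hb : b ≠ 0) :
    Commute (TOR.rho bp i a ha) (TOR.rho bp j b hb) := by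
  unfold TOR.rho
  have c (y y' : Fin 2 → F) (hy : Q (binj i y) ≠ 0) (hy' : Q (binj j y') ≠ 0) :
      Commute (reflO Q (binj i y) hy) (reflO Q (binj j y') hy') :=
    TOR.aux_comm hy hy' (QB.B_binj_binj_ne bp.toBM0 hij y y')
  exact ((c _ _ _ _).mul_right (c _ _ _ _)).mul_left ((c _ _ _ _).mul_right (c _ _ _ _))

/-- in a finite field the product of two nonzero nonsquares is a square -/
theorem TOR.mem4.aux_nsq [Fintype F] {x y : F} (hx : x ≠ 0) (hy : y ≠ 0) (hnx : ¬ IsSquare x)
    (hny : ¬ IsSquare y) : IsSquare (x * y) := by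
  classical
  have hxy : x * y ≠ 0 := mul_ne_zero hx hy
  have h1 : quadraticChar F x = -1 := by
    rcases quadraticChar_dichotomy hx with h | h
    · exact absurd ((quadraticChar_one_iff_isSquare hx).mp h) hnx
    · exact h
  have h2 : quadraticChar F y = -1 := by
    rcases quadraticChar_dichotomy hy with h | h
    · exact absurd ((quadraticChar_one_iff_isSquare hy).mp h) hny
    · exact h
  rw [← quadraticChar_one_iff_isSquare hxy, map_mul, h1, h2]
  norm_num

/-- cancelling a nonzero square factor -/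
theorem TOR.mem4.aux_div {x y : F} (hx : x ≠ 0) (hsx : IsSquare x) (hxy : IsSquare (x * y)) :
    IsSquare y := by
  have h : y = x * y / x := by field_simp
  rw [h]
  exact hxy.div hsx

/-- **TOR.mem4**: `ρ_i(a) ρ_j(b) ρ_k(c) ρ_l(d) ∈ M` when `a b c d` is a square -/
theorem TOR.mem4 [Fintype F] (bp : BP Q q e f) (ht : 3 ≤ t) {H : Subgroup (OG Q)} (hH : HasMO H)
    {i j k l : Fin t} (hij : i ≠ j) (hik : i ≠ k) (hil : i ≠ l) (hjk : j ≠ k) (hjl : j ≠ l)
    (hkl : k ≠ l) {a b c d : F} (ha : a ≠ 0) (hb : b ≠ 0) (hc : c ≠ 0) (hd : d ≠ 0)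
    (hsq : IsSquare (a * b * c * d)) :
    TOR.rho bp i a ha * TOR.rho bp j b hb * (TOR.rho bp k c hc * TOR.rho bp l d hd) ∈ H := by
  by_cases h1 : IsSquare (a * b)
  · -- `(ab)(cd)`
    have h2 : IsSquare (c * d) := by
      apply TOR.mem4.aux_div (mul_ne_zero ha hb) h1
      have : a * b * (c * d) = a * b * c * d := by ring
      rw [this]; exact hsq
    exact H.mul_mem (TOR.mem2 bp ht hH hij ha hb h1) (TOR.mem2 bp ht hH hkl hc hd h2)
  · by_cases h2 : IsSquare (a * c)
    · -- `(ac)(bd)`
      have h3 : IsSquare (b * d) := by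
        apply TOR.mem4.aux_div (mul_ne_zero ha hc) h2
        have : a * c * (b * d) = a * b * c * d := by ring
        rw [this]; exact hsq
      have hcomm := (TOR.comm bp hjk hb hc).eq
      have e1 : TOR.rho bp i a ha * TOR.rho bp j b hb * (TOR.rho bp k c hc * TOR.rho bp l d hd) =
          TOR.rho bp i a ha * TOR.rho bp k c hc * (TOR.rho bp j b hb * TOR.rho bp l d hd) := by
        rw [mul_assoc, ← mul_assoc (TOR.rho bp j b hb), hcomm]
        group
      rw [e1]
      exact H.mul_mem (TOR.mem2 bp ht hH hik ha hc h2) (TOR.mem2 bp ht hH hjl hb hd h3)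
    · -- `(bc)(ad)`
      have h3 : IsSquare (b * c) := by
        have h4 : IsSquare (a * b * (a * c)) :=
          TOR.mem4.aux_nsq (mul_ne_zero ha hb) (mul_ne_zero ha hc) h1 h2
        apply TOR.mem4.aux_div (mul_ne_zero ha ha) ⟨a, rfl⟩
        have : a * a * (b * c) = a * b * (a * c) := by ring
        rw [this]; exact h4
      have h5 : IsSquare (a * d) := by
        apply TOR.mem4.aux_div (mul_ne_zero hb hc) h3
        have : b * c * (a * d) = a * b * c * d := by ring
        rw [this]; exact hsq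
      have hc1 := (TOR.comm bp hij ha hb).eq
      have hc2 := (TOR.comm bp hik ha hc).eq
      have e1 : TOR.rho bp i a ha * TOR.rho bp j b hb * (TOR.rho bp k c hc * TOR.rho bp l d hd) =
          TOR.rho bp j b hb * TOR.rho bp k c hc * (TOR.rho bp i a ha * TOR.rho bp l d hd) := by
        rw [hc1, mul_assoc (TOR.rho bp j b hb), ← mul_assoc (TOR.rho bp i a ha), hc2]
        group
      rw [e1]
      exact H.mul_mem (TOR.mem2 bp ht hH hjk hb hc h3) (TOR.mem2 bp ht hH hil ha hd h5)

end Cfsg.Agent.K2P
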