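import Mathlib
import Cfsg.Agent.Helper3.KBalA

set_option autoImplicit false
set_option linter.unusedSectionVars false
set_option linter.style.haveILetI false

/-! # k-balanced signalizer functors: the main generation lemma (solvable case) -/

namespace Cfsg.Agent.Helper3.KBal

open Subgroup Cfsg

variable {G : Type*} [Group G] [Finite G]

/-- The index type of "hyperplanes" of `A` (subgroups of index at most `p`). -/
abbrev Hyp (p : ℕ) (A : Subgroup G) := {E : Subgroup G // E ≤ A ∧ E.relIndex A ≤ p}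

theorem card_lt_of_lt' {M S : Subgroup G} (h1 : M ≤ S) (h2 : M ≠ S) : Nat.card M < Nat.card S := by
  by_contra hcon
  push Not at hcon
  exact h2 (Subgroup.eq_of_le_of_card_ge h1 hcon)

/-- **Main lemma.**  Let `A` be elementary abelian and `L` a function on the hyperplanes of `A`
with `A`-invariant values such that `(L E₁ ⊔ L E₂) ⊓ C(E₃) ≤ L E₃`.  If `S` is an `A`-invariant
solvable `p'`-subgroup generated by the `S ⊓ L E`, then `S ⊓ C(E) ≤ L E` for all hyperplanes. -/
theorem main_lemma (p : ℕ) [hp : Fact p.Prime] (A : Subgroup G) (hA : IsElementaryAbelian p A)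
    (L : Subgroup G → Subgroup G)
    (hLinv : ∀ E : Hyp p A, A ≤ normalizer ((L E : Subgroup G) : Set G))
    (hLax : ∀ E1 E2 E3 : Hyp p A,
      (L E1 ⊔ L E2) ⊓ centralizer ((E3 : Subgroup G) : Set G) ≤ L E3) :
    ∀ (n : ℕ) (S : Subgroup G), Nat.card S = n → A ≤ normalizer (S : Set G) →
      Group.IsSolvable S → ¬ p ∣ Nat.card S →
      S ≤ ⨆ E : Hyp p A, S ⊓ L E →
      ∀ E : Hyp p A, S ⊓ centralizer ((E : Subgroup G) : Set G) ≤ L E := by
  intro n
  induction n using Nat.strong_induction_on with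
  | _ n ih =>
  intro S hn hAS hsol hpS hgen E
  by_cases hS : S = ⊥
  · subst hS
    rw [bot_inf_eq]; exact bot_le
  -- Step 1: choose `M`
  let P : Subgroup G → Prop := fun M =>
    M ≤ S ∧ M ≠ S ∧ A ≤ normalizer (M : Set G) ∧ ⁅S, S⁆ ≤ M
  have hP0 : P ⁅S, S⁆ :=
    ⟨commutator_le_self S, (commutator_lt_of_isSolvable hsol hS).ne,
      le_normalizer_commutator_self hAS, le_rfl⟩
  haveI : Nonempty {M : Subgroup G // P M} := ⟨⟨_, hP0⟩⟩
  obtain ⟨⟨M, hMP⟩, hMmax⟩ := Finite.exists_max (fun M : {M : Subgroup G // P M} => Nat.card M.1)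
  obtain ⟨hMS, hMne, hAM, hcM⟩ := hMP
  have hmax : ∀ X : Subgroup G, M ≤ X → X ≤ S → A ≤ normalizer (X : Set G) → X = M ∨ X = S := by
    intro X hMX hXS hAX
    by_cases hXS' : X = S
    · exact Or.inr hXS'
    · left
      have hPX : P X := ⟨hXS, hXS', hAX, hcM.trans hMX⟩
      have := hMmax ⟨X, hPX⟩
      exact (Subgroup.eq_of_le_of_card_ge hMX this).symm
  have hSM : S ≤ normalizer (M : Set G) := le_normalizer_of_commutator_le hcM hMS
  have hAX : ∀ B : Hyp p A, A ≤ normalizer ((S ⊓ L B : Subgroup G) : Set G) :=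
    fun B => le_normalizer_inf hAS (hLinv B)
  -- Step 2: some `S ⊓ L E1` covers `S` modulo `M`
  obtain ⟨E1, hE1⟩ : ∃ E1 : Hyp p A, (S ⊓ L E1) ⊔ M = S := by
    by_contra hcon
    push Not at hcon
    have h1 : ∀ B : Hyp p A, S ⊓ L B ≤ M := by
      intro B
      rcases hmax ((S ⊓ L B) ⊔ M) le_sup_right (sup_le inf_le_left hMS)
        (le_normalizer_sup (hAX B) hAM) with h | h
      · rw [← h]; exact le_sup_left
      · exact absurd h (hcon B)
    exact hMne (le_antisymm hMS (hgen.trans (iSup_le h1)))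
  set X1 : Subgroup G := S ⊓ L E1 with hX1
  have hX1S : X1 ≤ S := inf_le_left
  have hX1M : X1 ≤ normalizer (M : Set G) := hX1S.trans hSM
  -- Step 3
  set Mstar : Subgroup G := ⨆ B : Hyp p A, M ⊓ L B with hMstar
  have hMstarM : Mstar ≤ M := iSup_le fun _ => inf_le_left
  have h3a : ∀ B : Hyp p A, M ⊓ (X1 ⊔ (S ⊓ L B)) ≤ Mstar := by
    intro B
    set W : Subgroup G := M ⊓ (X1 ⊔ (S ⊓ L B)) with hW
    have hAW : A ≤ normalizer (W : Set G) :=
      le_normalizer_inf hAM (le_normalizer_sup (hAX E1) (hAX B))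
    have hWS : W ≤ S := inf_le_left.trans hMS
    have hpW : ¬ p ∣ Nat.card W := fun h => hpS (h.trans (card_dvd_of_le hWS))
    have hgenW := Cfsg.Agent.Helper7.le_iSup_inf_centralizer_hyperplane p _ A W rfl hA hpW hAW
    refine hgenW.trans (iSup_le fun C => ?_)
    refine le_trans ?_ (le_iSup (fun B : Hyp p A => M ⊓ L B) C)
    refine le_inf (inf_le_left.trans inf_le_left) ?_
    refine le_trans ?_ (hLax E1 B C)
    refine le_inf ?_ inf_le_right
    exact inf_le_left.trans (inf_le_right.trans (sup_le_sup inf_le_right inf_le_right))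
  have h3b : X1 ≤ normalizer (Mstar : Set G) := by
    apply Cfsg.Agent.Helper7.le_normalizer_of_forall_conj_mem
    intro y hy u hu
    have h1 : Mstar ≤ Mstar.comap (MulAut.conj y).toMonoidHom := by
      apply iSup_le
      intro B v hv
      rw [mem_comap]
      apply h3a B
      refine ⟨(mem_normalizer_iff.1 (hX1M hy) v).1 hv.1, ?_⟩
      have hyY : y ∈ X1 ⊔ (S ⊓ L B) := mem_sup_left hy
      have hvY : v ∈ X1 ⊔ (S ⊓ L B) := mem_sup_right ⟨hMS hv.1, hv.2⟩
      show y * v * y⁻¹ ∈ X1 ⊔ (S ⊓ L B)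
      exact Subgroup.mul_mem _ (Subgroup.mul_mem _ hyY hvY) (Subgroup.inv_mem _ hyY)
    exact h1 hu
  have h3c : S ≤ X1 ⊔ Mstar := by
    refine hgen.trans (iSup_le fun B => ?_)
    intro u hu
    have huS : u ∈ X1 ⊔ M := by rw [hE1]; exact hu.1
    obtain ⟨y, hy, m, hm, rfl⟩ := exists_mul_of_mem_sup hX1M huS
    have hmY : m ∈ M ⊓ (X1 ⊔ (S ⊓ L B)) := by
      refine ⟨hm, ?_⟩
      have e : m = y⁻¹ * (y * m) := by group
      rw [e]
      exact Subgroup.mul_mem _ (Subgroup.inv_mem _ (mem_sup_left hy)) (mem_sup_right hu)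
    exact mul_mem (mem_sup_left hy) (mem_sup_right (h3a B hmY))
  have h3d : M ≤ Mstar := by
    intro m0 hm0
    obtain ⟨y, hy, m', hm', rfl⟩ := exists_mul_of_mem_sup h3b (h3c (hMS hm0))
    have hyM : y ∈ M := by
      have e : y = (y * m') * m'⁻¹ := by group
      rw [e]
      exact mul_mem hm0 (inv_mem (hMstarM hm'))
    have hyMs : y ∈ Mstar :=
      (le_iSup (fun B : Hyp p A => M ⊓ L B) E1) ⟨hyM, hy.2⟩
    exact mul_mem hyMs hm'
  -- Step 4: induction hypothesis for `M`
  have hcardM : Nat.card M < n := hn ▸ card_lt_of_lt' hMS hMne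
  haveI := hsol
  have hsolM : Group.IsSolvable M :=
    Group.isSolvable_of_isSolvable_injective (f := Subgroup.inclusion hMS)
      (Subgroup.inclusion_injective hMS)
  have hpM : ¬ p ∣ Nat.card M := fun h => hpS (h.trans (card_dvd_of_le hMS))
  have hIH := ih (Nat.card M) hcardM M rfl hAM hsolM hpM h3d
  -- Step 5
  intro k hk
  have hEA : (E : Subgroup G) ≤ A := E.2.1
  have hEp : IsPGroup p (E : Subgroup G) :=
    (Cfsg.Agent.Helper7.IsElementaryAbelian.isPGroup hA).to_le hEA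
  have hcop : (Nat.card (E : Subgroup G)).Coprime (Nat.card S) := by
    obtain ⟨j, hj⟩ := hEp.exists_card_eq
    rw [hj]
    exact Nat.Coprime.pow_left _ ((Nat.Prime.coprime_iff_not_dvd hp.out).2 hpS)
  have hXY : ∀ s ∈ S, ∃ x ∈ X1, ∃ y ∈ M, s = x * y := by
    intro s hs
    have : s ∈ X1 ⊔ M := by rw [hE1]; exact hs
    exact exists_mul_of_mem_sup hX1M this
  obtain ⟨x, hx, y, hy, rfl⟩ := Cfsg.Agent.Lead.coprime_centralizer_product (E : Subgroup G) S
    hcop (Or.inr hsol) X1 M hX1S (hEA.trans (hAX E1)) (hEA.trans hAM) hXY k hk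
  have hxL : x ∈ L E := hLax E1 E1 E ⟨mem_sup_left hx.1.2, hx.2⟩
  have hyL : y ∈ L E := hIH E hy
  exact mul_mem hxL hyL

end Cfsg.Agent.Helper3.KBal
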