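import Mathlib
import Cfsg.Prelude.Def_Local
import Cfsg.Agent.Helper3.KBalB
import Cfsg.Agent.Helper7.Signalizer2

set_option autoImplicit false
set_option linter.unusedSectionVars false
set_option linter.style.haveILetI false

/-! # The k-balanced functor is a signalizer functor (solvable p'-cores) = S1299 -/

namespace Cfsg.Agent.Helper3.KBal

open Subgroup Cfsg

variable {G : Type*} [Group G] [Finite G]

theorem signalizerDelta_antitone (p : ℕ) {X Y : Subgroup G} (h : X ≤ Y) :
    signalizerDelta p Y ≤ signalizerDelta p X := by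
  unfold signalizerDelta
  apply le_iInf
  rintro ⟨a, ha, ha1⟩
  exact iInf_le (fun a : {a : G // a ∈ Y ∧ a ≠ 1} => centralizerPPrimeCore p (a : G))
    ⟨a, h ha, ha1⟩

theorem signalizerDelta_le (p : ℕ) {X : Subgroup G} {x : G} (hx : x ∈ X) (hx1 : x ≠ 1) :
    signalizerDelta p X ≤ centralizerPPrimeCore p x :=
  iInf_le (fun a : {a : G // a ∈ X ∧ a ≠ 1} => centralizerPPrimeCore p (a : G)) ⟨x, hx, hx1⟩

theorem le_normalizer_centralizerPPrimeCore (p : ℕ) {A : Subgroup G}
    (hA : IsElementaryAbelian p A) {a : G} (ha : a ∈ A) :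
    A ≤ normalizer ((centralizerPPrimeCore p a : Subgroup G) : Set G) := by
  refine le_trans ?_
    (Cfsg.Agent.Helper7.normalizer_zpowers_le_normalizer_centralizerPPrimeCore p a)
  refine le_trans ?_ (Subgroup.centralizer_le_normalizer ((zpowers a : Subgroup G) : Set G))
  rw [Cfsg.Agent.Helper7.centralizer_zpowers_eq]
  exact Cfsg.Agent.Helper7.le_centralizer_of_mem_elementaryAbelian hA ha

theorem le_normalizer_signalizerDelta (p : ℕ) {A X : Subgroup G}
    (hA : IsElementaryAbelian p A) (hX : X ≤ A) :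
    A ≤ normalizer ((signalizerDelta p X : Subgroup G) : Set G) := by
  unfold signalizerDelta
  apply le_normalizer_iInf
  rintro ⟨a, ha, _⟩
  exact le_normalizer_centralizerPPrimeCore p hA (hX ha)

theorem le_normalizer_centralizer_singleton (p : ℕ) {A : Subgroup G}
    (hA : IsElementaryAbelian p A) {a : G} (ha : a ∈ A) :
    A ≤ normalizer ((centralizer ({a} : Set G) : Subgroup G) : Set G) :=
  (Cfsg.Agent.Helper7.le_centralizer_of_mem_elementaryAbelian hA ha).trans le_normalizer

theorem exists_le_card_eq (p k : ℕ) [hp : Fact p.Prime] {A X : Subgroup G}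
    (hA : IsElementaryAbelian p A) (hXA : X ≤ A) (hXk : p ^ k ≤ Nat.card X) :
    ∃ D : Subgroup G, D ≤ X ∧ Nat.card D = p ^ k := by
  have hXp : IsPGroup p X := (Cfsg.Agent.Helper7.IsElementaryAbelian.isPGroup hA).to_le hXA
  obtain ⟨m, hm⟩ := hXp.exists_card_eq
  have hkm : k ≤ m := by
    rw [hm] at hXk
    exact (Nat.pow_le_pow_iff_right hp.out.one_lt).1 hXk
  have hdvd : p ^ k ∣ Nat.card X := hm ▸ pow_dvd_pow p hkm
  obtain ⟨K, hK⟩ := Sylow.exists_subgroup_card_pow_prime p hdvd
  refine ⟨K.map X.subtype, map_subtype_le K, ?_⟩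
  rw [← hK]
  exact Nat.card_congr (K.equivMapOfInjective X.subtype X.subtype_injective).toEquiv.symm

/-- `k`-balance, in the form used: `Δ(X) ∩ C(e) ≤ O_{p'}(C(e))` for `X ≤ A` of order `≥ p^k`. -/
theorem delta_inf_centralizer_le (p k : ℕ) [hp : Fact p.Prime] (hbal : IsKBalanced p k G)
    {A : Subgroup G} (hA : IsElementaryAbelian p A) {X : Subgroup G} (hXA : X ≤ A)
    (hXk : p ^ k ≤ Nat.card X) {e : G} (he : e ∈ A) (he1 : e ≠ 1) :
    signalizerDelta p X ⊓ centralizer {e} ≤ centralizerPPrimeCore p e := by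
  obtain ⟨D, hDX, hDk⟩ := exists_le_card_eq p k hA hXA hXk
  have hDA : D ≤ A := hDX.trans hXA
  have hD : IsElementaryAbelian p D := Cfsg.Agent.Helper7.IsElementaryAbelian.mono hA hDA
  have hord : orderOf e = p :=
    Cfsg.Agent.Helper7.orderOf_eq_prime_of_pow_eq_one (hA.2 e he) he1
  have hcomm : ∀ a ∈ D, a * e = e * a := fun a ha =>
    Cfsg.Agent.Helper7.IsElementaryAbelian.commute hA (hDA ha) he
  exact (inf_le_inf_right _ (signalizerDelta_antitone p hDX)).trans (hbal D hD hDk e hord hcomm)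

theorem card_hyp (p k : ℕ) [hp : Fact p.Prime] {A : Subgroup G}
    (hAk : p ^ (k + 2) ≤ Nat.card A) (E : Hyp p A) : p ^ (k + 1) ≤ Nat.card (E : Subgroup G) := by
  have h := Cfsg.Agent.Helper7.card_mul_relIndex_of_le E.2.1
  have h2 : Nat.card A ≤ Nat.card (E : Subgroup G) * p := by
    rw [← h]; exact Nat.mul_le_mul_left _ E.2.2
  have h3 : p ^ (k + 1) * p ≤ Nat.card (E : Subgroup G) * p := by
    rw [← pow_succ]; exact hAk.trans h2
  exact Nat.le_of_mul_le_mul_right h3 hp.out.pos

theorem card_hyp_inf (p k : ℕ) [hp : Fact p.Prime] {A : Subgroup G}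
    (hAk : p ^ (k + 2) ≤ Nat.card A) (E1 E2 : Hyp p A) :
    p ^ k ≤ Nat.card ((E1 : Subgroup G) ⊓ (E2 : Subgroup G) : Subgroup G) := by
  have hle : (E1 : Subgroup G) ⊓ (E2 : Subgroup G) ≤ A := inf_le_left.trans E1.2.1
  have h := Cfsg.Agent.Helper7.card_mul_relIndex_of_le hle
  have hr : ((E1 : Subgroup G) ⊓ (E2 : Subgroup G)).relIndex A ≤ p * p :=
    (relIndex_inf_le).trans (Nat.mul_le_mul E1.2.2 E2.2.2)
  have h2 : Nat.card A ≤ Nat.card ((E1 : Subgroup G) ⊓ (E2 : Subgroup G) : Subgroup G) * (p * p) := by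
    rw [← h]; exact Nat.mul_le_mul_left _ hr
  have h3 : p ^ k * (p * p) ≤
      Nat.card ((E1 : Subgroup G) ⊓ (E2 : Subgroup G) : Subgroup G) * (p * p) := by
    have : p ^ k * (p * p) = p ^ (k + 2) := by ring
    rw [this]; exact hAk.trans h2
  exact Nat.le_of_mul_le_mul_right h3 (Nat.mul_pos hp.out.pos hp.out.pos)

/-- **S1299.** -/
theorem main (p k : ℕ) [hp : Fact p.Prime] (hbal : IsKBalanced p k G)
    (A : Subgroup G) (hA : IsElementaryAbelian p A) (hAk : p ^ (k + 2) ≤ Nat.card ↥A)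
    (hsolv : ∀ a ∈ A, a ≠ 1 → Group.IsSolvable ↥(centralizerPPrimeCore p a)) :
    IsSignalizerFunctor p A (fun a => ⨆ D : {D : Subgroup G // D ≤ A ∧ Nat.card ↥D = p ^ k},
      signalizerDelta p (D : Subgroup G) ⊓ centralizer {a}) := by
  set θ : G → Subgroup G := fun a => ⨆ D : {D : Subgroup G // D ≤ A ∧ Nat.card ↥D = p ^ k},
      signalizerDelta p (D : Subgroup G) ⊓ centralizer {a} with hθ
  -- basic facts
  have hθK : ∀ a ∈ A, a ≠ 1 → θ a ≤ centralizerPPrimeCore p a := by
    intro a ha ha1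
    refine iSup_le fun D => ?_
    exact delta_inf_centralizer_le p k hbal hA D.2.1 D.2.2.ge ha ha1
  have hgenA : ∀ a ∈ A, ∀ D : {D : Subgroup G // D ≤ A ∧ Nat.card ↥D = p ^ k},
      A ≤ normalizer ((signalizerDelta p (D : Subgroup G) ⊓ centralizer {a} : Subgroup G) : Set G) :=
    fun a ha D => le_normalizer_inf (le_normalizer_signalizerDelta p hA D.2.1)
      (le_normalizer_centralizer_singleton p hA ha)
  have hθA : ∀ a ∈ A, A ≤ normalizer ((θ a : Subgroup G) : Set G) :=
    fun a ha => le_normalizer_iSup A _ (hgenA a ha)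
  have hθp : ∀ a ∈ A, a ≠ 1 → ¬ p ∣ Nat.card (θ a) := by
    intro a ha ha1 hdvd
    have h1 := hdvd.trans (card_dvd_of_le (hθK a ha ha1))
    have h2 := Cfsg.Agent.Helper7.card_centralizerPPrimeCore_coprime (G := G) p a
    exact (Nat.Prime.coprime_iff_not_dvd hp.out).1 h2.symm h1
  have hθsol : ∀ a ∈ A, a ≠ 1 → Group.IsSolvable (θ a) := by
    intro a ha ha1
    haveI := hsolv a ha ha1
    exact Group.isSolvable_of_isSolvable_injective (f := Subgroup.inclusion (hθK a ha ha1))
      (Subgroup.inclusion_injective _)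
  -- the function `L` and its axioms
  have hLinv : ∀ E : Hyp p A, A ≤ normalizer ((signalizerDelta p (E : Subgroup G) : Subgroup G) : Set G) :=
    fun E => le_normalizer_signalizerDelta p hA E.2.1
  have hΔC : ∀ (X : Subgroup G), X ≤ A → p ^ k ≤ Nat.card X → ∀ B : Hyp p A,
      signalizerDelta p X ⊓ centralizer ((B : Subgroup G) : Set G) ≤
        signalizerDelta p (B : Subgroup G) := by
    intro X hXA hXk B
    unfold signalizerDelta
    apply le_iInf
    rintro ⟨e, he, he1⟩
    refine le_trans (inf_le_inf_left _ ?_)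
      (delta_inf_centralizer_le p k hbal hA hXA hXk (B.2.1 he) he1)
    exact centralizer_le (Set.singleton_subset_iff.2 he)
  have hLax : ∀ E1 E2 E3 : Hyp p A,
      (signalizerDelta p (E1 : Subgroup G) ⊔ signalizerDelta p (E2 : Subgroup G)) ⊓
        centralizer ((E3 : Subgroup G) : Set G) ≤ signalizerDelta p (E3 : Subgroup G) := by
    intro E1 E2 E3
    refine le_trans (inf_le_inf_right _ ?_)
      (hΔC ((E1 : Subgroup G) ⊓ (E2 : Subgroup G)) (inf_le_left.trans E1.2.1)
        (card_hyp_inf p k hAk E1 E2) E3)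
    exact sup_le (signalizerDelta_antitone p inf_le_left) (signalizerDelta_antitone p inf_le_right)
  -- goodness of θ a
  have hgood : ∀ a ∈ A, a ≠ 1 → ∀ E : Hyp p A,
      θ a ⊓ centralizer ((E : Subgroup G) : Set G) ≤ signalizerDelta p (E : Subgroup G) := by
    intro a ha ha1
    refine main_lemma p A hA (fun E => signalizerDelta p E) hLinv hLax _ (θ a) rfl (hθA a ha)
      (hθsol a ha ha1) (hθp a ha ha1) ?_
    refine iSup_le fun D => ?_
    set X : Subgroup G := signalizerDelta p (D : Subgroup G) ⊓ centralizer {a} with hX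
    have hXθ : X ≤ θ a :=
      le_iSup (fun D : {D : Subgroup G // D ≤ A ∧ Nat.card ↥D = p ^ k} =>
        signalizerDelta p (D : Subgroup G) ⊓ centralizer {a}) D
    have hpX : ¬ p ∣ Nat.card X := fun h => hθp a ha ha1 (h.trans (card_dvd_of_le hXθ))
    have hgenX := Cfsg.Agent.Helper7.le_iSup_inf_centralizer_hyperplane p _ A X rfl hA hpX
      (hgenA a ha D)
    refine hgenX.trans (iSup_le fun B => ?_)
    refine le_trans ?_ (le_iSup (fun E : Hyp p A => θ a ⊓ signalizerDelta p (E : Subgroup G)) B)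
    refine le_inf (inf_le_left.trans hXθ) ?_
    exact le_trans (inf_le_inf_right _ inf_le_left) (hΔC D D.2.1 D.2.2.ge B)
  refine ⟨?_, ?_, ?_, ?_⟩
  · intro a _ _
    exact iSup_le fun _ => inf_le_right
  · intro a ha ha1
    exact hθp a ha ha1
  · intro a ha _ b hb x hx
    exact (mem_normalizer_iff.1 (hθA a ha hb) x).1 hx
  · intro a ha ha1 b hb hb1
    set Y : Subgroup G := θ a ⊓ centralizer {b} with hY
    have hAY : A ≤ normalizer (Y : Set G) :=
      le_normalizer_inf (hθA a ha) (le_normalizer_centralizer_singleton p hA hb)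
    have hpY : ¬ p ∣ Nat.card Y := fun h => hθp a ha ha1 (h.trans (card_dvd_of_le inf_le_left))
    have hgenY := Cfsg.Agent.Helper7.le_iSup_inf_centralizer_hyperplane p _ A Y rfl hA hpY hAY
    refine hgenY.trans (iSup_le fun B => ?_)
    intro x hx
    have hxΔ : x ∈ signalizerDelta p (B : Subgroup G) := hgood a ha ha1 B ⟨hx.1.1, hx.2⟩
    obtain ⟨D, hDB, hDk⟩ := exists_le_card_eq p k hA B.2.1
      ((Nat.pow_le_pow_right hp.out.pos (Nat.le_succ k)).trans (card_hyp p k hAk B))
    have hxD : x ∈ signalizerDelta p D ⊓ centralizer {b} :=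
      ⟨signalizerDelta_antitone p hDB hxΔ, hx.1.2⟩
    exact (le_iSup (fun D : {D : Subgroup G // D ≤ A ∧ Nat.card ↥D = p ^ k} =>
        signalizerDelta p (D : Subgroup G) ⊓ centralizer {b}) ⟨D, hDB.trans B.2.1, hDk⟩) hxD

end Cfsg.Agent.Helper3.KBal
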