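import Mathlib

set_option autoImplicit false

open Matrix

namespace Cfsg.Agent.Helper3.LCh

/-- Gram matrix of the frame. -/
private lemma gram_eq (B : Matrix (Fin 24) (Fin 24) ℤ) (e : Fin 24 → (Fin 24 → ℤ))
    (hn : ∀ i, e i ⬝ᵥ (B *ᵥ e i) = 8) (ho : ∀ i j, i ≠ j → e i ⬝ᵥ (B *ᵥ e j) = 0) :
    (Matrix.of e) * B * (Matrix.of e)ᵀ = (8 : ℤ) • (1 : Matrix (Fin 24) (Fin 24) ℤ) := by
  ext i j
  have h1 : ((Matrix.of e) * B * (Matrix.of e)ᵀ) i j = e i ⬝ᵥ (B *ᵥ e j) := by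
    simp only [Matrix.mul_apply, Matrix.of_apply, Matrix.transpose_apply, dotProduct, Matrix.mulVec,
      Finset.sum_mul, Finset.mul_sum]
    rw [Finset.sum_comm]
    refine Finset.sum_congr rfl fun k _ => Finset.sum_congr rfl fun l _ => by ring
  rw [h1]
  by_cases hij : i = j
  · subst hij; simp [hn]
  · simp [ho i j hij, Matrix.one_apply_ne hij]

private lemma map_smul_one (k : ℤ) :
    ((k • (1 : Matrix (Fin 24) (Fin 24) ℤ)).map (Int.castRingHom ℚ)) =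
      (k : ℚ) • (1 : Matrix (Fin 24) (Fin 24) ℚ) := by
  ext i j
  by_cases hij : i = j
  · subst hij
    rw [Matrix.map_apply, Matrix.smul_apply, Matrix.smul_apply, Matrix.one_apply_eq,
      Matrix.one_apply_eq]
    simp
  · rw [Matrix.map_apply, Matrix.smul_apply, Matrix.smul_apply, Matrix.one_apply_ne hij,
      Matrix.one_apply_ne hij]
    simp

private lemma gram_comm (B : Matrix (Fin 24) (Fin 24) ℤ) (e : Fin 24 → (Fin 24 → ℤ))
    (hn : ∀ i, e i ⬝ᵥ (B *ᵥ e i) = 8) (ho : ∀ i j, i ≠ j → e i ⬝ᵥ (B *ᵥ e j) = 0) :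
    B * (Matrix.of e)ᵀ * (Matrix.of e) = (8 : ℤ) • (1 : Matrix (Fin 24) (Fin 24) ℤ) := by
  have hg := gram_eq B e hn ho
  set M : Matrix (Fin 24) (Fin 24) ℤ := Matrix.of e with hM
  -- pass to ℚ
  have hgq : (M.map (Int.castRingHom ℚ)) * ((B.map (Int.castRingHom ℚ)) * (M.map (Int.castRingHom ℚ))ᵀ)
      = (8 : ℚ) • (1 : Matrix (Fin 24) (Fin 24) ℚ) := by
    have := congrArg (fun X : Matrix (Fin 24) (Fin 24) ℤ => X.map (Int.castRingHom ℚ)) hg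
    simp only [Matrix.map_mul, Matrix.transpose_map] at this
    rw [← Matrix.mul_assoc, this, map_smul_one]
    norm_num
  have h1 : (M.map (Int.castRingHom ℚ)) *
      ((1 / 8 : ℚ) • ((B.map (Int.castRingHom ℚ)) * (M.map (Int.castRingHom ℚ))ᵀ)) = 1 := by
    rw [Matrix.mul_smul, hgq, smul_smul]; norm_num
  have h2 : ((1 / 8 : ℚ) • ((B.map (Int.castRingHom ℚ)) * (M.map (Int.castRingHom ℚ))ᵀ)) *
      (M.map (Int.castRingHom ℚ)) = 1 := mul_eq_one_comm.mp h1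
  have h3 : (B.map (Int.castRingHom ℚ)) * (M.map (Int.castRingHom ℚ))ᵀ * (M.map (Int.castRingHom ℚ))
      = (8 : ℚ) • (1 : Matrix (Fin 24) (Fin 24) ℚ) := by
    rw [Matrix.smul_mul] at h2
    have := congrArg (fun X : Matrix (Fin 24) (Fin 24) ℚ => (8 : ℚ) • X) h2
    simp only [smul_smul] at this
    norm_num at this
    exact this
  -- cast back
  have hinj : Function.Injective
      (fun X : Matrix (Fin 24) (Fin 24) ℤ => X.map (Int.castRingHom ℚ)) := by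
    intro X Y hXY
    ext i j
    have := congrFun (congrFun hXY i) j
    simpa using this
  apply hinj
  simp only [Matrix.map_mul, Matrix.transpose_map]
  rw [h3, map_smul_one]
  norm_num

/-- Parseval for an orthogonal frame of norm-8 vectors. -/
theorem parseval (B : Matrix (Fin 24) (Fin 24) ℤ) (hsymm : B.IsSymm) (e : Fin 24 → (Fin 24 → ℤ))
    (hn : ∀ i, e i ⬝ᵥ (B *ᵥ e i) = 8)
    (ho : ∀ i j, i ≠ j → e i ⬝ᵥ (B *ᵥ e j) = 0) (x y : Fin 24 → ℤ) :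
    ∑ i, (x ⬝ᵥ (B *ᵥ e i)) * (y ⬝ᵥ (B *ᵥ e i)) = 8 * (x ⬝ᵥ (B *ᵥ y)) := by
  have hc := gram_comm B e hn ho
  set M : Matrix (Fin 24) (Fin 24) ℤ := Matrix.of e with hM
  -- z ⬝ᵥ (B *ᵥ e i) = ((z ᵥ* B) ᵥ* Mᵀ) i
  have hx : ∀ (z : Fin 24 → ℤ) (i : Fin 24), z ⬝ᵥ (B *ᵥ e i) = ((z ᵥ* B) ᵥ* Mᵀ) i := by
    intro z i
    rw [Matrix.dotProduct_mulVec]
    simp [hM, Matrix.vecMul, dotProduct, Matrix.transpose_apply, Matrix.of_apply]
  -- y ⬝ᵥ (B *ᵥ e i) = (M *ᵥ (B *ᵥ y)) i   (B symmetric)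
  have hy : ∀ (z : Fin 24 → ℤ) (i : Fin 24), z ⬝ᵥ (B *ᵥ e i) = (M *ᵥ (B *ᵥ z)) i := by
    intro z i
    have h1 : (M *ᵥ (B *ᵥ z)) i = e i ⬝ᵥ (B *ᵥ z) := by
      simp [hM, Matrix.mulVec, dotProduct, Matrix.of_apply]
    rw [h1]
    -- z ⬝ B e_i = e_i ⬝ B z by symmetry
    simp only [dotProduct, Matrix.mulVec, Finset.mul_sum]
    rw [Finset.sum_comm]
    refine Finset.sum_congr rfl fun k _ => Finset.sum_congr rfl fun l _ => ?_
    have : B l k = B k l := by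
      have := congrFun (congrFun hsymm.eq k) l
      simpa [Matrix.transpose_apply] using this
    rw [this]; ring
  have hsum : ∑ i, (x ⬝ᵥ (B *ᵥ e i)) * (y ⬝ᵥ (B *ᵥ e i))
      = ((x ᵥ* B) ᵥ* Mᵀ) ⬝ᵥ (M *ᵥ (B *ᵥ y)) := by
    show _ = ∑ i, ((x ᵥ* B) ᵥ* Mᵀ) i * (M *ᵥ (B *ᵥ y)) i
    refine Finset.sum_congr rfl fun i _ => ?_
    rw [hx x i, hy y i]
  rw [hsum, Matrix.dotProduct_mulVec, Matrix.vecMul_vecMul, Matrix.vecMul_vecMul,
    ← Matrix.mul_assoc, hc, ← Matrix.dotProduct_mulVec]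
  rw [Matrix.smul_mulVec, Matrix.one_mulVec, dotProduct_smul, smul_eq_mul]

end Cfsg.Agent.Helper3.LCh
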