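import Cfsg.Agent.Helper3.LChQ0b
import Cfsg.Agent.Helper27.LChDefs

set_option autoImplicit false

open Cfsg Matrix
open Cfsg.Agent.Helper27.LCh

namespace Cfsg.Agent.Helper3.LCh

/-- the coordinate map `x ↦ (B(x, e_i))_i` -/
noncomputable def coordHom (B : Matrix (Fin 24) (Fin 24) ℤ) (e : Fin 24 → (Fin 24 → ℤ)) :
    (Fin 24 → ℤ) →+ (Fin 24 → ℤ) where
  toFun x := fun i => x ⬝ᵥ (B *ᵥ e i)
  map_zero' := by funext i; simp
  map_add' x y := by funext i; simp [add_dotProduct]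

lemma coordHom_apply (B : Matrix (Fin 24) (Fin 24) ℤ) (e : Fin 24 → (Fin 24 → ℤ))
    (x : Fin 24 → ℤ) (i : Fin 24) : coordHom B e x i = x ⬝ᵥ (B *ᵥ e i) := rfl

lemma coordHom_dot (B : Matrix (Fin 24) (Fin 24) ℤ) (hsymm : B.IsSymm)
    (e : Fin 24 → (Fin 24 → ℤ)) (hn : ∀ i, e i ⬝ᵥ (B *ᵥ e i) = 8)
    (ho : ∀ i j, i ≠ j → e i ⬝ᵥ (B *ᵥ e j) = 0) (x y : Fin 24 → ℤ) :
    coordHom B e x ⬝ᵥ coordHom B e y = 8 * (x ⬝ᵥ (B *ᵥ y)) := by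
  rw [← parseval B hsymm e hn ho x y]
  rfl

lemma coordHom_frame (B : Matrix (Fin 24) (Fin 24) ℤ)
    (e : Fin 24 → (Fin 24 → ℤ)) (hn : ∀ i, e i ⬝ᵥ (B *ᵥ e i) = 8)
    (ho : ∀ i j, i ≠ j → e i ⬝ᵥ (B *ᵥ e j) = 0) (i : Fin 24) :
    coordHom B e (e i) = Pi.single i 8 := by
  funext j
  rw [coordHom_apply]
  by_cases hij : j = i
  · subst hij; simp [hn]
  · rw [Pi.single_eq_of_ne hij]
    exact ho i j (Ne.symm hij)

lemma norm_ge_four (B : Matrix (Fin 24) (Fin 24) ℤ)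
    (hpos : ∀ x : Fin 24 → ℤ, x ≠ 0 → 0 < x ⬝ᵥ (B *ᵥ x))
    (heven : ∀ x : Fin 24 → ℤ, (2 : ℤ) ∣ x ⬝ᵥ (B *ᵥ x)) (h2 : ∀ x : Fin 24 → ℤ, x ⬝ᵥ (B *ᵥ x) ≠ 2)
    (x : Fin 24 → ℤ) (hx : x ≠ 0) : 4 ≤ x ⬝ᵥ (B *ᵥ x) := by
  have h1 := hpos x hx
  have h3 := h2 x
  obtain ⟨k, hk⟩ := heven x
  omega

theorem exists_coords (B : Matrix (Fin 24) (Fin 24) ℤ) (hsymm : B.IsSymm)
    (hpos : ∀ x : Fin 24 → ℤ, x ≠ 0 → 0 < x ⬝ᵥ (B *ᵥ x))
    (heven : ∀ x : Fin 24 → ℤ, (2 : ℤ) ∣ x ⬝ᵥ (B *ᵥ x)) (h2 : ∀ x : Fin 24 → ℤ, x ⬝ᵥ (B *ᵥ x) ≠ 2)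
    (h4 : {x : Fin 24 → ℤ | x ⬝ᵥ (B *ᵥ x) = 4}.ncard = 196560)
    (e : Fin 24 → (Fin 24 → ℤ)) (hn : ∀ i, e i ⬝ᵥ (B *ᵥ e i) = 8)
    (ho : ∀ i j, i ≠ j → e i ⬝ᵥ (B *ᵥ e j) = 0) (hc : ∀ i j k, (2 : ℤ) ∣ (e i - e j) k) :
    ∃ φ : (Fin 24 → ℤ) →+ (Fin 24 → ℤ), (∀ x, φ x ⬝ᵥ φ x = 8 * (x ⬝ᵥ (B *ᵥ x))) ∧ Lat φ.range := by
  set φ := coordHom B e with hφ
  have hdot := coordHom_dot B hsymm e hn ho
  have hframe := coordHom_frame B e hn ho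
  have hinj : Function.Injective φ := by
    rw [injective_iff_map_eq_zero]
    intro x hx
    by_contra hx0
    have h1 := hpos x hx0
    have h3 := hdot x x
    rw [← hφ, hx] at h3
    simp at h3
    omega
  -- halving
  have hhalf : ∀ (w : Fin 24 → ℤ) (v : Fin 24 → ℤ), (∀ k, (2 : ℤ) ∣ w k) → φ w = (2 : ℤ) • v →
      v ∈ φ.range := by
    intro w v hw hv
    choose u hu using hw
    refine ⟨u, ?_⟩
    have hw2 : w = (2 : ℤ) • u := by funext k; simp [hu k]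
    rw [hw2, map_zsmul] at hv
    funext k
    have := congrFun hv k
    simp only [Pi.smul_apply, smul_eq_mul] at this
    omega
  refine ⟨φ, fun x => hdot x x, ?_⟩
  refine
    { int8 := ?_, even16 := ?_, min32 := ?_, e8 := ?_, e4p := ?_, e4m := ?_, count4 := ?_ }
  · rintro v ⟨x, rfl⟩ w ⟨y, rfl⟩
    exact ⟨_, hdot x y⟩
  · rintro v ⟨x, rfl⟩
    rw [hdot x x]
    obtain ⟨k, hk⟩ := heven x
    exact ⟨k, by rw [hk]; ring⟩
  · rintro v ⟨x, rfl⟩ hv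
    have hx : x ≠ 0 := by
      rintro rfl; exact hv (map_zero φ)
    rw [hdot x x]
    have := norm_ge_four B hpos heven h2 x hx
    omega
  · intro i
    exact ⟨e i, hframe i⟩
  · intro i j hij
    refine hhalf (e i + e j) _ (fun k => ?_) ?_
    · have h1 := hc i j k
      have : (e i + e j) k = (e i - e j) k + 2 * e j k := by simp; ring
      rw [this]
      exact dvd_add h1 ⟨_, rfl⟩
    · rw [map_add, hframe, hframe]
      funext k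
      simp only [Pi.add_apply, Pi.smul_apply, smul_eq_mul]
      by_cases h1 : k = i <;> by_cases h2 : k = j <;>
        simp [Pi.single_apply, h1, h2] <;> omega
  · intro i j hij
    refine hhalf (e i - e j) _ (fun k => hc i j k) ?_
    rw [map_sub, hframe, hframe]
    funext k
    simp only [Pi.sub_apply, Pi.smul_apply, smul_eq_mul]
    by_cases h1 : k = i <;> by_cases h2 : k = j <;>
      simp [Pi.single_apply, h1, h2] <;> omega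
  · have himg : {v | v ∈ φ.range ∧ v ⬝ᵥ v = 32} = φ '' {x : Fin 24 → ℤ | x ⬝ᵥ (B *ᵥ x) = 4} := by
      ext v
      constructor
      · rintro ⟨⟨x, rfl⟩, hv⟩
        refine ⟨x, ?_, rfl⟩
        rw [hdot x x] at hv
        show x ⬝ᵥ (B *ᵥ x) = 4
        omega
      · rintro ⟨x, hx, rfl⟩
        refine ⟨⟨x, rfl⟩, ?_⟩
        have hx' : x ⬝ᵥ (B *ᵥ x) = 4 := hx
        rw [hdot x x, hx']
        norm_num
    rw [himg, Set.ncard_image_of_injective _ hinj, h4]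

end Cfsg.Agent.Helper3.LCh
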