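import Mathlib
import Cfsg.Agent.Helper3.LargePair

set_option autoImplicit false
set_option linter.style.haveILetI false
open Cfsg

/-! The pair `Q`, `P = Q^g` with `Z(P) ≤ Q`, `Z(Q) ≤ P`: the group `R = C_P(z) C_Q(a)`. -/

namespace Cfsg.Agent.Helper3.LargePair

open Cfsg.Agent.Helper3 Cfsg.Agent.Helper3.ES2 Cfsg.Agent.Helper3.LargeES
open Cfsg.Agent.Helper3.Singular

variable {G : Type*} [Group G]

/-- two extraspecial subgroups in the configuration of Aschbacher 8.7 -/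
structure Pair (Q P : Subgroup G) (z a : G) : Prop where
  hQ : LES Q z
  hP : LES P a
  aQ : a ∈ Q
  zP : z ∈ P
  ne : a ≠ z

/-- the hyperplane `C_Q(a)` -/
def hyp (Q : Subgroup G) (a : G) : Subgroup G := Q ⊓ Subgroup.centralizer {a}

theorem mem_hyp {Q : Subgroup G} {a r : G} : r ∈ hyp Q a ↔ r ∈ Q ∧ r * a = a * r := by
  simp only [hyp, Subgroup.mem_inf, Subgroup.mem_centralizer_singleton_iff]

namespace Pair

variable {Q P : Subgroup G} {z a : G}

theorem symm (h : Pair Q P z a) : Pair P Q a z := ⟨h.hP, h.hQ, h.zP, h.aQ, h.ne.symm⟩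

theorem az (h : Pair Q P z a) : a * z = z * a := h.hQ.central h.aQ

theorem z_mem_inf (h : Pair Q P z a) : z ∈ Q ⊓ P := ⟨h.hQ.mem, h.zP⟩

theorem a_mem_inf (h : Pair Q P z a) : a ∈ Q ⊓ P := ⟨h.aQ, h.hP.mem⟩

/-- elements of `C_Q(a)` commute with `z` -/
theorem hyp_comm_z (h : Pair Q P z a) {r : G} (hr : r ∈ hyp Q a) : r * z = z * r :=
  h.hQ.central (mem_hyp.mp hr).1

theorem hyp_comm_a {r : G} (hr : r ∈ hyp Q a) : r * a = a * r := (mem_hyp.mp hr).2

/-- `E = Q ∩ P` lies in both hyperplanes -/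
theorem inf_le_hyp (h : Pair Q P z a) : Q ⊓ P ≤ hyp Q a := by
  rintro e ⟨heQ, heP⟩
  exact mem_hyp.mpr ⟨heQ, h.hP.central heP⟩

theorem hyp_inf_hyp (h : Pair Q P z a) : hyp P z ⊓ hyp Q a = Q ⊓ P := by
  apply le_antisymm
  · rintro x ⟨h1, h2⟩
    exact ⟨(mem_hyp.mp h2).1, (mem_hyp.mp h1).1⟩
  · exact le_inf (by rw [inf_comm]; exact h.symm.inf_le_hyp) h.inf_le_hyp

end Pair

namespace Pair

variable {Q P : Subgroup G} {z a : G}

/-- `C_Q(a)` normalizes `P` -/
theorem hyp_conj_mem (h : Pair Q P z a) {r : G} (hr : r ∈ hyp Q a) {p : G} (hp : p ∈ P) :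
    r * p * r⁻¹ ∈ P := h.hP.norm r (hyp_comm_a hr) p hp

/-- `C_Q(a)` normalizes `Q` -/
theorem hyp_conj_mem_self {r : G} (hr : r ∈ hyp Q a) {q : G} (hq : q ∈ Q) :
    r * q * r⁻¹ ∈ Q := Q.mul_mem (Q.mul_mem (mem_hyp.mp hr).1 hq) (Q.inv_mem (mem_hyp.mp hr).1)

/-- `[C_Q(a), C_P(z)] ≤ Q ∩ P` -/
theorem comm_hyp_mem (h : Pair Q P z a) {r1 r2 : G} (hr1 : r1 ∈ hyp Q a) (hr2 : r2 ∈ hyp P z) :
    r1 * r2 * r1⁻¹ * r2⁻¹ ∈ Q ⊓ P := by
  constructor
  · have : r1 * r2 * r1⁻¹ * r2⁻¹ = r1 * (r2 * r1⁻¹ * r2⁻¹) := by group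
    rw [this]
    exact Q.mul_mem (mem_hyp.mp hr1).1
      (h.symm.hyp_conj_mem hr2 (Q.inv_mem (mem_hyp.mp hr1).1))
  · exact P.mul_mem (h.hyp_conj_mem hr1 (mem_hyp.mp hr2).1) (P.inv_mem (mem_hyp.mp hr2).1)

/-- the generating set of `R` -/
def gens (Q P : Subgroup G) (z a : G) : Set G := (hyp P z : Set G) ∪ (hyp Q a : Set G)

theorem closure_gens : Subgroup.closure (gens Q P z a) = hyp P z ⊔ hyp Q a := by
  rw [gens, Subgroup.closure_union, Subgroup.closure_eq, Subgroup.closure_eq]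

theorem gens_comm_z (h : Pair Q P z a) {s : G} (hs : s ∈ gens Q P z a) : s * z = z * s := by
  rcases hs with hs | hs
  · exact hyp_comm_a hs
  · exact h.hyp_comm_z hs

theorem gens_comm_a (h : Pair Q P z a) {s : G} (hs : s ∈ gens Q P z a) : s * a = a * s := by
  rcases hs with hs | hs
  · exact h.symm.hyp_comm_z hs
  · exact hyp_comm_a hs

/-- elements of `R` commute with `z` and `a` -/
theorem R_comm (h : Pair Q P z a) {r : G} (hr : r ∈ hyp P z ⊔ hyp Q a) :
    r * z = z * r ∧ r * a = a * r := by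
  rw [← closure_gens] at hr
  have hle : Subgroup.closure (gens Q P z a) ≤
      Subgroup.centralizer {z} ⊓ Subgroup.centralizer {a} := by
    rw [Subgroup.closure_le]
    intro s hs
    exact ⟨Subgroup.mem_centralizer_singleton_iff.mpr (h.gens_comm_z hs),
      Subgroup.mem_centralizer_singleton_iff.mpr (h.gens_comm_a hs)⟩
  have := hle hr
  exact ⟨Subgroup.mem_centralizer_singleton_iff.mp this.1,
    Subgroup.mem_centralizer_singleton_iff.mp this.2⟩

/-- an element commuting with `z` and `a` normalizes `Q ∩ P` -/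
theorem mem_normalizer_inf [Finite G] (h : Pair Q P z a) {x : G} (hxz : x * z = z * x)
    (hxa : x * a = a * x) : x ∈ Subgroup.normalizer ((Q ⊓ P : Subgroup G) : Set G) := by
  apply mem_normalizer_of_conj_mem'
  rintro e ⟨heQ, heP⟩
  exact ⟨h.hQ.norm x hxz e heQ, h.hP.norm x hxa e heP⟩

/-- commutators of the generators of `R` lie in `E` -/
theorem gens_comm_mem (h : Pair Q P z a) {s t : G} (hs : s ∈ gens Q P z a)
    (ht : t ∈ gens Q P z a) : s * t * s⁻¹ * t⁻¹ ∈ Q ⊓ P := by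
  rcases hs with hs | hs <;> rcases ht with ht | ht
  · rcases h.hP.comm_mem (mem_hyp.mp hs).1 (mem_hyp.mp ht).1 with h1 | h1
    · rw [h1]; exact Subgroup.one_mem _
    · rw [h1]; exact h.a_mem_inf
  · have := h.symm.comm_hyp_mem hs ht
    rwa [inf_comm] at this
  · exact h.comm_hyp_mem hs ht
  · rcases h.hQ.comm_mem (mem_hyp.mp hs).1 (mem_hyp.mp ht).1 with h1 | h1
    · rw [h1]; exact Subgroup.one_mem _
    · rw [h1]; exact h.z_mem_inf

theorem gens_sq_mem (h : Pair Q P z a) {s : G} (hs : s ∈ gens Q P z a) : s * s ∈ Q ⊓ P := by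
  rcases hs with hs | hs
  · rcases h.hP.sq_cases (mem_hyp.mp hs).1 with h1 | h1
    · rw [h1]; exact Subgroup.one_mem _
    · rw [h1]; exact h.a_mem_inf
  · rcases h.hQ.sq_cases (mem_hyp.mp hs).1 with h1 | h1
    · rw [h1]; exact Subgroup.one_mem _
    · rw [h1]; exact h.z_mem_inf

/-- `R / E` is elementary abelian -/
theorem R_comm_sq_mem [Finite G] (h : Pair Q P z a) {x y : G} (hx : x ∈ hyp P z ⊔ hyp Q a)
    (hy : y ∈ hyp P z ⊔ hyp Q a) : x * y * x⁻¹ * y⁻¹ ∈ Q ⊓ P ∧ x * x ∈ Q ⊓ P := by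
  rw [← closure_gens] at hx hy
  have hN : ∀ s ∈ gens Q P z a, s ∈ Subgroup.normalizer ((Q ⊓ P : Subgroup G) : Set G) :=
    fun s hs => h.mem_normalizer_inf (h.gens_comm_z hs) (h.gens_comm_a hs)
  have hc := comm_mem_of_closure hN hN (fun s hs t ht => h.gens_comm_mem hs ht)
  exact ⟨hc x hx y hy, sq_mem_of_closure hc (fun s hs => h.gens_sq_mem hs) x hx⟩

/-- `E` is elementary abelian -/
theorem inf_comm_elts (h : Pair Q P z a) {x y : G} (hx : x ∈ Q ⊓ P) (hy : y ∈ Q ⊓ P) :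
    x * y = y * x := by
  rcases h.hQ.comm_cases hx.1 hy.1 with h1 | h1
  · exact h1
  rcases h.hP.comm_cases hx.2 hy.2 with h2 | h2
  · exact h2
  · exfalso
    apply h.ne
    have : y * x * z = y * x * a := by rw [← h1, ← h2]
    exact (mul_left_cancel this).symm

theorem inf_sq (h : Pair Q P z a) {x : G} (hx : x ∈ Q ⊓ P) : x * x = 1 := by
  rcases h.hQ.sq_cases hx.1 with h1 | h1
  · exact h1
  rcases h.hP.sq_cases hx.2 with h2 | h2
  · exact h2
  · exfalso
    apply h.ne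
    rw [← h1, ← h2]

theorem inf_isElementaryAbelian (h : Pair Q P z a) :
    Cfsg.IsElementaryAbelian 2 (Q ⊓ P : Subgroup G) := by
  refine ⟨⟨⟨fun x y => Subtype.ext (h.inf_comm_elts x.2 y.2)⟩⟩, ?_⟩
  intro x hx
  rw [pow_two]
  exact h.inf_sq hx

end Pair

namespace Pair

variable {Q P : Subgroup G} {z a : G}

theorem V_eq (h : Pair Q P z a) :
    Subgroup.closure ({z, a} : Set G) = kleinOf z a h.hQ.zz h.hP.zz h.az.symm := by
  apply le_antisymm
  · rw [Subgroup.closure_le]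
    rintro x (rfl | hx)
    · exact left_mem_kleinOf
    · rw [Set.mem_singleton_iff.mp hx]; exact right_mem_kleinOf
  · exact kleinOf_le (Subgroup.subset_closure (by simp)) (Subgroup.subset_closure (by simp))

theorem mem_V (h : Pair Q P z a) {v : G} :
    v ∈ Subgroup.closure ({z, a} : Set G) ↔ v = 1 ∨ v = z ∨ v = a ∨ v = z * a := by
  rw [h.V_eq]; exact mem_kleinOf

theorem z_mem_V : z ∈ Subgroup.closure ({z, a} : Set G) := Subgroup.subset_closure (by simp)

theorem a_mem_V : a ∈ Subgroup.closure ({z, a} : Set G) := Subgroup.subset_closure (by simp)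

/-- elements commuting with `z` and `a` commute with `V` -/
theorem comm_V (h : Pair Q P z a) {x : G} (hxz : x * z = z * x) (hxa : x * a = a * x) {v : G}
    (hv : v ∈ Subgroup.closure ({z, a} : Set G)) : x * v = v * x := by
  rcases h.mem_V.mp hv with rfl | rfl | rfl | rfl
  · simp
  · exact hxz
  · exact hxa
  · calc x * (z * a) = (x * z) * a := by group
      _ = z * (x * a) := by rw [hxz]; group
      _ = z * a * x := by rw [hxa]; group

theorem mem_normalizer_V_of_comm [Finite G] (h : Pair Q P z a) {x : G} (hxz : x * z = z * x)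
    (hxa : x * a = a * x) : x ∈ Subgroup.normalizer ((Subgroup.closure ({z, a} : Set G) :
      Subgroup G) : Set G) := by
  apply mem_normalizer_of_conj_mem'
  intro v hv
  rw [h.comm_V hxz hxa hv]
  simpa using hv

/-- `Q` normalizes `V` -/
theorem Q_le_normalizer_V [Finite G] (h : Pair Q P z a) {q : G} (hq : q ∈ Q) :
    q ∈ Subgroup.normalizer ((Subgroup.closure ({z, a} : Set G) : Subgroup G) : Set G) := by
  apply mem_normalizer_of_conj_mem'
  intro v hv
  have hqz : q * z * q⁻¹ = z := by rw [h.hQ.central hq]; group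
  have hqa : q * a * q⁻¹ ∈ Subgroup.closure ({z, a} : Set G) := by
    rcases h.hQ.conj_cases hq h.aQ with h1 | h1
    · rw [h1]; exact a_mem_V
    · rw [h1]; exact Subgroup.mul_mem _ a_mem_V z_mem_V
  rcases h.mem_V.mp hv with rfl | rfl | rfl | rfl
  · simp
  · rw [hqz]; exact z_mem_V
  · exact hqa
  · have : q * (z * a) * q⁻¹ = (q * z * q⁻¹) * (q * a * q⁻¹) := by group
    rw [this, hqz]
    exact Subgroup.mul_mem _ z_mem_V hqa

theorem closure_pair_comm : Subgroup.closure ({a, z} : Set G) = Subgroup.closure ({z, a} : Set G) := by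
  rw [Set.pair_comm]

/-- `P` normalizes `V` -/
theorem P_le_normalizer_V [Finite G] (h : Pair Q P z a) {p : G} (hp : p ∈ P) :
    p ∈ Subgroup.normalizer ((Subgroup.closure ({z, a} : Set G) : Subgroup G) : Set G) := by
  have := h.symm.Q_le_normalizer_V hp
  rwa [closure_pair_comm] at this

/-- the centre of `R` is `V` -/
theorem center_R (h : Pair Q P z a) :
    (Subgroup.center ↥(hyp P z ⊔ hyp Q a)).map (hyp P z ⊔ hyp Q a).subtype =
      Subgroup.closure ({z, a} : Set G) := by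
  have hzR : z ∈ hyp P z ⊔ hyp Q a := le_sup_left (a := hyp P z) (mem_hyp.mpr ⟨h.zP, rfl⟩)
  have haR : a ∈ hyp P z ⊔ hyp Q a := le_sup_right (a := hyp P z) (mem_hyp.mpr ⟨h.aQ, rfl⟩)
  ext t
  rw [h.mem_V]
  constructor
  · rintro ⟨⟨t, htR⟩, htc, rfl⟩
    simp only [Subgroup.subtype_apply]
    have hcomm : ∀ r ∈ hyp P z ⊔ hyp Q a, t * r = r * t := fun r hr => by
      have := Subgroup.mem_center_iff.mp htc ⟨r, hr⟩
      exact (congrArg Subtype.val this).symm
    have h1 := h.hQ.cent_hyperplane h.aQ h.hP.ne_one h.ne h.hP.zz (hcomm z hzR)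
      (fun r hrQ hra => hcomm r (le_sup_right (a := hyp P z) (mem_hyp.mpr ⟨hrQ, hra⟩)))
    rcases h1 with h1 | h1 | h1 | h1
    · exact Or.inl h1
    · exact Or.inr (Or.inl h1)
    · exact Or.inr (Or.inr (Or.inl h1))
    · exact Or.inr (Or.inr (Or.inr (by rw [h1, h.az])))
  · intro ht
    have htV : t ∈ Subgroup.closure ({z, a} : Set G) := h.mem_V.mpr ht
    have htR : t ∈ hyp P z ⊔ hyp Q a := by
      rcases ht with rfl | rfl | rfl | rfl
      · exact Subgroup.one_mem _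
      · exact hzR
      · exact haR
      · exact Subgroup.mul_mem _ hzR haR
    have htc : ∀ r ∈ hyp P z ⊔ hyp Q a, r * t = t * r := by
      intro r hr
      obtain ⟨e1, e2⟩ := h.R_comm hr
      exact h.comm_V e1 e2 htV
    exact ⟨⟨t, htR⟩, Subgroup.mem_center_iff.mpr (fun r => Subtype.ext (htc r.1 r.2)), rfl⟩

/-- `[E, R] ≤ V` -/
theorem comm_inf_R_mem [Finite G] (h : Pair Q P z a) {e r : G} (he : e ∈ Q ⊓ P)
    (hr : r ∈ hyp P z ⊔ hyp Q a) : e * r * e⁻¹ * r⁻¹ ∈ Subgroup.closure ({z, a} : Set G) := by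
  rw [← closure_gens] at hr
  have he' : e ∈ Subgroup.closure ((Q ⊓ P : Subgroup G) : Set G) := by
    rw [Subgroup.closure_eq]; exact he
  refine comm_mem_of_closure (N := Subgroup.closure ({z, a} : Set G))
    (S := ((Q ⊓ P : Subgroup G) : Set G)) (T := gens Q P z a) ?_ ?_ ?_ e he' r hr
  · intro s hs
    exact h.mem_normalizer_V_of_comm (h.hQ.central hs.1) (h.hP.central hs.2)
  · intro t ht
    exact h.mem_normalizer_V_of_comm (h.gens_comm_z ht) (h.gens_comm_a ht)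
  · intro s hs t ht
    rcases ht with ht | ht
    · rcases h.hP.comm_mem hs.2 (mem_hyp.mp ht).1 with h1 | h1
      · rw [h1]; exact Subgroup.one_mem _
      · rw [h1]; exact a_mem_V
    · rcases h.hQ.comm_mem hs.1 (mem_hyp.mp ht).1 with h1 | h1
      · rw [h1]; exact Subgroup.one_mem _
      · rw [h1]; exact z_mem_V

theorem inf_le_R (h : Pair Q P z a) : Q ⊓ P ≤ hyp P z ⊔ hyp Q a :=
  h.inf_le_hyp.trans le_sup_right

/-- `E ≤ Z₂(R)` -/
theorem inf_mem_Z2 [Finite G] (h : Pair Q P z a) {e : G} (he : e ∈ Q ⊓ P) :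
    (⟨e, h.inf_le_R he⟩ : ↥(hyp P z ⊔ hyp Q a)) ∈
      Subgroup.upperCentralSeries ↥(hyp P z ⊔ hyp Q a) 2 := by
  rw [show (2 : ℕ) = 1 + 1 from rfl, Subgroup.mem_upperCentralSeries_succ_iff,
    Subgroup.upperCentralSeries_one]
  intro y
  rw [commutatorElement_def]
  have h1 := h.comm_inf_R_mem he y.2
  rw [← h.center_R] at h1
  obtain ⟨c, hc, hce⟩ := h1
  have : c = ⟨e, h.inf_le_R he⟩ * y * (⟨e, h.inf_le_R he⟩ : ↥(hyp P z ⊔ hyp Q a))⁻¹ * y⁻¹ :=
    Subtype.ext hce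
  rw [← this]
  exact hc

theorem inf_le_Z2 [Finite G] (h : Pair Q P z a) :
    Q ⊓ P ≤ (Subgroup.upperCentralSeries ↥(hyp P z ⊔ hyp Q a) 2).map
      (hyp P z ⊔ hyp Q a).subtype :=
  fun _ he => ⟨_, h.inf_mem_Z2 he, rfl⟩

/-- `R` has class at most 3 -/
theorem Z3_eq_top [Finite G] (h : Pair Q P z a) :
    Subgroup.upperCentralSeries ↥(hyp P z ⊔ hyp Q a) 3 = ⊤ := by
  rw [eq_top_iff]
  intro x _
  rw [show (3 : ℕ) = 2 + 1 from rfl, Subgroup.mem_upperCentralSeries_succ_iff]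
  intro y
  rw [commutatorElement_def]
  have h1 := (h.R_comm_sq_mem x.2 y.2).1
  have h2 := h.inf_mem_Z2 h1
  have : (⟨(x : G) * y * (x : G)⁻¹ * (y : G)⁻¹, h.inf_le_R h1⟩ : ↥(hyp P z ⊔ hyp Q a)) =
      x * y * x⁻¹ * y⁻¹ := Subtype.ext rfl
  rwa [this] at h2

/-- `[X, E] ≤ V` -/
theorem commutator_X_inf_le [Finite G] (h : Pair Q P z a) :
    ⁅Q ⊔ P, Q ⊓ P⁆ ≤ Subgroup.closure ({z, a} : Set G) := by
  rw [Subgroup.commutator_le]
  intro x hx e he
  rw [commutatorElement_def]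
  have hx' : x ∈ Subgroup.closure ((Q : Set G) ∪ (P : Set G)) := by
    rw [Subgroup.closure_union, Subgroup.closure_eq, Subgroup.closure_eq]; exact hx
  have he' : e ∈ Subgroup.closure ((Q ⊓ P : Subgroup G) : Set G) := by
    rw [Subgroup.closure_eq]; exact he
  refine comm_mem_of_closure (N := Subgroup.closure ({z, a} : Set G))
    (S := (Q : Set G) ∪ (P : Set G)) (T := ((Q ⊓ P : Subgroup G) : Set G)) ?_ ?_ ?_ x hx' e he'
  · rintro s (hs | hs)
    · exact h.Q_le_normalizer_V hs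
    · exact h.P_le_normalizer_V hs
  · intro t ht
    exact h.mem_normalizer_V_of_comm (h.hQ.central ht.1) (h.hP.central ht.2)
  · rintro s (hs | hs) t ht
    · rcases h.hQ.comm_mem hs ht.1 with h1 | h1
      · rw [h1]; exact Subgroup.one_mem _
      · rw [h1]; exact z_mem_V
    · rcases h.hP.comm_mem hs ht.2 with h1 | h1
      · rw [h1]; exact Subgroup.one_mem _
      · rw [h1]; exact a_mem_V

end Pair

end Cfsg.Agent.Helper3.LargePair
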