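import Mathlib
import Cfsg.Agent.Helper3.LargePair2
import Cfsg.Agent.Helper3.S3Lift

set_option autoImplicit false
set_option linter.style.haveILetI false
open Cfsg

/-! The pair `Q`, `P = Q^g`: the group `X = ⟨Q, P⟩` and `X / R ≅ S₃`. -/

namespace Cfsg.Agent.Helper3.LargeES

open Cfsg.Agent.Helper3 Cfsg.Agent.Helper3.ES2

variable {G : Type*} [Group G]

/-- a subgroup of the normalizer of a four-group `V = {1, z, a, za}` induces `S₃` on it as soon as it contains
two suitable "transpositions" -/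
theorem relIndex_eq_six_of_le [Finite G] {z a : G} (hzz : z * z = 1) (haa : a * a = 1)
    (hza : z * a = a * z) (hz1 : z ≠ 1) (ha1 : a ≠ 1) (hne : z ≠ a)
    (V : Subgroup G) (hV : ∀ v, v ∈ V ↔ v = 1 ∨ v = z ∨ v = a ∨ v = z * a)
    {y x : G} (hyz : y * z * y⁻¹ = z) (hya : y * a * y⁻¹ = z * a)
    (hxa : x * a * x⁻¹ = a) (hxz : x * z * x⁻¹ = z * a)
    (M : Subgroup G) (hMN : M ≤ Subgroup.normalizer (V : Set G)) (hyM : y ∈ M) (hxM : x ∈ M) :
    (Subgroup.centralizer (V : Set G)).relIndex M = 6 := by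
  classical
  have hyza : y * (z * a) * y⁻¹ = a := by
    calc y * (z * a) * y⁻¹ = (y * z * y⁻¹) * (y * a * y⁻¹) := by group
      _ = z * (z * a) := by rw [hyz, hya]
      _ = a := by rw [← mul_assoc, hzz, one_mul]
  have hxza : x * (z * a) * x⁻¹ = z := by
    calc x * (z * a) * x⁻¹ = (x * z * x⁻¹) * (x * a * x⁻¹) := by group
      _ = (z * a) * a := by rw [hxz, hxa]
      _ = z := by rw [mul_assoc, haa, mul_one]
  have hstab : MulAction.stabilizer M (⟨z, a⟩ : CP G) =
      (Subgroup.centralizer (V : Set G)).subgroupOf M := by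
    ext n
    rw [MulAction.mem_stabilizer_iff, Subgroup.mem_subgroupOf, Subgroup.mem_centralizer_iff,
      smul_cp]
    constructor
    · intro hn
      have h1 : (n : G) * z * (n : G)⁻¹ = z := congrArg CP.fst hn
      have h2 : (n : G) * a * (n : G)⁻¹ = a := congrArg CP.snd hn
      have hcz : z * n = n * z := by
        calc z * n = ((n : G) * z * (n : G)⁻¹) * n := by rw [h1]
          _ = n * z := by group
      have hca : a * n = n * a := by
        calc a * n = ((n : G) * a * (n : G)⁻¹) * n := by rw [h2]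
          _ = n * a := by group
      intro v hv
      rcases (hV v).mp hv with rfl | rfl | rfl | rfl
      · simp
      · exact hcz
      · exact hca
      · calc z * a * n = z * (a * n) := by group
          _ = z * (n * a) := by rw [hca]
          _ = (z * n) * a := by group
          _ = n * z * a := by rw [hcz]
          _ = n * (z * a) := by group
    · intro hn
      have hcz := hn z ((hV z).mpr (Or.inr (Or.inl rfl)))
      have hca := hn a ((hV a).mpr (Or.inr (Or.inr (Or.inl rfl))))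
      have h1 : (n : G) * z * (n : G)⁻¹ = z := by rw [← hcz]; group
      have h2 : (n : G) * a * (n : G)⁻¹ = a := by rw [← hca]; group
      rw [h1, h2]
  rw [Subgroup.relIndex, ← hstab, MulAction.index_stabilizer]
  have e1 : z * a ≠ z := fun hh => ha1 (by simpa using hh)
  have e2 : z * a ≠ a := fun hh => hz1 (by simpa using hh)
  have horb : MulAction.orbit M (⟨z, a⟩ : CP G) =
      ({⟨z, a⟩, ⟨z, z * a⟩, ⟨z * a, a⟩, ⟨z * a, z⟩, ⟨a, z * a⟩, ⟨a, z⟩} : Set (CP G)) := by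
    apply Set.Subset.antisymm
    · rintro _ ⟨n, rfl⟩
      beta_reduce
      rw [smul_cp]
      have hnz : (n : G) * z * (n : G)⁻¹ ∈ V :=
        (Subgroup.mem_normalizer_iff.mp (hMN n.2) z).mp ((hV z).mpr (Or.inr (Or.inl rfl)))
      have hna : (n : G) * a * (n : G)⁻¹ ∈ V :=
        (Subgroup.mem_normalizer_iff.mp (hMN n.2) a).mp ((hV a).mpr (Or.inr (Or.inr (Or.inl rfl))))
      have hnz1 : (n : G) * z * (n : G)⁻¹ ≠ 1 := by
        intro hh
        apply hz1
        calc z = (n : G)⁻¹ * ((n : G) * z * (n : G)⁻¹) * n := by group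
          _ = 1 := by rw [hh]; group
      have hna1 : (n : G) * a * (n : G)⁻¹ ≠ 1 := by
        intro hh
        apply ha1
        calc a = (n : G)⁻¹ * ((n : G) * a * (n : G)⁻¹) * n := by group
          _ = 1 := by rw [hh]; group
      have hnne : (n : G) * z * (n : G)⁻¹ ≠ (n : G) * a * (n : G)⁻¹ := by
        intro hh
        apply hne
        calc z = (n : G)⁻¹ * ((n : G) * z * (n : G)⁻¹) * n := by group
          _ = (n : G)⁻¹ * ((n : G) * a * (n : G)⁻¹) * n := by rw [hh]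
          _ = a := by group
      rcases (hV _).mp hnz with h1 | h1 | h1 | h1 <;>
        rcases (hV _).mp hna with h2 | h2 | h2 | h2 <;>
        simp only [h1, h2] at hnz1 hna1 hnne ⊢ <;>
        simp_all
    · rintro p hp
      simp only [Set.mem_insert_iff, Set.mem_singleton_iff] at hp
      rcases hp with rfl | rfl | rfl | rfl | rfl | rfl
      · exact ⟨1, one_smul _ _⟩
      · exact ⟨⟨y, hyM⟩, by beta_reduce; rw [smul_cp]; simp only [hyz, hya]⟩
      · exact ⟨⟨x, hxM⟩, by beta_reduce; rw [smul_cp]; simp only [hxz, hxa]⟩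
      · refine ⟨⟨x, hxM⟩ * ⟨y, hyM⟩, ?_⟩
        beta_reduce
        rw [mul_smul, smul_cp, smul_cp]
        simp only [hyz, hya, hxz, hxza]
      · refine ⟨⟨y, hyM⟩ * ⟨x, hxM⟩, ?_⟩
        beta_reduce
        rw [mul_smul, smul_cp, smul_cp]
        simp only [hxz, hxa, hyza, hya]
      · refine ⟨⟨x, hxM⟩ * ⟨y, hyM⟩ * ⟨x, hxM⟩, ?_⟩
        beta_reduce
        rw [mul_smul, mul_smul, smul_cp, smul_cp, smul_cp]
        simp only [hxz, hxa, hyza, hya, hxza]
  rw [horb]
  rw [Set.ncard_insert_of_notMem, Set.ncard_insert_of_notMem, Set.ncard_insert_of_notMem,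
    Set.ncard_insert_of_notMem, Set.ncard_insert_of_notMem, Set.ncard_singleton]
  all_goals
    simp only [Set.mem_insert_iff, Set.mem_singleton_iff, CP.mk.injEq, not_or, not_and]
    simp [hne, hne.symm, e1, e2, e1.symm, e2.symm]

end Cfsg.Agent.Helper3.LargeES

namespace Cfsg.Agent.Helper3.LargePair

open Cfsg.Agent.Helper3 Cfsg.Agent.Helper3.ES2 Cfsg.Agent.Helper3.LargeES

variable {G : Type*} [Group G]

namespace Pair

variable {Q P : Subgroup G} {z a : G}

theorem inv_comm {c a : G} (hca : c * a = a * c) : c⁻¹ * a = a * c⁻¹ := by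
  calc c⁻¹ * a = c⁻¹ * (a * c) * c⁻¹ := by group
    _ = c⁻¹ * (c * a) * c⁻¹ := by rw [hca]
    _ = a * c⁻¹ := by group

/-- conjugation by an element of `C(V)` preserves `C_Q(a)` -/
theorem cv_conj_hyp (h : Pair Q P z a) {c : G} (hcz : c * z = z * c) (hca : c * a = a * c)
    {r : G} (hr : r ∈ hyp Q a) : c * r * c⁻¹ ∈ hyp Q a := by
  obtain ⟨hrQ, hra⟩ := mem_hyp.mp hr
  refine mem_hyp.mpr ⟨h.hQ.norm c hcz r hrQ, ?_⟩
  have hca' := inv_comm hca
  calc c * r * c⁻¹ * a = c * r * (c⁻¹ * a) := by group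
    _ = c * r * (a * c⁻¹) := by rw [hca']
    _ = c * (r * a) * c⁻¹ := by group
    _ = c * (a * r) * c⁻¹ := by rw [hra]
    _ = (c * a) * r * c⁻¹ := by group
    _ = a * c * r * c⁻¹ := by rw [hca]
    _ = a * (c * r * c⁻¹) := by group

/-- `[Q, C(V)] ≤ C_Q(a)` -/
theorem comm_Q_cv_mem (h : Pair Q P z a) {c : G} (hcz : c * z = z * c) (hca : c * a = a * c)
    {q : G} (hq : q ∈ Q) : q * c * q⁻¹ * c⁻¹ ∈ hyp Q a := by
  have hq' : c * q⁻¹ * c⁻¹ ∈ Q := h.hQ.norm c hcz q⁻¹ (Q.inv_mem hq)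
  have heq : q * c * q⁻¹ * c⁻¹ = q * (c * q⁻¹ * c⁻¹) := by group
  rw [heq]
  refine mem_hyp.mpr ⟨Q.mul_mem hq hq', ?_⟩
  by_cases hqa : q * a = a * q
  · have h1 : q⁻¹ ∈ hyp Q a := (hyp Q a).inv_mem (mem_hyp.mpr ⟨hq, hqa⟩)
    have h2 := h.cv_conj_hyp hcz hca h1
    exact (mem_hyp.mp ((hyp Q a).mul_mem (mem_hyp.mpr ⟨hq, hqa⟩) h2)).2
  · have hqinv : q⁻¹ * a ≠ a * q⁻¹ := by
      intro hh
      apply hqa
      calc q * a = q * (a * q⁻¹) * q := by group
        _ = q * (q⁻¹ * a) * q := by rw [hh]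
        _ = a * q := by group
    have hca' := inv_comm hca
    have hq'a : (c * q⁻¹ * c⁻¹) * a ≠ a * (c * q⁻¹ * c⁻¹) := by
      intro hh
      apply hqinv
      have hcac1 : c * a * c⁻¹ = a := by rw [hca]; group
      have hcac2 : c⁻¹ * a * c = a := by rw [hca']; group
      calc q⁻¹ * a = c⁻¹ * ((c * q⁻¹ * c⁻¹) * (c * a * c⁻¹)) * c := by group
        _ = c⁻¹ * ((c * q⁻¹ * c⁻¹) * a) * c := by rw [hcac1]
        _ = c⁻¹ * (a * (c * q⁻¹ * c⁻¹)) * c := by rw [hh]
        _ = (c⁻¹ * a * c) * q⁻¹ := by group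
        _ = a * q⁻¹ := by rw [hcac2]
    have := sub_index_two h.hQ.es h.aQ (Q.inv_mem hq) hq' hqinv hq'a
    rwa [inv_inv] at this

/-- `Q` normalizes `R` -/
theorem Q_conj_R_mem (h : Pair Q P z a) {q : G} (hq : q ∈ Q) {r : G}
    (hr : r ∈ hyp P z ⊔ hyp Q a) : q * r * q⁻¹ ∈ hyp P z ⊔ hyp Q a := by
  obtain ⟨e1, e2⟩ := h.R_comm hr
  have h1 := h.comm_Q_cv_mem e1 e2 hq
  have : q * r * q⁻¹ = (q * r * q⁻¹ * r⁻¹) * r := by group
  rw [this]
  exact Subgroup.mul_mem _ (le_sup_right (a := hyp P z) h1) hr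

/-- `P` normalizes `R` -/
theorem P_conj_R_mem (h : Pair Q P z a) {p : G} (hp : p ∈ P) {r : G}
    (hr : r ∈ hyp P z ⊔ hyp Q a) : p * r * p⁻¹ ∈ hyp P z ⊔ hyp Q a := by
  rw [sup_comm] at hr ⊢
  exact h.symm.Q_conj_R_mem hp hr

theorem R_le_X : hyp P z ⊔ hyp Q a ≤ Q ⊔ P :=
  sup_le (inf_le_left.trans le_sup_right) (inf_le_left.trans le_sup_left)

theorem X_le_normalizer_R [Finite G] (h : Pair Q P z a) :
    Q ⊔ P ≤ Subgroup.normalizer ((hyp P z ⊔ hyp Q a : Subgroup G) : Set G) :=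
  sup_le (fun q hq => mem_normalizer_of_conj_mem' _ q (fun _ hr => h.Q_conj_R_mem hq hr))
    (fun p hp => mem_normalizer_of_conj_mem' _ p (fun _ hr => h.P_conj_R_mem hp hr))

theorem R_normal [Finite G] (h : Pair Q P z a) :
    ((hyp P z ⊔ hyp Q a).subgroupOf (Q ⊔ P)).Normal :=
  (Subgroup.normal_subgroupOf_iff_le_normalizer R_le_X).mpr h.X_le_normalizer_R

/-- elements of `C(V)` normalize `R` -/
theorem cv_conj_R_mem (h : Pair Q P z a) {c : G} (hcz : c * z = z * c) (hca : c * a = a * c)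
    {r : G} (hr : r ∈ hyp P z ⊔ hyp Q a) : c * r * c⁻¹ ∈ hyp P z ⊔ hyp Q a := by
  have hle : (hyp P z ⊔ hyp Q a).map (MulAut.conj c).toMonoidHom ≤ hyp P z ⊔ hyp Q a := by
    rw [← closure_gens, MonoidHom.map_closure, Subgroup.closure_le]
    rintro _ ⟨s, hs, rfl⟩
    apply Subgroup.subset_closure
    rcases hs with hs | hs
    · exact Or.inl (h.symm.cv_conj_hyp hca hcz hs)
    · exact Or.inr (h.cv_conj_hyp hcz hca hs)
  exact hle ⟨r, hr, rfl⟩

/-- `[X, C(V)] ≤ R` -/
theorem comm_X_cv_mem [Finite G] (h : Pair Q P z a) {c : G} (hcz : c * z = z * c)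
    (hca : c * a = a * c) {x : G} (hx : x ∈ Q ⊔ P) :
    x * c * x⁻¹ * c⁻¹ ∈ hyp P z ⊔ hyp Q a := by
  have hx' : x ∈ Subgroup.closure ((Q : Set G) ∪ (P : Set G)) := by
    rw [Subgroup.closure_union, Subgroup.closure_eq, Subgroup.closure_eq]; exact hx
  refine comm_mem_of_closure (N := hyp P z ⊔ hyp Q a) (S := (Q : Set G) ∪ (P : Set G))
    (T := {c}) ?_ ?_ ?_ x hx' c (Subgroup.subset_closure rfl)
  · rintro s (hs | hs)
    · exact h.X_le_normalizer_R (le_sup_left (a := Q) hs)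
    · exact h.X_le_normalizer_R (le_sup_right (a := Q) hs)
  · intro t ht
    rw [Set.mem_singleton_iff.mp ht]
    exact mem_normalizer_of_conj_mem' _ c (fun _ hr => h.cv_conj_R_mem hcz hca hr)
  · rintro s (hs | hs) t ht
    · rw [Set.mem_singleton_iff.mp ht]
      exact le_sup_right (a := hyp P z) (h.comm_Q_cv_mem hcz hca hs)
    · rw [Set.mem_singleton_iff.mp ht]
      exact le_sup_left (a := hyp P z) (h.symm.comm_Q_cv_mem hca hcz hs)

end Pair

end Cfsg.Agent.Helper3.LargePair
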