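import Mathlib
import Cfsg.Agent.Helper3.LargePair3

set_option autoImplicit false
set_option linter.style.haveILetI false
open Cfsg

/-! The pair `Q`, `P = Q^g`: `X / R ≅ S₃`. -/

namespace Cfsg.Agent.Helper3.LargePair

open Cfsg.Agent.Helper3 Cfsg.Agent.Helper3.ES2 Cfsg.Agent.Helper3.LargeES

variable {G : Type*} [Group G]

/-- a `Pair` together with the conjugating element -/
structure PairG (Q P : Subgroup G) (z a g : G) : Prop extends Pair Q P z a where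
  ag : a = g * z * g⁻¹
  Pg : ∀ q ∈ Q, g * q * g⁻¹ ∈ P

namespace Pair

variable {Q P : Subgroup G} {z a : G}

theorem exists_yx (h : Pair Q P z a) :
    ∃ y ∈ Q, ∃ x ∈ P, y * a * y⁻¹ = a * z ∧ x * z * x⁻¹ = z * a := by
  obtain ⟨y, hy, hya⟩ := h.hQ.exists_conj h.aQ h.hP.ne_one h.ne
  obtain ⟨x, hx, hxz⟩ := h.hP.exists_conj h.zP h.hQ.ne_one h.ne.symm
  exact ⟨y, hy, x, hx, hya, hxz⟩

/-- `y ∉ R` -/
theorem y_not_mem_R (h : Pair Q P z a) {y : G} (hya : y * a * y⁻¹ = a * z) :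
    y ∉ hyp P z ⊔ hyp Q a := by
  intro hyR
  have := (h.R_comm hyR).2
  have e1 : a * z = a := by rw [← hya, this]; group
  exact h.hQ.ne_one (mul_left_cancel (a := a) (by rw [e1, mul_one]))

theorem y_not_comm (h : Pair Q P z a) {y : G} (hya : y * a * y⁻¹ = a * z) : y * a ≠ a * y := by
  intro hh
  have e1 : a * z = a := by rw [← hya, hh]; group
  exact h.hQ.ne_one (mul_left_cancel (a := a) (by rw [e1, mul_one]))

/-- `Q ⊆ R ∪ yR` -/
theorem Q_cases (h : Pair Q P z a) {y : G} (hy : y ∈ Q) (hya : y * a * y⁻¹ = a * z) {q : G}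
    (hq : q ∈ Q) : q ∈ hyp P z ⊔ hyp Q a ∨ y⁻¹ * q ∈ hyp P z ⊔ hyp Q a := by
  by_cases hqa : q * a = a * q
  · exact Or.inl (le_sup_right (a := hyp P z) (mem_hyp.mpr ⟨hq, hqa⟩))
  · right
    have := sub_index_two h.hQ.es h.aQ hy hq (h.y_not_comm hya) hqa
    exact le_sup_right (a := hyp P z) (mem_hyp.mpr ⟨Q.mul_mem (Q.inv_mem hy) hq, this⟩)

theorem P_cases (h : Pair Q P z a) {x : G} (hx : x ∈ P) (hxz : x * z * x⁻¹ = z * a) {p : G}
    (hp : p ∈ P) : p ∈ hyp P z ⊔ hyp Q a ∨ x⁻¹ * p ∈ hyp P z ⊔ hyp Q a := by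
  have := h.symm.Q_cases hx hxz hp
  rwa [sup_comm] at this

theorem sq_mem_R_of_mem_Q (h : Pair Q P z a) {q : G} (hq : q ∈ Q) :
    q * q ∈ hyp P z ⊔ hyp Q a := by
  rcases h.hQ.sq_cases hq with h1 | h1
  · rw [h1]; exact Subgroup.one_mem _
  · rw [h1]; exact le_sup_left (a := hyp P z) (mem_hyp.mpr ⟨h.zP, rfl⟩)

theorem sq_mem_R_of_mem_P (h : Pair Q P z a) {p : G} (hp : p ∈ P) :
    p * p ∈ hyp P z ⊔ hyp Q a := by
  have := h.symm.sq_mem_R_of_mem_Q hp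
  rwa [sup_comm] at this

end Pair

namespace PairG

variable {Q P : Subgroup G} {z a g : G}

/-- `w = y⁻¹ x` conjugates `Q` into `P` -/
theorem w_conj_mem (h : PairG Q P z a g) {y x : G} (hy : y ∈ Q) (hya : y * a * y⁻¹ = a * z)
    (hxz : x * z * x⁻¹ = z * a) {q : G} (hq : q ∈ Q) :
    (y⁻¹ * x) * q * (y⁻¹ * x)⁻¹ ∈ P := by
  have haz := h.toPair.az
  have hh' : ((y * g)⁻¹ * x) * z = z * ((y * g)⁻¹ * x) := by
    have e1 : x * z = (z * a) * x := by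
      calc x * z = (x * z * x⁻¹) * x := by group
        _ = (z * a) * x := by rw [hxz]
    have e2 : y * g * z = (z * a) * (y * g) := by
      calc y * g * z = (y * (g * z * g⁻¹) * y⁻¹) * (y * g) := by group
        _ = (y * a * y⁻¹) * (y * g) := by rw [← h.ag]
        _ = (z * a) * (y * g) := by rw [hya, haz]
    calc (y * g)⁻¹ * x * z = (y * g)⁻¹ * (x * z) := by group
      _ = (y * g)⁻¹ * ((z * a) * x) := by rw [e1]
      _ = (y * g)⁻¹ * ((z * a) * (y * g)) * ((y * g)⁻¹ * x) := by group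
      _ = (y * g)⁻¹ * (y * g * z) * ((y * g)⁻¹ * x) := by rw [← e2]
      _ = z * ((y * g)⁻¹ * x) := by group
  have h1 := h.hQ.norm _ hh' q hq
  have h2 := h.Pg _ h1
  have : (y⁻¹ * x) * q * (y⁻¹ * x)⁻¹ =
      g * ((y * g)⁻¹ * x * q * ((y * g)⁻¹ * x)⁻¹) * g⁻¹ := by group
  rw [this]
  exact h2

/-- `x⁻¹ (w y w⁻¹) ∈ R` -/
theorem key_mem_R [Finite G] (h : PairG Q P z a g) {y x : G} (hy : y ∈ Q)
    (hya : y * a * y⁻¹ = a * z) (hx : x ∈ P) (hxz : x * z * x⁻¹ = z * a) :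
    x⁻¹ * ((y⁻¹ * x) * y * (y⁻¹ * x)⁻¹) ∈ hyp P z ⊔ hyp Q a := by
  have hwP := h.w_conj_mem hy hya hxz hy
  rcases h.toPair.P_cases hx hxz hwP with h1 | h1
  · exfalso
    apply h.toPair.y_not_mem_R hya
    have hwX : (y⁻¹ * x)⁻¹ ∈ Q ⊔ P :=
      Subgroup.inv_mem _ (Subgroup.mul_mem _ (Subgroup.inv_mem _ (le_sup_left (a := Q) hy))
        (le_sup_right (a := Q) hx))
    have hN := h.toPair.X_le_normalizer_R hwX
    have := (Subgroup.mem_normalizer_iff.mp hN _).mp h1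
    have e : (y⁻¹ * x)⁻¹ * ((y⁻¹ * x) * y * (y⁻¹ * x)⁻¹) * (y⁻¹ * x)⁻¹⁻¹ = y := by group
    rwa [e] at this
  · exact h1

end PairG

namespace PairG

variable {Q P : Subgroup G} {z a g : G}

/-- `X / R ≅ S₃` -/
theorem quot_S3 [Finite G] (h : PairG Q P z a g) :
    ∃ _ : ((hyp P z ⊔ hyp Q a).subgroupOf (Q ⊔ P)).Normal,
      Nonempty ((↥(Q ⊔ P) ⧸ (hyp P z ⊔ hyp Q a).subgroupOf (Q ⊔ P)) ≃* Equiv.Perm (Fin 3)) := by
  have hn := h.toPair.R_normal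
  refine ⟨hn, ?_⟩
  obtain ⟨y, hy, x, hx, hya, hxz⟩ := h.toPair.exists_yx
  have hyX : y ∈ Q ⊔ P := le_sup_left (a := Q) hy
  have hxX : x ∈ Q ⊔ P := le_sup_right (a := Q) hx
  have mk_one : ∀ t : ↥(Q ⊔ P), (QuotientGroup.mk t :
      ↥(Q ⊔ P) ⧸ (hyp P z ⊔ hyp Q a).subgroupOf (Q ⊔ P)) = 1 ↔ (t : G) ∈ hyp P z ⊔ hyp Q a := by
    intro t
    rw [QuotientGroup.eq_one_iff, Subgroup.mem_subgroupOf]
  have mk_eq : ∀ s t : ↥(Q ⊔ P), (QuotientGroup.mk s :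
      ↥(Q ⊔ P) ⧸ (hyp P z ⊔ hyp Q a).subgroupOf (Q ⊔ P)) = QuotientGroup.mk t ↔
      (s : G)⁻¹ * (t : G) ∈ hyp P z ⊔ hyp Q a := by
    intro s t
    rw [QuotientGroup.eq, Subgroup.mem_subgroupOf]
    simp
  obtain ⟨d, hd⟩ : ∃ d : ↥(Q ⊔ P) ⧸ (hyp P z ⊔ hyp Q a).subgroupOf (Q ⊔ P),
      d = QuotientGroup.mk ⟨y, hyX⟩ := ⟨_, rfl⟩
  obtain ⟨e, he⟩ : ∃ e : ↥(Q ⊔ P) ⧸ (hyp P z ⊔ hyp Q a).subgroupOf (Q ⊔ P),
      e = QuotientGroup.mk ⟨x, hxX⟩ := ⟨_, rfl⟩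
  have hdd : d * d = 1 := by
    rw [hd, ← QuotientGroup.mk_mul, mk_one]
    exact h.toPair.sq_mem_R_of_mem_Q hy
  have hee : e * e = 1 := by
    rw [he, ← QuotientGroup.mk_mul, mk_one]
    exact h.toPair.sq_mem_R_of_mem_P hx
  have hdinv : d⁻¹ = d := inv_eq_of_mul_eq_one_left hdd
  have heinv : e⁻¹ = e := inv_eq_of_mul_eq_one_left hee
  have hkey : (d⁻¹ * e) * d * (d⁻¹ * e)⁻¹ = e := by
    rw [hd, he, ← QuotientGroup.mk_inv, ← QuotientGroup.mk_mul, ← QuotientGroup.mk_mul,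
      ← QuotientGroup.mk_inv, ← QuotientGroup.mk_mul, eq_comm, mk_eq]
    have := h.key_mem_R hy hya hx hxz
    simpa using this
  have h1 : d * e * d * (e * d) = e := by
    have := hkey
    rw [mul_inv_rev, inv_inv, hdinv, heinv] at this
    exact this
  have hde3 : (d * e) ^ 3 = 1 := by
    calc (d * e) ^ 3 = (d * e * d * (e * d)) * e := by simp [pow_succ, mul_assoc]
      _ = e * e := by rw [h1]
      _ = 1 := hee
  have hyay : y⁻¹ * a * y = a * z := by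
    have hzy : z * y = y * z := (h.hQ.central hy).symm
    have : a = y⁻¹ * (a * z) * y := by rw [← hya]; group
    calc y⁻¹ * a * y = y⁻¹ * a * y * (z * z) := by rw [h.hQ.zz, mul_one]
      _ = y⁻¹ * a * (y * z) * z := by group
      _ = y⁻¹ * a * (z * y) * z := by rw [hzy]
      _ = (y⁻¹ * (a * z) * y) * z := by group
      _ = a * z := by rw [← this]
  have hnc : ¬ Commute d e := by
    intro hc
    have hc' : d * e = e * d := hc
    have h2 : (d * e) ^ 2 = 1 := by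
      calc (d * e) ^ 2 = d * (e * d) * e := by simp [pow_succ, mul_assoc]
        _ = d * (d * e) * e := by rw [hc']
        _ = (d * d) * (e * e) := by simp [mul_assoc]
        _ = 1 := by rw [hdd, hee, one_mul]
    have h3 : d * e = 1 := by
      calc d * e = (d * e) ^ 3 * ((d * e) ^ 2)⁻¹ := by group
        _ = 1 := by rw [hde3, h2]; simp
    have h4 : d = e := by
      calc d = (d * e) * e⁻¹ := by group
        _ = e := by rw [h3, heinv, one_mul]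
    rw [hd, he, mk_eq] at h4
    -- w = y⁻¹ x ∈ R commutes with z, but maps z to a
    have hwz := (h.toPair.R_comm h4).1
    have hzy' : y⁻¹ * z * y = z := by
      have := h.hQ.central (Q.inv_mem hy)
      rw [this]; group
    have : (y⁻¹ * x) * z * (y⁻¹ * x)⁻¹ = a := by
      calc (y⁻¹ * x) * z * (y⁻¹ * x)⁻¹ = y⁻¹ * (x * z * x⁻¹) * y := by group
        _ = y⁻¹ * (z * a) * y := by rw [hxz]
        _ = (y⁻¹ * z * y) * (y⁻¹ * a * y) := by group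
        _ = z * (a * z) := by rw [hzy', hyay]
        _ = a * (z * z) := by rw [← mul_assoc, ← h.toPair.az, mul_assoc]
        _ = a := by rw [h.hQ.zz, mul_one]
    apply h.ne
    rw [← this]
    show (y⁻¹ * x) * z * (y⁻¹ * x)⁻¹ = z
    rw [show ((y : G)⁻¹ * x) * z = z * (y⁻¹ * x) from hwz]; group
  -- generation
  have hgen : ∀ t : ↥(Q ⊔ P), (QuotientGroup.mk t :
      ↥(Q ⊔ P) ⧸ (hyp P z ⊔ hyp Q a).subgroupOf (Q ⊔ P)) ∈ Subgroup.closure ({d, e} : Set _) := by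
    let K : Subgroup ↥(Q ⊔ P) := (Subgroup.closure ({d, e} : Set (↥(Q ⊔ P) ⧸
      (hyp P z ⊔ hyp Q a).subgroupOf (Q ⊔ P)))).comap
        (QuotientGroup.mk' ((hyp P z ⊔ hyp Q a).subgroupOf (Q ⊔ P)))
    have hQK : Q ≤ K.map (Q ⊔ P).subtype := by
      intro q hq
      have hqX : q ∈ Q ⊔ P := le_sup_left (a := Q) hq
      refine ⟨⟨q, hqX⟩, ?_, rfl⟩
      show (QuotientGroup.mk (⟨q, hqX⟩ : ↥(Q ⊔ P)) : _ ⧸ _) ∈ Subgroup.closure ({d, e} : Set _)
      rcases h.toPair.Q_cases hy hya hq with h5 | h5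
      · rw [(mk_one _).mpr h5]; exact Subgroup.one_mem _
      · have : (QuotientGroup.mk (⟨y, hyX⟩ : ↥(Q ⊔ P)) : _ ⧸ _) =
            QuotientGroup.mk (⟨q, hqX⟩ : ↥(Q ⊔ P)) := (mk_eq _ _).mpr h5
        rw [← this, ← hd]
        exact Subgroup.subset_closure (by simp)
    have hPK : P ≤ K.map (Q ⊔ P).subtype := by
      intro p hp
      have hpX : p ∈ Q ⊔ P := le_sup_right (a := Q) hp
      refine ⟨⟨p, hpX⟩, ?_, rfl⟩
      show (QuotientGroup.mk (⟨p, hpX⟩ : ↥(Q ⊔ P)) : _ ⧸ _) ∈ Subgroup.closure ({d, e} : Set _)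
      rcases h.toPair.P_cases hx hxz hp with h5 | h5
      · rw [(mk_one _).mpr h5]; exact Subgroup.one_mem _
      · have : (QuotientGroup.mk (⟨x, hxX⟩ : ↥(Q ⊔ P)) : _ ⧸ _) =
            QuotientGroup.mk (⟨p, hpX⟩ : ↥(Q ⊔ P)) := (mk_eq _ _).mpr h5
        rw [← this, ← he]
        exact Subgroup.subset_closure (by simp)
    intro t
    obtain ⟨k, hk, hkt⟩ := (sup_le hQK hPK) t.2
    have : k = t := Subtype.ext hkt
    rw [← this]
    exact hk
  have hcl : Subgroup.closure ({d, e} : Set (↥(Q ⊔ P) ⧸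
      (hyp P z ⊔ hyp Q a).subgroupOf (Q ⊔ P))) = ⊤ := by
    rw [eq_top_iff]
    intro u _
    obtain ⟨t, rfl⟩ := QuotientGroup.mk_surjective u
    exact hgen t
  obtain ⟨φ⟩ := closure_pair_equiv_perm d e hdd hee hde3 hnc
  exact ⟨(Subgroup.topEquiv.symm.trans (MulEquiv.subgroupCongr hcl.symm)).trans φ⟩

end PairG

end Cfsg.Agent.Helper3.LargePair
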