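import Mathlib
import Cfsg.Agent.Helper3.LargePair4
import Cfsg.Agent.Helper14.PCore

set_option autoImplicit false
set_option linter.style.haveILetI false
open Cfsg

/-! The pair `Q`, `P = Q^g`: `R = C_X(V) = O₂(X)` and `N(V) = X C(V)`. -/

namespace Cfsg.Agent.Helper3.LargeES

open Cfsg.Agent.Helper3 Cfsg.Agent.Helper3.ES2

variable {G : Type*} [Group G]

/-- every element of the normalizer of the four-group `V` acts on `(z, a)` as a word in `y`, `x` -/
theorem exists_word {z a : G} (hzz : z * z = 1) (haa : a * a = 1)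
    (hz1 : z ≠ 1) (ha1 : a ≠ 1) (hne : z ≠ a)
    (V : Subgroup G) (hV : ∀ v, v ∈ V ↔ v = 1 ∨ v = z ∨ v = a ∨ v = z * a)
    {y x : G} (hyz : y * z * y⁻¹ = z) (hya : y * a * y⁻¹ = z * a)
    (hxa : x * a * x⁻¹ = a) (hxz : x * z * x⁻¹ = z * a)
    (M : Subgroup G) (hyM : y ∈ M) (hxM : x ∈ M) {n : G}
    (hn : n ∈ Subgroup.normalizer (V : Set G)) :
    ∃ w ∈ M, w * z * w⁻¹ = n * z * n⁻¹ ∧ w * a * w⁻¹ = n * a * n⁻¹ := by
  have hyza : y * (z * a) * y⁻¹ = a := by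
    calc y * (z * a) * y⁻¹ = (y * z * y⁻¹) * (y * a * y⁻¹) := by group
      _ = z * (z * a) := by rw [hyz, hya]
      _ = a := by rw [← mul_assoc, hzz, one_mul]
  have hxza : x * (z * a) * x⁻¹ = z := by
    calc x * (z * a) * x⁻¹ = (x * z * x⁻¹) * (x * a * x⁻¹) := by group
      _ = (z * a) * a := by rw [hxz, hxa]
      _ = z := by rw [mul_assoc, haa, mul_one]
  have hnz : n * z * n⁻¹ ∈ V :=
    (Subgroup.mem_normalizer_iff.mp hn z).mp ((hV z).mpr (Or.inr (Or.inl rfl)))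
  have hna : n * a * n⁻¹ ∈ V :=
    (Subgroup.mem_normalizer_iff.mp hn a).mp ((hV a).mpr (Or.inr (Or.inr (Or.inl rfl))))
  have hnz1 : n * z * n⁻¹ ≠ 1 := by
    intro hh
    apply hz1
    calc z = n⁻¹ * (n * z * n⁻¹) * n := by group
      _ = 1 := by rw [hh]; group
  have hna1 : n * a * n⁻¹ ≠ 1 := by
    intro hh
    apply ha1
    calc a = n⁻¹ * (n * a * n⁻¹) * n := by group
      _ = 1 := by rw [hh]; group
  have hnne : n * z * n⁻¹ ≠ n * a * n⁻¹ := by
    intro hh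
    apply hne
    calc z = n⁻¹ * (n * z * n⁻¹) * n := by group
      _ = n⁻¹ * (n * a * n⁻¹) * n := by rw [hh]
      _ = a := by group
  rcases (hV _).mp hnz with h1 | h1 | h1 | h1
  · exact absurd h1 hnz1
  · rcases (hV _).mp hna with h2 | h2 | h2 | h2
    · exact absurd h2 hna1
    · exact absurd (h1.trans h2.symm) hnne
    · exact ⟨1, M.one_mem, by rw [h1]; group, by rw [h2]; group⟩
    · exact ⟨y, hyM, by rw [h1, hyz], by rw [h2, hya]⟩
  · rcases (hV _).mp hna with h2 | h2 | h2 | h2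
    · exact absurd h2 hna1
    · refine ⟨x * y * x, M.mul_mem (M.mul_mem hxM hyM) hxM, ?_, ?_⟩
      · rw [h1]
        calc x * y * x * z * (x * y * x)⁻¹ = x * (y * (x * z * x⁻¹) * y⁻¹) * x⁻¹ := by group
          _ = a := by rw [hxz, hyza, hxa]
      · rw [h2]
        calc x * y * x * a * (x * y * x)⁻¹ = x * (y * (x * a * x⁻¹) * y⁻¹) * x⁻¹ := by group
          _ = z := by rw [hxa, hya, hxza]
    · exact absurd (h1.trans h2.symm) hnne
    · refine ⟨y * x, M.mul_mem hyM hxM, ?_, ?_⟩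
      · rw [h1]
        calc y * x * z * (y * x)⁻¹ = y * (x * z * x⁻¹) * y⁻¹ := by group
          _ = a := by rw [hxz, hyza]
      · rw [h2]
        calc y * x * a * (y * x)⁻¹ = y * (x * a * x⁻¹) * y⁻¹ := by group
          _ = z * a := by rw [hxa, hya]
  · rcases (hV _).mp hna with h2 | h2 | h2 | h2
    · exact absurd h2 hna1
    · refine ⟨x * y, M.mul_mem hxM hyM, ?_, ?_⟩
      · rw [h1]
        calc x * y * z * (x * y)⁻¹ = x * (y * z * y⁻¹) * x⁻¹ := by group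
          _ = z * a := by rw [hyz, hxz]
      · rw [h2]
        calc x * y * a * (x * y)⁻¹ = x * (y * a * y⁻¹) * x⁻¹ := by group
          _ = z := by rw [hya, hxza]
    · exact ⟨x, hxM, by rw [h1, hxz], by rw [h2, hxa]⟩
    · exact absurd (h1.trans h2.symm) hnne

/-- a normal `2`-subgroup of `S₃` is trivial -/
theorem perm3_two_core (N : Subgroup (Equiv.Perm (Fin 3))) (hN : N.Normal)
    (h2 : IsPGroup 2 ↥N) : N = ⊥ := by
  have hsq : ∀ σ ∈ N, σ ^ 2 = 1 := by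
    intro σ hσ
    obtain ⟨k, hk⟩ := h2 ⟨σ, hσ⟩
    have hk' : σ ^ (2 ^ k) = 1 := by
      have := congrArg Subtype.val hk
      simpa using this
    have h6 : ∀ τ : Equiv.Perm (Fin 3), τ ^ 6 = 1 := by
      set_option maxRecDepth 100000 in decide
    have hd : orderOf σ ∣ Nat.gcd (2 ^ k) 6 :=
      Nat.dvd_gcd (orderOf_dvd_of_pow_eq_one hk') (orderOf_dvd_of_pow_eq_one (h6 σ))
    have hc : Nat.Coprime (Nat.gcd (2 ^ k) 6) 3 := by
      apply Nat.Coprime.coprime_dvd_left (Nat.gcd_dvd_left _ _)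
      exact Nat.Coprime.pow_left k (by norm_num)
    have h2' : Nat.gcd (2 ^ k) 6 ∣ 2 := by
      apply hc.dvd_of_dvd_mul_right
      exact Nat.gcd_dvd_right _ _
    exact orderOf_dvd_iff_pow_eq_one.mp (hd.trans h2')
  rw [eq_bot_iff]
  intro σ hσ
  rw [Subgroup.mem_bot]
  by_contra hne
  have key : ∀ σ : Equiv.Perm (Fin 3), σ ≠ 1 → σ ^ 2 ≠ 1 ∨
      ∃ τ : Equiv.Perm (Fin 3), (σ * (τ * σ * τ⁻¹)) ^ 2 ≠ 1 := by
    set_option maxRecDepth 100000 in decide
  rcases key σ hne with h1 | ⟨τ, h1⟩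
  · exact h1 (hsq σ hσ)
  · exact h1 (hsq _ (N.mul_mem hσ (hN.conj_mem σ hσ τ)))

end Cfsg.Agent.Helper3.LargeES

namespace Cfsg.Agent.Helper3.LargePair

open Cfsg.Agent.Helper3 Cfsg.Agent.Helper3.ES2 Cfsg.Agent.Helper3.LargeES

variable {G : Type*} [Group G]

namespace Pair

variable {Q P : Subgroup G} {z a : G}

theorem mem_centralizer_V (h : Pair Q P z a) {c : G} :
    c ∈ Subgroup.centralizer ((Subgroup.closure ({z, a} : Set G) : Subgroup G) : Set G) ↔
      c * z = z * c ∧ c * a = a * c := by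
  rw [Subgroup.mem_centralizer_iff]
  constructor
  · intro hc
    exact ⟨(hc z z_mem_V).symm, (hc a a_mem_V).symm⟩
  · rintro ⟨h1, h2⟩ v hv
    exact (h.comm_V h1 h2 hv).symm

theorem R_le_CV (h : Pair Q P z a) : hyp P z ⊔ hyp Q a ≤
    Subgroup.centralizer ((Subgroup.closure ({z, a} : Set G) : Subgroup G) : Set G) :=
  fun _ hr => h.mem_centralizer_V.mpr (h.R_comm hr)

theorem X_le_normalizer_V [Finite G] (h : Pair Q P z a) : Q ⊔ P ≤
    Subgroup.normalizer ((Subgroup.closure ({z, a} : Set G) : Subgroup G) : Set G) :=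
  sup_le (fun _ hq => h.Q_le_normalizer_V hq) (fun _ hp => h.P_le_normalizer_V hp)

theorem relIndex_CV_X [Finite G] (h : Pair Q P z a) :
    (Subgroup.centralizer ((Subgroup.closure ({z, a} : Set G) : Subgroup G) : Set G)).relIndex
      (Q ⊔ P) = 6 := by
  obtain ⟨y, hy, x, hx, hya, hxz⟩ := h.exists_yx
  have hyz : y * z * y⁻¹ = z := by rw [h.hQ.central hy]; group
  have hxa : x * a * x⁻¹ = a := by rw [h.hP.central hx]; group
  exact relIndex_eq_six_of_le h.hQ.zz h.hP.zz h.az.symm h.hQ.ne_one h.hP.ne_one h.ne.symm _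
    (fun _ => h.mem_V) hyz (hya.trans h.az) hxa hxz (Q ⊔ P) h.X_le_normalizer_V
    (le_sup_left (a := Q) hy) (le_sup_right (a := Q) hx)

/-- `N(V) = X C(V)`, elementwise -/
theorem normalizer_V_decomp [Finite G] (h : Pair Q P z a) {n : G}
    (hn : n ∈ Subgroup.normalizer ((Subgroup.closure ({z, a} : Set G) : Subgroup G) : Set G)) :
    ∃ w ∈ Q ⊔ P, ∃ c : G, c * z = z * c ∧ c * a = a * c ∧ n = w * c := by
  obtain ⟨y, hy, x, hx, hya, hxz⟩ := h.exists_yx
  have hyz : y * z * y⁻¹ = z := by rw [h.hQ.central hy]; group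
  have hxa : x * a * x⁻¹ = a := by rw [h.hP.central hx]; group
  obtain ⟨w, hw, hwz, hwa⟩ := exists_word h.hQ.zz h.hP.zz h.hQ.ne_one h.hP.ne_one h.ne.symm _
    (fun _ => h.mem_V) hyz (hya.trans h.az) hxa hxz (Q ⊔ P)
    (le_sup_left (a := Q) hy) (le_sup_right (a := Q) hx) hn
  refine ⟨w, hw, w⁻¹ * n, ?_, ?_, by group⟩
  · calc (w⁻¹ * n) * z = w⁻¹ * (n * z * n⁻¹) * n := by group
      _ = w⁻¹ * (w * z * w⁻¹) * n := by rw [hwz]
      _ = z * (w⁻¹ * n) := by group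
  · calc (w⁻¹ * n) * a = w⁻¹ * (n * a * n⁻¹) * n := by group
      _ = w⁻¹ * (w * a * w⁻¹) * n := by rw [hwa]
      _ = a * (w⁻¹ * n) := by group

theorem normalizer_V_eq [Finite G] (h : Pair Q P z a) :
    Subgroup.normalizer ((Subgroup.closure ({z, a} : Set G) : Subgroup G) : Set G) =
      (Q ⊔ P) ⊔ (Subgroup.centralizer ({z} : Set G) ⊓
        Subgroup.centralizer ((Subgroup.closure ({z, a} : Set G) : Subgroup G) : Set G)) := by
  apply le_antisymm
  · intro n hn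
    obtain ⟨w, hw, c, hcz, hca, rfl⟩ := h.normalizer_V_decomp hn
    exact Subgroup.mul_mem_sup hw ⟨Subgroup.mem_centralizer_singleton_iff.mpr hcz,
      h.mem_centralizer_V.mpr ⟨hcz, hca⟩⟩
  · refine sup_le h.X_le_normalizer_V ?_
    rintro c ⟨-, hc⟩
    obtain ⟨h1, h2⟩ := h.mem_centralizer_V.mp hc
    exact h.mem_normalizer_V_of_comm h1 h2

/-- `C(V)` normalizes `X` -/
theorem cv_conj_X (h : Pair Q P z a) {c : G} (hcz : c * z = z * c) (hca : c * a = a * c)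
    {t : G} (ht : t ∈ Q ⊔ P) : c * t * c⁻¹ ∈ Q ⊔ P := by
  have hle : (Q ⊔ P).map (MulAut.conj c).toMonoidHom ≤ Q ⊔ P := by
    rw [Subgroup.map_sup]
    apply sup_le_sup
    · rintro _ ⟨q, hq, rfl⟩; exact h.hQ.norm c hcz q hq
    · rintro _ ⟨p, hp, rfl⟩; exact h.hP.norm c hca p hp
  exact hle ⟨t, ht, rfl⟩

/-- `N(V)` normalizes `X` -/
theorem normalizer_V_conj_X [Finite G] (h : Pair Q P z a) {n : G}
    (hn : n ∈ Subgroup.normalizer ((Subgroup.closure ({z, a} : Set G) : Subgroup G) : Set G))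
    {t : G} (ht : t ∈ Q ⊔ P) : n * t * n⁻¹ ∈ Q ⊔ P := by
  obtain ⟨w, hw, c, hcz, hca, rfl⟩ := h.normalizer_V_decomp hn
  have h1 := h.cv_conj_X hcz hca ht
  have : w * c * t * (w * c)⁻¹ = w * (c * t * c⁻¹) * w⁻¹ := by group
  rw [this]
  exact Subgroup.mul_mem _ (Subgroup.mul_mem _ hw h1) (Subgroup.inv_mem _ hw)

theorem R_isPGroup (h : Pair Q P z a) : IsPGroup 2 ↥(hyp P z ⊔ hyp Q a) := by
  apply IsPGroup.to_sup_of_normal_right' (h.hP.isPGroup.to_le inf_le_left)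
    (h.hQ.isPGroup.to_le inf_le_left)
  rw [Subgroup.le_normalizer_iff]
  intro r hr k hk
  obtain ⟨hrP, hrz⟩ := mem_hyp.mp hr
  exact h.cv_conj_hyp hrz (h.hP.central hrP) hk

end Pair

namespace PairG

variable {Q P : Subgroup G} {z a g : G}

/-- `C_X(V) = R` -/
theorem X_inf_CV [Finite G] (h : PairG Q P z a g) :
    (Q ⊔ P) ⊓ Subgroup.centralizer ((Subgroup.closure ({z, a} : Set G) : Subgroup G) : Set G) =
      hyp P z ⊔ hyp Q a := by
  apply le_antisymm
  · obtain ⟨hn, ⟨φ⟩⟩ := h.quot_S3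
    have h6 : ((hyp P z ⊔ hyp Q a).subgroupOf (Q ⊔ P)).index = 6 := by
      rw [Subgroup.index_eq_card, Nat.card_congr φ.toEquiv, Nat.card_perm]
      simp [Nat.factorial]
    have h6' : ((Subgroup.centralizer ((Subgroup.closure ({z, a} : Set G) : Subgroup G) :
        Set G)).subgroupOf (Q ⊔ P)).index = 6 := h.toPair.relIndex_CV_X
    have hle : (hyp P z ⊔ hyp Q a).subgroupOf (Q ⊔ P) ≤
        (Subgroup.centralizer ((Subgroup.closure ({z, a} : Set G) : Subgroup G) :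
          Set G)).subgroupOf (Q ⊔ P) := fun t ht => h.toPair.R_le_CV ht
    have hmul := Subgroup.relIndex_mul_index hle
    rw [h6, h6'] at hmul
    have h1 : ((hyp P z ⊔ hyp Q a).subgroupOf (Q ⊔ P)).relIndex
        ((Subgroup.centralizer ((Subgroup.closure ({z, a} : Set G) : Subgroup G) :
          Set G)).subgroupOf (Q ⊔ P)) = 1 := by omega
    have hge := Subgroup.relIndex_eq_one.mp h1
    rintro t ⟨htX, htC⟩
    exact hge (show (⟨t, htX⟩ : ↥(Q ⊔ P)) ∈ _ from htC)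
  · exact le_inf Pair.R_le_X h.toPair.R_le_CV

/-- `R = O₂(X)` -/
theorem R_eq_pCore [Finite G] (h : PairG Q P z a g) :
    hyp P z ⊔ hyp Q a = (Cfsg.pCore 2 ↥(Q ⊔ P)).map (Q ⊔ P).subtype := by
  apply le_antisymm
  · exact Cfsg.Agent.Helper14.le_pCoreOf 2 Pair.R_le_X h.toPair.X_le_normalizer_R h.toPair.R_isPGroup
  · obtain ⟨hn, ⟨φ⟩⟩ := h.quot_S3
    let f : ↥(Q ⊔ P) →* Equiv.Perm (Fin 3) :=
      φ.toMonoidHom.comp (QuotientGroup.mk' ((hyp P z ⊔ hyp Q a).subgroupOf (Q ⊔ P)))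
    have hf : Function.Surjective f :=
      φ.surjective.comp (QuotientGroup.mk'_surjective _)
    have hbot : (Cfsg.pCore 2 ↥(Q ⊔ P)).map f = ⊥ :=
      perm3_two_core _ (Subgroup.Normal.map (Cfsg.Agent.Helper14.pCore_normal 2) f hf)
        ((Cfsg.Agent.Helper14.pCore_isPGroup 2).map f)
    rintro _ ⟨t, ht, rfl⟩
    have h1 : f t = 1 := by
      have : f t ∈ (Cfsg.pCore 2 ↥(Q ⊔ P)).map f := ⟨t, ht, rfl⟩
      rwa [hbot, Subgroup.mem_bot] at this
    have h2 : (QuotientGroup.mk t : ↥(Q ⊔ P) ⧸ (hyp P z ⊔ hyp Q a).subgroupOf (Q ⊔ P)) = 1 := by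
      apply φ.injective
      rw [map_one]
      exact h1
    rw [QuotientGroup.eq_one_iff, Subgroup.mem_subgroupOf] at h2
    exact h2

end PairG

end Cfsg.Agent.Helper3.LargePair
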