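import Mathlib
import Cfsg.Agent.Helper3.ProdCard

set_option autoImplicit false
set_option linter.style.haveILetI false
set_option linter.unusedSectionVars false

/-! Generic tools: normal Hall subgroups are characteristic; Burnside complements inside a normal
subgroup are normal in the whole group; normal subgroups versus core-free subgroups of prime
index. -/

namespace Cfsg.Agent.Helper3.T11

open Subgroup

variable {G : Type*} [Group G] [Finite G]

/-- A normal subgroup of order prime to its index is characteristic. -/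
theorem char_of_coprime (N : Subgroup G) [hN : N.Normal]
    (hcop : (Nat.card N).Coprime N.index) : N.Characteristic := by
  rw [characteristic_iff_map_le]
  intro φ x hx
  obtain ⟨y, hy, rfl⟩ := hx
  have h1 : (QuotientGroup.mk' N (φ y)) ^ Nat.card N = 1 := by
    rw [← map_pow, ← map_pow]
    have h2 : (⟨y, hy⟩ : ↥N) ^ Nat.card N = 1 := pow_card_eq_one'
    have h3 := congrArg Subtype.val h2
    simp only [Subgroup.coe_pow, Subgroup.coe_one] at h3
    rw [h3, map_one, map_one]
  have h4 : (QuotientGroup.mk' N (φ y)) ^ N.index = 1 := by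
    rw [Subgroup.index_eq_card]; exact pow_card_eq_one'
  have h5 := pow_gcd_eq_one.mpr ⟨h1, h4⟩
  rw [Nat.Coprime.gcd_eq_one hcop, pow_one] at h5
  exact (QuotientGroup.eq_one_iff _).mp h5

/-- Burnside's normal complement inside a normal subgroup `N` of `G` is normal in `G`. -/
theorem exists_normal_complement {p : ℕ} [Fact p.Prime] (N : Subgroup G) [N.Normal]
    (P : Sylow p ↥N) (hP : normalizer (P : Set ↥N) ≤ centralizer (P : Set ↥N)) :
    ∃ K : Subgroup G, K.Normal ∧ K ≤ N ∧ Nat.card K * Nat.card ↥(P : Subgroup ↥N) = Nat.card N ∧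
      ¬ p ∣ Nat.card K := by
  have hc := MonoidHom.ker_transferSylow_isComplement' P hP
  set K' : Subgroup ↥N := (MonoidHom.transferSylow P hP).ker with hK'
  have hcard : Nat.card K' * Nat.card ↥(P : Subgroup ↥N) = Nat.card ↥N := hc.card_mul_card
  have hnd : ¬ p ∣ Nat.card K' := MonoidHom.not_dvd_card_ker_transferSylow P hP
  have hidx : K'.index = Nat.card ↥(P : Subgroup ↥N) := by
    have h1 := K'.card_mul_index
    rw [← hcard] at h1
    have hpos : 0 < Nat.card K' := Nat.card_pos
    exact Nat.eq_of_mul_eq_mul_left hpos h1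
  have hcop : (Nat.card K').Coprime K'.index := by
    rw [hidx]
    obtain ⟨j, hj⟩ := P.isPGroup'.exists_card_eq
    rw [hj]
    apply Nat.Coprime.pow_right
    exact (Nat.Coprime.symm ((Nat.Prime.coprime_iff_not_dvd Fact.out).mpr hnd))
  haveI : K'.Characteristic := char_of_coprime K' hcop
  refine ⟨K'.map N.subtype, inferInstance, ?_, ?_, ?_⟩
  · exact Subgroup.map_subtype_le K'
  · rw [Subgroup.card_map_of_injective N.subtype_injective, hcard]
  · rw [Subgroup.card_map_of_injective N.subtype_injective]; exact hnd

/-- A nontrivial normal subgroup is not contained in a core-free subgroup; if the latter has prime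
index `q`, then `q` divides the order of the normal subgroup and `H ⊔ N = ⊤`. -/
theorem dvd_card_of_normal {q : ℕ} (hq : q.Prime) (H : Subgroup G) (hidx : H.index = q)
    (hcore : H.normalCore = ⊥) (N : Subgroup G) [N.Normal] (hN : N ≠ ⊥) :
    H ⊔ N = ⊤ ∧ q ∣ Nat.card N := by
  have hNH : ¬ N ≤ H := by
    intro h
    have : N ≤ H.normalCore := Subgroup.normal_le_normalCore.mpr h
    rw [hcore] at this
    exact hN (le_bot_iff.mp this)
  have h1 := Subgroup.relIndex_mul_index (le_sup_left : H ≤ H ⊔ N)
  rw [hidx] at h1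
  have htop : H ⊔ N = ⊤ := by
    have hdvd : (H ⊔ N).index ∣ q := ⟨_, by rw [← h1, mul_comm]⟩
    rcases (Nat.dvd_prime hq).mp hdvd with h | h
    · exact Subgroup.index_eq_one.mp h
    · exfalso
      rw [h] at h1
      have h2 : H.relIndex (H ⊔ N) = 1 := by
        have := hq.pos
        nlinarith [Nat.eq_of_mul_eq_mul_right this (h1.trans (one_mul q).symm)]
      have h3 : H ⊔ N ≤ H := Subgroup.relIndex_eq_one.mp h2
      exact hNH (le_sup_right.trans h3)
  refine ⟨htop, ?_⟩
  have h4 := Cfsg.Agent.Helper3.card_mul_set_mul_card_inf H N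
  rw [← Subgroup.mul_normal H N, htop, Subgroup.coe_top, Nat.card_coe_set_eq, Set.ncard_univ] at h4
  have h5 := H.card_mul_index
  rw [hidx] at h5
  -- |G| * |H ⊓ N| = |H| * |N|, |G| = |H| * q
  rw [← h5] at h4
  have hH : 0 < Nat.card H := Nat.card_pos
  have h6 : q * Nat.card (H ⊓ N : Subgroup G) = Nat.card N := by
    apply Nat.eq_of_mul_eq_mul_left hH
    rw [← h4]; ring
  exact ⟨_, h6.symm⟩

end Cfsg.Agent.Helper3.T11
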