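import Mathlib
import Cfsg.Agent.Helper3.Trans11a
import Cfsg.Agent.Helper3.ZP11
import Cfsg.Agent.Helper11.Transfer

set_option autoImplicit false
set_option linter.style.haveILetI false
set_option linter.unusedSectionVars false

/-! A group of order 660 with a core-free subgroup of index 11 is simple, hence `PSL(2,11)`. -/

namespace Cfsg.Agent.Helper3.T11

open Subgroup

variable {G : Type*} [Group G] [Finite G]

/-- commutativity inside a subgroup of prime order, in terms of elements of the ambient group -/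
theorem comm_of_card_prime {p : ℕ} [Fact p.Prime] (P : Subgroup G) (hP : Nat.card P = p)
    {x y : G} (hx : x ∈ P) (hy : y ∈ P) : x * y = y * x := by
  haveI : IsCyclic ↥P := isCyclic_of_prime_card hP
  letI := IsCyclic.commGroup (α := ↥P)
  have := mul_comm (⟨x, hx⟩ : ↥P) ⟨y, hy⟩
  exact congrArg Subtype.val this

/-- the Burnside condition for a Sylow subgroup `P ≤ N` of prime order with `N_G(P) ⊓ N = P` -/
theorem normalizer_le_centralizer_subtype {p : ℕ} [Fact p.Prime] (N : Subgroup G) [N.Normal]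
    (P : Sylow p G) (hPN : (P : Subgroup G) ≤ N) (hcP : Nat.card ↥(P : Subgroup G) = p)
    (hM : ∀ x ∈ N, x ∈ normalizer ((P : Subgroup G) : Set G) → x ∈ (P : Subgroup G)) :
    normalizer ((P.subtype hPN : Sylow p ↥N) : Set ↥N) ≤
      centralizer ((P.subtype hPN : Sylow p ↥N) : Set ↥N) := by
  intro x hx0
  have hx : x ∈ normalizer (((P.subtype hPN : Sylow p ↥N) : Subgroup ↥N) : Set ↥N) := hx0
  have hxP : (x : G) ∈ (P : Subgroup G) := by
    apply hM _ x.2
    rw [mem_normalizer_iff]
    intro h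
    rw [mem_normalizer_iff] at hx
    constructor
    · intro hh
      have := (hx ⟨h, hPN hh⟩).mp (by
        show (⟨h, hPN hh⟩ : ↥N) ∈ ((P.subtype hPN : Sylow p ↥N) : Subgroup ↥N)
        rw [Sylow.coe_subtype, mem_subgroupOf]; exact hh)
      have h2 : (x * ⟨h, hPN hh⟩ * x⁻¹ : ↥N) ∈ ((P.subtype hPN : Sylow p ↥N) : Subgroup ↥N) := this
      rw [Sylow.coe_subtype, mem_subgroupOf] at h2
      simpa using h2
    · intro hh
      have hhN : h ∈ N := by
        have h1 : (x : G)⁻¹ * ((x : G) * h * (x : G)⁻¹) * (x : G) ∈ N :=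
          N.mul_mem (N.mul_mem (N.inv_mem x.2) (hPN hh)) x.2
        have h2 : (x : G)⁻¹ * ((x : G) * h * (x : G)⁻¹) * (x : G) = h := by group
        rwa [h2] at h1
      have := (hx ⟨h, hhN⟩).mpr (by
        show (x * ⟨h, hhN⟩ * x⁻¹ : ↥N) ∈ ((P.subtype hPN : Sylow p ↥N) : Subgroup ↥N)
        rw [Sylow.coe_subtype, mem_subgroupOf]; simpa using hh)
      have h2 : (⟨h, hhN⟩ : ↥N) ∈ ((P.subtype hPN : Sylow p ↥N) : Subgroup ↥N) := this
      rw [Sylow.coe_subtype, mem_subgroupOf] at h2
      exact h2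
  show x ∈ centralizer (((P.subtype hPN : Sylow p ↥N) : Subgroup ↥N) : Set ↥N)
  rw [mem_centralizer_iff]
  intro y hy
  have hyP : (y : G) ∈ (P : Subgroup G) := by
    have h2 : y ∈ ((P.subtype hPN : Sylow p ↥N) : Subgroup ↥N) := hy
    rw [Sylow.coe_subtype, mem_subgroupOf] at h2
    exact h2
  apply Subtype.ext
  have := comm_of_card_prime (P : Subgroup G) hcP hyP hxP
  simpa using this

end Cfsg.Agent.Helper3.T11
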