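import Mathlib
import Cfsg.Agent.Helper3.Trans11b
import Cfsg.Agent.Helper11.NoSimple

set_option autoImplicit false
set_option linter.style.haveILetI false
set_option linter.unusedSectionVars false

namespace Cfsg.Agent.Helper3.T11

open Subgroup

variable {G : Type*} [Group G] [Finite G]

section

variable (hcard : Nat.card G = 660) (H : Subgroup G) (hidx : H.index = 11)
  (hcore : H.normalCore = ⊥)

include hcard in
theorem card_sylow11 [Fact (Nat.Prime 11)] (P : Sylow 11 G) : Nat.card ↥(P : Subgroup G) = 11 := by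
  have := (Cfsg.Agent.Helper11.sylow_card_of_card_eq_pow (G := G) (p := 11) 60 1
    (by rw [hcard]; norm_num) (by norm_num) P).1
  simpa using this

include hcard in
theorem card_sylow11_cases [Fact (Nat.Prime 11)] :
    Nat.card (Sylow 11 G) = 1 ∨ Nat.card (Sylow 11 G) = 12 := by
  have hmem := Cfsg.Agent.Helper11.card_sylow_mem_filter (G := G) (p := 11) 60 1
    (by rw [hcard]; norm_num) (by norm_num)
  have key : ∀ d ∈ (Nat.divisors 60).filter (fun d => d % 11 = 1), d = 1 ∨ d = 12 := by decide
  exact key _ hmem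

include hcard hidx hcore in
/-- every nontrivial normal subgroup has order divisible by 11 -/
theorem eleven_dvd (N : Subgroup G) [N.Normal] (hN : N ≠ ⊥) : 11 ∣ Nat.card N :=
  (dvd_card_of_normal (by norm_num) H hidx hcore N hN).2

include hcard hidx hcore in
theorem card_sylow11_ne_one [Fact (Nat.Prime 11)] : Nat.card (Sylow 11 G) ≠ 1 := by
  intro h1
  haveI : Subsingleton (Sylow 11 G) := (Nat.card_eq_one_iff_unique.mp h1).1
  obtain ⟨P⟩ : Nonempty (Sylow 11 G) := inferInstance
  haveI hn : (P : Subgroup G).Normal := P.normal_of_subsingleton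
  have hcP := card_sylow11 hcard P
  set C : Subgroup G := centralizer ((P : Subgroup G) : Set G) with hC
  haveI : C.Normal := Subgroup.normal_centralizer
  have hPC : (P : Subgroup G) ≤ C := by
    intro x hx
    rw [hC, mem_centralizer_iff]
    intro y hy
    exact comm_of_card_prime (P : Subgroup G) hcP hy hx
  -- index of `C` divides 10
  have hCidx : C.index ∣ 10 := by
    have := Cfsg.Agent.Helper11.relIndex_centralizer_normalizer_dvd_card_mulAut (P : Subgroup G)
    rw [Subgroup.normalizer_eq_top, Subgroup.relIndex_top_right] at this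
    haveI hcyc : IsCyclic ↥(P : Subgroup G) := isCyclic_of_prime_card hcP
    rw [IsCyclic.card_mulAut (G := ↥(P : Subgroup G)), hcP] at this
    have h10 : Nat.totient 11 = 10 := Nat.totient_prime (by norm_num)
    rwa [h10] at this
  -- Burnside complement in `C`
  have hBurn : normalizer ((P.subtype hPC : Sylow 11 ↥C) : Set ↥C) ≤
      centralizer ((P.subtype hPC : Sylow 11 ↥C) : Set ↥C) := by
    intro x _
    show x ∈ centralizer (((P.subtype hPC : Sylow 11 ↥C) : Subgroup ↥C) : Set ↥C)
    rw [mem_centralizer_iff]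
    intro y hy
    have hyP : (y : G) ∈ (P : Subgroup G) := by
      have h2 : y ∈ ((P.subtype hPC : Sylow 11 ↥C) : Subgroup ↥C) := hy
      rw [Sylow.coe_subtype, mem_subgroupOf] at h2
      exact h2
    have hx : (x : G) ∈ centralizer ((P : Subgroup G) : Set G) := x.2
    rw [mem_centralizer_iff] at hx
    apply Subtype.ext
    have := hx _ hyP
    simpa using this
  obtain ⟨K, hKn, hKC, hKcard, hK11⟩ := exists_normal_complement C (P.subtype hPC) hBurn
  have hcP' : Nat.card ↥((P.subtype hPC : Sylow 11 ↥C) : Subgroup ↥C) = 11 := by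
    rw [Sylow.coe_subtype]
    rw [Nat.card_congr (Subgroup.subgroupOfEquivOfLe hPC).toEquiv, hcP]
  rw [hcP'] at hKcard
  have hCc := C.card_mul_index
  rw [hcard] at hCc
  -- |C| * index = 660, index ∣ 10, so |C| ≥ 66 and |K| ≥ 6
  have hKne : K ≠ ⊥ := by
    rintro rfl
    rw [Subgroup.card_bot] at hKcard
    have hile : C.index ≤ 10 := Nat.le_of_dvd (by norm_num) hCidx
    rw [← hKcard] at hCc
    nlinarith
  exact hK11 (eleven_dvd hcard H hidx hcore K hKne)

include hcard hidx hcore in
/-- a nontrivial normal subgroup is everything -/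
theorem normal_eq_top [Fact (Nat.Prime 11)] (N : Subgroup G) [N.Normal] (hN : N ≠ ⊥) : N = ⊤ := by
  have hsyl : Nat.card (Sylow 11 G) = 11 + 1 := by
    rcases card_sylow11_cases hcard with h | h
    · exact absurd h (card_sylow11_ne_one hcard H hidx hcore)
    · exact h
  have h11N := eleven_dvd hcard H hidx hcore N hN
  -- a Sylow 11-subgroup of `G` inside `N`
  obtain ⟨P, hPN⟩ : ∃ P : Sylow 11 G, (P : Subgroup G) ≤ N := by
    obtain ⟨P0⟩ : Nonempty (Sylow 11 ↥N) := inferInstance
    have hdvd : 11 ∣ Nat.card ↥(P0 : Subgroup ↥N) := P0.dvd_card_of_dvd_card h11N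
    have hpg : IsPGroup 11 ↥((P0 : Subgroup ↥N).map N.subtype) := P0.isPGroup'.map N.subtype
    obtain ⟨P, hP⟩ := hpg.exists_le_sylow
    refine ⟨P, ?_⟩
    have hc1 : Nat.card ↥((P0 : Subgroup ↥N).map N.subtype) = Nat.card ↥(P0 : Subgroup ↥N) :=
      Subgroup.card_map_of_injective N.subtype_injective
    have hcP := card_sylow11 hcard P
    have hle : Nat.card ↥(P : Subgroup G) ≤ Nat.card ↥((P0 : Subgroup ↥N).map N.subtype) := by
      rw [hc1, hcP]; exact Nat.le_of_dvd Nat.card_pos hdvd
    have heq : (P0 : Subgroup ↥N).map N.subtype = (P : Subgroup G) :=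
      Subgroup.eq_of_le_of_card_ge hP hle
    rw [← heq]
    exact Subgroup.map_subtype_le _
  have hcP := card_sylow11 hcard P
  set M : Subgroup G := normalizer ((P : Subgroup G) : Set G) with hM
  have hMcard : Nat.card M = 11 * 5 :=
    Cfsg.Agent.Helper3.ZP.card_normalizer_sylow (p := 11) (n := 5) (by rw [hcard]) hsyl P
  have hsup : M ⊔ N = ⊤ := Sylow.normalizer_sup_eq_top' P hPN
  have h4 := Cfsg.Agent.Helper3.card_mul_set_mul_card_inf M N
  rw [← Subgroup.mul_normal M N, hsup, Subgroup.coe_top, Nat.card_coe_set_eq, Set.ncard_univ,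
    hcard, hMcard] at h4
  have hPle : (P : Subgroup G) ≤ M ⊓ N := le_inf le_normalizer hPN
  have hd1 : 11 ∣ Nat.card ↥(M ⊓ N) := by
    rw [← hcP]; exact Subgroup.card_dvd_of_le hPle
  have hd2 : Nat.card ↥(M ⊓ N) ∣ 55 := by
    have := Subgroup.card_dvd_of_le (inf_le_left : M ⊓ N ≤ M)
    rwa [hMcard] at this
  have hcases : Nat.card ↥(M ⊓ N) = 11 ∨ Nat.card ↥(M ⊓ N) = 55 := by
    have hle : Nat.card ↥(M ⊓ N) ≤ 55 := Nat.le_of_dvd (by norm_num) hd2
    have key : ∀ d ≤ 55, 11 ∣ d → d ∣ 55 → d = 11 ∨ d = 55 := by decide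
    exact key _ hle hd1 hd2
  rcases hcases with h | h
  · exfalso
    rw [h] at h4
    have hNcard : Nat.card N = 132 := by omega
    have hMN : M ⊓ N = (P : Subgroup G) :=
      (Subgroup.eq_of_le_of_card_ge hPle (by rw [h, hcP])).symm
    have hBurn := normalizer_le_centralizer_subtype N P hPN hcP (by
      intro x hxN hxM
      rw [← hMN]
      exact ⟨hxM, hxN⟩)
    obtain ⟨K, hKn, hKC, hKcard, hK11⟩ := exists_normal_complement N (P.subtype hPN) hBurn
    have hcP' : Nat.card ↥((P.subtype hPN : Sylow 11 ↥N) : Subgroup ↥N) = 11 := by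
      rw [Sylow.coe_subtype]
      rw [Nat.card_congr (Subgroup.subgroupOfEquivOfLe hPN).toEquiv, hcP]
    rw [hcP', hNcard] at hKcard
    have hKne : K ≠ ⊥ := by
      rintro rfl
      rw [Subgroup.card_bot] at hKcard
      omega
    exact hK11 (eleven_dvd hcard H hidx hcore K hKne)
  · rw [h] at h4
    have hNcard : Nat.card N = Nat.card G := by rw [hcard]; omega
    exact (Subgroup.card_eq_iff_eq_top N).mp hNcard

include hcard hidx hcore in
/-- A group of order 660 with a core-free subgroup of index 11 is simple. -/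
theorem isSimpleGroup_of_card_660 : IsSimpleGroup G := by
  haveI : Fact (Nat.Prime 11) := ⟨by norm_num⟩
  haveI : Nontrivial G := by
    rw [← Finite.one_lt_card_iff_nontrivial, hcard]; norm_num
  refine ⟨fun N hN => ?_⟩
  by_cases h : N = ⊥
  · exact Or.inl h
  · haveI := hN
    exact Or.inr (normal_eq_top hcard H hidx hcore N h)

include hcard hidx hcore in
/-- A group of order 660 with a core-free subgroup of index 11 is `PSL(2,11)`. -/
theorem iso_psl11 {F : Type*} [Field F] [Fintype F] (hF : Fintype.card F = 11) :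
    Nonempty (G ≃* Matrix.ProjectiveSpecialLinearGroup (Fin 2) F) := by
  haveI := isSimpleGroup_of_card_660 hcard H hidx hcore
  exact Cfsg.Agent.Helper3.ZP.iso_psl_11 hcard hF

end

end Cfsg.Agent.Helper3.T11
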