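import Mathlib
import Cfsg.Agent.Helper22.M11S5
import Cfsg.Agent.Helper22.GolayDodecad
import Cfsg.Agent.Helper22.DodPair
import Cfsg.Agent.Helper3.Trans11c

/-!
# The stabiliser of a point in the 12-point action of `M₁₁` is `PSL(2,11)`.
-/

set_option autoImplicit false
set_option linter.style.haveILetI false

namespace Cfsg.Agent.Helper3.M11PSL

open Cfsg Cfsg.Agent.Helper27 Cfsg.Agent.Helper22.M11S5
open scoped Pointwise

/-- membership in `A = stab d ⊓ stab p` from the permutation-level description -/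
theorem mem_A_of {d : Finset GolayPt} {p : GolayPt} {k : Equiv.Perm GolayPt}
    (hk : k ∈ fixH (stabP d) {p}) :
    ∃ k' : ↥(MulAction.stabilizer ↥M24 d ⊓ MulAction.stabilizer ↥M24 p),
      ((k' : ↥M24) : Equiv.Perm GolayPt) = k := by
  rw [mem_fixH, mem_stabP] at hk
  refine ⟨⟨⟨k, hk.1.1⟩, ?_⟩, rfl⟩
  rw [Subgroup.mem_inf]
  exact ⟨hk.1.2, hk.2 p (Finset.mem_singleton_self _)⟩

/-- the orbit of a point of the complement under `A` -/
theorem orbit_pt {d : Finset GolayPt} (hd : d ∈ dodecads) {p q : GolayPt} (hp : p ∈ d) (hq : q ∉ d) :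
    MulAction.orbit ↥(MulAction.stabilizer ↥M24 d ⊓ MulAction.stabilizer ↥M24 p) q =
      ↑(Finset.univ \ d : Finset GolayPt) := by
  ext r
  rw [Finset.mem_coe, Finset.mem_sdiff]
  constructor
  · rintro ⟨k, rfl⟩
    have hk := k.2
    rw [Subgroup.mem_inf] at hk
    have hkd : ((k : ↥M24) : Equiv.Perm GolayPt) • d = d := hk.1
    refine ⟨Finset.mem_univ _, ?_⟩
    show ((k : ↥M24) : Equiv.Perm GolayPt) q ∉ d
    intro hmem
    apply hq
    have h2 : ((k : ↥M24) : Equiv.Perm GolayPt) q ∈ ((k : ↥M24) : Equiv.Perm GolayPt) • d := by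
      rw [hkd]; exact hmem
    exact (Cfsg.Agent.Helper22.Flag.mem_smul_iff _ q d).mp h2
  · rintro ⟨-, hr⟩
    obtain ⟨q', hq', hq'q, -⟩ := exists_third hd q q
    obtain ⟨r', hr', hr'r, -⟩ := exists_third hd r r
    obtain ⟨k, hk, hk1, -⟩ := exists_map2 hd hp hq hq' (Ne.symm hq'q) hr hr' (Ne.symm hr'r)
    obtain ⟨k', hk'⟩ := mem_A_of hk
    refine ⟨k', ?_⟩
    show ((k' : ↥M24) : Equiv.Perm GolayPt) q = r
    rw [hk', hk1]

/-- the orbit of a second point under `B = A ⊓ stab q` -/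
theorem orbit_pt2 {d : Finset GolayPt} (hd : d ∈ dodecads) {p q q' : GolayPt} (hp : p ∈ d) (hq : q ∉ d)
    (hq' : q' ∉ d) (hqq : q ≠ q') :
    MulAction.orbit ↥(MulAction.stabilizer ↥M24 d ⊓ MulAction.stabilizer ↥M24 p ⊓
        MulAction.stabilizer ↥M24 q) q' =
      ↑((Finset.univ \ d).erase q : Finset GolayPt) := by
  ext r
  rw [Finset.mem_coe, Finset.mem_erase, Finset.mem_sdiff]
  constructor
  · rintro ⟨k, rfl⟩
    have hk := k.2
    rw [Subgroup.mem_inf, Subgroup.mem_inf] at hk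
    have hkd : ((k : ↥M24) : Equiv.Perm GolayPt) • d = d := hk.1.1
    have hkq : ((k : ↥M24) : Equiv.Perm GolayPt) q = q := hk.2
    refine ⟨?_, Finset.mem_univ _, ?_⟩
    · show ((k : ↥M24) : Equiv.Perm GolayPt) q' ≠ q
      intro h
      have h3 : ((k : ↥M24) : Equiv.Perm GolayPt) q' = ((k : ↥M24) : Equiv.Perm GolayPt) q :=
        h.trans hkq.symm
      exact hqq (((k : ↥M24) : Equiv.Perm GolayPt).injective h3).symm
    · show ((k : ↥M24) : Equiv.Perm GolayPt) q' ∉ d
      intro hmem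
      apply hq'
      have h2 : ((k : ↥M24) : Equiv.Perm GolayPt) q' ∈ ((k : ↥M24) : Equiv.Perm GolayPt) • d := by
        rw [hkd]; exact hmem
      exact (Cfsg.Agent.Helper22.Flag.mem_smul_iff _ q' d).mp h2
  · rintro ⟨hrq, -, hr⟩
    obtain ⟨k, hk, hk1, hk2⟩ := exists_map2 hd hp hq hq' hqq hq hr (Ne.symm hrq)
    have hk0 := hk
    rw [mem_fixH, mem_stabP] at hk0
    refine ⟨⟨⟨k, hk0.1.1⟩, ?_⟩, ?_⟩
    · rw [Subgroup.mem_inf, Subgroup.mem_inf]
      exact ⟨⟨hk0.1.2, hk0.2 p (Finset.mem_singleton_self _)⟩, hk1⟩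
    · show k q' = r
      exact hk2

theorem card_B {d : Finset GolayPt} (hd : d ∈ dodecads) {p q : GolayPt} (hp : p ∈ d) (hq : q ∉ d) :
    Nat.card ↥(MulAction.stabilizer ↥M24 d ⊓ MulAction.stabilizer ↥M24 p ⊓
      MulAction.stabilizer ↥M24 q) = 660 := by
  have h1 := Cfsg.Agent.Helper22.MaxStab.relIndex_stabilizer
    (MulAction.stabilizer ↥M24 d ⊓ MulAction.stabilizer ↥M24 p) q
  rw [orbit_pt hd hp hq, Set.ncard_coe_finset, Finset.card_sdiff_of_subset (Finset.subset_univ d),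
    hd.2] at h1
  have hu : (Finset.univ : Finset GolayPt).card = 24 := by decide
  rw [hu] at h1
  have h2 := Subgroup.relIndex_mul_relIndex ⊥
    (MulAction.stabilizer ↥M24 d ⊓ MulAction.stabilizer ↥M24 p ⊓ MulAction.stabilizer ↥M24 q)
    (MulAction.stabilizer ↥M24 d ⊓ MulAction.stabilizer ↥M24 p) bot_le inf_le_left
  rw [Subgroup.relIndex_bot_left, Subgroup.relIndex_bot_left, Subgroup.inf_relIndex_left, h1,
    card_stabilizer_dodecad_pt hd hp] at h2
  omega

/-- an element of `M24` preserving a dodecad and fixing every point outside it is trivial -/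
theorem eq_one_of_fix_compl {d : Finset GolayPt} (hd : d ∈ dodecads) {x : Equiv.Perm GolayPt}
    (hx : x ∈ M24) (hxd : x • d = d) (hfix : ∀ r, r ∉ d → x r = r) : x = 1 := by
  have hdc : dᶜ ∈ dodecads := Cfsg.Agent.Helper22.GolayComb.compl_mem_dodecads hd
  have hxc : x ∈ stabP dᶜ := by
    rw [mem_stabP]
    refine ⟨hx, ?_⟩
    rw [Finset.compl_eq_univ_sdiff, Cfsg.Agent.Helper22.DodPair.smul_univ_sdiff, hxd]
  have hcard : (dᶜ).card = 12 := hdc.2
  -- five distinct points of the complement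
  let e : Fin 12 ≃ {r // r ∈ dᶜ} := (Finset.equivFinOfCardEq hcard).symm
  let y : Fin 5 → GolayPt := fun i => (e (Fin.castLE (by norm_num) i) : GolayPt)
  have hy : Function.Injective y := by
    intro i j hij
    have h1 : e (Fin.castLE (by norm_num) i) = e (Fin.castLE (by norm_num) j) := Subtype.ext hij
    have h2 := e.injective h1
    exact Fin.castLE_injective _ h2
  have hyd : ∀ i, y i ∈ dᶜ := fun i => (e (Fin.castLE (by norm_num) i)).2
  obtain ⟨k, -, -, huniq⟩ := stabP_sharp5 hdc y y hy hy hyd hyd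
  have h1 : x = k := huniq x hxc (fun i => hfix _ (Finset.mem_compl.mp (hyd i)))
  have h2 : (1 : Equiv.Perm GolayPt) = k := huniq 1 (Subgroup.one_mem _) (fun i => rfl)
  rw [h1, ← h2]

/-- The stabiliser of a point in the 12-point action of `M₁₁` is `PSL(2,11)`. -/
theorem iso {d : Finset GolayPt} (hd : d ∈ dodecads) {p q : GolayPt} (hp : p ∈ d) (hq : q ∉ d) :
    Nonempty (↥(MulAction.stabilizer ↥M24 d ⊓ MulAction.stabilizer ↥M24 p ⊓
      MulAction.stabilizer ↥M24 q) ≃* Matrix.ProjectiveSpecialLinearGroup (Fin 2) (ZMod 11)) := by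
  haveI : Fact (Nat.Prime 11) := ⟨by norm_num⟩
  obtain ⟨q', hq', hq'q, -⟩ := exists_third hd q q
  have hqq : q ≠ q' := Ne.symm hq'q
  set B : Subgroup ↥M24 := MulAction.stabilizer ↥M24 d ⊓ MulAction.stabilizer ↥M24 p ⊓
      MulAction.stabilizer ↥M24 q with hB
  have hcard : Nat.card ↥B = 660 := card_B hd hp hq
  set Hs : Subgroup ↥B := (MulAction.stabilizer ↥M24 q').subgroupOf B with hHs
  have hidx : Hs.index = 11 := by
    have h1 := Cfsg.Agent.Helper22.MaxStab.relIndex_stabilizer B q'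
    rw [hB, orbit_pt2 hd hp hq hq' hqq, Set.ncard_coe_finset, Finset.card_erase_of_mem (by
      rw [Finset.mem_sdiff]; exact ⟨Finset.mem_univ _, hq⟩),
      Finset.card_sdiff_of_subset (Finset.subset_univ d), hd.2] at h1
    have hu : (Finset.univ : Finset GolayPt).card = 24 := by decide
    rw [hu] at h1
    exact h1
  have hcore : Hs.normalCore = ⊥ := by
    rw [eq_bot_iff]
    intro x hx
    rw [Subgroup.mem_bot]
    have hx' : ∀ b : ↥B, b * x * b⁻¹ ∈ Hs := hx
    -- `x` fixes every point outside `d`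
    have hxB : ((x : ↥B) : ↥M24) ∈ MulAction.stabilizer ↥M24 d ⊓ MulAction.stabilizer ↥M24 p ⊓
      MulAction.stabilizer ↥M24 q := x.2
    rw [Subgroup.mem_inf, Subgroup.mem_inf] at hxB
    have hxd : (((x : ↥B) : ↥M24) : Equiv.Perm GolayPt) • d = d := hxB.1.1
    have hxq : (((x : ↥B) : ↥M24) : Equiv.Perm GolayPt) q = q := hxB.2
    have hfix : ∀ r, r ∉ d → (((x : ↥B) : ↥M24) : Equiv.Perm GolayPt) r = r := by
      intro r hr
      by_cases hrq : r = q
      · rw [hrq]; exact hxq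
      · -- some `c ∈ B` maps `q'` to `r`
        have hmem : r ∈ MulAction.orbit ↥(MulAction.stabilizer ↥M24 d ⊓ MulAction.stabilizer ↥M24 p ⊓
            MulAction.stabilizer ↥M24 q) q' := by
          rw [orbit_pt2 hd hp hq hq' hqq, Finset.mem_coe, Finset.mem_erase, Finset.mem_sdiff]
          exact ⟨hrq, Finset.mem_univ _, hr⟩
        obtain ⟨c, hc⟩ := hmem
        have hc' : (((c : ↥B) : ↥M24) : Equiv.Perm GolayPt) q' = r := hc
        have h1 := hx' c⁻¹
        rw [hHs, Subgroup.mem_subgroupOf, MulAction.mem_stabilizer_iff] at h1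
        have h2 : ((((c : ↥B) : ↥M24) : Equiv.Perm GolayPt))⁻¹
            ((((x : ↥B) : ↥M24) : Equiv.Perm GolayPt)
              ((((c : ↥B) : ↥M24) : Equiv.Perm GolayPt) q')) = q' := by
          have h3 : (((c : ↥B) : ↥M24)⁻¹ * ((x : ↥B) : ↥M24) * ((c : ↥B) : ↥M24)) • q' = q' := by
            simpa using h1
          exact h3
        rw [hc', Equiv.Perm.inv_eq_iff_eq, hc'] at h2
        exact h2
    have h1 := eq_one_of_fix_compl hd ((x : ↥B) : ↥M24).2 hxd hfix
    apply Subtype.ext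
    apply Subtype.ext
    exact h1
  exact Cfsg.Agent.Helper3.T11.iso_psl11 hcard Hs hidx hcore (ZMod.card 11)

end Cfsg.Agent.Helper3.M11PSL
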