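import Mathlib
import Cfsg.Agent.Helper4.JordanCycle

set_option autoImplicit false
set_option linter.style.haveILetI false
set_option linter.unusedSectionVars false

/-!
# Miller's theorem, part 1: Sylow subgroups of point stabilisers and Witt's lemma
-/

namespace Cfsg.Agent.Helper3.Miller

open Equiv Equiv.Perm MulAction

/-- If two permutations agree on a set stable under the second one, so do their powers. -/
theorem agree_pow {α : Type*} (f g : Perm α) (s : Set α) (h1 : ∀ x ∈ s, f x = g x)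
    (h2 : ∀ x ∈ s, g x ∈ s) : ∀ n : ℕ, ∀ x ∈ s, (f ^ n) x = (g ^ n) x := by
  intro n
  induction n with
  | zero => intro x _; simp
  | succ n ih =>
    intro x hx
    rw [pow_succ, pow_succ, Perm.mul_apply, Perm.mul_apply, h1 x hx, ih (g x) (h2 x hx)]

theorem pow_mem_of_mem {α : Type*} (g : Perm α) (s : Set α)
    (h2 : ∀ x ∈ s, g x ∈ s) : ∀ n : ℕ, ∀ x ∈ s, (g ^ n) x ∈ s := by
  intro n
  induction n with
  | zero => intro x hx; simpa using hx
  | succ n ih =>
    intro x hx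
    rw [pow_succ, Perm.mul_apply]
    exact ih (g x) (h2 x hx)

section Sylow

variable {X : Type*} [Group X]

theorem exists_sylow_sub (H : Subgroup X) [Finite H] (p : ℕ) [Fact p.Prime] :
    ∃ P : Subgroup X, P ≤ H ∧ IsPGroup p P ∧
      Nat.card P = p ^ (Nat.card H).factorization p := by
  obtain ⟨S⟩ : Nonempty (Sylow p H) := inferInstance
  refine ⟨S.1.map H.subtype, ?_, ?_, ?_⟩
  · rintro _ ⟨x, _, rfl⟩
    exact x.2
  · exact S.2.map _
  · rw [← S.card_eq_multiplicity]
    exact Nat.card_congr (S.1.equivMapOfInjective H.subtype H.subtype_injective).symm.toEquiv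

theorem sylow_conj_sub (H : Subgroup X) [Finite H] (p : ℕ) [Fact p.Prime]
    (P Q : Subgroup X) (hP : P ≤ H) (hQ : Q ≤ H) (hQp : IsPGroup p Q)
    (hPc : Nat.card P = p ^ (Nat.card H).factorization p) (hQc : Nat.card Q = Nat.card P) :
    ∃ h ∈ H, ∀ u ∈ Q, h * u * h⁻¹ ∈ P := by
  have hPp : IsPGroup p P := IsPGroup.of_card hPc
  have cP : Nat.card (P.subgroupOf H) = Nat.card P :=
    Nat.card_congr (Subgroup.subgroupOfEquivOfLe hP).toEquiv
  have cQ : Nat.card (Q.subgroupOf H) = Nat.card Q :=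
    Nat.card_congr (Subgroup.subgroupOfEquivOfLe hQ).toEquiv
  have hP' : IsPGroup p (P.subgroupOf H) := hPp.comap_of_injective _ H.subtype_injective
  have hQ' : IsPGroup p (Q.subgroupOf H) := hQp.comap_of_injective _ H.subtype_injective
  obtain ⟨SP, hSP⟩ := hP'.exists_le_sylow
  obtain ⟨SQ, hSQ⟩ := hQ'.exists_le_sylow
  have eP : P.subgroupOf H = SP.1 := by
    apply Subgroup.eq_of_le_of_card_ge hSP
    rw [cP, hPc]
    exact le_of_eq SP.card_eq_multiplicity
  have eQ : Q.subgroupOf H = SQ.1 := by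
    apply Subgroup.eq_of_le_of_card_ge hSQ
    rw [cQ, hQc, hPc]
    exact le_of_eq SQ.card_eq_multiplicity
  obtain ⟨h, hh⟩ := MulAction.exists_smul_eq H SQ SP
  refine ⟨h.1, h.2, fun u hu => ?_⟩
  have hu' : (⟨u, hQ hu⟩ : H) ∈ SQ.1 := by
    rw [← eQ]
    exact Subgroup.mem_subgroupOf.mpr hu
  have h2 : h * ⟨u, hQ hu⟩ * h⁻¹ ∈ (h • SQ).1 := by
    rw [Sylow.smul_def, Sylow.pointwise_smul_def]
    rw [Subgroup.mem_pointwise_smul_iff_inv_smul_mem]
    simpa [MulAut.conj_apply, mul_assoc] using hu'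
  rw [hh, ← eP, Subgroup.mem_subgroupOf] at h2
  simpa using h2

end Sylow

variable {α : Type*} [Fintype α] [DecidableEq α]

/-- The elements of `G` fixing the finite set `Δ` pointwise. -/
def fixG (G : Subgroup (Perm α)) (Δ : Finset α) : Subgroup (Perm α) where
  carrier := {g | g ∈ G ∧ ∀ d ∈ Δ, g d = d}
  mul_mem' := by
    rintro a b ⟨ha, ha'⟩ ⟨hb, hb'⟩
    refine ⟨G.mul_mem ha hb, fun d hd => ?_⟩
    rw [Perm.mul_apply, hb' d hd, ha' d hd]
  one_mem' := ⟨G.one_mem, fun _ _ => rfl⟩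
  inv_mem' := by
    rintro a ⟨ha, ha'⟩
    refine ⟨G.inv_mem ha, fun d hd => ?_⟩
    rw [Perm.inv_eq_iff_eq, ha' d hd]

theorem mem_fixG {G : Subgroup (Perm α)} {Δ : Finset α} {g : Perm α} :
    g ∈ fixG G Δ ↔ g ∈ G ∧ ∀ d ∈ Δ, g d = d := Iff.rfl

/-- `(r+1)`-transitivity: the pointwise stabiliser of an `r`-set is transitive on the rest. -/
theorem fixG_trans (G : Subgroup (Perm α)) (Δ : Finset α) {r : ℕ} (hΔ : Δ.card = r)
    (hG : IsMultiplyPretransitive G α (r + 1)) {γ γ' : α} (hγ : γ ∉ Δ) (hγ' : γ' ∉ Δ) :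
    ∃ h ∈ fixG G Δ, h γ = γ' := by
  obtain ⟨y, hyG, hy⟩ := Cfsg.Agent.Helper4.JordanCycle.exists_mem_agree_on G hG (insert γ Δ)
    (by rw [Finset.card_insert_of_notMem hγ, hΔ]) (Equiv.swap γ γ')
  refine ⟨y, ⟨hyG, fun d hd => ?_⟩, ?_⟩
  · rw [hy d (Finset.mem_insert_of_mem hd)]
    apply Equiv.swap_apply_of_ne_of_ne
    · rintro rfl; exact hγ hd
    · rintro rfl; exact hγ' hd
  · rw [hy γ (Finset.mem_insert_self _ _), Equiv.swap_apply_left]


theorem orbit_fixG (G : Subgroup (Perm α)) (Δ : Finset α) {r : ℕ} (hΔ : Δ.card = r)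
    (hG : IsMultiplyPretransitive G α (r + 1)) {γ : α} (hγ : γ ∉ Δ) :
    MulAction.orbit (fixG G Δ) γ = ((Δᶜ : Finset α) : Set α) := by
  ext x
  simp only [Finset.coe_compl, Set.mem_compl_iff, Finset.mem_coe]
  constructor
  · rintro ⟨h, rfl⟩ hx
    have h1 : (h : Perm α) ((h : Perm α) γ) = (h : Perm α) γ := h.2.2 _ hx
    have h2 := (h : Perm α).injective h1
    rw [← h2] at hγ
    exact hγ hx
  · intro hx
    obtain ⟨h, hh, hhx⟩ := fixG_trans G Δ hΔ hG hγ hx
    exact ⟨⟨h, hh⟩, hhx⟩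

theorem orbit_card (G : Subgroup (Perm α)) (Δ : Finset α) {k p r : ℕ} (hp : p.Prime)
    (hn : Fintype.card α = k * p + r) (hk : 1 ≤ k) (hkp : k < p) (hΔ : Δ.card = r)
    (hG : IsMultiplyPretransitive G α (r + 1))
    (P : Subgroup (Perm α)) (hPH : P ≤ fixG G Δ)
    (hPc : Nat.card P = p ^ (Nat.card (fixG G Δ)).factorization p) {γ : α} (hγ : γ ∉ Δ) :
    (MulAction.orbit P γ).ncard = p := by
  haveI : Fact p.Prime := ⟨hp⟩
  set H := fixG G Δ with hH
  have hPp : IsPGroup p P := IsPGroup.of_card hPc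
  -- the `H`-orbit
  have hOH : (MulAction.orbit H γ).ncard = k * p := by
    rw [orbit_fixG G Δ hΔ hG hγ, Set.ncard_coe_finset, Finset.card_compl, hn, hΔ]
    omega
  have hcH : k * p * Nat.card (stabilizer H γ) = Nat.card H := by
    rw [← hOH, ← MulAction.index_stabilizer]
    exact Subgroup.index_mul_card _
  have hcP : (MulAction.orbit P γ).ncard * Nat.card (stabilizer P γ) = Nat.card P := by
    rw [← MulAction.index_stabilizer]
    exact Subgroup.index_mul_card _
  -- the stabiliser in `P` embeds in the stabiliser in `H`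
  have hdvd : Nat.card (stabilizer P γ) ∣ Nat.card (stabilizer H γ) := by
    have hinj : Function.Injective (Subgroup.inclusion hPH) := Subgroup.inclusion_injective hPH
    have h1 : (stabilizer P γ).map (Subgroup.inclusion hPH) ≤ stabilizer H γ := by
      rintro _ ⟨u, hu, rfl⟩
      have hu' : u ∈ stabilizer P γ := hu
      rw [MulAction.mem_stabilizer_iff] at hu' ⊢
      exact hu'
    have h2 := Subgroup.card_dvd_of_le h1
    rwa [Nat.card_congr ((stabilizer P γ).equivMapOfInjective _ hinj).symm.toEquiv] at h2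
  obtain ⟨m, hm⟩ := IsPGroup.iff_card.mp (hPp.to_subgroup (stabilizer P γ))
  obtain ⟨j, hj⟩ := hPp.card_orbit γ
  rw [Nat.card_coe_set_eq] at hj
  have hs0 : Nat.card (stabilizer H γ) ≠ 0 := Nat.card_pos.ne'
  have hk0 : k ≠ 0 := by omega
  -- valuations
  have hv : (Nat.card H).factorization p = 1 + (Nat.card (stabilizer H γ)).factorization p := by
    rw [← hcH, Nat.factorization_mul (Nat.mul_ne_zero hk0 hp.ne_zero) hs0,
      Nat.factorization_mul hk0 hp.ne_zero]
    simp only [Finsupp.coe_add, Pi.add_apply]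
    rw [Nat.factorization_eq_zero_of_lt hkp, hp.factorization_self]
  have hm' : m ≤ (Nat.card (stabilizer H γ)).factorization p := by
    rw [hm] at hdvd
    exact (hp.pow_dvd_iff_le_factorization hs0).mp hdvd
  have hjm : j + m = (Nat.card H).factorization p := by
    rw [hj, hm, hPc, ← pow_add] at hcP
    exact Nat.pow_right_injective hp.two_le hcP
  have hj1 : 1 ≤ j := by omega
  -- upper bound
  have hle : (MulAction.orbit P γ).ncard ≤ k * p := by
    rw [← hOH]
    apply Set.ncard_le_ncard _ (Set.toFinite _)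
    rintro _ ⟨u, rfl⟩
    exact ⟨⟨u.1, hPH u.2⟩, rfl⟩
  rw [hj] at hle ⊢
  have hj2 : j < 2 := by
    by_contra hcon
    push Not at hcon
    have : p ^ 2 ≤ p ^ j := Nat.pow_le_pow_right hp.pos hcon
    have : k * p < p * p := Nat.mul_lt_mul_of_pos_right hkp hp.pos
    nlinarith
  have : j = 1 := by omega
  rw [this, pow_one]


/-- Witt's lemma: the normaliser of a Sylow `p`-subgroup of the pointwise stabiliser of an
`r`-set `Δ` in an `r`-transitive group induces every permutation of `Δ`. -/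
theorem witt (G : Subgroup (Perm α)) (Δ : Finset α) {p r : ℕ} (hp : p.Prime) (hΔ : Δ.card = r)
    (hG : IsMultiplyPretransitive G α r)
    (P : Subgroup (Perm α)) (hPH : P ≤ fixG G Δ)
    (hPc : Nat.card P = p ^ (Nat.card (fixG G Δ)).factorization p)
    (σ : Perm α) (hσ : ∀ d ∈ Δ, σ d ∈ Δ) :
    ∃ x ∈ G, x ∈ Subgroup.normalizer (P : Set (Perm α)) ∧ ∀ d ∈ Δ, x d = σ d := by
  haveI : Fact p.Prime := ⟨hp⟩
  obtain ⟨y, hyG, hy⟩ := Cfsg.Agent.Helper4.JordanCycle.exists_mem_agree_on G hG Δ hΔ σ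
  have hyΔ : ∀ d ∈ Δ, y d ∈ Δ := fun d hd => by rw [hy d hd]; exact hσ d hd
  have himg : Δ.image y = Δ := by
    apply Finset.eq_of_subset_of_card_le
    · intro x hx
      obtain ⟨d, hd, rfl⟩ := Finset.mem_image.mp hx
      exact hyΔ d hd
    · rw [Finset.card_image_of_injective _ y.injective]
  have hyinv : ∀ d ∈ Δ, y⁻¹ d ∈ Δ := by
    intro d hd
    rw [← himg] at hd
    obtain ⟨d', hd', rfl⟩ := Finset.mem_image.mp hd
    simpa using hd'
  set Q := P.map (MulAut.conj y).toMonoidHom with hQ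
  have hQH : Q ≤ fixG G Δ := by
    rintro _ ⟨u, hu, rfl⟩
    have huH := hPH hu
    refine ⟨?_, fun d hd => ?_⟩
    · simp only [MulEquiv.coe_toMonoidHom, MulAut.conj_apply]
      exact G.mul_mem (G.mul_mem hyG huH.1) (G.inv_mem hyG)
    · simp only [MulEquiv.coe_toMonoidHom, MulAut.conj_apply, Perm.mul_apply]
      rw [huH.2 _ (hyinv d hd)]
      simp
  have hQp : IsPGroup p Q := (IsPGroup.of_card hPc).map _
  have hQc : Nat.card Q = Nat.card P :=
    Nat.card_congr (P.equivMapOfInjective _ (MulAut.conj y).injective).symm.toEquiv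
  obtain ⟨h, hh, hhQ⟩ := sylow_conj_sub (fixG G Δ) p P Q hPH hQH hQp hPc hQc
  refine ⟨h * y, G.mul_mem hh.1 hyG, ?_, fun d hd => ?_⟩
  · apply Subgroup.mem_normalizer_fintype
    intro n hn
    have h1 : y * n * y⁻¹ ∈ Q := ⟨n, hn, by simp [MulAut.conj_apply]⟩
    have h2 := hhQ _ h1
    have h3 : h * y * n * (h * y)⁻¹ = h * (y * n * y⁻¹) * h⁻¹ := by group
    rw [h3]
    exact h2
  · rw [Perm.mul_apply, hy d hd, hh.2 _ (hσ d hd)]

end Cfsg.Agent.Helper3.Miller
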