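import Mathlib
import Cfsg.Agent.Helper3.Miller1

set_option autoImplicit false
set_option linter.style.haveILetI false
set_option linter.unusedSectionVars false

/-!
# Miller's theorem, part 2: the normaliser of `P` acting on the `P`-orbits
-/

namespace Cfsg.Agent.Helper3.Miller

open Equiv Equiv.Perm MulAction

variable {α : Type*} [Fintype α] [DecidableEq α]

/-- The data: a `p`-subgroup `P` of `G` fixing `Δ` pointwise, all of whose other orbits have
length `p`, and whose normaliser in `G` induces every permutation of `Δ`. -/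
structure Setup (G : Subgroup (Perm α)) (Δ : Finset α) (P : Subgroup (Perm α)) (p : ℕ) :
    Prop where
  hp : p.Prime
  PG : P ≤ G
  Pfix : ∀ u ∈ P, ∀ d ∈ Δ, u d = d
  Ppg : IsPGroup p P
  orb : ∀ γ, γ ∉ Δ → (MulAction.orbit P γ).ncard = p
  witt : ∀ σ : Perm α, (∀ d ∈ Δ, σ d ∈ Δ) →
    ∃ x ∈ G, x ∈ Subgroup.normalizer (P : Set (Perm α)) ∧ ∀ d ∈ Δ, x d = σ d

/-- `x` and `y` lie in the same `P`-orbit. -/
def SO (P : Subgroup (Perm α)) (x y : α) : Prop := ∃ u ∈ P, u x = y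

theorem SO.refl (P : Subgroup (Perm α)) (x : α) : SO P x x := ⟨1, P.one_mem, rfl⟩

theorem SO.symm {P : Subgroup (Perm α)} {x y : α} (h : SO P x y) : SO P y x := by
  obtain ⟨u, hu, rfl⟩ := h
  exact ⟨u⁻¹, P.inv_mem hu, by simp⟩

theorem SO.trans {P : Subgroup (Perm α)} {x y z : α} (h : SO P x y) (h' : SO P y z) :
    SO P x z := by
  obtain ⟨u, hu, rfl⟩ := h
  obtain ⟨v, hv, rfl⟩ := h'
  exact ⟨v * u, P.mul_mem hv hu, by simp⟩

theorem mem_orbit_iff_SO {P : Subgroup (Perm α)} {x y : α} :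
    y ∈ MulAction.orbit P x ↔ SO P x y := by
  constructor
  · rintro ⟨u, rfl⟩
    exact ⟨u.1, u.2, rfl⟩
  · rintro ⟨u, hu, rfl⟩
    exact ⟨⟨u, hu⟩, rfl⟩

namespace Setup

variable {G : Subgroup (Perm α)} {Δ : Finset α} {P : Subgroup (Perm α)} {p : ℕ}

theorem notMem_of_SO (S : Setup G Δ P p) {γ δ : α} (hγ : γ ∉ Δ) (h : SO P γ δ) : δ ∉ Δ := by
  obtain ⟨u, hu, rfl⟩ := h
  intro hd
  have h1 := S.Pfix u⁻¹ (P.inv_mem hu) _ hd
  have h2 : u⁻¹ (u γ) = γ := by simp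
  rw [h2] at h1
  rw [h1] at hγ
  exact hγ hd

/-- The action of `P` on an orbit off `Δ` is that of a cyclic group of order `p`. -/
theorem exists_gen (S : Setup G Δ P p) {γ : α} (hγ : γ ∉ Δ) :
    ∃ c ∈ P, c γ ≠ γ ∧ (∀ δ, SO P γ δ → (c ^ p) δ = δ) ∧
      ∀ u ∈ P, ∃ b : ℕ, ∀ δ, SO P γ δ → u δ = (c ^ b) δ := by
  haveI : Fact p.Prime := ⟨S.hp⟩
  have hp := S.hp
  have hcard : Nat.card (MulAction.orbit P γ) = p := by
    rw [Nat.card_coe_set_eq]; exact S.orb γ hγ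
  let φ : P →* Perm (MulAction.orbit P γ) := MulAction.toPermHom P (MulAction.orbit P γ)
  have hφ : ∀ (u : P) (δ : α) (hδ : δ ∈ MulAction.orbit P γ),
      ((φ u) ⟨δ, hδ⟩ : α) = (u : Perm α) δ := by
    intro u δ hδ
    rfl
  -- a moving element
  obtain ⟨c, hcP, hcγ⟩ : ∃ c ∈ P, c γ ≠ γ := by
    by_contra hcon
    push Not at hcon
    have : MulAction.orbit P γ = {γ} := by
      ext x
      simp only [Set.mem_singleton_iff]
      constructor
      · rintro ⟨u, rfl⟩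
        exact hcon u.1 u.2
      · rintro rfl
        exact MulAction.mem_orbit_self _
    have h1 := S.orb γ hγ
    rw [this, Set.ncard_singleton] at h1
    exact hp.one_lt.ne h1
  have hγO : γ ∈ MulAction.orbit P γ := MulAction.mem_orbit_self _
  have hφc : φ ⟨c, hcP⟩ ≠ 1 := by
    intro h
    have h2 := hφ ⟨c, hcP⟩ γ hγO
    rw [h] at h2
    exact hcγ h2.symm
  -- the range has order `p`
  have hRp : IsPGroup p φ.range := S.Ppg.of_surjective φ.rangeRestrict φ.rangeRestrict_surjective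
  have hRcard : Nat.card φ.range = p := by
    obtain ⟨m, hm⟩ := IsPGroup.iff_card.mp hRp
    have hdvd : Nat.card φ.range ∣ p.factorial := by
      have := Subgroup.card_subgroup_dvd_card φ.range
      rwa [Nat.card_perm, hcard] at this
    have hm1 : m ≠ 0 := by
      rintro rfl
      rw [pow_zero] at hm
      have hbot : φ.range = ⊥ := Subgroup.card_eq_one.mp hm
      have : φ ⟨c, hcP⟩ ∈ φ.range := ⟨_, rfl⟩
      rw [hbot, Subgroup.mem_bot] at this
      exact hφc this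
    have hm2 : m < 2 := by
      by_contra hcon
      push Not at hcon
      apply Cfsg.Agent.Helper4.JordanCycle.sq_not_dvd_factorial hp
      rw [hm] at hdvd
      exact (pow_dvd_pow p hcon).trans hdvd
    have : m = 1 := by omega
    rw [hm, this, pow_one]
  refine ⟨c, hcP, hcγ, ?_, ?_⟩
  · intro δ hδ
    have hδO : δ ∈ MulAction.orbit P γ := mem_orbit_iff_SO.mpr hδ
    have h1 : (⟨φ ⟨c, hcP⟩, ⟨_, rfl⟩⟩ : φ.range) ^ p = 1 := by
      rw [← hRcard]; exact pow_card_eq_one'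
    have h2 : φ (⟨c, hcP⟩ ^ p) = 1 := by
      rw [map_pow]
      have := congrArg Subtype.val h1
      simpa using this
    have h3 := hφ (⟨c, hcP⟩ ^ p) δ hδO
    rw [h2] at h3
    simpa using h3.symm
  · intro u hu
    have h1 : (⟨φ ⟨u, hu⟩, ⟨_, rfl⟩⟩ : φ.range) ∈
        Submonoid.powers (⟨φ ⟨c, hcP⟩, ⟨_, rfl⟩⟩ : φ.range) :=
      mem_powers_of_prime_card hRcard (by
        intro h
        exact hφc (congrArg Subtype.val h))
    obtain ⟨b, hb⟩ := h1
    refine ⟨b, fun δ hδ => ?_⟩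
    have hδO : δ ∈ MulAction.orbit P γ := mem_orbit_iff_SO.mpr hδ
    have h2 : φ (⟨c, hcP⟩ ^ b) = φ ⟨u, hu⟩ := by
      rw [map_pow]
      have := congrArg Subtype.val hb
      simpa using this
    have h3 := hφ (⟨c, hcP⟩ ^ b) δ hδO
    rw [h2, hφ ⟨u, hu⟩ δ hδO] at h3
    simpa using h3


theorem P_comm (S : Setup G Δ P p) {u w : Perm α} (hu : u ∈ P) (hw : w ∈ P) :
    u * w = w * u := by
  ext x
  by_cases hx : x ∈ Δ
  · simp only [Perm.mul_apply]
    rw [S.Pfix w hw x hx, S.Pfix u hu x hx, S.Pfix w hw x hx]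
  · obtain ⟨c, hcP, -, -, hc⟩ := S.exists_gen hx
    obtain ⟨b, hb⟩ := hc u hu
    obtain ⟨b', hb'⟩ := hc w hw
    have hcb : ∀ n : ℕ, c ^ n ∈ P := fun n => P.pow_mem hcP n
    simp only [Perm.mul_apply]
    rw [hb _ ⟨w, hw, rfl⟩, hb' _ ⟨u, hu, rfl⟩, hb x (SO.refl P x), hb' x (SO.refl P x)]
    rw [← Perm.mul_apply, ← Perm.mul_apply, ← pow_add, ← pow_add, add_comm]

theorem pow_p (S : Setup G Δ P p) {u : Perm α} (hu : u ∈ P) : u ^ p = 1 := by
  ext x
  by_cases hx : x ∈ Δ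
  · rw [S.Pfix _ (P.pow_mem hu p) x hx]; rfl
  · obtain ⟨c, hcP, -, hcp, hc⟩ := S.exists_gen hx
    obtain ⟨b, hb⟩ := hc u hu
    have h1 := agree_pow u (c ^ b) {δ | SO P x δ} (fun δ hδ => hb δ hδ)
      (fun δ hδ => SO.trans hδ ⟨c ^ b, P.pow_mem hcP b, rfl⟩) p x (SO.refl P x)
    rw [h1, ← pow_mul, mul_comm, pow_mul]
    have h2 := agree_pow (c ^ p) 1 {δ | SO P x δ} (fun δ hδ => by simpa using hcp δ hδ)
      (fun δ hδ => by simpa using hδ) b x (SO.refl P x)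
    rw [h2]
    simp

theorem fix_orbit (S : Setup G Δ P p) {u : Perm α} (hu : u ∈ P) {γ δ : α}
    (h : u γ = γ) (hδ : SO P γ δ) : u δ = δ := by
  obtain ⟨w, hw, rfl⟩ := hδ
  rw [← Perm.mul_apply, S.P_comm hu hw, Perm.mul_apply, h]

/-- Elements of `P` move every point off `Δ` in their support's orbits: a point off `Δ` is
moved by some element of `P`. -/
theorem exists_move (S : Setup G Δ P p) {γ : α} (hγ : γ ∉ Δ) : ∃ c ∈ P, c γ ≠ γ := by
  obtain ⟨c, hcP, hc, -⟩ := S.exists_gen hγ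
  exact ⟨c, hcP, hc⟩

/-- The normaliser of `P` in `G`. -/
def Nsub (G P : Subgroup (Perm α)) : Subgroup (Perm α) :=
  G ⊓ Subgroup.normalizer (P : Set (Perm α))

theorem conj_mem_of_Nsub {g u : Perm α} (hg : g ∈ Nsub G P) (hu : u ∈ P) :
    g * u * g⁻¹ ∈ P :=
  (Subgroup.mem_normalizer_iff.mp hg.2 u).mp hu

theorem conj_mem_of_Nsub' {g u : Perm α} (hg : g ∈ Nsub G P) (hu : u ∈ P) :
    g⁻¹ * u * g ∈ P := by
  have := conj_mem_of_Nsub ((Nsub G P).inv_mem hg) hu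
  simpa using this

theorem Nsub_mem_iff (S : Setup G Δ P p) {g : Perm α} (hg : g ∈ Nsub G P) (x : α) :
    g x ∈ Δ ↔ x ∈ Δ := by
  have key : ∀ g ∈ Nsub G P, ∀ x ∈ Δ, g x ∈ Δ := by
    intro g hg x hx
    by_contra hgx
    obtain ⟨c, hcP, hc⟩ := S.exists_move hgx
    apply hc
    have h1 := S.Pfix _ (conj_mem_of_Nsub' hg hcP) x hx
    simp only [Perm.mul_apply] at h1
    have := congrArg g h1
    simpa using this
  constructor
  · intro h
    have := key g⁻¹ ((Nsub G P).inv_mem hg) _ h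
    simpa using this
  · exact key g hg x

theorem SO_map (_S : Setup G Δ P p) {g : Perm α} (hg : g ∈ Nsub G P) {x y : α}
    (h : SO P x y) : SO P (g x) (g y) := by
  obtain ⟨u, hu, rfl⟩ := h
  exact ⟨g * u * g⁻¹, conj_mem_of_Nsub hg hu, by simp⟩

/-- Elements of the normaliser fixing every `P`-orbit off `Δ`. -/
def K (S : Setup G Δ P p) : Subgroup (Perm α) where
  carrier := {g | g ∈ Nsub G P ∧ ∀ γ, γ ∉ Δ → SO P γ (g γ)}
  mul_mem' := by
    rintro a b ⟨ha, ha'⟩ ⟨hb, hb'⟩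
    refine ⟨(Nsub G P).mul_mem ha hb, fun γ hγ => ?_⟩
    rw [Perm.mul_apply]
    exact (hb' γ hγ).trans (ha' _ (S.notMem_of_SO hγ (hb' γ hγ)))
  one_mem' := ⟨(Nsub G P).one_mem, fun γ _ => SO.refl P γ⟩
  inv_mem' := by
    rintro a ⟨ha, ha'⟩
    refine ⟨(Nsub G P).inv_mem ha, fun γ hγ => ?_⟩
    have h1 : a⁻¹ γ ∉ Δ := by
      rw [S.Nsub_mem_iff ((Nsub G P).inv_mem ha)]; exact hγ
    have h2 := ha' _ h1
    have h3 : a (a⁻¹ γ) = γ := by simp
    rw [h3] at h2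
    exact h2.symm

theorem mem_K (S : Setup G Δ P p) {g : Perm α} :
    g ∈ S.K ↔ g ∈ Nsub G P ∧ ∀ γ, γ ∉ Δ → SO P γ (g γ) := Iff.rfl

/-- Elements of `K` centralising `P`. -/
def T (S : Setup G Δ P p) : Subgroup (Perm α) where
  carrier := {g | g ∈ S.K ∧ ∀ u ∈ P, g * u = u * g}
  mul_mem' := by
    rintro a b ⟨ha, ha'⟩ ⟨hb, hb'⟩
    refine ⟨S.K.mul_mem ha hb, fun u hu => ?_⟩
    rw [mul_assoc, hb' u hu, ← mul_assoc, ha' u hu, mul_assoc]
  one_mem' := ⟨S.K.one_mem, fun u _ => by simp⟩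
  inv_mem' := by
    rintro a ⟨ha, ha'⟩
    refine ⟨S.K.inv_mem ha, fun u hu => ?_⟩
    have := ha' u hu
    rw [inv_mul_eq_iff_eq_mul, ← mul_assoc, this, mul_assoc, mul_inv_cancel, mul_one]

theorem mem_T (S : Setup G Δ P p) {g : Perm α} :
    g ∈ S.T ↔ g ∈ S.K ∧ ∀ u ∈ P, g * u = u * g := Iff.rfl

theorem K_le_N (S : Setup G Δ P p) : S.K ≤ Nsub G P := fun _ h => h.1

theorem K_normal (S : Setup G Δ P p) {n g : Perm α} (hn : n ∈ Nsub G P) (hg : g ∈ S.K) :
    n * g * n⁻¹ ∈ S.K := by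
  refine ⟨(Nsub G P).mul_mem ((Nsub G P).mul_mem hn hg.1) ((Nsub G P).inv_mem hn), ?_⟩
  intro γ hγ
  have h1 : n⁻¹ γ ∉ Δ := by
    rw [S.Nsub_mem_iff ((Nsub G P).inv_mem hn)]; exact hγ
  have h2 := S.SO_map hn (hg.2 _ h1)
  simpa using h2

/-- `t ∈ T` acts on each orbit like an element of `P`, so `t ^ p` is trivial off `Δ`. -/
theorem T_pow (S : Setup G Δ P p) {t : Perm α} (ht : t ∈ S.T) {γ : α} (hγ : γ ∉ Δ) :
    (t ^ p) γ = γ := by
  obtain ⟨u, hu, hut⟩ := ht.1.2 γ hγ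
  have key : ∀ m : ℕ, (t ^ m) γ = (u ^ m) γ := by
    intro m
    induction m with
    | zero => simp
    | succ m ih =>
      rw [pow_succ, Perm.mul_apply, ← hut, ← Perm.mul_apply]
      have hcomm : t ^ m * u = u * t ^ m := by
        have h1 : Commute t u := ht.2 u hu
        exact (h1.pow_left m)
      rw [hcomm, Perm.mul_apply, ih, ← Perm.mul_apply, ← pow_succ']
  rw [key, S.pow_p hu]
  rfl


/-- The multiplier of an element of `K` on an orbit. -/
theorem exists_mult (S : Setup G Δ P p) {g : Perm α} (hg : g ∈ S.K) {γ : α} (hγ : γ ∉ Δ) :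
    ∃ a : ℕ, ∀ u ∈ P, ∀ δ, SO P γ δ → (g * u * g⁻¹) δ = (u ^ a) δ := by
  obtain ⟨c, hcP, -, -, hc⟩ := S.exists_gen hγ
  obtain ⟨a, ha⟩ := hc _ (conj_mem_of_Nsub hg.1 hcP)
  refine ⟨a, fun u hu δ hδ => ?_⟩
  obtain ⟨b, hb⟩ := hc u hu
  have hδΔ : δ ∉ Δ := S.notMem_of_SO hγ hδ
  have hδ' : SO P γ (g⁻¹ δ) := hδ.trans ((S.K.inv_mem hg).2 δ hδΔ)
  have hpres : ∀ n : ℕ, ∀ x ∈ {δ | SO P γ δ}, (c ^ n) x ∈ {δ | SO P γ δ} :=
    fun n x hx => SO.trans hx ⟨c ^ n, P.pow_mem hcP n, rfl⟩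
  have h1 : (g * u * g⁻¹) δ = ((g * c * g⁻¹) ^ b) δ := by
    rw [conj_pow]
    simp only [Perm.mul_apply]
    rw [hb _ hδ']
  rw [h1, agree_pow (g * c * g⁻¹) (c ^ a) {δ | SO P γ δ} (fun x hx => ha x hx) (hpres a) b δ hδ,
    agree_pow u (c ^ b) {δ | SO P γ δ} (fun x hx => hb x hx) (hpres b) a δ hδ,
    ← pow_mul, ← pow_mul, mul_comm]

theorem conj_conj_eq (S : Setup G Δ P p) {g h : Perm α} (hg : g ∈ S.K) (hh : h ∈ S.K)
    {u : Perm α} (hu : u ∈ P) :
    (g * h) * u * (g * h)⁻¹ = (h * g) * u * (h * g)⁻¹ := by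
  have hNg := hg.1
  have hNh := hh.1
  ext x
  by_cases hx : x ∈ Δ
  · rw [S.Pfix _ (conj_mem_of_Nsub ((Nsub G P).mul_mem hNg hNh) hu) x hx,
      S.Pfix _ (conj_mem_of_Nsub ((Nsub G P).mul_mem hNh hNg) hu) x hx]
  · obtain ⟨a, ha⟩ := S.exists_mult hg hx
    obtain ⟨b, hb⟩ := S.exists_mult hh hx
    have e1 : (g * h) * u * (g * h)⁻¹ = g * (h * u * h⁻¹) * g⁻¹ := by group
    have e2 : (h * g) * u * (h * g)⁻¹ = h * (g * u * g⁻¹) * h⁻¹ := by group
    rw [e1, e2, ha _ (conj_mem_of_Nsub hNh hu) x (SO.refl P x),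
      hb _ (conj_mem_of_Nsub hNg hu) x (SO.refl P x), conj_pow, conj_pow,
      hb _ (P.pow_mem hu a) x (SO.refl P x), ha _ (P.pow_mem hu b) x (SO.refl P x),
      ← pow_mul, ← pow_mul, mul_comm]

/-- Commutators of elements of `K` centralise `P`. -/
theorem comm_mem_T (S : Setup G Δ P p) {g h : Perm α} (hg : g ∈ S.K) (hh : h ∈ S.K) :
    g⁻¹ * h⁻¹ * g * h ∈ S.T := by
  refine ⟨S.K.mul_mem (S.K.mul_mem (S.K.mul_mem (S.K.inv_mem hg) (S.K.inv_mem hh)) hg) hh, ?_⟩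
  intro u hu
  have h1 := S.conj_conj_eq hg hh hu
  have h2 : g⁻¹ * h⁻¹ * g * h = (h * g)⁻¹ * (g * h) := by group
  rw [h2]
  have h3 : (h * g)⁻¹ * (g * h) * u = (h * g)⁻¹ * ((g * h) * u * (g * h)⁻¹) * (g * h) := by
    group
  rw [h3, h1]
  group


end Setup

/-- A canonical representative of the `P`-orbit of a point. -/
noncomputable def rep (P : Subgroup (Perm α)) (γ : α) : α :=
  (Quotient.mk'' γ : MulAction.orbitRel.Quotient P α).out

theorem SO_rep (P : Subgroup (Perm α)) (γ : α) : SO P γ (rep P γ) := by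
  have h : (MulAction.orbitRel P α) (rep P γ) γ := Quotient.mk_out (s := MulAction.orbitRel P α) γ
  rw [MulAction.orbitRel_apply] at h
  exact mem_orbit_iff_SO.mp h

theorem rep_eq_of_SO {P : Subgroup (Perm α)} {γ γ' : α} (h : SO P γ γ') :
    rep P γ = rep P γ' := by
  unfold rep
  congr 1
  apply Quotient.sound
  change (MulAction.orbitRel P α) γ γ'
  rw [MulAction.orbitRel_apply]
  exact mem_orbit_iff_SO.mpr h.symm

theorem SO_of_rep_eq {P : Subgroup (Perm α)} {γ γ' : α} (h : rep P γ = rep P γ') :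
    SO P γ γ' :=
  (SO_rep P γ).trans (h ▸ (SO_rep P γ').symm)

theorem rep_rep (P : Subgroup (Perm α)) (γ : α) : rep P (rep P γ) = rep P γ :=
  (rep_eq_of_SO (SO_rep P γ)).symm

namespace Setup

variable {G : Subgroup (Perm α)} {Δ : Finset α} {P : Subgroup (Perm α)} {p : ℕ}

/-- The set of orbit representatives off `Δ`. -/
noncomputable def reps (_S : Setup G Δ P p) : Finset α := (Δᶜ).image (rep P)

theorem mem_reps (S : Setup G Δ P p) {ρ : α} (hρ : ρ ∈ S.reps) : ρ ∉ Δ ∧ rep P ρ = ρ := by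
  obtain ⟨γ, hγ, rfl⟩ := Finset.mem_image.mp hρ
  rw [Finset.mem_compl] at hγ
  exact ⟨S.notMem_of_SO hγ (SO_rep P γ), rep_rep P γ⟩

theorem rep_mem_reps (S : Setup G Δ P p) {γ : α} (hγ : γ ∉ Δ) : rep P γ ∈ S.reps :=
  Finset.mem_image.mpr ⟨γ, Finset.mem_compl.mpr hγ, rfl⟩

theorem card_reps (S : Setup G Δ P p) {k : ℕ} (hk : (Δᶜ).card = k * p) : S.reps.card ≤ k := by
  classical
  have hp := S.hp
  have h1 : (S.reps.biUnion fun ρ => (MulAction.orbit P ρ).toFinset).card = S.reps.card * p := by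
    rw [Finset.card_biUnion]
    · rw [Finset.sum_const_nat]
      intro ρ hρ
      rw [← Set.ncard_eq_toFinset_card']
      exact S.orb ρ (S.mem_reps hρ).1
    · intro ρ hρ ρ' hρ' hne
      rw [Function.onFun, Finset.disjoint_left]
      intro x hx hx'
      rw [Set.mem_toFinset, mem_orbit_iff_SO] at hx hx'
      apply hne
      have := rep_eq_of_SO (hx.trans hx'.symm)
      rwa [(S.mem_reps hρ).2, (S.mem_reps hρ').2] at this
  have h2 : (S.reps.biUnion fun ρ => (MulAction.orbit P ρ).toFinset) ⊆ Δᶜ := by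
    intro x hx
    obtain ⟨ρ, hρ, hxρ⟩ := Finset.mem_biUnion.mp hx
    rw [Set.mem_toFinset, mem_orbit_iff_SO] at hxρ
    exact Finset.mem_compl.mpr (S.notMem_of_SO (S.mem_reps hρ).1 hxρ)
  have h3 := Finset.card_le_card h2
  rw [h1, hk] at h3
  exact Nat.le_of_mul_le_mul_right h3 hp.pos

/-- Pigeonhole on the permutations of the orbits: some element of `K` acts nontrivially
on `Δ`. -/
theorem exists_K_move (S : Setup G Δ P p) {k : ℕ} (hk : (Δᶜ).card = k * p) (hk0 : 0 < k)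
    (hkr : k < Δ.card) : ∃ g ∈ S.K, ∃ d ∈ Δ, g d ≠ d := by
  classical
  by_contra hcon
  push Not at hcon
  -- choose normaliser elements realising each permutation of `Δ`
  have hw : ∀ π : Perm Δ, ∃ x ∈ Nsub G P, ∀ d ∈ Δ, x d = (ofSubtype π : Perm α) d := by
    intro π
    obtain ⟨x, hxG, hxN, hx⟩ := S.witt (ofSubtype π) (by
      intro d hd
      rw [ofSubtype_apply_of_mem π hd]
      exact (π ⟨d, hd⟩).2)
    exact ⟨x, ⟨hxG, hxN⟩, hx⟩
  choose x hxN hx using hw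
  -- the induced injections of the representatives
  have hF : ∀ n ∈ Nsub G P, ∀ ρ ∈ S.reps, rep P (n ρ) ∈ S.reps := by
    intro n hn ρ hρ
    apply S.rep_mem_reps
    rw [S.Nsub_mem_iff hn]
    exact (S.mem_reps hρ).1
  let F : Perm Δ → (S.reps ↪ S.reps) := fun π =>
    ⟨fun ρ => ⟨rep P (x π ρ.1), hF _ (hxN π) ρ.1 ρ.2⟩, by
      intro ρ1 ρ2 h
      have h1 : rep P (x π ρ1.1) = rep P (x π ρ2.1) := congrArg Subtype.val h
      have h2 := SO_of_rep_eq h1
      have h3 := S.SO_map ((Nsub G P).inv_mem (hxN π)) h2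
      simp only [Equiv.Perm.coe_inv, Equiv.symm_apply_apply] at h3
      have h4 := rep_eq_of_SO h3
      rw [(S.mem_reps ρ1.2).2, (S.mem_reps ρ2.2).2] at h4
      exact Subtype.ext h4⟩
  have hFinj : Function.Injective F := by
    intro π π' h
    -- the quotient lies in `K`
    have hgK : (x π')⁻¹ * x π ∈ S.K := by
      refine ⟨(Nsub G P).mul_mem ((Nsub G P).inv_mem (hxN π')) (hxN π), fun γ hγ => ?_⟩
      have hρ := S.rep_mem_reps hγ
      have h1 : rep P (x π (rep P γ)) = rep P (x π' (rep P γ)) := by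
        have := congrArg (fun f : S.reps ↪ S.reps => (f ⟨rep P γ, hρ⟩ : α)) h
        exact this
      have h2 : SO P (x π' (rep P γ)) (x π (rep P γ)) := SO_of_rep_eq h1.symm
      have h3 := S.SO_map ((Nsub G P).inv_mem (hxN π')) h2
      simp only [Equiv.Perm.coe_inv, Equiv.symm_apply_apply] at h3
      -- `h3 : SO P (rep γ) ((x π')⁻¹ (x π (rep γ)))`
      have h4 : SO P (((x π')⁻¹ * x π) (rep P γ)) (((x π')⁻¹ * x π) γ) :=
        S.SO_map ((Nsub G P).mul_mem ((Nsub G P).inv_mem (hxN π')) (hxN π)) (SO_rep P γ).symm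
      exact ((SO_rep P γ).trans (by simpa [Perm.mul_apply] using h3)).trans h4
    have hfix := hcon _ hgK
    ext d
    have h1 := hfix d.1 d.2
    rw [Perm.mul_apply, Perm.inv_eq_iff_eq] at h1
    rw [hx π d.1 d.2, hx π' d.1 d.2, ofSubtype_apply_of_mem π d.2,
      ofSubtype_apply_of_mem π' d.2] at h1
    exact h1
  have h1 := Fintype.card_le_of_injective F hFinj
  rw [Fintype.card_perm, Fintype.card_embedding_eq, Nat.descFactorial_self,
    Fintype.card_coe, Fintype.card_coe] at h1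
  have h2 : S.reps.card.factorial ≤ k.factorial := Nat.factorial_le (S.card_reps hk)
  have h3 : k.factorial < Δ.card.factorial := (Nat.factorial_lt hk0).mpr hkr
  omega

end Setup

end Cfsg.Agent.Helper3.Miller
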