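import Mathlib
import Cfsg.Agent.Helper3.Miller2

set_option autoImplicit false
set_option linter.style.haveILetI false
set_option linter.unusedSectionVars false

/-!
# Miller's theorem, part 3: the two contradictions
-/

namespace Cfsg.Agent.Helper3.Miller

open Equiv Equiv.Perm MulAction

variable {α : Type*} [Fintype α] [DecidableEq α]

/-- No non-identity element of `G` has support of size `< 2r`. -/
def NS (G : Subgroup (Perm α)) (r : ℕ) : Prop :=
  ∀ g ∈ G, g ≠ 1 → 2 * r ≤ g.support.card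

namespace Setup

variable {G : Subgroup (Perm α)} {Δ : Finset α} {P : Subgroup (Perm α)} {p : ℕ}

theorem eq_one_of_fix_compl (hNS : NS G Δ.card) (hr : 0 < Δ.card) {g : Perm α} (hg : g ∈ G)
    (h : ∀ γ, γ ∉ Δ → g γ = γ) : g = 1 := by
  by_contra hne
  have h1 := hNS g hg hne
  have h2 : g.support ⊆ Δ := by
    intro x hx
    by_contra hxΔ
    exact (Perm.mem_support.mp hx) (h x hxΔ)
  have h3 := Finset.card_le_card h2
  omega

theorem N_le_G : Nsub G P ≤ G := inf_le_left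

theorem T_pow_eq_one (S : Setup G Δ P p) (hNS : NS G Δ.card) (hr : 0 < Δ.card) {t : Perm α}
    (ht : t ∈ S.T) : t ^ p = 1 :=
  eq_one_of_fix_compl hNS hr (G.pow_mem (N_le_G ht.1.1) p) (fun _ hγ => S.T_pow ht hγ)

/-- Restriction of the normaliser to `Δ`. -/
noncomputable def res (S : Setup G Δ P p) : ↥(Nsub G P) →* Perm {x // x ∈ Δ} where
  toFun g := subtypePerm g.1 (fun x => S.Nsub_mem_iff g.2 x)
  map_one' := by ext; rfl
  map_mul' a b := by ext; rfl

theorem res_apply (S : Setup G Δ P p) (g : ↥(Nsub G P)) (d : {x // x ∈ Δ}) :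
    (S.res g d : α) = g.1 d.1 := rfl

theorem res_surjective (S : Setup G Δ P p) : Function.Surjective S.res := by
  intro π
  obtain ⟨x, hxG, hxN, hx⟩ := S.witt (ofSubtype π) (by
    intro d hd
    rw [ofSubtype_apply_of_mem π hd]
    exact (π ⟨d, hd⟩).2)
  refine ⟨⟨x, hxG, hxN⟩, ?_⟩
  ext d
  rw [res_apply]
  simp only
  rw [hx d.1 d.2, ofSubtype_apply_of_mem π d.2]

instance K_sub_normal (S : Setup G Δ P p) : (S.K.subgroupOf (Nsub G P)).Normal where
  conj_mem := by
    intro n hn g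
    rw [Subgroup.mem_subgroupOf] at hn ⊢
    exact S.K_normal g.2 hn

/-- The general case `r ≥ 5`. -/
theorem false_of_five (S : Setup G Δ P p) (hNS : NS G Δ.card) {k : ℕ}
    (hk : (Δᶜ).card = k * p) (hk0 : 0 < k) (hkr : k < Δ.card) (h5 : 5 ≤ Δ.card)
    (hp2 : p ≠ 2) : False := by
  classical
  have hp := S.hp
  have hsurj := S.res_surjective
  set Kρ := (S.K.subgroupOf (Nsub G P)).map S.res with hKρ
  haveI : Kρ.Normal := Subgroup.Normal.map inferInstance _ hsurj
  have hnt : Nontrivial Kρ := by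
    rw [Subgroup.nontrivial_iff_ne_bot]
    intro hbot
    obtain ⟨g, hgK, d, hd, hgd⟩ := S.exists_K_move hk hk0 hkr
    have h1 : S.res ⟨g, S.K_le_N hgK⟩ ∈ Kρ :=
      ⟨⟨g, S.K_le_N hgK⟩, Subgroup.mem_subgroupOf.mpr hgK, rfl⟩
    rw [hbot, Subgroup.mem_bot] at h1
    have h2 := congrArg (fun f : Perm {x // x ∈ Δ} => (f ⟨d, hd⟩ : α)) h1
    simp only [res_apply, Perm.coe_one, id_eq] at h2
    exact hgd h2
  have hAlt : alternatingGroup {x // x ∈ Δ} ≤ Kρ :=
    Equiv.Perm.alternatingGroup_le_of_normal (by simpa using h5) hnt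
  -- two explicit three-cycles
  obtain ⟨e⟩ : Nonempty (Fin 4 ↪ {x // x ∈ Δ}) :=
    Function.Embedding.nonempty_of_card_le (by simp; omega)
  let f : Fin 4 ≃ {y // y ∈ Set.range e} := Equiv.ofInjective e e.injective
  let E : Perm (Fin 4) →* Perm {x // x ∈ Δ} := extendDomainHom f
  have hEinj : Function.Injective E := extendDomainHom_injective f
  let s1 : Perm (Fin 4) := c[0, 1, 2]
  let s2 : Perm (Fin 4) := c[1, 2, 3]
  have hs1 : Perm.sign s1 = 1 := by decide
  have hs2 : Perm.sign s2 = 1 := by decide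
  have hτ1 : s1⁻¹ * s2⁻¹ * s1 * s2 ≠ 1 := by decide
  have hτ2 : (s1⁻¹ * s2⁻¹ * s1 * s2) ^ 2 = 1 := by decide
  have hσ1 : E s1 ∈ Kρ := hAlt (by
    rw [Perm.mem_alternatingGroup]
    change Perm.sign (s1.extendDomain f) = 1
    rw [Perm.sign_extendDomain, hs1])
  have hσ2 : E s2 ∈ Kρ := hAlt (by
    rw [Perm.mem_alternatingGroup]
    change Perm.sign (s2.extendDomain f) = 1
    rw [Perm.sign_extendDomain, hs2])
  obtain ⟨g1, hg1K, hg1⟩ := hσ1
  obtain ⟨g2, hg2K, hg2⟩ := hσ2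
  rw [SetLike.mem_coe, Subgroup.mem_subgroupOf] at hg1K hg2K
  have hT := S.comm_mem_T hg1K hg2K
  have hpow := S.T_pow_eq_one hNS (by omega) hT
  have h1 : (g1⁻¹ * g2⁻¹ * g1 * g2) ^ p = 1 := by
    apply Subtype.ext
    simpa using hpow
  have h2 := congrArg S.res h1
  rw [map_pow, map_mul, map_mul, map_mul, map_inv, map_inv, hg1, hg2, map_one, ← map_inv,
    ← map_inv, ← map_mul, ← map_mul, ← map_mul, ← map_pow] at h2
  have h3 := hEinj (h2.trans (map_one E).symm)
  obtain ⟨m, hm⟩ := hp.odd_of_ne_two hp2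
  rw [hm, pow_succ, pow_mul, hτ2, one_pow, one_mul] at h3
  exact hτ1 h3


/-- A permutation of at least three points commuting with every permutation is trivial. -/
theorem eq_one_of_central {β : Type*} [DecidableEq β] [Fintype β] (h3 : 3 ≤ Fintype.card β)
    (σ : Perm β) (h : ∀ τ : Perm β, τ * σ = σ * τ) : σ = 1 := by
  ext a
  by_contra hne
  simp only [Perm.coe_one, id_eq] at hne
  -- choose a third point
  have hc : ∃ c, c ≠ a ∧ c ≠ σ a := by
    by_contra hcon
    push Not at hcon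
    have : (Finset.univ : Finset β) ⊆ {a, σ a} := by
      intro c _
      by_cases hca : c = a
      · simp [hca]
      · simp [hcon c hca]
    have h1 := Finset.card_le_card this
    have h2 : ({a, σ a} : Finset β).card ≤ 2 := Finset.card_le_two
    rw [Finset.card_univ] at h1
    omega
  obtain ⟨c, hca, hcb⟩ := hc
  have h1 := congrArg (fun f : Perm β => f a) (h (Equiv.swap a c))
  simp only [Perm.mul_apply, Equiv.swap_apply_left] at h1
  rw [Equiv.swap_apply_of_ne_of_ne hne (Ne.symm hcb)] at h1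
  exact hca (σ.injective h1.symm)

/-- The "scalar" case: if every element of `K` acts on `P` by a power map and `p > r`, we get a
contradiction. -/
theorem false_of_scalar (S : Setup G Δ P p) (hNS : NS G Δ.card) {k : ℕ}
    (hk : (Δᶜ).card = k * p) (hk0 : 0 < k) (hkr : k < Δ.card) (h3 : 3 ≤ Δ.card)
    (hpr : Δ.card < p)
    (hSC : ∀ g ∈ S.K, ∃ a : ℕ, ∀ u ∈ P, g * u * g⁻¹ = u ^ a) : False := by
  classical
  have hp := S.hp
  have hsurj := S.res_surjective
  -- commutators `[n, g]` lie in `T`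
  have hcomm : ∀ n ∈ Nsub G P, ∀ g ∈ S.K, n * g * n⁻¹ * g⁻¹ ∈ S.T := by
    intro n hn g hg
    refine ⟨S.K.mul_mem (S.K_normal hn hg) (S.K.inv_mem hg), fun u hu => ?_⟩
    obtain ⟨a, ha⟩ := hSC g hg
    have hw : g⁻¹ * u * g ∈ P := conj_mem_of_Nsub' hg.1 hu
    have h1 : g * (g⁻¹ * u * g) * g⁻¹ = (g⁻¹ * u * g) ^ a := ha _ hw
    have h1' : (g⁻¹ * u * g) ^ a = u := by rw [← h1]; group
    have hw' : n⁻¹ * (g⁻¹ * u * g) * n ∈ P := conj_mem_of_Nsub' hn hw
    have h2 : g * (n⁻¹ * (g⁻¹ * u * g) * n) * g⁻¹ = (n⁻¹ * (g⁻¹ * u * g) * n) ^ a := ha _ hw'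
    have h3 : n * g * n⁻¹ * g⁻¹ * u =
        n * (g * (n⁻¹ * (g⁻¹ * u * g) * n) * g⁻¹) * n⁻¹ * (n * g * n⁻¹ * g⁻¹) := by group
    rw [h3, h2]
    have h4 : n * (n⁻¹ * (g⁻¹ * u * g) * n) ^ a * n⁻¹ = (g⁻¹ * u * g) ^ a := by
      rw [← conj_pow]; group
    rw [h4, h1']
  -- hence `K` acts trivially on `Δ`
  have hKtriv : ∀ g ∈ S.K, ∀ d ∈ Δ, g d = d := by
    intro g hg
    have hcen : ∀ τ : Perm {x // x ∈ Δ}, τ * S.res ⟨g, S.K_le_N hg⟩ =
        S.res ⟨g, S.K_le_N hg⟩ * τ := by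
      intro τ
      obtain ⟨n, rfl⟩ := hsurj τ
      have hT := hcomm n.1 n.2 g hg
      have hpow := S.T_pow_eq_one hNS (by omega) hT
      have h1 : (n * ⟨g, S.K_le_N hg⟩ * n⁻¹ * (⟨g, S.K_le_N hg⟩ : ↥(Nsub G P))⁻¹) ^ p = 1 := by
        apply Subtype.ext
        simpa using hpow
      have h2 := congrArg S.res h1
      rw [map_pow, map_one] at h2
      -- the order divides `p` and `r!`
      have h3 : (S.res (n * ⟨g, S.K_le_N hg⟩ * n⁻¹ * (⟨g, S.K_le_N hg⟩ : ↥(Nsub G P))⁻¹)) ^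
          (Δ.card).factorial = 1 := by
        have := pow_card_eq_one (G := Perm {x // x ∈ Δ})
          (x := S.res (n * ⟨g, S.K_le_N hg⟩ * n⁻¹ * (⟨g, S.K_le_N hg⟩ : ↥(Nsub G P))⁻¹))
        rwa [Fintype.card_perm, Fintype.card_coe] at this
      have hcop : Nat.Coprime p (Δ.card).factorial := by
        rw [hp.coprime_iff_not_dvd, hp.dvd_factorial]
        omega
      have h4 : S.res (n * ⟨g, S.K_le_N hg⟩ * n⁻¹ * (⟨g, S.K_le_N hg⟩ : ↥(Nsub G P))⁻¹) = 1 := by
        have hd1 := orderOf_dvd_of_pow_eq_one h2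
        have hd2 := orderOf_dvd_of_pow_eq_one h3
        have := Nat.dvd_gcd hd1 hd2
        rw [hcop.gcd_eq_one, Nat.dvd_one] at this
        exact orderOf_eq_one_iff.mp this
      rw [map_mul, map_mul, map_mul, map_inv, map_inv] at h4
      rw [mul_inv_eq_one] at h4
      exact mul_inv_eq_iff_eq_mul.mp h4
    have h1 := eq_one_of_central (by simpa using h3) _ hcen
    intro d hd
    have h2 := congrArg (fun f : Perm {x // x ∈ Δ} => (f ⟨d, hd⟩ : α)) h1
    simpa [res_apply] using h2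
  obtain ⟨g, hgK, d, hd, hgd⟩ := S.exists_K_move hk hk0 hkr
  exact hgd (hKtriv g hgK d hd)

end Setup

end Cfsg.Agent.Helper3.Miller
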