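import Mathlib
import Cfsg.Agent.Helper3.Miller3

set_option autoImplicit false
set_option linter.style.haveILetI false
set_option linter.unusedSectionVars false

/-!
# Miller's theorem, part 4: when `P` contains no cycle and has at most three orbits,
the group `K` acts on `P` by power maps
-/

namespace Cfsg.Agent.Helper3.Miller

open Equiv Equiv.Perm MulAction

variable {α : Type*} [Fintype α] [DecidableEq α]

/-- No element of `P` is a cycle. -/
def NC (P : Subgroup (Perm α)) : Prop := ∀ u ∈ P, ¬ u.IsCycle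

namespace Setup

variable {G : Subgroup (Perm α)} {Δ : Finset α} {P : Subgroup (Perm α)} {p : ℕ}

theorem orderOf_eq (S : Setup G Δ P p) {u : Perm α} (hu : u ∈ P) (hne : u ≠ 1) :
    orderOf u = p := by
  haveI : Fact p.Prime := ⟨S.hp⟩
  exact orderOf_eq_prime (S.pow_p hu) hne

/-- A non-identity element of `P` moving only points of one orbit is a cycle. -/
theorem isCycle_of_support (S : Setup G Δ P p) {u : Perm α} (hu : u ∈ P) (hne : u ≠ 1)
    {ρ : α} (hρ : ρ ∉ Δ) (h : ∀ x, u x ≠ x → SO P ρ x) : u.IsCycle := by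
  classical
  have hp := S.hp
  have hord := S.orderOf_eq hu hne
  have hct : ∀ n ∈ u.cycleType, n = p := by
    intro n hn
    have h1 := Perm.dvd_of_mem_cycleType hn
    have h2 := Perm.two_le_of_mem_cycleType hn
    rw [hord] at h1
    rcases (Nat.dvd_prime hp).mp h1 with h | h
    · omega
    · exact h
  have hsupp : u.support.card ≤ p := by
    have h1 : u.support ⊆ (MulAction.orbit P ρ).toFinset := by
      intro x hx
      rw [Set.mem_toFinset, mem_orbit_iff_SO]
      exact h x (Perm.mem_support.mp hx)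
    have h2 := Finset.card_le_card h1
    rwa [← Set.ncard_eq_toFinset_card', S.orb ρ hρ] at h2
  have hrep := Multiset.eq_replicate_card.mpr hct
  have hsum : u.cycleType.sum = u.support.card := Perm.sum_cycleType u
  rw [hrep, Multiset.sum_replicate, smul_eq_mul] at hsum
  have hc0 : Multiset.card u.cycleType ≠ 0 := by
    intro h0
    rw [Multiset.card_eq_zero, Perm.cycleType_eq_zero] at h0
    exact hne h0
  have hc1 : Multiset.card u.cycleType = 1 := by
    have : Multiset.card u.cycleType * p ≤ 1 * p := by rw [hsum, one_mul]; exact hsupp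
    have := Nat.le_of_mul_le_mul_right this hp.pos
    omega
  exact Perm.card_cycleType_eq_one.mp hc1

/-- If `u ∈ P` fixes all but at most one of the orbit representatives, then `u = 1`. -/
theorem eq_one_of_fix_reps (S : Setup G Δ P p) (hNC : NC P) (F : Finset α) (hF : F ⊆ S.reps)
    (hcard : S.reps.card ≤ F.card + 1) {u : Perm α} (hu : u ∈ P) (hfix : ∀ ρ ∈ F, u ρ = ρ) :
    u = 1 := by
  classical
  by_contra hne
  obtain ⟨x, hx⟩ : ∃ x, u x ≠ x := by
    by_contra hcon
    push Not at hcon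
    exact hne (Perm.ext hcon)
  have hmoved : ∀ y, u y ≠ y → y ∉ Δ ∧ rep P y ∈ S.reps ∧ rep P y ∉ F := by
    intro y hy
    have hyΔ : y ∉ Δ := fun h => hy (S.Pfix u hu y h)
    refine ⟨hyΔ, S.rep_mem_reps hyΔ, fun hF' => hy ?_⟩
    exact S.fix_orbit hu (hfix _ hF') (SO_rep P y).symm
  obtain ⟨hxΔ, hρ, hρF⟩ := hmoved x hx
  have hreps : S.reps = insert (rep P x) F := by
    symm
    apply Finset.eq_of_subset_of_card_le
    · intro y hy
      rcases Finset.mem_insert.mp hy with rfl | hy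
      · exact hρ
      · exact hF hy
    · rw [Finset.card_insert_of_notMem hρF]
      exact hcard
  apply hNC u hu
  apply S.isCycle_of_support hu hne (S.mem_reps hρ).1
  intro y hy
  obtain ⟨_, hρy, hρyF⟩ := hmoved y hy
  rw [hreps, Finset.mem_insert] at hρy
  rcases hρy with h | h
  · rw [← h]
    exact (SO_rep P y).symm
  · exact absurd h hρyF

theorem pow_eq_of_modEq (S : Setup G Δ P p) {u : Perm α} (hu : u ∈ P) {a b : ℕ}
    (h : a ≡ b [MOD p]) : u ^ a = u ^ b := by
  by_cases hne : u = 1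
  · rw [hne, one_pow, one_pow]
  · rw [pow_eq_pow_iff_modEq, S.orderOf_eq hu hne]
    exact h

/-- If `P` has prime order then every element of the normaliser acts by a power map. -/
theorem scalar_of_card (S : Setup G Δ P p) (hc : Nat.card P = p) {g : Perm α}
    (hg : g ∈ Nsub G P) : ∃ a : ℕ, ∀ u ∈ P, g * u * g⁻¹ = u ^ a := by
  haveI : Fact p.Prime := ⟨S.hp⟩
  have hp := S.hp
  obtain ⟨x, hx⟩ : ∃ x : P, x ≠ 1 := by
    haveI : Nontrivial P := Finite.one_lt_card_iff_nontrivial.mp (by rw [hc]; exact hp.one_lt)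
    exact exists_ne 1
  have hpow : ∀ u : P, u ∈ Submonoid.powers x := fun u => mem_powers_of_prime_card hc hx
  obtain ⟨a, ha⟩ := hpow ⟨g * x.1 * g⁻¹, conj_mem_of_Nsub hg x.2⟩
  have ha' : g * x.1 * g⁻¹ = x.1 ^ a := by
    have := congrArg Subtype.val ha
    simpa using this.symm
  refine ⟨a, fun u hu => ?_⟩
  obtain ⟨i, hi⟩ := hpow ⟨u, hu⟩
  have hi' : u = x.1 ^ i := by
    have := congrArg Subtype.val hi
    simpa using this.symm
  rw [hi', ← conj_pow, ha', ← pow_mul, ← pow_mul, mul_comm]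


theorem card_P_eq (S : Setup G Δ P p) {ρ : α} (hρ : ρ ∉ Δ) :
    p * Nat.card (stabilizer P ρ) = Nat.card P := by
  rw [← S.orb ρ hρ, ← MulAction.index_stabilizer]
  exact Subgroup.index_mul_card _

/-- Lemma (B): an element of `P` fixing the orbit of `ρ` is conjugated by `g ∈ K` to its
power by the multiplier of any other orbit (when there are at most three orbits). -/
theorem conj_eq_pow_of_fix (S : Setup G Δ P p) (hNC : NC P) (h3 : S.reps.card ≤ 3)
    {g : Perm α} (hg : g ∈ S.K) {w : Perm α} (hw : w ∈ P) {ρ ρ' : α} (hρ : ρ ∈ S.reps)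
    (hρ' : ρ' ∈ S.reps) (hne : ρ ≠ ρ') (hwρ : w ρ = ρ) {a : ℕ}
    (ha : ∀ u ∈ P, ∀ δ, SO P ρ' δ → (g * u * g⁻¹) δ = (u ^ a) δ) :
    g * w * g⁻¹ = w ^ a := by
  classical
  have hy : g * w * g⁻¹ * (w ^ a)⁻¹ ∈ P :=
    P.mul_mem (conj_mem_of_Nsub hg.1 hw) (P.inv_mem (P.pow_mem hw a))
  have h1 : g * w * g⁻¹ * (w ^ a)⁻¹ = 1 := by
    apply S.eq_one_of_fix_reps hNC {ρ, ρ'} _ _ hy
    · intro z hz
      rcases Finset.mem_insert.mp hz with rfl | hz
      · -- fixes `ρ`
        have e1 : (w ^ a)⁻¹ z = z := by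
          rw [Perm.inv_eq_iff_eq]
          exact (S.fix_orbit (P.pow_mem hw a)
            (by rw [Perm.pow_apply_eq_self_of_apply_eq_self hwρ]) (SO.refl P z)).symm
        simp only [Perm.mul_apply, e1]
        have e2 : SO P z (g⁻¹ z) := (S.K.inv_mem hg).2 z (S.mem_reps hρ).1
        rw [S.fix_orbit hw hwρ e2]
        simp
      · rw [Finset.mem_singleton] at hz
        subst hz
        have e2 : SO P z ((w ^ a)⁻¹ z) := ⟨(w ^ a)⁻¹, P.inv_mem (P.pow_mem hw a), rfl⟩
        rw [Perm.mul_apply, ha w hw _ e2]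
        simp
    · intro z hz
      rcases Finset.mem_insert.mp hz with rfl | hz
      · exact hρ
      · rw [Finset.mem_singleton] at hz; subst hz; exact hρ'
    · rw [Finset.card_pair hne]; omega
  rwa [mul_inv_eq_one] at h1

/-- If no element of `P` is a cycle and `P` has at most three orbits off `Δ`, every element
of `K` acts on `P` by a power map. -/
theorem scalar_of_NC (S : Setup G Δ P p) (hNC : NC P) (h3 : S.reps.card ≤ 3)
    (hne : ∃ γ, γ ∉ Δ) {g : Perm α} (hg : g ∈ S.K) :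
    ∃ a : ℕ, ∀ u ∈ P, g * u * g⁻¹ = u ^ a := by
  classical
  have hp := S.hp
  by_cases hα : ∃ w ∈ P, w ≠ 1 ∧ ∃ ρ ∈ S.reps, w ρ = ρ
  · -- some non-identity element fixes an orbit
    obtain ⟨w0, hw0, hw0ne, ρ0, hρ0, hw0ρ0⟩ := hα
    have hmoved : ∀ y, w0 y ≠ y → y ∉ Δ ∧ rep P y ∈ S.reps ∧ w0 (rep P y) ≠ rep P y := by
      intro y hy
      have hyΔ : y ∉ Δ := fun h => hy (S.Pfix w0 hw0 y h)
      refine ⟨hyΔ, S.rep_mem_reps hyΔ, fun hF' => hy ?_⟩
      exact S.fix_orbit hw0 hF' (SO_rep P y).symm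
    obtain ⟨x1, hx1⟩ : ∃ x, w0 x ≠ x := by
      by_contra hcon
      push Not at hcon
      exact hw0ne (Perm.ext hcon)
    obtain ⟨hx1Δ, hρ1, hw0ρ1⟩ := hmoved x1 hx1
    set ρ1 := rep P x1 with hρ1def
    have h01 : ρ0 ≠ ρ1 := fun h => hw0ρ1 (h ▸ hw0ρ0)
    -- a second moved orbit
    obtain ⟨x2, hx2, hx2ρ⟩ : ∃ x, w0 x ≠ x ∧ ¬ SO P ρ1 x := by
      by_contra hcon
      push Not at hcon
      exact hNC w0 hw0 (S.isCycle_of_support hw0 hw0ne (S.mem_reps hρ1).1 hcon)
    obtain ⟨hx2Δ, hρ2, hw0ρ2⟩ := hmoved x2 hx2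
    set ρ2 := rep P x2 with hρ2def
    have h02 : ρ0 ≠ ρ2 := fun h => hw0ρ2 (h ▸ hw0ρ0)
    have h12 : ρ1 ≠ ρ2 := by
      intro h
      apply hx2ρ
      rw [h]
      exact (SO_rep P x2).symm
    have hreps : S.reps = {ρ0, ρ1, ρ2} := by
      symm
      apply Finset.eq_of_subset_of_card_le
      · intro y hy
        simp only [Finset.mem_insert, Finset.mem_singleton] at hy
        rcases hy with rfl | rfl | rfl
        · exact hρ0
        · exact hρ1
        · exact hρ2
      · rw [Finset.card_insert_of_notMem (by simp [h01, h02]),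
          Finset.card_pair h12]
        exact h3
    obtain ⟨a0, ha0⟩ := S.exists_mult hg (S.mem_reps hρ0).1
    obtain ⟨a1, ha1⟩ := S.exists_mult hg (S.mem_reps hρ1).1
    obtain ⟨a2, ha2⟩ := S.exists_mult hg (S.mem_reps hρ2).1
    -- `a1 ≡ a2`
    have e12 : a1 ≡ a2 [MOD p] := by
      have e1 := S.conj_eq_pow_of_fix hNC h3 hg hw0 hρ0 hρ1 h01 hw0ρ0 ha1
      have e2 := S.conj_eq_pow_of_fix hNC h3 hg hw0 hρ0 hρ2 h02 hw0ρ0 ha2
      have e3 : w0 ^ a1 = w0 ^ a2 := e1.symm.trans e2
      rwa [pow_eq_pow_iff_modEq, S.orderOf_eq hw0 hw0ne] at e3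
    -- a non-identity element fixing `ρ1`
    obtain ⟨w1, hw1, hw1ne, hw1ρ1⟩ : ∃ w ∈ P, w ≠ 1 ∧ w ρ1 = ρ1 := by
      have c0 := S.card_P_eq (S.mem_reps hρ0).1
      have c1 := S.card_P_eq (S.mem_reps hρ1).1
      have hcard : Nat.card (stabilizer P ρ0) = Nat.card (stabilizer P ρ1) :=
        Nat.eq_of_mul_eq_mul_left hp.pos (c0.trans c1.symm)
      have hnb : stabilizer P ρ0 ≠ ⊥ := by
        intro hbot
        have : (⟨w0, hw0⟩ : P) ∈ stabilizer P ρ0 := by
          rw [MulAction.mem_stabilizer_iff]; exact hw0ρ0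
        rw [hbot, Subgroup.mem_bot] at this
        exact hw0ne (congrArg Subtype.val this)
      have hnb1 : stabilizer P ρ1 ≠ ⊥ := by
        intro hbot
        apply hnb
        rw [← Subgroup.card_eq_one, hcard, hbot, Subgroup.card_bot]
      obtain ⟨⟨w, hwst⟩, hwne⟩ := (Subgroup.ne_bot_iff_exists_ne_one).mp hnb1
      refine ⟨w.1, w.2, ?_, ?_⟩
      · intro h
        apply hwne
        apply Subtype.ext
        apply Subtype.ext
        exact h
      · exact (MulAction.mem_stabilizer_iff.mp hwst)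
    have e02 : a0 ≡ a2 [MOD p] := by
      have e1 := S.conj_eq_pow_of_fix hNC h3 hg hw1 hρ1 hρ0 (Ne.symm h01) hw1ρ1 ha0
      have e2 := S.conj_eq_pow_of_fix hNC h3 hg hw1 hρ1 hρ2 h12 hw1ρ1 ha2
      have e3 : w1 ^ a0 = w1 ^ a2 := e1.symm.trans e2
      rwa [pow_eq_pow_iff_modEq, S.orderOf_eq hw1 hw1ne] at e3
    refine ⟨a0, fun u hu => ?_⟩
    ext x
    by_cases hx : x ∈ Δ
    · rw [S.Pfix _ (conj_mem_of_Nsub hg.1 hu) x hx, S.Pfix _ (P.pow_mem hu a0) x hx]
    · have hrx := S.rep_mem_reps hx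
      rw [hreps] at hrx
      simp only [Finset.mem_insert, Finset.mem_singleton] at hrx
      have hSO : SO P (rep P x) x := (SO_rep P x).symm
      rcases hrx with h | h | h
      · rw [h] at hSO
        exact ha0 u hu x hSO
      · rw [h] at hSO
        rw [ha1 u hu x hSO, S.pow_eq_of_modEq hu (e12.trans e02.symm)]
      · rw [h] at hSO
        rw [ha2 u hu x hSO, S.pow_eq_of_modEq hu e02.symm]
  · -- `P` is semiregular off `Δ`, hence of order `p`
    push Not at hα
    obtain ⟨γ, hγ⟩ := hne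
    have hρ := S.rep_mem_reps hγ
    have hst : stabilizer P (rep P γ) = ⊥ := by
      rw [Subgroup.eq_bot_iff_forall]
      intro w hw
      by_contra hne1
      have hw' : w.1 (rep P γ) = rep P γ := MulAction.mem_stabilizer_iff.mp hw
      exact hα w.1 w.2 (fun h => hne1 (Subtype.ext h)) _ hρ hw'
    have hc := S.card_P_eq (S.mem_reps hρ).1
    rw [hst, Subgroup.card_bot, mul_one] at hc
    exact S.scalar_of_card hc.symm hg.1

end Setup

end Cfsg.Agent.Helper3.Miller
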