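import Mathlib
import Cfsg.Agent.Helper3.Miller4
import Cfsg.Agent.Helper4.MinDegree
import Cfsg.Agent.Helper4.Sharp4
import Cfsg.Agent.Helper4.Sharp6
import Cfsg.Agent.S0713

set_option autoImplicit false
set_option linter.style.haveILetI false
set_option linter.unusedSectionVars false

/-!
# Miller's theorem, part 5: final assembly
-/

namespace Cfsg.Agent.Helper3.Miller

open Equiv Equiv.Perm MulAction

variable {α : Type*} [Fintype α] [DecidableEq α]

/-- If non-identity elements of `G` have large support then stabilisers of `m`-tuples are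
trivial. -/
theorem stab_eq_bot (G : Subgroup (Perm α)) {r m : ℕ} (hNS : NS G r)
    (h : Fintype.card α < 2 * r + m) (x : Fin m ↪ α) : stabilizer G x = ⊥ := by
  classical
  rw [Subgroup.eq_bot_iff_forall]
  intro g hg
  by_contra hne
  have hg1 : (g : Perm α) ≠ 1 := fun h1 => hne (Subtype.ext h1)
  have h2 := hNS g.1 g.2 hg1
  have hfix : ∀ i, (g : Perm α) (x i) = x i := by
    intro i
    have := MulAction.mem_stabilizer_iff.mp hg
    exact DFunLike.congr_fun this i
  have hsub : (g : Perm α).support ⊆ (Finset.univ.map x)ᶜ := by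
    intro y hy
    rw [Finset.mem_compl, Finset.mem_map]
    rintro ⟨i, _, rfl⟩
    exact (Perm.mem_support.mp hy) (hfix i)
  have h4 := Finset.card_le_card hsub
  rw [Finset.card_compl, Finset.card_map, Finset.card_univ, Fintype.card_fin] at h4
  have h5 := Fintype.card_le_of_embedding x
  rw [Fintype.card_fin] at h5
  omega

/-- **Miller's theorem.** -/
theorem miller (G : Subgroup (Perm α)) {k p r : ℕ} (hp : p.Prime)
    (hn : Fintype.card α = k * p + r) (hk : 1 ≤ k) (hpk : k < p) (hrk : k < r)
    (hex : ¬ (k = 1 ∧ r = 2)) (hG : IsMultiplyPretransitive G α (r + 1)) :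
    alternatingGroup α ≤ G := by
  classical
  by_contra hA
  haveI : Fact p.Prime := ⟨hp⟩
  have hp2 := hp.two_le
  have hr3 : 3 ≤ r := by
    by_contra hcon
    apply hex
    omega
  have hkp : p ≤ k * p := Nat.le_mul_of_pos_left p hk
  have hn5 : 5 ≤ Fintype.card α := by omega
  have hcard : r + 1 ≤ Nat.card α := by
    rw [Nat.card_eq_fintype_card]; have := hp.pos; omega
  have hG2 : IsMultiplyPretransitive G α 2 :=
    isMultiplyPretransitive_of_le (n := r + 1) (by omega) hcard
  have hGr : IsMultiplyPretransitive G α r :=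
    isMultiplyPretransitive_of_le (n := r + 1) (by omega) hcard
  have hprim : IsPreprimitive G α := isPreprimitive_of_is_two_pretransitive hG2
  -- minimal degree
  have hNS : NS G r := by
    intro g hg hg1
    by_contra hlt
    obtain ⟨u, hu, hu1, hu3⟩ := Cfsg.Agent.Helper4.MinDegree.exists_small_support G
      (k := r + 1) (by omega) (by rw [← Nat.card_eq_fintype_card]; exact hcard) hG _ g hg hg1 rfl
      (by omega)
    exact hA (Cfsg.Agent.Helper4.MinDegree.alternatingGroup_le_of_small_support G hG2 u hu hu1 hu3)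
  -- the set `Δ` and the Sylow subgroup
  obtain ⟨Δ, -, hΔ⟩ := Finset.exists_subset_card_eq (s := (Finset.univ : Finset α)) (n := r)
    (by rw [Finset.card_univ]; omega)
  obtain ⟨P, hPH, hPp, hPc⟩ := exists_sylow_sub (fixG G Δ) p
  have S : Setup G Δ P p :=
    { hp := hp
      PG := fun u hu => (hPH hu).1
      Pfix := fun u hu => (hPH hu).2
      Ppg := hPp
      orb := fun γ hγ => orbit_card G Δ hp hn hk hpk hΔ hG P hPH hPc hγ
      witt := fun σ hσ => witt G Δ hp hΔ hGr P hPH hPc σ hσ }
  have hkc : (Δᶜ).card = k * p := by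
    rw [Finset.card_compl, hΔ, hn]; omega
  obtain ⟨γ, hγ⟩ : ∃ γ, γ ∉ Δ := by
    have : 0 < (Δᶜ).card := by rw [hkc]; exact Nat.mul_pos hk hp.pos
    obtain ⟨γ, hγ⟩ := Finset.card_pos.mp this
    exact ⟨γ, Finset.mem_compl.mp hγ⟩
  have hNS' : NS G Δ.card := by rw [hΔ]; exact hNS
  -- no cycles in `P`
  have hNC : NC P := by
    intro u hu hcyc
    have hu1 : u ≠ 1 := hcyc.ne_one
    have hord := S.orderOf_eq hu hu1
    rw [hcyc.orderOf] at hord
    exact hA (Cfsg.Agent.S0713.result G hprim hp hn5 (by omega) hcyc hord (S.PG hu))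
  have hreps := S.card_reps hkc
  -- `k ≥ 2`
  have hk2 : 2 ≤ k := by
    by_contra hcon
    have hk1 : k = 1 := by omega
    obtain ⟨c, hc, hcγ⟩ := S.exists_move hγ
    have := S.eq_one_of_fix_reps hNC ∅ (Finset.empty_subset _) (by simp; omega) hc (by simp)
    rw [this] at hcγ
    exact hcγ rfl
  have hp3 : p ≠ 2 := by omega
  by_cases h5 : 5 ≤ r
  · exact S.false_of_five hNS' hkc (by omega) (by omega) (by omega) hp3
  · by_cases hpr : r < p
    · apply S.false_of_scalar hNS' hkc (by omega) (by omega) (by omega) (by omega)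
      intro g hg
      exact S.scalar_of_NC hNC (by omega) ⟨γ, hγ⟩ hg
    · -- the two sharply transitive cases
      have hp3' : p = 3 := by
        have h1 : p ≤ 4 := by omega
        have h2 : 3 ≤ p := by omega
        rcases Nat.lt_or_ge p 4 with h | h
        · omega
        · have : p = 4 := by omega
          rw [this] at hp
          exact absurd hp (by norm_num)
      have hk2' : k = 2 := by omega
      subst hp3' hk2'
      have hr34 : r = 3 ∨ r = 4 := by omega
      rcases hr34 with rfl | rfl
      · have h4 : IsMultiplyPretransitive G α 4 := hG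
        have hsharp : ∀ x : Fin 4 ↪ α, stabilizer G x = ⊥ :=
          fun x => stab_eq_bot G hNS (by omega) x
        have hne : Nonempty (Fin 4 ↪ α) := by
          rw [Function.Embedding.nonempty_iff_card_le]
          simp only [Fintype.card_fin]; omega
        obtain ⟨_, hc⟩ := Cfsg.Agent.Helper4.Sharp4.card_mem h4 hsharp hne
        rw [Nat.card_eq_fintype_card] at hc
        omega
      · have h5' : IsMultiplyPretransitive G α 5 := hG
        have hsharp : ∀ x : Fin 5 ↪ α, stabilizer G x = ⊥ :=
          fun x => stab_eq_bot G hNS (by omega) x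
        have hc := Cfsg.Agent.Helper4.Sharp6.sharp5_card h5' hsharp
          (by rw [Nat.card_eq_fintype_card]; omega)
        rw [Nat.card_eq_fintype_card] at hc
        omega

end Cfsg.Agent.Helper3.Miller
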