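import Mathlib
import Cfsg.Agent.Helper4.MinIdxDefs
import Cfsg.Agent.Helper4.MinIdxCommon
import Cfsg.Agent.Helper4.MinIdxLin
import Cfsg.Agent.Helper5.MinIdxCOUNT1
import Cfsg.Agent.Helper20.MinIdxUNIQ

set_option autoImplicit false
set_option linter.unusedSectionVars false
set_option linter.unusedVariables false

/-! S2140, piece NUM: Burnside counting for the group `Qc v` of transvections with centre `v`. -/

namespace Cfsg.Agent.S2140P

open Matrix Cfsg.Agent.Helper12.TVG Cfsg.Agent.Helper12

section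

variable {n : ℕ} {F : Type*} [Field F] [Fintype F]
variable {Ω : Type*} [MulAction (SLn n F) Ω] [Finite Ω]

theorem num_Qc (hn : 2 ≤ n) (v : Fin n → F) (hv : v ≠ 0) (f : ℕ)
    (hf : TransvFix (n := n) (F := F) Ω f) :
    ∃ a : ℕ, Nat.card Ω = f + a * (Fintype.card F) ^ (n - 1) ∧
      Nat.card (MulAction.orbitRel.Quotient (Qc v) Ω) = f + a := by
  classical
  have hcard := UNIQ.card_Qc v hv
  have hq : 2 ≤ Fintype.card F := Fintype.one_lt_card
  have hfin : Finite (Qc v) := by
    apply Nat.finite_of_card_ne_zero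
    rw [hcard]
    exact pow_ne_zero _ Fintype.card_ne_zero
  have hnt : Nontrivial (Qc v) := by
    rw [← Finite.one_lt_card_iff_nontrivial, hcard]
    calc 1 < Fintype.card F := hq
      _ = Fintype.card F ^ 1 := (pow_one _).symm
      _ ≤ Fintype.card F ^ (n - 1) := Nat.pow_le_pow_right (by omega) (by omega)
  have hfQ : ∀ y : Qc v, y ≠ 1 → Nat.card (MulAction.fixedBy Ω y) = f := by
    rintro ⟨g, φ, h, rfl⟩ hy
    have hφ : φ ≠ 0 := by
      rintro rfl
      apply hy
      apply Subtype.ext
      exact TS_zero_cov v h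
    exact hf v φ h hv hφ
  obtain ⟨a, h1, h2⟩ := count_orbits (Q := Qc v) (X := Ω) f hfQ
  exact ⟨a, by rw [h1, hcard], h2⟩

end

end Cfsg.Agent.S2140P
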