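import Mathlib

set_option autoImplicit false
set_option linter.unusedSectionVars false
set_option linter.unusedVariables false
set_option linter.style.haveILetI false

/-! S2140, piece TRACE: the pairing `(φ, x) ↦ τ (φ ⬝ᵥ x)` on `F^n` (with `τ : F →+ 𝔽_p` nonzero)
separates additive subgroups from points.
(Backup copy: the version used by S2140 is `Cfsg.Agent.Helper4.MinIdxTRACE`; this one lives in its own
namespace to avoid a name clash.) -/

namespace Cfsg.Agent.Helper3.MinIdxTRACE

open Matrix

theorem trace_sep {n : ℕ} {F : Type*} [Field F] [Fintype F] (p : ℕ) [Fact p.Prime] [CharP F p]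
    (τ : F →+ ZMod p) (hτ : τ ≠ 0)
    (S : AddSubgroup (Fin n → F)) (y : Fin n → F) (hy : y ∉ S) :
    ∃ x : Fin n → F, (∀ φ ∈ S, τ (φ ⬝ᵥ x) = 0) ∧ τ (y ⬝ᵥ x) ≠ 0 := by
  classical
  letI := ZMod.algebra F p
  obtain ⟨c, hc⟩ : ∃ c : F, τ c ≠ 0 := by
    by_contra hcon
    push Not at hcon
    exact hτ (AddMonoidHom.ext hcon)
  let B : LinearMap.BilinForm (ZMod p) (Fin n → F) :=
    LinearMap.mk₂ (ZMod p) (fun x φ => τ (φ ⬝ᵥ x))
      (by intro x x' φ; rw [dotProduct_add, map_add])
      (by intro a x φ; rw [dotProduct_smul, ZMod.map_smul])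
      (by intro x φ φ'; rw [add_dotProduct, map_add])
      (by intro a x φ; rw [smul_dotProduct, ZMod.map_smul])
  have hBdef : ∀ x φ, B x φ = τ (φ ⬝ᵥ x) := fun x φ => rfl
  have hB : B.Nondegenerate := by
    constructor
    · intro x hx
      by_contra hx0
      obtain ⟨i, hi⟩ : ∃ i, x i ≠ 0 := by
        by_contra hcon
        push Not at hcon
        exact hx0 (funext hcon)
      have h := hx (Pi.single i (c * (x i)⁻¹))
      rw [hBdef, single_dotProduct, mul_assoc, inv_mul_cancel₀ hi, mul_one] at h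
      exact hc h
    · intro φ hφ
      by_contra hφ0
      obtain ⟨i, hi⟩ : ∃ i, φ i ≠ 0 := by
        by_contra hcon
        push Not at hcon
        exact hφ0 (funext hcon)
      have h := hφ (Pi.single i ((φ i)⁻¹ * c))
      rw [hBdef, dotProduct_single, ← mul_assoc, mul_inv_cancel₀ hi, one_mul] at h
      exact hc h
  have hyS : y ∉ AddSubgroup.toZModSubmodule p S := hy
  obtain ⟨l, hly, hlS⟩ := Submodule.exists_dual_map_eq_bot_of_notMem hyS inferInstance
  refine ⟨(B.toDual hB).symm l, ?_, ?_⟩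
  · intro φ hφ
    have h1 : B ((B.toDual hB).symm l) φ = l φ := LinearMap.BilinForm.apply_toDual_symm_apply l φ
    rw [hBdef] at h1
    rw [h1]
    have h2 : l φ ∈ (AddSubgroup.toZModSubmodule p S).map l := ⟨φ, hφ, rfl⟩
    rw [hlS] at h2
    exact (Submodule.mem_bot _).mp h2
  · have h1 : B ((B.toDual hB).symm l) y = l y := LinearMap.BilinForm.apply_toDual_symm_apply l y
    rw [hBdef] at h1
    rw [h1]
    exact hly

end Cfsg.Agent.Helper3.MinIdxTRACE
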