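import Mathlib

/-!
# Minimal non-abelian normal subgroups centralising a maximal normal abelian subgroup

Group-theoretic core of S0686: if `A` is a maximal normal abelian subgroup of a finite group `Γ`
and `N` is minimal among the non-abelian normal subgroups centralising `A`, then either `N` is
perfect or `N` is a group of prime power order and of class two in which every abelian
`Γ`-normal subgroup is central.
-/

set_option autoImplicit false

namespace Cfsg.Agent.Helper3.MinNonab

variable {Γ : Type*} [Group Γ]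

/-- an abelian `Γ`-normal subgroup of `N` is central in `N` -/
theorem central_of_comm {A : Subgroup Γ} (hAn : A.Normal) (hAc : IsMulCommutative A)
    (hAmax : ∀ B : Subgroup Γ, B.Normal → IsMulCommutative B → A ≤ B → B = A)
    {N : Subgroup Γ} (hNle : N ≤ Subgroup.centralizer (A : Set Γ))
    {M : Subgroup Γ} (hMn : M.Normal) (hMN : M ≤ N) (hMc : IsMulCommutative M) :
    ∀ m ∈ M, ∀ n ∈ N, m * n = n * m := by
  have hB : IsMulCommutative (M ⊔ A : Subgroup Γ) := by
    have h1 : (M ⊔ A : Subgroup Γ) = Subgroup.closure ((M : Set Γ) ∪ (A : Set Γ)) := by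
      rw [Subgroup.closure_union, Subgroup.closure_eq, Subgroup.closure_eq]
    rw [h1]
    apply Subgroup.isMulCommutative_closure
    rintro x (hx | hx) y (hy | hy)
    · exact setLike_mul_comm hx hy
    · exact (Subgroup.mem_centralizer_iff.1 (hNle (hMN hx)) y hy).symm
    · exact Subgroup.mem_centralizer_iff.1 (hNle (hMN hy)) x hx
    · exact setLike_mul_comm hx hy
  have hBn : (M ⊔ A : Subgroup Γ).Normal := Subgroup.sup_normal M A
  have hBA := hAmax _ hBn hB le_sup_right
  intro m hm n hn
  have hmA : m ∈ A := by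
    rw [← hBA]
    exact (le_sup_left : M ≤ M ⊔ A) hm
  exact Subgroup.mem_centralizer_iff.1 (hNle hn) m hmA

/-- `N` is nilpotent if its commutator subgroup is central -/
theorem isNilpotent_of_central {N : Subgroup Γ}
    (hcen : ∀ c ∈ ⁅N, N⁆, ∀ n ∈ N, c * n = n * c) : Group.IsNilpotent N := by
  refine ⟨⟨2, ?_⟩⟩
  rw [eq_top_iff]
  intro x _
  rw [Subgroup.mem_upperCentralSeries_succ_iff]
  intro y
  rw [Subgroup.upperCentralSeries_one, Subgroup.mem_center_iff]
  intro g
  apply Subtype.ext
  have hc : (x : Γ) * y * (x : Γ)⁻¹ * (y : Γ)⁻¹ ∈ ⁅N, N⁆ :=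
    Subgroup.commutator_mem_commutator x.2 y.2
  have := hcen _ hc g g.2
  simp only [Subgroup.coe_mul, Subgroup.coe_inv]
  exact this.symm

/-- If the commutator subgroup of `N` is central in `N`, then `N` has prime power order. -/
theorem isPGroup_of_central [Finite Γ] {N : Subgroup Γ} (hNn : N.Normal)
    (hNna : ¬ IsMulCommutative N)
    (hNmin : ∀ M : Subgroup Γ, M.Normal → M ≤ N → ¬ IsMulCommutative M → M = N)
    (hcen : ∀ c ∈ ⁅N, N⁆, ∀ n ∈ N, c * n = n * c) :
    ∃ r : ℕ, r.Prime ∧ IsPGroup r N := by
  classical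
  haveI := hNn
  have hnil : Group.IsNilpotent N := isNilpotent_of_central hcen
  have hsyl := (Group.isNilpotent_of_finite_tfae (G := N)).out 0 3 |>.mp hnil
  obtain ⟨φ⟩ := (Group.isNilpotent_of_finite_tfae (G := N)).out 0 4 |>.mp hnil
  by_contra hno
  push Not at hno
  -- every Sylow subgroup of `N` is commutative
  have hsc : ∀ (r : ℕ) (hr : Fact r.Prime) (P : Sylow r N),
      ∀ x ∈ (P : Subgroup N), ∀ y ∈ (P : Subgroup N), x * y = y * x := by
    intro r hr P x hx y hy
    haveI : (P : Subgroup N).Normal := hsyl r hr P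
    haveI : (P : Subgroup N).Characteristic := Sylow.characteristic_of_normal P (hsyl r hr P)
    have hPn : ((P : Subgroup N).map N.subtype).Normal :=
      ConjAct.normal_of_characteristic_of_normal
    have hPle : (P : Subgroup N).map N.subtype ≤ N := Subgroup.map_subtype_le _
    have hPc : IsMulCommutative ((P : Subgroup N).map N.subtype) := by
      by_contra hnc
      have hPN := hNmin _ hPn hPle hnc
      apply hno r hr.out
      have htop : (P : Subgroup N) = ⊤ := by
        rw [eq_top_iff]
        intro z _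
        have hz : (z : Γ) ∈ (P : Subgroup N).map N.subtype := by
          rw [hPN]; exact z.2
        obtain ⟨z', hz', hzz⟩ := hz
        have : z' = z := Subtype.ext hzz
        rw [← this]; exact hz'
      have hP := P.isPGroup'
      rw [htop] at hP
      exact (IsPGroup.of_equiv hP Subgroup.topEquiv : IsPGroup r N)
    apply Subtype.ext
    have hx' : (x : Γ) ∈ (P : Subgroup N).map N.subtype := ⟨x, hx, rfl⟩
    have hy' : (y : Γ) ∈ (P : Subgroup N).map N.subtype := ⟨y, hy, rfl⟩
    exact setLike_mul_comm hx' hy'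
  apply hNna
  refine ⟨⟨fun a b => ?_⟩⟩
  obtain ⟨a', rfl⟩ := φ.surjective a
  obtain ⟨b', rfl⟩ := φ.surjective b
  rw [← map_mul, ← map_mul]
  congr 1
  funext q P
  apply Subtype.ext
  have hq : Fact (q : ℕ).Prime := ⟨Nat.prime_of_mem_primeFactors q.2⟩
  exact hsc q hq P _ (a' q P).2 _ (b' q P).2

end Cfsg.Agent.Helper3.MinNonab
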