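import Mathlib

/-!
# Restriction and corestriction of Schur multipliers, part A

Generalities: the transfer evaluated on a normal subgroup `R ≤ S`, and the norm map
`r ↦ ∏ t⁻¹ r t` over a transversal of `S` in `F`.
-/

namespace Cfsg.Agent.Helper3.MultRes

open Subgroup

section Norm

variable {F : Type*} [Group F] {S R : Subgroup F} [S.FiniteIndex] [hRn : R.Normal]

/-- coset representative -/
noncomputable def rep (T : S.LeftTransversal) (q : F ⧸ S) : F := (T.2.leftQuotientEquiv q : F)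

omit [S.FiniteIndex] in
theorem mk_rep (T : S.LeftTransversal) (q : F ⧸ S) :
    (QuotientGroup.mk (rep T q) : F ⧸ S) = q :=
  T.2.quotientGroupMk_leftQuotientEquiv q

omit [S.FiniteIndex] in
theorem conj_mem' (t r : F) (hr : r ∈ R) : t⁻¹ * r * t ∈ R := by
  have := hRn.conj_mem r hr t⁻¹
  simpa using this

omit [S.FiniteIndex] in
theorem smul_eq_of_mem (hRS : R ≤ S) (r : F) (hr : r ∈ R) (q : F ⧸ S) : r • q = q := by
  induction q using QuotientGroup.induction_on with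
  | H t =>
    rw [MulAction.Quotient.smul_mk, smul_eq_mul, QuotientGroup.eq]
    apply hRS
    have h1 : (r * t)⁻¹ * t = t⁻¹ * r⁻¹ * t := by group
    rw [h1]
    exact conj_mem' t r⁻¹ (R.inv_mem hr)

noncomputable local instance : Fintype (F ⧸ S) := S.fintypeQuotientOfFiniteIndex

theorem transfer_eq_prod (hRS : R ≤ S) (T : S.LeftTransversal) {C : Type*} [CommGroup C]
    (ϕ : S →* C) (r : F) (hr : r ∈ R) :
    MonoidHom.transfer ϕ r =
      ∏ q : F ⧸ S, ϕ ⟨(rep T q)⁻¹ * r * rep T q, hRS (conj_mem' _ r hr)⟩ := by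
  rw [MonoidHom.transfer_def ϕ T r]
  unfold Subgroup.leftTransversals.diff
  refine Finset.prod_congr rfl fun q _ => congrArg ϕ (Subtype.ext ?_)
  show ((T.2.leftQuotientEquiv q : F))⁻¹ * ((r • T).2.leftQuotientEquiv q : F) =
    (rep T q)⁻¹ * r * rep T q
  rw [Subgroup.smul_apply_eq_smul_apply_inv_smul, smul_eq_of_mem hRS r⁻¹ (R.inv_mem hr) q,
    smul_eq_mul, mul_assoc]
  rfl

/-- the norm map -/
noncomputable def norm (T : S.LeftTransversal) {C : Type*} [CommGroup C] (χ : R →* C) : R →* C :=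
  ∏ q : F ⧸ S, χ.comp ((MulAut.conjNormal (rep T q)⁻¹ : MulAut R).toMonoidHom)

theorem norm_apply (T : S.LeftTransversal) {C : Type*} [CommGroup C] (χ : R →* C) (r : R) :
    norm T χ r = ∏ q : F ⧸ S, χ (MulAut.conjNormal (rep T q)⁻¹ r) := by
  unfold norm
  rw [MonoidHom.finsetProd_apply]
  rfl

theorem norm_conj (T : S.LeftTransversal) {C : Type*} [CommGroup C] (χ : R →* C)
    (hχ : ∀ s : F, s ∈ S → ∀ r : R, χ (MulAut.conjNormal s r) = χ r) (f : F) (r : R) :
    norm T χ (MulAut.conjNormal f r) = norm T χ r := by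
  rw [norm_apply, norm_apply]
  refine Fintype.prod_equiv (MulAction.toPerm f⁻¹) _ _ fun q => ?_
  rw [MulAction.toPerm_apply]
  -- s := (rep (f⁻¹ • q))⁻¹ * f⁻¹ * rep q ∈ S
  have hs : (rep T (f⁻¹ • q))⁻¹ * (f⁻¹ * rep T q) ∈ S := by
    rw [← QuotientGroup.eq, mk_rep, ← smul_eq_mul, ← MulAction.Quotient.smul_mk, mk_rep]
  have h1 : (MulAut.conjNormal (rep T q)⁻¹ : MulAut R) (MulAut.conjNormal f r) =
      MulAut.conjNormal ((rep T (f⁻¹ • q))⁻¹ * (f⁻¹ * rep T q))⁻¹
        (MulAut.conjNormal (rep T (f⁻¹ • q))⁻¹ r) := by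
    rw [← MulAut.mul_apply, ← MulAut.mul_apply, ← map_mul, ← map_mul]
    congr 2
    group
  rw [h1]
  exact hχ _ (S.inv_mem hs) _

theorem norm_commutator (T : S.LeftTransversal) {C : Type*} [CommGroup C] (χ : R →* C)
    (hχ : ∀ s : F, s ∈ S → ∀ r : R, χ (MulAut.conjNormal s r) = χ r) (k : F)
    (hk : k ∈ ⁅(⊤ : Subgroup F), R⁆) (hkR : k ∈ R) : norm T χ ⟨k, hkR⟩ = 1 := by
  have hle : ⁅(⊤ : Subgroup F), R⁆ ≤ (norm T χ).ker.map R.subtype := by
    rw [Subgroup.commutator_le]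
    intro f _ r hr
    refine ⟨MulAut.conjNormal f ⟨r, hr⟩ * ⟨r, hr⟩⁻¹, ?_, ?_⟩
    · rw [SetLike.mem_coe, MonoidHom.mem_ker, map_mul, map_inv, norm_conj T χ hχ, mul_inv_cancel]
    · simp [commutatorElement_def, MulAut.conjNormal_apply]
  obtain ⟨k', hk', hkk⟩ := hle hk
  have : k' = ⟨k, hkR⟩ := Subtype.ext hkk
  rw [← this]
  exact MonoidHom.mem_ker.mp hk'

end Norm

end Cfsg.Agent.Helper3.MultRes
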