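import Mathlib
import Cfsg.Agent.Helper3.MultResA
import Cfsg.Agent.Helper8.HopfMult

/-!
# Restriction and corestriction of Schur multipliers, part B

For a subgroup `U` of a finite group `G` we construct homomorphisms
`res : mult G →* mult U` and `cor : mult U →* mult G` (Hopf multipliers of Helper8) with
`cor (res x) = x ^ U.index`.
-/

set_option autoImplicit false

namespace Cfsg.Agent.Helper3.MultRes

open Cfsg Cfsg.Agent.Helper11.Cover Cfsg.Agent.Helper8.Hopf

universe u

/-- lifting a homomorphism from a free group along a surjection -/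
theorem exists_lift {S : Type u} {E Q : Type*} [Group S] [IsFreeGroup S] [Group E] [Group Q]
    (p : E →* Q) (hp : Function.Surjective p) (ν : S →* Q) : ∃ ψ : S →* E, p.comp ψ = ν := by
  refine ⟨IsFreeGroup.lift (fun a => Function.surjInv hp (ν (IsFreeGroup.of a))), ?_⟩
  apply IsFreeGroup.ext_hom
  intro a
  simp [Function.surjInv_eq hp]

/-- the kernel of `pE` is a commutative group -/
@[reducible]
noncomputable def kerComm (Q : Type u) [Group Q] : CommGroup ↥(pE (Q := Q)).ker :=
  { (inferInstance : Group ↥(pE (Q := Q)).ker) with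
    mul_comm := fun a b => Subtype.ext (by
      have := pE_ker_le_center a.2
      exact (Subgroup.mem_center_iff.mp this b.1).symm) }

attribute [local instance] kerComm

/-- the quotient of two homomorphisms into `E` agreeing modulo `ker pE` -/
noncomputable def divHom {S : Type*} {Q : Type u} [Group S] [Group Q] (a b : S →* extE Q)
    (h : ∀ s, pE (a s) = pE (b s)) : S →* ↥(pE (Q := Q)).ker :=
  MonoidHom.mk' (fun s => ⟨a s * (b s)⁻¹, by
    rw [MonoidHom.mem_ker, map_mul, map_inv, h s, mul_inv_cancel]⟩) (by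
    intro s t
    apply Subtype.ext
    have hc : a t * (b t)⁻¹ ∈ Subgroup.center (extE Q) := by
      apply pE_ker_le_center
      rw [MonoidHom.mem_ker, map_mul, map_inv, h t, mul_inv_cancel]
    have hcomm := Subgroup.mem_center_iff.mp hc
    show a (s * t) * (b (s * t))⁻¹ = a s * (b s)⁻¹ * (a t * (b t)⁻¹)
    rw [map_mul, map_mul, mul_inv_rev]
    calc a s * a t * ((b t)⁻¹ * (b s)⁻¹) = a s * ((a t * (b t)⁻¹) * (b s)⁻¹) := by group
      _ = a s * ((b s)⁻¹ * (a t * (b t)⁻¹)) := by rw [hcomm (b s)⁻¹]
      _ = a s * (b s)⁻¹ * (a t * (b t)⁻¹) := by group)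

theorem divHom_coe {S : Type*} {Q : Type u} [Group S] [Group Q] (a b : S →* extE Q)
    (h : ∀ s, pE (a s) = pE (b s)) (s : S) : ((divHom a b h s : ↥(pE (Q := Q)).ker) : extE Q) =
      a s * (b s)⁻¹ := rfl


section Main

variable {G : Type u} [Group G] [Finite G] (U : Subgroup G)

/-- the preimage of `U` in the free group on `G` -/
noncomputable abbrev preS : Subgroup (FreeGroup G) := U.comap (phiF (Q := G))

/-- the relation subgroup -/
noncomputable abbrev kerR (G : Type u) [Group G] : Subgroup (FreeGroup G) := (phiF (Q := G)).ker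

omit [Finite G] in
theorem index_preS : (preS U).index = U.index :=
  Subgroup.index_comap_of_surjective U phiF_surjective

instance : (preS U).FiniteIndex := ⟨by
  rw [index_preS]
  exact Subgroup.index_ne_zero_of_finite⟩

omit [Finite G] in
theorem kerR_le_preS : kerR G ≤ preS U := by
  intro x hx
  show phiF x ∈ U
  rw [MonoidHom.mem_ker.mp hx]
  exact U.one_mem

/-- the map `S → U` -/
noncomputable def nu : ↥(preS U) →* ↥U := (phiF (Q := G)).subgroupComap U

omit [Finite G] in
theorem nu_coe (s : ↥(preS U)) : ((nu U s : ↥U) : G) = phiF (s : FreeGroup G) := rfl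

omit [Finite G] in
theorem exists_psi : ∃ ψ : ↥(preS U) →* extE ↥U, (pE (Q := ↥U)).comp ψ = nu U :=
  exists_lift pE pE_surjective (nu U)

/-- a lift of `S → U` to the central extension `E_U` (Nielsen–Schreier) -/
noncomputable def psi : ↥(preS U) →* extE ↥U := (exists_psi U).choose

omit [Finite G] in
theorem pE_psi (s : ↥(preS U)) : pE (psi U s) = nu U s :=
  DFunLike.congr_fun (exists_psi U).choose_spec s

/-- `ψ` restricted to `R`, with values in the kernel -/
noncomputable def chi : ↥(kerR G) →* ↥(pE (Q := ↥U)).ker :=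
  ((psi U).comp (Subgroup.inclusion (kerR_le_preS U))).codRestrict _ (by
    intro r
    rw [MonoidHom.mem_ker, MonoidHom.comp_apply, pE_psi]
    apply Subtype.ext
    rw [nu_coe]
    exact MonoidHom.mem_ker.mp r.2)

omit [Finite G] in
theorem chi_coe (r : ↥(kerR G)) :
    ((chi U r : ↥(pE (Q := ↥U)).ker) : extE ↥U) = psi U ⟨r, kerR_le_preS U r.2⟩ := rfl

omit [Finite G] in
theorem chi_conj (s : FreeGroup G) (hs : s ∈ preS U) (r : ↥(kerR G)) :
    chi U (MulAut.conjNormal s r) = chi U r := by
  apply Subtype.ext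
  rw [chi_coe, chi_coe]
  have h1 : (⟨(MulAut.conjNormal s r : ↥(kerR G)), kerR_le_preS U (MulAut.conjNormal s r).2⟩ :
      ↥(preS U)) = ⟨s, hs⟩ * ⟨r, kerR_le_preS U r.2⟩ * ⟨s, hs⟩⁻¹ := by
    apply Subtype.ext
    simp [MulAut.conjNormal_apply]
  rw [h1, map_mul, map_mul, map_inv]
  have hc : psi U ⟨r, kerR_le_preS U r.2⟩ ∈ Subgroup.center (extE ↥U) := by
    apply pE_ker_le_center
    exact (chi U r).2
  rw [Subgroup.mem_center_iff.mp hc, mul_inv_cancel_right]

noncomputable local instance : Fintype (FreeGroup G ⧸ preS U) :=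
  (preS U).fintypeQuotientOfFiniteIndex

/-- the norm map `R → ker (E_U → U)` -/
noncomputable def nrm : ↥(kerR G) →* ↥(pE (Q := ↥U)).ker :=
  norm (default : (preS U).LeftTransversal) (chi U)

theorem nrm_eq_of_mk_eq (a b : ↥(kerR G))
    (h : (QuotientGroup.mk (a : FreeGroup G) : extE G) = QuotientGroup.mk (b : FreeGroup G)) :
    nrm U a = nrm U b := by
  have hk : (b : FreeGroup G)⁻¹ * a ∈ relN (Q := G) := QuotientGroup.eq.mp h.symm
  have h1 : nrm U (b⁻¹ * a) = 1 := by
    have := norm_commutator (default : (preS U).LeftTransversal) (chi U) (chi_conj U)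
      ((b : FreeGroup G)⁻¹ * a) hk (b⁻¹ * a).2
    exact this
  have h2 : a = b * (b⁻¹ * a) := by group
  rw [h2, map_mul, h1, mul_one]

theorem nrm_mem_commutator (r : ↥(kerR G))
    (hr : (r : FreeGroup G) ∈ commutator (FreeGroup G)) :
    ((nrm U r : ↥(pE (Q := ↥U)).ker) : extE ↥U) ∈ commutator (extE ↥U) := by
  let ϕ : ↥(preS U) →* Abelianization (extE ↥U) := Abelianization.of.comp (psi U)
  have h1 : MonoidHom.transfer ϕ (r : FreeGroup G) = 1 :=
    MonoidHom.mem_ker.mp (Abelianization.commutator_subset_ker (MonoidHom.transfer ϕ) hr)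
  rw [transfer_eq_prod (kerR_le_preS U) default ϕ r r.2] at h1
  have h2 : (Abelianization.of.comp (pE (Q := ↥U)).ker.subtype) (nrm U r) = 1 := by
    rw [← h1, nrm, norm_apply, map_prod]
    refine Finset.prod_congr rfl fun q _ => ?_
    show Abelianization.of ((chi U (MulAut.conjNormal _ r) : ↥(pE (Q := ↥U)).ker) : extE ↥U) = _
    rw [chi_coe]
    show Abelianization.of (psi U _) = Abelianization.of (psi U _)
    congr 2
    apply Subtype.ext
    simp
  rw [← Abelianization.ker_of]
  exact MonoidHom.mem_ker.mpr h2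

end Main

end Cfsg.Agent.Helper3.MultRes
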