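import Mathlib
import Cfsg.Agent.Helper3.MultResB

/-!
# Restriction and corestriction of Schur multipliers, part C

`res : mult G →* mult U`, `cor : mult U →* mult G`, `cor (res x) = x ^ U.index`.
-/

set_option autoImplicit false
set_option linter.unusedSectionVars false

namespace Cfsg.Agent.Helper3.MultRes

open Cfsg Cfsg.Agent.Helper11.Cover Cfsg.Agent.Helper8.Hopf

universe u

attribute [local instance] kerComm

section Main

variable {G : Type u} [Group G] (U : Subgroup G)

theorem phiF_map (x : FreeGroup ↥U) :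
    phiF (FreeGroup.map (Subtype.val : ↥U → G) x) = ((phiF x : ↥U) : G) := by
  have : (phiF (Q := G)).comp (FreeGroup.map (Subtype.val : ↥U → G)) =
      U.subtype.comp (phiF (Q := ↥U)) := by
    ext a
    simp [phiF]
  exact DFunLike.congr_fun this x

/-- the map `E_U → E_G` induced by the inclusion -/
noncomputable def phiMap : extE ↥U →* extE G :=
  QuotientGroup.map relN relN (FreeGroup.map (Subtype.val : ↥U → G)) (by
    rw [← Subgroup.map_le_iff_le_comap]
    unfold relN
    rw [Subgroup.map_commutator]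
    apply Subgroup.commutator_mono le_top
    rintro _ ⟨x, hx, rfl⟩
    rw [MonoidHom.mem_ker, phiF_map, MonoidHom.mem_ker.mp hx]
    rfl)

theorem phiMap_mk (f : FreeGroup ↥U) :
    phiMap U (QuotientGroup.mk f : extE ↥U) =
      (QuotientGroup.mk (FreeGroup.map (Subtype.val : ↥U → G) f) : extE G) := rfl

theorem pE_phiMap (x : extE ↥U) : pE (phiMap U x) = ((pE x : ↥U) : G) := by
  obtain ⟨f, rfl⟩ := QuotientGroup.mk_surjective x
  rw [phiMap_mk, pE_mk, pE_mk, phiF_map]

/-- `φ` restricted to kernels -/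
noncomputable def phiK : ↥(pE (Q := ↥U)).ker →* ↥(pE (Q := G)).ker :=
  ((phiMap U).comp (pE (Q := ↥U)).ker.subtype).codRestrict _ (by
    intro x
    rw [MonoidHom.mem_ker, MonoidHom.comp_apply, pE_phiMap]
    have := MonoidHom.mem_ker.mp x.2
    simp only [Subgroup.coe_subtype]
    rw [this]
    rfl)

theorem phiK_coe (x : ↥(pE (Q := ↥U)).ker) :
    ((phiK U x : ↥(pE (Q := G)).ker) : extE G) = phiMap U (x : extE ↥U) := rfl

variable [Finite G]

noncomputable local instance : Fintype (FreeGroup G ⧸ preS U) :=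
  (preS U).fintypeQuotientOfFiniteIndex

/-- the difference of `φ ∘ ψ` and the projection, a homomorphism into the kernel -/
noncomputable def delta : ↥(preS U) →* ↥(pE (Q := G)).ker :=
  divHom ((phiMap U).comp (psi U))
    ((QuotientGroup.mk' (relN (Q := G))).comp (preS U).subtype) (by
    intro s
    rw [MonoidHom.comp_apply, pE_phiMap, pE_psi, nu_coe]
    rfl)

theorem delta_coe (s : ↥(preS U)) : ((delta U s : ↥(pE (Q := G)).ker) : extE G) =
    phiMap U (psi U s) * (QuotientGroup.mk (s : FreeGroup G) : extE G)⁻¹ := rfl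

theorem mk_conj_eq (t : FreeGroup G) (r : ↥(kerR G)) :
    (QuotientGroup.mk (t⁻¹ * (r : FreeGroup G) * t) : extE G) =
      QuotientGroup.mk (r : FreeGroup G) := by
  have hc : (QuotientGroup.mk (r : FreeGroup G) : extE G) ∈ Subgroup.center (extE G) := by
    apply pE_ker_le_center
    rw [MonoidHom.mem_ker, pE_mk]
    exact MonoidHom.mem_ker.mp r.2
  rw [QuotientGroup.mk_mul, QuotientGroup.mk_mul, QuotientGroup.mk_inv, mul_assoc,
    ← Subgroup.mem_center_iff.mp hc, inv_mul_cancel_left]

theorem phiMap_nrm (r : ↥(kerR G)) (hr : (r : FreeGroup G) ∈ commutator (FreeGroup G)) :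
    phiMap U ((nrm U r : ↥(pE (Q := ↥U)).ker) : extE ↥U) =
      (QuotientGroup.mk (r : FreeGroup G) : extE G) ^ U.index := by
  have h1 : MonoidHom.transfer (delta U) (r : FreeGroup G) = 1 :=
    MonoidHom.mem_ker.mp (Abelianization.commutator_subset_ker (MonoidHom.transfer (delta U)) hr)
  rw [transfer_eq_prod (kerR_le_preS U) default (delta U) r r.2] at h1
  let z : ↥(pE (Q := G)).ker := ⟨QuotientGroup.mk (r : FreeGroup G), by
    rw [MonoidHom.mem_ker, pE_mk]
    exact MonoidHom.mem_ker.mp r.2⟩
  have h2 : ∀ q : FreeGroup G ⧸ preS U,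
      delta U ⟨(rep (default : (preS U).LeftTransversal) q)⁻¹ * (r : FreeGroup G) *
        rep (default : (preS U).LeftTransversal) q,
        kerR_le_preS U (conj_mem' _ (r : FreeGroup G) r.2)⟩ =
      phiK U (chi U (MulAut.conjNormal (rep (default : (preS U).LeftTransversal) q)⁻¹ r)) *
        z⁻¹ := by
    intro q
    apply Subtype.ext
    rw [Subgroup.coe_mul, Subgroup.coe_inv, phiK_coe, chi_coe, delta_coe]
    show phiMap U (psi U _) * (QuotientGroup.mk ((rep (default : (preS U).LeftTransversal) q)⁻¹ *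
      (r : FreeGroup G) * rep (default : (preS U).LeftTransversal) q) : extE G)⁻¹ = _
    rw [mk_conj_eq]
    congr 3
    apply Subtype.ext
    simp
  rw [Finset.prod_congr rfl (fun q _ => h2 q), Finset.prod_mul_distrib, Finset.prod_const,
    ← map_prod] at h1
  have h3 : phiK U (nrm U r) = z ^ U.index := by
    have h4 : (Finset.univ : Finset (FreeGroup G ⧸ preS U)).card = U.index := by
      rw [Finset.card_univ, ← Nat.card_eq_fintype_card, ← Subgroup.index_eq_card, index_preS]
    rw [h4, inv_pow, mul_inv_eq_one] at h1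
    rw [← h1, nrm, norm_apply]
  have := congrArg (fun w : ↥(pE (Q := G)).ker => (w : extE G)) h3
  simpa [phiK_coe] using this

/-- representatives of multiplier elements in `R ∩ F'` -/
theorem exists_rep (x : mult G) : ∃ r : ↥(kerR G),
    (r : FreeGroup G) ∈ commutator (FreeGroup G) ∧
      (QuotientGroup.mk (r : FreeGroup G) : extE G) = x := by
  have hx := (mem_mult (x : extE G)).mp x.2
  have hc : commutator (extE G) =
      (commutator (FreeGroup G)).map (QuotientGroup.mk' (relN (Q := G))) := by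
    rw [commutator_def, commutator_def, Subgroup.map_commutator,
      Subgroup.map_top_of_surjective _ (QuotientGroup.mk'_surjective _)]
  obtain ⟨f, hf, hfx⟩ := (hc ▸ hx.2 : (x : extE G) ∈ _)
  refine ⟨⟨f, ?_⟩, hf, hfx⟩
  rw [MonoidHom.mem_ker, ← pE_mk]
  have : (QuotientGroup.mk f : extE G) = x := hfx
  rw [this]
  exact hx.1

/-- a chosen representative -/
noncomputable def repOf (x : mult G) : ↥(kerR G) := (exists_rep x).choose

theorem repOf_mem (x : mult G) : (repOf x : FreeGroup G) ∈ commutator (FreeGroup G) :=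
  (exists_rep x).choose_spec.1

theorem mk_repOf (x : mult G) : (QuotientGroup.mk (repOf x : FreeGroup G) : extE G) = x :=
  (exists_rep x).choose_spec.2

/-- restriction -/
noncomputable def res : mult G →* mult ↥U :=
  MonoidHom.mk' (fun x => ⟨((nrm U (repOf x) : ↥(pE (Q := ↥U)).ker) : extE ↥U),
      (mem_mult _).mpr ⟨MonoidHom.mem_ker.mp (nrm U (repOf x)).2,
        nrm_mem_commutator U _ (repOf_mem x)⟩⟩) (by
    intro x y
    apply Subtype.ext
    show ((nrm U (repOf (x * y)) : ↥(pE (Q := ↥U)).ker) : extE ↥U) =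
      ((nrm U (repOf x) : ↥(pE (Q := ↥U)).ker) : extE ↥U) *
        ((nrm U (repOf y) : ↥(pE (Q := ↥U)).ker) : extE ↥U)
    rw [← Subgroup.coe_mul, ← map_mul]
    congr 1
    apply nrm_eq_of_mk_eq
    have e : (QuotientGroup.mk ((repOf x * repOf y : ↥(kerR G)) : FreeGroup G) : extE G) =
        QuotientGroup.mk (repOf x : FreeGroup G) * QuotientGroup.mk (repOf y : FreeGroup G) := rfl
    rw [mk_repOf (x * y), e, mk_repOf, mk_repOf]
    rfl)

theorem res_coe (x : mult G) :
    ((res U x : mult ↥U) : extE ↥U) = ((nrm U (repOf x) : ↥(pE (Q := ↥U)).ker) : extE ↥U) := rfl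

theorem phiMap_mem_mult (x : extE ↥U) (hx : x ∈ mult ↥U) : phiMap U x ∈ mult G := by
  rw [mem_mult] at hx ⊢
  refine ⟨?_, map_commutator_le (phiMap U) ⟨x, hx.2, rfl⟩⟩
  rw [pE_phiMap, hx.1]
  rfl

/-- corestriction -/
noncomputable def cor : mult ↥U →* mult G :=
  ((phiMap U).comp (mult ↥U).subtype).codRestrict _ (fun x => phiMap_mem_mult U _ x.2)

theorem cor_res (x : mult G) : cor U (res U x) = x ^ U.index := by
  apply Subtype.ext
  show phiMap U ((res U x : mult ↥U) : extE ↥U) = ((x ^ U.index : mult G) : extE G)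
  rw [res_coe, phiMap_nrm U _ (repOf_mem x), mk_repOf, Subgroup.coe_pow]

end Main

end Cfsg.Agent.Helper3.MultRes
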