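import Mathlib
import Cfsg.Agent.Helper3.MultResC
import Cfsg.Agent.S3952

/-!
# Restriction and corestriction of Schur multipliers, part D

The `p`-primary part of the multiplier of `G` is a direct factor of the multiplier of a Sylow
`p`-subgroup.
-/

set_option autoImplicit false

namespace Cfsg.Agent.Helper3.MultRes

open Cfsg Cfsg.Agent.Helper8.Hopf

theorem eq_one_of_pow_eq_one {A : Type*} [Group A] {p m : ℕ} (hm : m.Coprime p) {a : A} {k : ℕ}
    (h1 : a ^ p ^ k = 1) (h2 : a ^ m = 1) : a = 1 := by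
  have d1 := orderOf_dvd_of_pow_eq_one h1
  have d2 := orderOf_dvd_of_pow_eq_one h2
  have hc : Nat.Coprime (p ^ k) m := (Nat.Coprime.pow_left k hm.symm)
  have := Nat.dvd_gcd d1 d2
  rw [hc.gcd_eq_one, Nat.dvd_one, orderOf_eq_one_iff] at this
  exact this

theorem exists_direct_factor {A B : Type*} [CommGroup A] [CommGroup B] [Finite A] (p m : ℕ)
    [Fact p.Prime] (hm : m.Coprime p) (hB : IsPGroup p B) (res : A →* B) (cor : B →* A)
    (h : ∀ a, cor (res a) = a ^ m) :
    ∃ C D : Subgroup B, C ⊓ D = ⊥ ∧ C ⊔ D = ⊤ ∧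
      Nonempty (CommGroup.primaryComponent A p ≃* C) := by
  have hinj : Function.Injective (res.comp (CommGroup.primaryComponent A p).subtype) := by
    rw [injective_iff_map_eq_one]
    intro a ha
    obtain ⟨k, hk⟩ := CommGroup.mem_primaryComponent.mp a.2
    have h1 : (a : A) ^ m = 1 := by
      rw [← h]
      have : res (a : A) = 1 := ha
      rw [this, map_one]
    exact Subtype.ext (eq_one_of_pow_eq_one hm hk h1)
  refine ⟨(CommGroup.primaryComponent A p).map res, cor.ker, ?_, ?_, ?_⟩
  · rw [eq_bot_iff]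
    rintro b ⟨⟨a, ha, rfl⟩, hb⟩
    obtain ⟨k, hk⟩ := CommGroup.mem_primaryComponent.mp ha
    have h1 : a ^ m = 1 := by
      rw [← h]
      exact MonoidHom.mem_ker.mp hb
    rw [eq_one_of_pow_eq_one hm hk h1, map_one]
    exact Subgroup.mem_bot.mpr rfl
  · rw [eq_top_iff]
    intro b _
    obtain ⟨k, hk⟩ := hB b
    have hcb : cor b ∈ CommGroup.primaryComponent A p :=
      CommGroup.mem_primaryComponent.mpr ⟨k, by rw [← map_pow, hk, map_one]⟩
    -- the `m`-th power map on the primary component is bijective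
    let pw : CommGroup.primaryComponent A p →* CommGroup.primaryComponent A p :=
      powMonoidHom m
    have hpw : Function.Injective pw := by
      rw [injective_iff_map_eq_one]
      intro a ha
      obtain ⟨k', hk'⟩ := CommGroup.mem_primaryComponent.mp a.2
      have h1 : (a : A) ^ m = 1 := by
        have := congrArg Subtype.val ha
        simpa [pw] using this
      exact Subtype.ext (eq_one_of_pow_eq_one hm hk' h1)
    obtain ⟨a, ha⟩ := (Finite.injective_iff_surjective.mp hpw) ⟨cor b, hcb⟩
    have ha' : (a : A) ^ m = cor b := by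
      have := congrArg Subtype.val ha
      simpa [pw] using this
    have hb : b = res a * ((res a)⁻¹ * b) := by rw [mul_inv_cancel_left]
    rw [hb]
    apply Subgroup.mul_mem_sup
    · exact ⟨a, a.2, rfl⟩
    · rw [MonoidHom.mem_ker, map_mul, map_inv, h, ha', inv_mul_cancel]
  · refine ⟨(MonoidHom.ofInjective hinj).trans (MulEquiv.subgroupCongr ?_)⟩
    rw [MonoidHom.range_comp, Subgroup.range_subtype]

theorem isPGroup_multiplier {P : Type*} [Group P] [Finite P] {p : ℕ} [Fact p.Prime]
    (hP : IsPGroup p P) {B : Type*} [CommGroup B] (hB : HasSchurMultiplier P B) :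
    IsPGroup p B := by
  obtain ⟨k, hk⟩ := IsPGroup.iff_card.mp hP
  have h1 : Monoid.exponent B ∣ p ^ k := by
    rw [← hk]
    exact dvd_trans (dvd_pow_self _ two_ne_zero) (Cfsg.Agent.S3952.result hB)
  intro g
  exact ⟨k, (Monoid.exponent_dvd_iff_forall_pow_eq_one.mp h1) g⟩

theorem main {G : Type*} [Group G] [Finite G] (p : ℕ) [Fact p.Prime] (P : Sylow p G)
    {A B : Type*} [CommGroup A] [CommGroup B] (hA : HasSchurMultiplier G A)
    (hB : HasSchurMultiplier (P : Subgroup G) B) :
    ∃ C D : Subgroup B, C ⊓ D = ⊥ ∧ C ⊔ D = ⊤ ∧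
      Nonempty (CommGroup.primaryComponent A p ≃* C) := by
  have hfinA : Finite A := by
    obtain ⟨⟨Γ, i1, i2, σ, -, ⟨e⟩⟩, -⟩ := hA
    exact Finite.of_equiv _ e.toEquiv
  obtain ⟨eA⟩ := equiv_mult_of_hasSchurMultiplier hA
  obtain ⟨eB⟩ := equiv_mult_of_hasSchurMultiplier hB
  have hBp : IsPGroup p B := isPGroup_multiplier P.isPGroup' hB
  have hm : ((P : Subgroup G).index).Coprime p := by
    rw [Nat.coprime_comm, (Fact.out : p.Prime).coprime_iff_not_dvd]
    exact P.not_dvd_index
  refine exists_direct_factor p (P : Subgroup G).index hm hBp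
    (eB.symm.toMonoidHom.comp ((res (P : Subgroup G)).comp eA.toMonoidHom))
    (eA.symm.toMonoidHom.comp ((cor (P : Subgroup G)).comp eB.toMonoidHom)) ?_
  intro a
  simp only [MonoidHom.comp_apply, MulEquiv.coe_toMonoidHom, MulEquiv.apply_symm_apply]
  rw [cor_res, map_pow, MulEquiv.symm_apply_apply]

end Cfsg.Agent.Helper3.MultRes
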