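import Cfsg.Agent.Helper3.OC2Q2.Defs
import Cfsg.Agent.Helper18.OC2Q2DPERP
import Cfsg.Agent.Helper13.OC2Q2FINQ
import Cfsg.Agent.Helper23.OC2Q2NPAIR
import Cfsg.Agent.Lead.OC2Q2QYC
import Cfsg.Agent.Helper18.OC2Q2R3
import Cfsg.Agent.Helper23.OC2Q2STEP2
import Cfsg.Agent.Helper18.OC2Q2TWO
import Cfsg.Agent.Helper7.OC2Q2S1

set_option autoImplicit false
set_option linter.unusedSectionVars false
set_option linter.unusedVariables false

/-! # S5694 chapter CHAR2, sub-chapter Q2 (`q = 2`, `k = 4`): assembly KEY1 / KEY / LOCB2 (helper3) -/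

namespace Cfsg.Agent.OC2K

open Matrix Cfsg.Agent.Helper28.Sg Cfsg.Agent.Helper28.Spin Cfsg.Agent.Helper12.OrthGen
  Cfsg.Agent.S2614 Cfsg.Agent.S5683P Cfsg.Agent.Helper28.NDM

variable {F : Type*} [Field F] {t k : ℕ} {ι : Type} [Fintype ι] [DecidableEq ι] {Q : QuadraticForm F (ι → F)} [QHyp Q] {D : Fin t → Submodule F (ι → F)}
  {M : Subgroup (OGq Q)}

theorem Q2.KEY1.main [Fintype F] (hF : Q2.IsF2 F) (hD : HD Q k D) (hk : 4 ≤ k) (hHM : HS D ≤ M)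
    (hG1 : ¬ G1 M D) {v : ι → F} (hv : NPV M D v) {c : Fin t} (hQ : Q (cmp D c v) ≠ 0) {y : ι → F}
    (hy : y ∈ Rad M v hv.Qv) {p : ι → F} (hp : p ∈ D c) (hpa : B Q (cmp D c v) p = 0)
    (hQp : Q p ≠ 0) (hyp : B Q y p ≠ 0) :
    p = cmp D c v ∧ ∃ c', c' ≠ c ∧ Q (cmp D c' v) ≠ 0 ∧ ∀ d, d ≠ c → d ≠ c' → cmp D d v = 0 := by
  obtain ⟨c', hc'c, hQ'⟩ := Q2.TWO.exists hD hv.Qv hQ
  obtain ⟨p', hp', hQp', hp'v, hp'y⟩ := Q2.STEP2.main hF hD hk hHM hG1 hv hQ' hy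
  have hpv : B Q p v = 0 := by
    rw [← CMP2.B_left hD hp v, B_comm]
    exact hpa
  have hQpp' : Q p = Q p' := by rw [Q2.Q_eq_one hF hQp, Q2.Q_eq_one hF hQp']
  have hR3 := Q2.R3.main hD hHM hv.Qv (Ne.symm hc'c) hp hp' hQp hQp' hQpp' hpv hp'v hy
  have hpy1 : B Q p y = 1 := by
    apply Q2.eq_one hF
    rw [B_comm]
    exact hyp
  rw [hp'y, mul_zero, zero_smul, add_zero, hpy1, mul_one, Q2.Q_eq_one hF hQp, inv_one, one_smul] at hR3
  -- `p ∈ Rad M v`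
  have hcz : cmp D c' (p + v) = cmp D c' v := by
    rw [map_add, CMP1.of_mem_ne hD (Ne.symm hc'c) hp, zero_add]
  have hzin : p + v ∈ D c' := by
    by_contra hz
    apply hG1
    exact Q2.S1.main hF hD hk hHM hv.Qv hp hQp hR3 (by rw [hcz]; exact hQ') hz
  have hzc : cmp D c (p + v) = 0 := CMP1.of_mem_ne hD hc'c hzin
  rw [map_add, CMP1.of_mem hD hp] at hzc
  have hpeq : p = cmp D c v := by
    have h1 : p = -cmp D c v := eq_neg_of_add_eq_zero_left hzc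
    rw [h1, Q2.vneg_eq hF]
  refine ⟨hpeq, c', hc'c, hQ', ?_⟩
  intro d hdc hdc'
  have h1 : cmp D d (p + v) = 0 := CMP1.of_mem_ne hD (Ne.symm hdc') hzin
  rw [map_add, CMP1.of_mem_ne hD (Ne.symm hdc) hp, zero_add] at h1
  exact h1

theorem Q2.KEY.main [Fintype F] (hF : Q2.IsF2 F) (hD : HD Q k D) (hk : 4 ≤ k) (hW : Q2.W1 Q D)
    (hHM : HS D ≤ M) (hG1 : ¬ G1 M D) {v : ι → F} (hv : NPV M D v) {c : Fin t}
    (hQ : Q (cmp D c v) ≠ 0) {y : ι → F} (hy : y ∈ Rad M v hv.Qv) {p : ι → F} (hp : p ∈ D c)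
    (hpa : B Q (cmp D c v) p = 0) (hQp : Q p ≠ 0) (hyp : B Q y p ≠ 0) :
    Q (cmp D c y) = 0 := by
  have ha : cmp D c v ∈ D c := CMP1.mem hD c v
  obtain ⟨hpeq, -⟩ := Q2.KEY1.main hF hD hk hHM hG1 hv hQ hy hp hpa hQp hyp
  have hya : B Q y (cmp D c v) = 1 := by
    apply Q2.eq_one hF
    rw [← hpeq]
    exact hyp
  -- every singular vector `x ≠ 0` of `a^⊥ ∩ D c` has `B y x = 1`
  have hsing : ∀ x ∈ D c, x ≠ 0 → Q x = 0 → B Q (cmp D c v) x = 0 → B Q y x = 1 := by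
    intro x hx hx0 hQx hax
    have hp2 : cmp D c v + x ∈ D c := (D c).add_mem ha hx
    have hQp2 : Q (cmp D c v + x) ≠ 0 := by
      rw [Q_add, hQx, hax, add_zero, add_zero]
      exact hQ
    have hap2 : B Q (cmp D c v) (cmp D c v + x) = 0 := by
      rw [CMP2.B_add_right', Q2.B_self_zero hF, hax, add_zero]
    have hne : cmp D c v + x ≠ cmp D c v := by
      intro h
      apply hx0
      have : cmp D c v + x = cmp D c v + 0 := by rw [add_zero]; exact h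
      exact add_left_cancel this
    have h0 : B Q y (cmp D c v + x) = 0 := by
      by_contra hne0
      exact hne (Q2.KEY1.main hF hD hk hHM hG1 hv hQ hy hp2 hap2 hQp2 hne0).1
    rw [CMP2.B_add_right', hya] at h0
    have : B Q y x = -1 := by linear_combination h0
    rw [this, Q2.neg_eq hF]
  obtain ⟨x₁, hx₁, x₂, hx₂, hQ₁, hQ₂, ha₁, ha₂, h12⟩ := Q2.NPAIR.exists hF hD hk hW ha hQ
  have hx₁0 : x₁ ≠ 0 := by
    rintro rfl
    have h0 : B Q 0 x₂ = 0 := QuadraticMap.polar_zero_left _ _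
    rw [h0] at h12
    exact zero_ne_one h12
  have hx₂0 : x₂ ≠ 0 := by
    rintro rfl
    have h0 : B Q x₁ 0 = 0 := QuadraticMap.polar_zero_right _ _
    rw [h0] at h12
    exact zero_ne_one h12
  have hy₁ := hsing x₁ hx₁ hx₁0 hQ₁ ha₁
  have hy₂ := hsing x₂ hx₂ hx₂0 hQ₂ ha₂
  refine Q2.QYC.main hF hD hW ha hx₁ hx₂ (CMP1.mem hD c y) hQ₁ hQ₂ h12 ha₁ ha₂ ?_ ?_ ?_
  · rw [CMP2.B_right hD hx₁ y]; exact hy₁
  · rw [CMP2.B_right hD hx₂ y]; exact hy₂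
  · rw [CMP2.B_right hD ha y]; exact hya

/-- Claim A: every nonsingular `p ∈ a^⊥ ∩ D c` is perpendicular to `y` -/
theorem Q2.LOCB2.claimA [Fintype F] (hF : Q2.IsF2 F) (hD : HD Q k D) (hk : 4 ≤ k) (hW : Q2.W1 Q D)
    (hHM : HS D ≤ M) (hG1 : ¬ G1 M D) {v : ι → F} (hv : NPV M D v)
    (hLOCA : ∀ (d : Fin t) (y' : ι → F), y' ∈ Rad M v hv.Qv → cmp D d v = 0 → cmp D d y' = 0)
    {c : Fin t} (hQ : Q (cmp D c v) ≠ 0) {y : ι → F} (hy : y ∈ Rad M v hv.Qv) {p : ι → F}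
    (hp : p ∈ D c) (hpa : B Q (cmp D c v) p = 0) (hQp : Q p ≠ 0) : B Q y p = 0 := by
  classical
  by_contra hyp
  have ha : cmp D c v ∈ D c := CMP1.mem hD c v
  obtain ⟨hpeq, c', hc'c, hQ', hoth⟩ := Q2.KEY1.main hF hD hk hHM hG1 hv hQ hy hp hpa hQp hyp
  have hQc : Q (cmp D c y) = 0 := Q2.KEY.main hF hD hk hW hHM hG1 hv hQ hy hp hpa hQp hyp
  have ha' : cmp D c' v ∈ D c' := CMP1.mem hD c' v
  have hya : B Q y (cmp D c v) ≠ 0 := by rw [← hpeq]; exact hyp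
  -- `B y v = 0` splits as `B y a + B y a' = 0`
  have hyv : B Q y v = 0 := by rw [B_comm]; exact Rad_perp hy
  have hsum : B Q y v = B Q y (cmp D c v) + B Q y (cmp D c' v) := by
    rw [CMP2.B_sum hD y v, Finset.sum_eq_add c c' (Ne.symm hc'c)]
    · rw [CMP2.B_right hD ha y, CMP2.B_right hD ha' y]
    · intro d _ hd
      rw [hoth d hd.1 hd.2]
      exact QuadraticMap.polar_zero_right _ _
    · intro h; exact absurd (Finset.mem_univ c) h
    · intro h; exact absurd (Finset.mem_univ c') h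
  have hya' : B Q y (cmp D c' v) ≠ 0 := by
    intro h0
    rw [hyv, h0, add_zero] at hsum
    exact hya hsum.symm
  have hQc' : Q (cmp D c' y) = 0 :=
    Q2.KEY.main hF hD hk hW hHM hG1 hv hQ' hy ha' (Q2.B_self_zero hF _) hQ' hya'
  -- `Q y = 0`
  have hQy : Q y = 0 := by
    rw [CMP2.Q_sum hD y]
    apply Finset.sum_eq_zero
    intro d _
    by_cases hdc : d = c
    · rw [hdc]; exact hQc
    · by_cases hdc' : d = c'
      · rw [hdc']; exact hQc'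
      · rw [hLOCA d y hy (hoth d hdc hdc')]
        exact map_zero _
  obtain ⟨s, hs⟩ := Q2.FINQ.main hD hW hHM hG1 hv hy hQy
  apply hyp
  have hvp : B Q v p = 0 := by
    rw [B_comm, ← CMP2.B_left hD hp v, B_comm]
    exact hpa
  rw [hs]
  show QuadraticMap.polar (⇑Q) (s • v) p = 0
  rw [QuadraticMap.polar_smul_left]
  show s • B Q v p = 0
  rw [hvp, smul_zero]

/-- LOCB2 for `q = 2`, blocks of Witt index 1: the interface of the sub-chapter -/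
theorem Q2.LOCB2.loc [Fintype F] (hF : Q2.IsF2 F) (hD : HD Q k D) (hk : 4 ≤ k) (hW : Q2.W1 Q D)
    (hHM : HS D ≤ M) (hG1 : ¬ G1 M D) {v : ι → F} (hv : NPV M D v)
    (hLOCA : ∀ (d : Fin t) (y' : ι → F), y' ∈ Rad M v hv.Qv → cmp D d v = 0 → cmp D d y' = 0)
    {c : Fin t} (hQ : Q (cmp D c v) ≠ 0) {y : ι → F} (hy : y ∈ Rad M v hv.Qv) :
    ∃ s : F, cmp D c y = s • cmp D c v := by
  have ha : cmp D c v ∈ D c := CMP1.mem hD c v
  have ha0 : cmp D c v ≠ 0 := by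
    intro h0
    rw [h0, map_zero] at hQ
    exact hQ rfl
  have hA := fun (p : ι → F) (hp : p ∈ D c) (hpa : B Q (cmp D c v) p = 0) (hQp : Q p ≠ 0) =>
    Q2.LOCB2.claimA hF hD hk hW hHM hG1 hv hLOCA hQ hy hp hpa hQp
  have hyaa : B Q y (cmp D c v) = 0 := hA _ ha (Q2.B_self_zero hF _) hQ
  apply Q2.DPERP.main hD ha ha0 (CMP1.mem hD c y)
  intro w hw haw
  rw [CMP2.B_left hD hw y, B_comm]
  by_cases hQw : Q w = 0
  · -- `w = (w + a) + a`
    have hwa : w + cmp D c v ∈ D c := (D c).add_mem hw ha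
    have hQwa : Q (w + cmp D c v) ≠ 0 := by
      rw [Q_add, hQw, zero_add, B_comm, haw, add_zero]
      exact hQ
    have hawa : B Q (cmp D c v) (w + cmp D c v) = 0 := by
      rw [CMP2.B_add_right', haw, Q2.B_self_zero hF, add_zero]
    have h1 := hA _ hwa hawa hQwa
    rw [CMP2.B_add_right', hyaa, add_zero] at h1
    exact h1
  · exact hA w hw haw hQw

end Cfsg.Agent.OC2K
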