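import Cfsg.Agent.Helper3.OC2Q2KEY
import Cfsg.Agent.Helper17.OC2KC2Defs
import Cfsg.Agent.Helper26.OC2KC2LOCA

set_option autoImplicit false
set_option linter.unusedSectionVars false
set_option linter.unusedVariables false

/-! # S5694 chapter CHAR2, sub-chapter Q2 (`q = 2`, `k = 4`): the interface `Q2.special`
(= helper17's `C2.Q2.special`, same signature; different name so that no clash is possible). -/

namespace Cfsg.Agent.OC2K

open Matrix Cfsg.Agent.Helper28.Sg Cfsg.Agent.Helper28.Spin Cfsg.Agent.Helper12.OrthGen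
  Cfsg.Agent.S2614 Cfsg.Agent.S5683P Cfsg.Agent.Helper28.NDM

variable {F : Type*} [Field F] [Fintype F] {t k : ℕ} {ι : Type} [Fintype ι] [DecidableEq ι] {Q : QuadraticForm F (ι → F)} [QHyp Q] {D : Fin t → Submodule F (ι → F)}
  {M : Subgroup (OGq Q)}

theorem Q2.isF2_of_card (hq : Fintype.card F = 2) : Q2.IsF2 F := by
  intro x
  by_cases hx : x = 0
  · exact Or.inl hx
  · right
    have := FiniteField.pow_card_sub_one_eq_one x hx
    rw [hq] at this
    simpa using this

theorem Q2.special (h2 : (2 : F) = 0) (hD : HD Q k D) (hk4 : k = 4) (hq : Fintype.card F = 2)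
    (hW : C2.Witt1 Q D) (hHM : HS D ≤ M) (hG1 : ¬ G1 M D) : C2.Special M D := by
  intro v hv c hQ y hy
  have hk : 4 ≤ k := by omega
  exact Q2.LOCB2.loc (Q2.isF2_of_card hq) hD hk hW hHM hG1 hv
    (fun d y' hy' hvd => C2.LOCA.loc hD hk hHM hG1 hv hvd hy') hQ hy

end Cfsg.Agent.OC2K
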