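import Mathlib
import Cfsg.Prelude.Def_GeometricClasses
import Cfsg.Agent.Helper28.OrthSim3
import Cfsg.Agent.Helper8.OS6Defs
import Cfsg.Agent.Helper19.OS6SPSTEP

set_option autoImplicit false

/-! # S5798, orthogonal conjunct, chapter SPREAD (designer helper8), piece SPSEED (helper3):
a nontrivial transvection with nonsingular centre `e` in `M` gives a nonsingular `z ∈ Phi`. -/

namespace Cfsg.Agent.OS6P

open Matrix Module Cfsg.Agent.Helper28.Sg Cfsg.Agent.Helper28.Spin Cfsg.Agent.Helper28.SLMax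
  Cfsg.Agent.Helper28.SimMax Cfsg.Agent.Helper28.OSim

variable {F : Type*} [Field F] {n : ℕ} {Q : QuadraticForm F (Fin n → F)}

/-- a nonsingular `y ⊥ e` not orthogonal to the nonzero vector `d ⊥ e` -/
theorem SPSEED.aux_exists_y (h2 : (2 : F) ≠ 0) (hQ : (QuadraticMap.polarBilin Q).Nondegenerate)
    {e d : Fin n → F} (he : Q e ≠ 0) (hd0 : d ≠ 0) (hed : B Q e d = 0) :
    ∃ y : Fin n → F, Q y ≠ 0 ∧ B Q e y = 0 ∧ B Q y d ≠ 0 := by
  by_cases hQd : Q d = 0
  · -- `d` singular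
    have hex : ∃ f₀ : Fin n → F, B Q d f₀ ≠ 0 := by
      by_contra hno
      apply hd0
      apply hQ.1
      intro x
      by_contra hx
      exact hno ⟨x, hx⟩
    obtain ⟨f₀, hf₀⟩ := hex
    have hee : B Q e e ≠ 0 := by
      rw [B_self]
      exact mul_ne_zero h2 he
    have hde : B Q d e = 0 := by rw [B_comm]; exact hed
    set f : Fin n → F := f₀ - (B Q e f₀ / B Q e e) • e with hf
    have hef : B Q e f = 0 := by
      show QuadraticMap.polar ⇑Q e f = 0
      rw [hf, QuadraticMap.polar_sub_right, QuadraticMap.polar_smul_right]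
      show B Q e f₀ - (B Q e f₀ / B Q e e) • B Q e e = 0
      rw [smul_eq_mul, div_mul_cancel₀ _ hee, sub_self]
    have hdf : B Q d f = B Q d f₀ := by
      show QuadraticMap.polar ⇑Q d f = _
      rw [hf, QuadraticMap.polar_sub_right, QuadraticMap.polar_smul_right]
      show B Q d f₀ - (B Q e f₀ / B Q e e) • B Q d e = _
      rw [hde, smul_zero, sub_zero]
    have hfd : B Q f d ≠ 0 := by rw [B_comm, hdf]; exact hf₀
    by_cases hQf : Q f = 0
    · refine ⟨f + d, ?_, ?_, ?_⟩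
      · rw [Q_add, hQf, hQd, zero_add, zero_add]
        exact hfd
      · show QuadraticMap.polar ⇑Q e (f + d) = 0
        rw [QuadraticMap.polar_add_right]
        show B Q e f + B Q e d = 0
        rw [hef, hed, add_zero]
      · show QuadraticMap.polar ⇑Q (f + d) d ≠ 0
        rw [QuadraticMap.polar_add_left]
        show B Q f d + B Q d d ≠ 0
        rw [B_self, hQd, mul_zero, add_zero]
        exact hfd
    · exact ⟨f, hQf, hef, hfd⟩
  · refine ⟨d, hQd, hed, ?_⟩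
    rw [B_self]
    exact mul_ne_zero h2 hQd

theorem SPSEED.main (h2 : (2 : F) ≠ 0) (hQ : (QuadraticMap.polarBilin Q).Nondegenerate)
    {M : Subgroup (Matrix.GeneralLinearGroup (Fin n) F)}
    (hHM : Cfsg.Geo.quadSimilarityGroup (⇑Q) ⊓ SL n F ≤ M) {e φ : Fin n → F}
    (he : Q e ≠ 0) (hφe : φ ⬝ᵥ e = 0) (hφ0 : φ ≠ 0) (hE : E e φ ∈ MS M) :
    ∃ z : Fin n → F, Q z ≠ 0 ∧ B Q e z = 0 ∧ z ∈ Phi Q M e := by
  obtain ⟨d, hd⟩ := pv_surj hQ φ
  have hd0 : d ≠ 0 := by
    intro h0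
    apply hφ0
    rw [← hd, h0, pv_zero]
  have hed : B Q e d = 0 := by
    rw [B_comm, ← pv_dot, hd]
    exact hφe
  have hdΦ : d ∈ Phi Q M e := ⟨hed, by rw [hd]; exact hE⟩
  obtain ⟨y, hy, hey, hyd⟩ := SPSEED.aux_exists_y h2 hQ he hd0 hed
  have hc : (Q y)⁻¹ * B Q y d ≠ 0 := mul_ne_zero (inv_ne_zero hy) hyd
  refine ⟨((Q y)⁻¹ * B Q y d) • y, ?_, ?_, SPSTEP.main hHM he hy hey hdΦ⟩
  · rw [Q_smul]
    exact mul_ne_zero (mul_ne_zero hc hc) hy
  · show QuadraticMap.polar ⇑Q e (((Q y)⁻¹ * B Q y d) • y) = 0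
    rw [QuadraticMap.polar_smul_right]
    show ((Q y)⁻¹ * B Q y d) • B Q e y = 0
    rw [hey, smul_zero]

end Cfsg.Agent.OS6P
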