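import Mathlib

/-!
# Order types: counting solutions of `x ^ n = 1`

Basic facts about `cnt G n = #{g : G | g ^ n = 1}`: invariance, products, finite pi types,
reduction modulo the exponent, and the fact that equal `cnt` functions give equal order types.
-/

namespace Cfsg.Agent.Helper3.OT

/-- number of solutions of `x ^ n = 1` -/
noncomputable def cnt (G : Type*) [Monoid G] (n : ℕ) : ℕ := Nat.card {g : G // g ^ n = 1}

theorem cnt_congr {G H : Type*} [Monoid G] [Monoid H] (e : G ≃* H) (n : ℕ) :
    cnt G n = cnt H n := by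
  unfold cnt
  refine Nat.card_congr (e.toEquiv.subtypeEquiv fun g => ?_)
  change g ^ n = 1 ↔ (e g) ^ n = 1
  rw [← map_pow, MulEquiv.map_eq_one_iff]

theorem cnt_prod (G H : Type*) [Monoid G] [Monoid H] (n : ℕ) :
    cnt (G × H) n = cnt G n * cnt H n := by
  unfold cnt
  rw [← Nat.card_prod]
  refine Nat.card_congr ?_
  refine (Equiv.subtypeEquivRight (fun p => ?_)).trans
    (Equiv.subtypeProdEquivProd (p := fun g : G => g ^ n = 1) (q := fun h : H => h ^ n = 1))
  rw [Prod.ext_iff]
  simp

theorem cnt_pi {ι : Type*} [Fintype ι] (X : ι → Type*) [∀ i, Monoid (X i)] (n : ℕ) :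
    cnt (∀ i, X i) n = ∏ i, cnt (X i) n := by
  unfold cnt
  rw [← Nat.card_pi]
  refine Nat.card_congr ?_
  refine (Equiv.subtypeEquivRight (fun g => ?_)).trans
    (Equiv.subtypePiEquivPi (p := fun i (x : X i) => x ^ n = 1))
  rw [funext_iff]
  simp

theorem cnt_gcd {G : Type*} [Monoid G] (E : ℕ) (hE : ∀ g : G, g ^ E = 1) (n : ℕ) :
    cnt G n = cnt G (Nat.gcd n E) := by
  unfold cnt
  refine Nat.card_congr (Equiv.subtypeEquivRight fun g => ?_)
  rw [pow_gcd_eq_one]
  simp [hE g]

theorem cnt_eq_sum (G : Type*) [Group G] [Finite G] {n : ℕ} (hn : n ≠ 0) :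
    cnt G n = ∑ d ∈ n.divisors, Nat.card {g : G // orderOf g = d} := by
  classical
  have := Fintype.ofFinite G
  have key := sum_card_orderOf_eq_card_pow_eq_one (G := G) hn
  unfold cnt
  simp only [Nat.card_eq_fintype_card, Fintype.card_subtype]
  convert key.symm

theorem orderType_of_cnt {G H : Type*} [Group G] [Group H] [Finite G] [Finite H]
    (h : ∀ n, cnt G n = cnt H n) (n : ℕ) :
    Nat.card {g : G // orderOf g = n} = Nat.card {g : H // orderOf g = n} := by
  induction n using Nat.strong_induction_on with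
  | _ n ih =>
    rcases Nat.eq_zero_or_pos n with rfl | hn
    · have h1 : IsEmpty {g : G // orderOf g = 0} :=
        ⟨fun g => (orderOf_pos g.1).ne' g.2⟩
      have h2 : IsEmpty {g : H // orderOf g = 0} :=
        ⟨fun g => (orderOf_pos g.1).ne' g.2⟩
      rw [Nat.card_of_isEmpty, Nat.card_of_isEmpty]
    · have e1 := cnt_eq_sum G hn.ne'
      have e2 := cnt_eq_sum H hn.ne'
      rw [← Nat.insert_self_properDivisors hn.ne',
        Finset.sum_insert Nat.self_notMem_properDivisors] at e1 e2
      have e3 : ∑ d ∈ n.properDivisors, Nat.card {g : G // orderOf g = d}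
          = ∑ d ∈ n.properDivisors, Nat.card {g : H // orderOf g = d} :=
        Finset.sum_congr rfl fun d hd => ih d (Nat.mem_properDivisors.mp hd).2
      have := h n
      omega

end Cfsg.Agent.Helper3.OT
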