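import Cfsg.Agent.Helper3.OTA

/-!
# Fibre products of dihedral groups over the four-group

`specGrp s` is the subgroup of `V₄ × ∏ᵢ D_{2 mᵢ}` cut out by the conditions
`homᵢ (dᵢ) = χᵢ (q)`; we count its solutions of `x ^ n = 1`.
-/

namespace Cfsg.Agent.Helper3.OT

abbrev Z2 := Multiplicative (ZMod 2)
abbrev Bm := Multiplicative (ZMod 2 × ZMod 2)
abbrev Chr := ZMod 2 × ZMod 2

/-- the pairing of a character with an element of the four-group -/
def pair (c : Chr) (q : Bm) : ZMod 2 :=
  c.1 * (Multiplicative.toAdd q).1 + c.2 * (Multiplicative.toAdd q).2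

theorem pair_mul (c : Chr) (q q' : Bm) : pair c (q * q') = pair c q + pair c q' := by
  simp only [pair, toAdd_mul, Prod.fst_add, Prod.snd_add]
  ring

theorem pair_one (c : Chr) : pair c 1 = 0 := by
  simp [pair]

/-- the pairing as a homomorphism -/
def pairHom (c : Chr) : Bm →* Z2 where
  toFun q := Multiplicative.ofAdd (pair c q)
  map_one' := by rw [pair_one]; rfl
  map_mul' q q' := by rw [pair_mul]; rfl

/-- the sign homomorphism of a dihedral group -/
def sgn (m : ℕ) : DihedralGroup m →* Z2 where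
  toFun g := match g with
    | .r _ => 1
    | .sr _ => Multiplicative.ofAdd 1
  map_one' := rfl
  map_mul' := by
    rintro (a | a) (b | b)
    · rfl
    · rfl
    · rfl
    · change (1 : Z2) = Multiplicative.ofAdd 1 * Multiplicative.ofAdd 1
      decide

/-- the parity homomorphism of the dihedral group of order 8 (kernel a four-group) -/
def par4 : DihedralGroup 4 →* Z2 where
  toFun g := match g with
    | .r i => Multiplicative.ofAdd ((i.val : ℕ) : ZMod 2)
    | .sr i => Multiplicative.ofAdd ((i.val : ℕ) : ZMod 2)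
  map_one' := by decide
  map_mul' := by decide

/-- the kinds of atoms -/
inductive Kind
  | s3 | d14 | d8a | d8b | pad
  deriving DecidableEq

/-- the dihedral parameter of an atom -/
def Kind.m : Kind → ℕ
  | .s3 => 3
  | .d14 => 7
  | .d8a => 4
  | .d8b => 4
  | .pad => 1

instance (κ : Kind) : NeZero κ.m := by
  cases κ <;> exact ⟨by decide⟩

/-- the homomorphism to `Z2` of an atom -/
def Kind.hom : (κ : Kind) → DihedralGroup κ.m →* Z2
  | .s3 => sgn 3
  | .d14 => sgn 7
  | .d8a => sgn 4
  | .d8b => par4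
  | .pad => sgn 1

abbrev Spec := Fin 4 → Kind × Chr

/-- the group attached to a spec -/
def specGrp (s : Spec) : Subgroup (Bm × ((i : Fin 4) → DihedralGroup (s i).1.m)) where
  carrier := {p | ∀ i, (s i).1.hom (p.2 i) = pairHom (s i).2 p.1}
  mul_mem' := by
    intro a b ha hb i
    simp only [Set.mem_ofPred_eq] at ha hb
    simp [ha i, hb i, map_mul]
  one_mem' := by
    intro i
    simp
  inv_mem' := by
    intro a ha i
    simp only [Set.mem_ofPred_eq] at ha
    simp [ha i]

theorem mem_specGrp (s : Spec) (p : Bm × ((i : Fin 4) → DihedralGroup (s i).1.m)) :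
    p ∈ specGrp s ↔ ∀ i, (s i).1.hom (p.2 i) = pairHom (s i).2 p.1 := Iff.rfl

/-- fibrewise count of an atom -/
noncomputable def Fk (κ : Kind) (c : ZMod 2) (n : ℕ) : ℕ :=
  Nat.card {a : DihedralGroup κ.m // κ.hom a = Multiplicative.ofAdd c ∧ a ^ n = 1}

theorem cnt_specGrp (s : Spec) (n : ℕ) :
    cnt (specGrp s) n =
      ∑ q : Bm, if q ^ n = 1 then ∏ i, Fk (s i).1 (pair (s i).2 q) n else 0 := by
  unfold cnt
  have e1 : {g : specGrp s // g ^ n = 1} ≃
      {p : Bm × ((i : Fin 4) → DihedralGroup (s i).1.m) // p ∈ specGrp s ∧ p ^ n = 1} :=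
    (Equiv.subtypeEquivRight (fun g => by
      rw [← OneMemClass.coe_eq_one, SubmonoidClass.coe_pow])).trans
      (Equiv.subtypeSubtypeEquivSubtypeInter (fun p => p ∈ specGrp s) (fun p => p ^ n = 1))
  have e2 := Equiv.subtypeProdEquivSigmaSubtype
    (fun (q : Bm) (d : (i : Fin 4) → DihedralGroup (s i).1.m) =>
      (q, d) ∈ specGrp s ∧ (q, d) ^ n = 1)
  rw [Nat.card_congr (e1.trans e2), Nat.card_sigma]
  refine Finset.sum_congr rfl fun q _ => ?_
  split_ifs with hq
  · unfold Fk
    rw [← Nat.card_pi]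
    refine Nat.card_congr ?_
    refine (Equiv.subtypeEquivRight (fun d => ?_)).trans
      (Equiv.subtypePiEquivPi (p := fun i (a : DihedralGroup (s i).1.m) =>
        (s i).1.hom a = Multiplicative.ofAdd (pair (s i).2 q) ∧ a ^ n = 1))
    rw [mem_specGrp, Prod.ext_iff, funext_iff]
    simp only [Prod.pow_fst, Prod.pow_snd, Prod.fst_one, Prod.snd_one, Pi.pow_apply, Pi.one_apply]
    constructor
    · rintro ⟨h1, -, h2⟩ i
      exact ⟨h1 i, h2 i⟩
    · intro h
      exact ⟨fun i => (h i).1, hq, fun i => (h i).2⟩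
  · rw [Nat.card_eq_zero]
    left
    refine ⟨fun d => hq ?_⟩
    have := d.2.2
    rw [Prod.ext_iff] at this
    exact this.1

end Cfsg.Agent.Helper3.OT
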