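import Cfsg.Agent.Helper3.OTB

/-!
# Explicit fibre counts of the dihedral atoms
-/

namespace Cfsg.Agent.Helper3.OT

/-- explicit fibre counts -/
def Fe : Kind → ZMod 2 → ℕ → ℕ
  | .s3, 0, n => Nat.gcd n 3
  | .s3, 1, n => if n % 2 = 0 then 3 else 0
  | .d14, 0, n => Nat.gcd n 7
  | .d14, 1, n => if n % 2 = 0 then 7 else 0
  | .d8a, 0, n => Nat.gcd n 4
  | .d8a, 1, n => if n % 2 = 0 then 4 else 0
  | .d8b, 0, n => if n % 2 = 0 then 4 else 1
  | .d8b, 1, n => if n % 4 = 0 then 4 else if n % 2 = 0 then 2 else 0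
  | .pad, 0, _ => 1
  | .pad, 1, n => if n % 2 = 0 then 1 else 0

theorem Fk_eq_card (κ : Kind) (c : ZMod 2) (n : ℕ) :
    Fk κ c n = Fintype.card
      {a : DihedralGroup κ.m // κ.hom a = Multiplicative.ofAdd c ∧ a ^ n = 1} := by
  unfold Fk
  rw [Nat.card_eq_fintype_card]

set_option maxRecDepth 100000 in
theorem Fk_eq_Fe (κ : Kind) (c : ZMod 2) : ∀ d ∈ Nat.divisors 84, Fk κ c d = Fe κ c d := by
  simp only [Fk_eq_card]
  cases κ <;> fin_cases c <;> decide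

end Cfsg.Agent.Helper3.OT
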