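import Cfsg.Agent.Helper3.OTA

/-!
# The group `GL₃(𝔽₂)` as additive permutations of `𝔽₂³`: solution counts
-/

namespace Cfsg.Agent.Helper3.OT

/-- the vector space `𝔽₂³`, with `Bool` as the field with two elements -/
abbrev N3 := Bool × Bool × Bool

/-- `GL₃(𝔽₂)` as the group of additive permutations of `𝔽₂³` -/
def K3 : Subgroup (Equiv.Perm N3) where
  carrier := {σ | ∀ u v, σ (u + v) = σ u + σ v}
  mul_mem' := by
    intro a b ha hb u v
    simp only [Set.mem_ofPred_eq] at ha hb
    simp [Equiv.Perm.mul_apply, ha, hb]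
  one_mem' := by
    intro u v
    rfl
  inv_mem' := by
    intro a ha u v
    simp only [Set.mem_ofPred_eq] at ha
    apply a.injective
    rw [ha]
    simp

def e1 : N3 := (true, false, false)
def e2 : N3 := (false, true, false)
def e3 : N3 := (false, false, true)

/-- addition of `𝔽₂³`, written out -/
def x3 (a b : N3) : N3 := (xor a.1 b.1, xor a.2.1 b.2.1, xor a.2.2 b.2.2)

theorem x3_eq_add : ∀ a b : N3, x3 a b = a + b := by decide

/-- the linear map with prescribed images of the basis vectors -/
def Lt (t : N3 × N3 × N3) (v : N3) : N3 :=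
  match v with
  | (false, false, false) => (false, false, false)
  | (true, false, false) => t.1
  | (false, true, false) => t.2.1
  | (false, false, true) => t.2.2
  | (true, true, false) => x3 t.1 t.2.1
  | (true, false, true) => x3 t.1 t.2.2
  | (false, true, true) => x3 t.2.1 t.2.2
  | (true, true, true) => x3 (x3 t.1 t.2.1) t.2.2

theorem Lt_lin (f : N3 →+ N3) (v : N3) : f v = Lt (f e1, f e2, f e3) v := by
  obtain ⟨x, y, z⟩ := v
  cases x <;> cases y <;> cases z <;> simp only [Lt, x3_eq_add, ← map_add]
  · exact map_zero f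
  all_goals rfl

set_option maxRecDepth 100000 in
theorem Lt_add : ∀ (t : N3 × N3 × N3) (u v : N3), Lt t (u + v) = Lt t u + Lt t v := by
  decide +kernel

/-- an element of `K3` as an additive hom -/
def K3.toHom (g : K3) : N3 →+ N3 where
  toFun := g.1
  map_zero' := by
    have := g.2 0 0
    simpa using this
  map_add' := g.2

/-- invertible triples correspond to elements of `K3` -/
noncomputable def tripleEquiv : {t : N3 × N3 × N3 // Function.Injective (Lt t)} ≃ K3 where
  toFun t := ⟨Equiv.ofBijective (Lt t.1) ⟨t.2, Finite.surjective_of_injective t.2⟩,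
    fun u v => Lt_add t.1 u v⟩
  invFun g := ⟨(g.1 e1, g.1 e2, g.1 e3), by
    have : Lt (g.1 e1, g.1 e2, g.1 e3) = g.1 :=
      funext fun v => (Lt_lin (K3.toHom g) v).symm
    rw [this]
    exact g.1.injective⟩
  left_inv t := by
    apply Subtype.ext
    rfl
  right_inv g := by
    apply Subtype.ext
    ext v : 1
    exact (Lt_lin (K3.toHom g) v).symm

theorem K3_pow_eq_one_iff (t : {t : N3 × N3 × N3 // Function.Injective (Lt t)}) (d : ℕ) :
    (tripleEquiv t) ^ d = 1 ↔ ∀ v, (Lt t.1)^[d] v = v := by
  rw [← OneMemClass.coe_eq_one, SubmonoidClass.coe_pow, Equiv.ext_iff]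
  have h : ∀ v, ((tripleEquiv t).1 ^ d) v = (Lt t.1)^[d] v := by
    intro v
    rw [← Equiv.Perm.iterate_eq_pow]
    rfl
  simp only [h, Equiv.Perm.coe_one, id_eq]

/-- determinant of a triple of vectors -/
def good (t : N3 × N3 × N3) : Bool :=
  xor (xor (t.1.1 && xor (t.2.1.2.1 && t.2.2.2.2) (t.2.1.2.2 && t.2.2.2.1))
           (t.1.2.1 && xor (t.2.1.1 && t.2.2.2.2) (t.2.1.2.2 && t.2.2.1)))
      (t.1.2.2 && xor (t.2.1.1 && t.2.2.2.1) (t.2.1.2.1 && t.2.2.1))

/-- the list of all vectors -/
def allV : List N3 := [(false, false, false), (false, false, true), (false, true, false),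
  (false, true, true), (true, false, false), (true, false, true), (true, true, false),
  (true, true, true)]

theorem mem_allV : ∀ v : N3, v ∈ allV := by decide

/-- does the `d`-th iterate of `f` fix all vectors -/
def per (f : N3 → N3) (d : ℕ) : Bool := allV.all (fun v => f^[d] v == v)

theorem per_iff (f : N3 → N3) (d : ℕ) : per f d = true ↔ ∀ v, f^[d] v = v := by
  unfold per
  rw [List.all_eq_true]
  constructor
  · intro h v
    simpa using h v (mem_allV v)
  · intro h v _
    simpa using h v

set_option maxRecDepth 100000 in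
theorem good_iff : ∀ t : N3 × N3 × N3, good t = true ↔ Function.Injective (Lt t) := by
  decide +kernel

theorem cnt_K3 (d : ℕ) : cnt K3 d =
    Fintype.card {t : N3 × N3 × N3 // good t = true ∧ per (Lt t) d = true} := by
  unfold cnt
  rw [← Nat.card_eq_fintype_card]
  refine Nat.card_congr ?_
  refine (tripleEquiv.symm.subtypeEquiv (p := fun f => f ^ d = 1)
    (q := fun t => ∀ v, (Lt t.1)^[d] v = v) (fun f => ?_)).trans
    ((Equiv.subtypeSubtypeEquivSubtypeInter (fun t : N3 × N3 × N3 => Function.Injective (Lt t))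
      (fun t => ∀ v, (Lt t)^[d] v = v)).trans (Equiv.subtypeEquivRight fun t => ?_))
  · have := K3_pow_eq_one_iff (tripleEquiv.symm f) d
    rwa [Equiv.apply_symm_apply] at this
  · rw [good_iff, per_iff]

/-- the table of solution counts of `GL₃(𝔽₂)` -/
def tabK (d : ℕ) : ℕ :=
  1 + (if d % 2 = 0 then 21 else 0) + (if d % 3 = 0 then 56 else 0)
    + (if d % 4 = 0 then 42 else 0) + (if d % 7 = 0 then 48 else 0)

set_option maxRecDepth 100000 in
theorem cnt_K3_tab : ∀ d ∈ Nat.divisors 84, cnt K3 d = tabK d := by
  simp only [cnt_K3]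
  decide +kernel

theorem K3_pow84 (g : K3) : g ^ 84 = 1 := by
  have key : ∀ t : N3 × N3 × N3, good t = true → per (Lt t) 84 = true := by
    decide +kernel
  have h := (tripleEquiv.symm g).2
  rw [← good_iff] at h
  have := (K3_pow_eq_one_iff (tripleEquiv.symm g) 84).mpr ((per_iff _ _).mp (key _ h))
  rwa [Equiv.apply_symm_apply] at this

end Cfsg.Agent.Helper3.OT
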