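import Cfsg.Agent.Helper3.OTD

/-!
# `GL₃(𝔽₂)` is not solvable
-/

namespace Cfsg.Agent.Helper3.OT

open scoped commutatorElement

/-- build an element of `K3` from a triple with nonzero determinant -/
noncomputable def mkK (t : N3 × N3 × N3) (h : good t = true) : K3 :=
  tripleEquiv ⟨t, (good_iff t).mp h⟩

theorem mkK_apply (t : N3 × N3 × N3) (h : good t = true) (v : N3) : (mkK t h).1 v = Lt t v := rfl

/-- equality of elements of `K3` can be tested on vectors -/
theorem K3_ext {g h : K3} (H : ∀ v, g.1 v = h.1 v) : g = h :=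
  Subtype.ext (Equiv.ext H)

def tA : N3 × N3 × N3 := ((false, false, true), (false, true, false), (true, true, false))
def tAi : N3 × N3 × N3 := ((false, true, true), (false, true, false), (true, false, false))
def tB : N3 × N3 × N3 := ((false, false, true), (true, false, true), (true, true, true))
def tBi : N3 × N3 × N3 := ((true, true, false), (false, true, true), (true, false, false))

noncomputable def gA : K3 := mkK tA (by decide)
noncomputable def gAi : K3 := mkK tAi (by decide)
noncomputable def gB : K3 := mkK tB (by decide)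
noncomputable def gBi : K3 := mkK tBi (by decide)

theorem gA_mul_gAi : gA * gAi = 1 := by
  apply K3_ext
  intro v
  change Lt tA (Lt tAi v) = v
  revert v
  decide

theorem gB_mul_gBi : gB * gBi = 1 := by
  apply K3_ext
  intro v
  change Lt tB (Lt tBi v) = v
  revert v
  decide

theorem gAi_eq : gAi = gA⁻¹ := eq_inv_of_mul_eq_one_right gA_mul_gAi
theorem gBi_eq : gBi = gB⁻¹ := eq_inv_of_mul_eq_one_right gB_mul_gBi

theorem eq_commutator_of {G : Type*} [Group G] {a x y : G} (h : a * y * x = x * y) :
    a = ⁅x, y⁆ := by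
  rw [commutatorElement_def]
  calc a = a * y * x * x⁻¹ * y⁻¹ := by group
    _ = x * y * x⁻¹ * y⁻¹ := by rw [h]

theorem gA_comm : gA = ⁅gBi, gBi * gAi⁆ := by
  apply eq_commutator_of
  apply K3_ext
  intro v
  change Lt tA (Lt tBi (Lt tAi (Lt tBi v))) = Lt tBi (Lt tBi (Lt tAi v))
  revert v
  decide

theorem gB_comm : gB = ⁅gAi * gB, gA * gBi⁆ := by
  apply eq_commutator_of
  apply K3_ext
  intro v
  change Lt tB (Lt tA (Lt tBi (Lt tAi (Lt tB v)))) = Lt tAi (Lt tB (Lt tA (Lt tBi v)))
  revert v
  decide

theorem gA_ne_one : gA ≠ 1 := by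
  intro h
  have : gA.1 e1 = e1 := by rw [h]; rfl
  revert this
  change Lt tA e1 = e1 → False
  decide

theorem gA_gB_mem (n : ℕ) : gA ∈ derivedSeries K3 n ∧ gB ∈ derivedSeries K3 n := by
  induction n with
  | zero => exact ⟨Subgroup.mem_top _, Subgroup.mem_top _⟩
  | succ n ih =>
    obtain ⟨ha, hb⟩ := ih
    have hai : gAi ∈ derivedSeries K3 n := by rw [gAi_eq]; exact inv_mem ha
    have hbi : gBi ∈ derivedSeries K3 n := by rw [gBi_eq]; exact inv_mem hb
    rw [derivedSeries_succ]
    constructor
    · rw [gA_comm]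
      exact Subgroup.commutator_mem_commutator hbi (mul_mem hbi hai)
    · rw [gB_comm]
      exact Subgroup.commutator_mem_commutator (mul_mem hai hb) (mul_mem ha hbi)

theorem K3_not_solvable : ¬ Group.IsSolvable K3 := by
  rintro ⟨n, hn⟩
  have := (gA_gB_mem n).1
  rw [hn, Subgroup.mem_bot] at this
  exact gA_ne_one this

end Cfsg.Agent.Helper3.OT
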