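import Cfsg.Agent.Helper3.OTA

/-!
# A semidirect product `N ⋊ Q` for `Q` acting on an additive group `N`
-/

namespace Cfsg.Agent.Helper3.OT

/-- the semidirect product of an additive commutative group `N` by a group `Q` acting through
additive endomorphisms -/
structure SD {Q N : Type*} [Group Q] [AddCommGroup N] (α : Q →* AddMonoid.End N) where
  /-- the translation part -/
  v : N
  /-- the linear part -/
  q : Q

namespace SD

variable {Q N : Type*} [Group Q] [AddCommGroup N] (α : Q →* AddMonoid.End N)

theorem ext' {x y : SD α} (h1 : x.v = y.v) (h2 : x.q = y.q) : x = y := by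
  cases x; cases y; simp_all

instance : Mul (SD α) := ⟨fun x y => ⟨x.v + α x.q y.v, x.q * y.q⟩⟩
instance : One (SD α) := ⟨⟨0, 1⟩⟩
instance : Inv (SD α) := ⟨fun x => ⟨-(α x.q⁻¹ x.v), x.q⁻¹⟩⟩

theorem mul_v (x y : SD α) : (x * y).v = x.v + α x.q y.v := rfl
theorem mul_q (x y : SD α) : (x * y).q = x.q * y.q := rfl
theorem one_v : (1 : SD α).v = 0 := rfl
theorem one_q : (1 : SD α).q = 1 := rfl
theorem inv_v (x : SD α) : (x⁻¹).v = -(α x.q⁻¹ x.v) := rfl
theorem inv_q (x : SD α) : (x⁻¹).q = x.q⁻¹ := rfl

instance : Group (SD α) :=
  Group.ofLeftAxioms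
    (by
      intro a b c
      apply ext'
      · simp only [mul_v, mul_q, map_mul, map_add, AddMonoid.End.coe_mul, Function.comp_apply, add_assoc]
      · simp only [mul_q, mul_assoc])
    (by
      intro a
      apply ext'
      · simp only [mul_v, one_v, one_q, map_one, AddMonoid.End.one_apply, zero_add]
      · simp only [mul_q, one_q, one_mul])
    (by
      intro a
      apply ext'
      · simp only [mul_v, inv_v, inv_q, one_v, neg_add_cancel]
      · simp only [mul_q, inv_q, one_q, inv_mul_cancel])

/-- the affine action on `N` -/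
def aff (x : SD α) (v : N) : N := x.v + α x.q v

theorem aff_mul (x y : SD α) (v : N) : aff α (x * y) v = aff α x (aff α y v) := by
  simp only [aff, mul_v, mul_q, map_mul, map_add, AddMonoid.End.coe_mul, Function.comp_apply, add_assoc]

theorem aff_one (v : N) : aff α 1 v = v := by
  simp only [aff, one_v, one_q, map_one, AddMonoid.End.one_apply, zero_add]

theorem aff_pow (x : SD α) (d : ℕ) (v : N) : aff α (x ^ d) v = (aff α x)^[d] v := by
  induction d generalizing v with
  | zero => rw [pow_zero, aff_one]; rfl
  | succ d ih => rw [pow_succ, aff_mul, ih, Function.iterate_succ_apply]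

theorem aff_injective (hα : Function.Injective fun q => (α q : N → N)) :
    Function.Injective (aff α) := by
  intro x y h
  have h0 : x.v = y.v := by
    have := congrFun h 0
    simpa [aff] using this
  apply ext' α h0
  apply hα
  funext v
  have := congrFun h v
  simp only [aff, h0] at this
  exact add_left_cancel this

theorem pow_eq_one_iff (hα : Function.Injective fun q => (α q : N → N)) (x : SD α) (d : ℕ) :
    x ^ d = 1 ↔ ∀ v, (aff α x)^[d] v = v := by
  constructor
  · intro h v
    rw [← aff_pow, h, aff_one]
  · intro h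
    apply aff_injective α hα
    funext v
    rw [aff_pow, aff_one, h]

/-- the underlying pair -/
def equivProd : SD α ≃ N × Q where
  toFun x := (x.v, x.q)
  invFun p := ⟨p.1, p.2⟩
  left_inv _ := rfl
  right_inv _ := rfl

instance [DecidableEq N] [DecidableEq Q] : DecidableEq (SD α) := fun x y =>
  decidable_of_iff (x.v = y.v ∧ x.q = y.q)
    ⟨fun h => ext' α h.1 h.2, fun h => by subst h; exact ⟨rfl, rfl⟩⟩

instance [Fintype N] [Fintype Q] : Fintype (SD α) := Fintype.ofEquiv _ (equivProd α).symm

/-- the inclusion of `N` -/
def inl : Multiplicative N →* SD α where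
  toFun v := ⟨Multiplicative.toAdd v, 1⟩
  map_one' := rfl
  map_mul' a b := by
    apply ext'
    · simp only [mul_v, map_one, AddMonoid.End.one_apply, toAdd_mul]
    · simp only [mul_q, mul_one]

/-- the projection to `Q` -/
def proj : SD α →* Q where
  toFun x := x.q
  map_one' := rfl
  map_mul' _ _ := rfl

theorem isSolvable [Group.IsSolvable Q] : Group.IsSolvable (SD α) := by
  refine Group.isSolvable_of_ker_le_range (inl α) (proj α) ?_
  intro x hx
  refine ⟨Multiplicative.ofAdd x.v, ?_⟩
  apply ext'
  · rfl
  · exact (MonoidHom.mem_ker.mp hx).symm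

end SD

end Cfsg.Agent.Helper3.OT
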