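import Cfsg.Agent.Helper3.OTD
import Cfsg.Agent.Helper3.OTF

/-!
# The group `AΓL₁(8) = 2³ : 7 : 3`: a solvable group of order 168 and its solution counts
-/

namespace Cfsg.Agent.Helper3.OT

/-- the action of `Z₃` on `Z₇` by doubling -/
def beta : Multiplicative (ZMod 3) →* AddMonoid.End (ZMod 7) where
  toFun j := AddMonoidHom.mulLeft ((2 : ZMod 7) ^ (Multiplicative.toAdd j).val)
  map_one' := by
    apply AddMonoidHom.ext
    decide
  map_mul' := by
    intro j k
    apply AddMonoidHom.ext
    intro v
    revert j k v
    decide

/-- the Frobenius group of order 21 -/
abbrev Q21 := SD beta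

instance : Group.IsSolvable Q21 := SD.isSolvable beta

/-- the matrices `Aⁱ Bʲ` of the elements of `ΓL₁(8)` -/
def alphaTab (i : ZMod 7) (j : Multiplicative (ZMod 3)) : N3 × N3 × N3 :=
  match i.val, (Multiplicative.toAdd j).val with
  | 0, 0 => ((true, false, false), (false, true, false), (false, false, true))
  | 0, 1 => ((true, false, false), (false, false, true), (false, true, true))
  | 0, 2 => ((true, false, false), (false, true, true), (false, true, false))
  | 1, 0 => ((false, true, false), (false, false, true), (true, true, false))
  | 1, 1 => ((false, true, false), (true, true, false), (true, true, true))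
  | 1, 2 => ((false, true, false), (true, true, true), (false, false, true))
  | 2, 0 => ((false, false, true), (true, true, false), (false, true, true))
  | 2, 1 => ((false, false, true), (false, true, true), (true, false, true))
  | 2, 2 => ((false, false, true), (true, false, true), (true, true, false))
  | 3, 0 => ((true, true, false), (false, true, true), (true, true, true))
  | 3, 1 => ((true, true, false), (true, true, true), (true, false, false))
  | 3, 2 => ((true, true, false), (true, false, false), (false, true, true))
  | 4, 0 => ((false, true, true), (true, true, true), (true, false, true))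
  | 4, 1 => ((false, true, true), (true, false, true), (false, true, false))
  | 4, 2 => ((false, true, true), (false, true, false), (true, true, true))
  | 5, 0 => ((true, true, true), (true, false, true), (true, false, false))
  | 5, 1 => ((true, true, true), (true, false, false), (false, false, true))
  | 5, 2 => ((true, true, true), (false, false, true), (true, false, true))
  | 6, 0 => ((true, false, true), (true, false, false), (false, true, false))
  | 6, 1 => ((true, false, true), (false, true, false), (true, true, false))
  | 6, 2 => ((true, false, true), (true, true, false), (true, false, false))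
  | _, _ => ((true, false, false), (false, true, false), (false, false, true))

/-- `Lt t` as an additive endomorphism -/
def LtEnd (t : N3 × N3 × N3) : AddMonoid.End N3 where
  toFun := Lt t
  map_zero' := rfl
  map_add' := Lt_add t

/-- the action of the Frobenius group of order 21 on `𝔽₂³ = 𝔽₈` -/
def alpha : Q21 →* AddMonoid.End N3 where
  toFun x := LtEnd (alphaTab x.v x.q)
  map_one' := by
    apply AddMonoidHom.ext
    decide
  map_mul' := by
    intro x y
    apply AddMonoidHom.ext
    intro v
    revert x y v
    decide

/-- the group `AΓL₁(8)` -/
abbrev AG := SD alpha

instance : Group.IsSolvable AG := SD.isSolvable alpha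

theorem alpha_faithful : Function.Injective fun q => (alpha q : N3 → N3) := by
  decide

/-- strict version of the addition of `𝔽₂³` -/
def x3s (a b : N3) : N3 :=
  match a, b with
  | (a1, a2, a3), (b1, b2, b3) => (xor a1 b1, xor a2 b2, xor a3 b3)

theorem x3s_eq_add : ∀ a b : N3, x3s a b = a + b := by decide

/-- the affine map of an element, written out -/
def afn (x : AG) (v : N3) : N3 := x3s x.v (Lt (alphaTab x.q.v x.q.q) v)

theorem afn_eq (x : AG) : afn x = SD.aff alpha x := by
  funext v
  rw [afn, x3s_eq_add]
  rfl

theorem cnt_AG (d : ℕ) : cnt AG d = Fintype.card {x : AG // per (afn x) d = true} := by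
  unfold cnt
  rw [← Nat.card_eq_fintype_card]
  refine Nat.card_congr (Equiv.subtypeEquivRight fun x => ?_)
  rw [per_iff, afn_eq, SD.pow_eq_one_iff alpha alpha_faithful]

/-- the table of solution counts of `AΓL₁(8)` -/
def tabA (d : ℕ) : ℕ :=
  1 + (if d % 2 = 0 then 7 else 0) + (if d % 3 = 0 then 56 else 0)
    + (if d % 6 = 0 then 56 else 0) + (if d % 7 = 0 then 48 else 0)

set_option maxRecDepth 100000 in
theorem cnt_AG_tab : ∀ d ∈ Nat.divisors 84, cnt AG d = tabA d := by
  simp only [cnt_AG]
  decide +kernel

set_option maxRecDepth 100000 in
theorem AG_pow84 (x : AG) : x ^ 84 = 1 := by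
  have key : ∀ x : AG, per (afn x) 84 = true := by
    decide +kernel
  rw [SD.pow_eq_one_iff alpha alpha_faithful, ← afn_eq, ← per_iff]
  exact key x

end Cfsg.Agent.Helper3.OT
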