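import Cfsg.Agent.Helper3.OTC
import Cfsg.Agent.Helper3.OTE
import Cfsg.Agent.Helper3.OTG

/-!
# A solvable and a non-solvable group with the same order type
-/

namespace Cfsg.Agent.Helper3.OT

/-! ### Generalities on solvability and exponents -/

theorem isSolvable_pi {ι : Type*} [Finite ι] (X : ι → Type*) [∀ i, Group (X i)]
    (h : ∀ i, Group.IsSolvable (X i)) : Group.IsSolvable (∀ i, X i) := by
  classical
  have := Fintype.ofFinite ι
  choose n hn using fun i => (h i).solvable
  refine ⟨⟨Finset.univ.sup n, ?_⟩⟩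
  rw [eq_bot_iff]
  intro x hx
  rw [Subgroup.mem_bot]
  funext i
  have h1 : (Pi.evalMonoidHom X i) x ∈ derivedSeries (X i) (Finset.univ.sup n) :=
    map_derivedSeries_le_derivedSeries (Pi.evalMonoidHom X i) _ (Subgroup.mem_map_of_mem _ hx)
  have h2 := derivedSeries_antitone (X i) (Finset.le_sup (f := n) (Finset.mem_univ i)) h1
  rw [hn i, Subgroup.mem_bot] at h2
  exact h2

theorem cnt_pow_fin (X : Type*) [Monoid X] (e n : ℕ) : cnt (Fin e → X) n = (cnt X n) ^ e := by
  rw [cnt_pi, Finset.prod_const, Finset.card_univ, Fintype.card_fin]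

/-! ### The dihedral groups -/

instance dihedral_isSolvable (m : ℕ) : Group.IsSolvable (DihedralGroup m) := by
  let f : Multiplicative (ZMod m) →* DihedralGroup m :=
    { toFun := fun i => DihedralGroup.r (Multiplicative.toAdd i)
      map_one' := rfl
      map_mul' := fun a b => by simp }
  refine Group.isSolvable_of_ker_le_range f (sgn m) ?_
  intro g hg
  rw [MonoidHom.mem_ker] at hg
  cases g with
  | r i => exact ⟨Multiplicative.ofAdd i, rfl⟩
  | sr i =>
    exfalso
    revert hg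
    change (Multiplicative.ofAdd (1 : ZMod 2) = 1) → False
    decide

set_option maxRecDepth 100000 in
theorem dih_pow84 (κ : Kind) : ∀ a : DihedralGroup κ.m, a ^ 84 = 1 := by
  cases κ <;> decide +kernel

set_option maxRecDepth 100000 in
theorem Bm_pow84 : ∀ q : Bm, q ^ 84 = 1 := by decide +kernel

theorem specGrp_pow84 (s : Spec) (g : specGrp s) : g ^ 84 = 1 := by
  apply Subtype.ext
  rw [SubmonoidClass.coe_pow]
  apply Prod.ext
  · exact Bm_pow84 _
  · funext i
    exact dih_pow84 _ _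

instance specGrp_isSolvable (s : Spec) : Group.IsSolvable (specGrp s) := by
  have : Group.IsSolvable ((i : Fin 4) → DihedralGroup (s i).1.m) :=
    isSolvable_pi _ fun i => inferInstance
  infer_instance

/-! ### Explicit values -/

/-- the explicit number of solutions of `x ^ n = 1` in `specGrp s` -/
def val (s : Spec) (n : ℕ) : ℕ :=
  ∑ q : Bm, if q ^ n = 1 then ∏ i, Fe (s i).1 (pair (s i).2 q) n else 0

theorem cnt_specGrp_val (s : Spec) (d : ℕ) (hd : d ∈ Nat.divisors 84) :
    cnt (specGrp s) d = val s d := by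
  rw [cnt_specGrp, val]
  refine Finset.sum_congr rfl fun q _ => ?_
  split_ifs
  · exact Finset.prod_congr rfl fun i _ => Fk_eq_Fe _ _ d hd
  · rfl

/-! ### Big products -/

section big

variable {r : ℕ} (X : Type) [Group X] (sp : Fin r → Spec) (e : Fin r → ℕ)

/-- a group times a product of powers of spec groups -/
abbrev Big := X × ((j : Fin r) → Fin (e j) → specGrp (sp j))

theorem big_isSolvable [Group.IsSolvable X] : Group.IsSolvable (Big X sp e) := by
  have : Group.IsSolvable ((j : Fin r) → Fin (e j) → specGrp (sp j)) :=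
    isSolvable_pi _ fun j => isSolvable_pi _ fun _ => inferInstance
  infer_instance

theorem big_not_isSolvable (hX : ¬ Group.IsSolvable X) : ¬ Group.IsSolvable (Big X sp e) := by
  intro h
  exact hX (Group.isSolvable_of_surjective
    (f := MonoidHom.fst X ((j : Fin r) → Fin (e j) → specGrp (sp j)))
    (fun x => ⟨(x, 1), rfl⟩))

theorem big_pow84 (hX : ∀ x : X, x ^ 84 = 1) (g : Big X sp e) : g ^ 84 = 1 := by
  apply Prod.ext
  · exact hX _
  · funext j i
    exact specGrp_pow84 _ _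

theorem cnt_big (d : ℕ) (hd : d ∈ Nat.divisors 84) :
    cnt (Big X sp e) d = cnt X d * ∏ j, val (sp j) d ^ e j := by
  have h1 : cnt (Big X sp e) d
      = cnt X d * cnt ((j : Fin r) → Fin (e j) → specGrp (sp j)) d := cnt_prod _ _ _
  have h2 : cnt ((j : Fin r) → Fin (e j) → specGrp (sp j)) d
      = ∏ j, cnt (Fin (e j) → specGrp (sp j)) d :=
    cnt_pi (fun j => Fin (e j) → specGrp (sp j)) d
  rw [h1, h2]
  congr 1
  refine Finset.prod_congr rfl fun j _ => ?_
  rw [cnt_pow_fin, cnt_specGrp_val _ d hd]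

end big

/-! ### The two groups -/

/-- a padding atom -/
def pd : Kind × Chr := (Kind.pad, (0, 0))

/-- the specs of the dihedral-type factors -/
def specs : Fin 16 → Spec :=
  ![![pd, pd, pd, pd],
    ![(Kind.s3, (0, 0)), pd, pd, pd],
    ![(Kind.s3, (1, 0)), pd, pd, pd],
    ![(Kind.d8a, (1, 0)), pd, pd, pd],
    ![(Kind.s3, (1, 0)), (Kind.s3, (1, 0)), pd, pd],
    ![(Kind.s3, (1, 0)), (Kind.d8b, (1, 0)), pd, pd],
    ![(Kind.s3, (1, 0)), (Kind.d14, (1, 0)), pd, pd],
    ![(Kind.d14, (1, 0)), (Kind.d8a, (1, 0)), pd, pd],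
    ![(Kind.d14, (1, 0)), (Kind.d8b, (1, 0)), pd, pd],
    ![(Kind.s3, (1, 0)), (Kind.s3, (1, 0)), (Kind.d8b, (1, 0)), pd],
    ![(Kind.s3, (1, 0)), (Kind.s3, (1, 0)), (Kind.d14, (1, 0)), pd],
    ![(Kind.s3, (1, 0)), (Kind.d14, (0, 1)), (Kind.d8b, (1, 1)), pd],
    ![(Kind.d14, (1, 0)), (Kind.d8a, (0, 1)), (Kind.d8b, (1, 1)), pd],
    ![(Kind.s3, (1, 0)), (Kind.s3, (1, 0)), (Kind.d14, (1, 0)), (Kind.d8b, (1, 0))],
    ![(Kind.s3, (1, 0)), (Kind.s3, (1, 0)), (Kind.d14, (0, 1)), (Kind.d8b, (1, 1))],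
    ![(Kind.s3, (1, 0)), (Kind.s3, (1, 0)), (Kind.d14, (0, 1)), (Kind.d14, (1, 1))]]

/-- multiplicities on the solvable side -/
def ep : Fin 16 → ℕ := ![0, 0, 0, 0, 1, 1, 1, 0, 1, 1, 2, 1, 1, 0, 0, 0]

/-- multiplicities on the non-solvable side -/
def em : Fin 16 → ℕ := ![1, 1, 2, 1, 0, 0, 0, 1, 0, 0, 0, 0, 0, 1, 2, 1]

/-- the solvable group -/
abbrev GG := Big AG specs ep

/-- the non-solvable group -/
abbrev HH := Big K3 specs em

theorem GG_isSolvable : Group.IsSolvable GG := big_isSolvable AG specs ep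

theorem HH_not_isSolvable : ¬ Group.IsSolvable HH := big_not_isSolvable K3 specs em K3_not_solvable

set_option maxRecDepth 100000 in
theorem key_identity : ∀ d ∈ Nat.divisors 84,
    tabA d * ∏ j, val (specs j) d ^ ep j = tabK d * ∏ j, val (specs j) d ^ em j := by
  decide +kernel

theorem cnt_GG_eq_cnt_HH (n : ℕ) : cnt GG n = cnt HH n := by
  have hd : Nat.gcd n 84 ∈ Nat.divisors 84 :=
    Nat.mem_divisors.mpr ⟨Nat.gcd_dvd_right n 84, by norm_num⟩
  rw [cnt_gcd 84 (big_pow84 AG specs ep AG_pow84), cnt_gcd 84 (big_pow84 K3 specs em K3_pow84),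
    cnt_big AG specs ep _ hd, cnt_big K3 specs em _ hd, cnt_AG_tab _ hd, cnt_K3_tab _ hd,
    key_identity _ hd]

end Cfsg.Agent.Helper3.OT
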