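import Mathlib

set_option autoImplicit false
set_option linter.style.haveILetI false
set_option linter.unusedSectionVars false

/-!
# Groups of order 162, part A: the centraliser of a product of three disjoint 3-cycles in `S₉`
-/

namespace Cfsg.Agent.Helper3.Ord162

open Equiv Equiv.Perm

variable {α : Type*} [Fintype α] [DecidableEq α]

/-- A fixed-point-free permutation of order dividing 3 on 9 points has cycle type `3,3,3`. -/
theorem cycleType_of_fpf (hα : Fintype.card α = 9) (σ : Perm α) (h3 : σ ^ 3 = 1)
    (hfix : ∀ x, σ x ≠ x) : σ.cycleType = Multiset.replicate 3 3 := by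
  have hall : ∀ n ∈ σ.cycleType, n = 3 := by
    intro n hn
    have h1 : n ∣ orderOf σ := dvd_of_mem_cycleType hn
    have h2 : orderOf σ ∣ 3 := orderOf_dvd_of_pow_eq_one h3
    have h4 : 2 ≤ n := two_le_of_mem_cycleType hn
    have h5 : n ∣ 3 := h1.trans h2
    have h6 : n ≤ 3 := Nat.le_of_dvd (by norm_num) h5
    interval_cases n
    · norm_num at h5
    · rfl
  have hrep : σ.cycleType = Multiset.replicate (Multiset.card σ.cycleType) 3 :=
    Multiset.eq_replicate_card.mpr hall
  have hsum : σ.cycleType.sum = 9 := by
    rw [sum_cycleType]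
    have : σ.support = Finset.univ := by
      ext x
      simp [hfix x]
    rw [this, Finset.card_univ, hα]
  rw [hrep, Multiset.sum_replicate, smul_eq_mul] at hsum
  have hc : Multiset.card σ.cycleType = 3 := by omega
  rw [hrep, hc]

theorem card_centralizer_of_cycleType (hα : Fintype.card α = 9) (σ : Perm α)
    (h : σ.cycleType = Multiset.replicate 3 3) :
    Nat.card (Subgroup.centralizer ({σ} : Set (Perm α))) = 162 := by
  rw [nat_card_centralizer, h, hα]
  simp [Multiset.toFinset_replicate, Multiset.count_replicate]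
  decide

/-- The target permutation. -/
def cc : Perm (Fin 9) :=
  Equiv.swap (0 : Fin 9) 1 * Equiv.swap 1 2 * Equiv.swap 3 4 * Equiv.swap 4 5 *
    Equiv.swap 6 7 * Equiv.swap 7 8

theorem cc_pow : cc ^ 3 = 1 := by
  ext x
  fin_cases x <;> decide

theorem cc_fpf : ∀ x, cc x ≠ x := by
  intro x
  fin_cases x <;> decide

theorem cc_cycleType : cc.cycleType = Multiset.replicate 3 3 :=
  cycleType_of_fpf (by simp) cc cc_pow cc_fpf

/-- A group of order 162 with a central element acting fixed-point-freely with cube one in a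
faithful action on 9 points is the centraliser of `cc`. -/
theorem equiv_of_action {G : Type*} [Group G] [Finite G] (hG : Nat.card G = 162)
    (z : G) (hz : z ∈ Subgroup.center G) (hz3 : z ^ 3 = 1)
    (φ : G →* Perm (Fin 9)) (hφ : Function.Injective φ) (hfix : ∀ x, φ z x ≠ x) :
    Nonempty (G ≃* Subgroup.centralizer ({cc} : Set (Perm (Fin 9)))) := by
  have h1 : (φ z).cycleType = Multiset.replicate 3 3 := by
    apply cycleType_of_fpf (by simp) _ _ hfix
    rw [← map_pow, hz3, map_one]
  have h2 : IsConj (φ z) cc := by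
    rw [isConj_iff_cycleType_eq, h1, cc_cycleType]
  obtain ⟨g, hg⟩ := isConj_iff.mp h2
  let ψ : G →* Perm (Fin 9) := (MulAut.conj g).toMonoidHom.comp φ
  have hψ : Function.Injective ψ := (MulAut.conj g).injective.comp hφ
  have hψz : ψ z = cc := by
    simp only [ψ, MonoidHom.comp_apply, MulEquiv.coe_toMonoidHom, MulAut.conj_apply]
    exact hg
  have hle : ψ.range ≤ Subgroup.centralizer ({cc} : Set (Perm (Fin 9))) := by
    rintro _ ⟨x, rfl⟩
    rw [Subgroup.mem_centralizer_iff]
    intro y hy
    rw [Set.mem_singleton_iff] at hy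
    subst hy
    rw [← hψz, ← map_mul, ← map_mul]
    congr 1
    exact (Subgroup.mem_center_iff.mp hz x).symm
  have hcard : Nat.card ψ.range = 162 := by
    rw [← hG]
    exact Nat.card_congr (MonoidHom.ofInjective hψ).symm.toEquiv
  have heq : ψ.range = Subgroup.centralizer ({cc} : Set (Perm (Fin 9))) := by
    apply Subgroup.eq_of_le_of_card_ge hle
    rw [hcard, card_centralizer_of_cycleType (by simp) cc cc_cycleType]
  exact ⟨(MonoidHom.ofInjective hψ).trans (MulEquiv.subgroupCongr heq)⟩

end Cfsg.Agent.Helper3.Ord162
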