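import Mathlib

set_option autoImplicit false
set_option linter.style.haveILetI false
set_option linter.unusedSectionVars false

/-!
# Groups of order 162, part B: an invariant complement in an elementary abelian group
-/

namespace Cfsg.Agent.Helper3.Ord162

/-- In an elementary abelian group of order 27 with an involutory automorphism `σ` fixing a
non-identity element `z`, there is a `σ`-invariant subgroup of order 9 not containing `z`. -/
theorem exists_invariant_complement {A : Type*} [CommGroup A] [Finite A]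
    (hexp : ∀ a : A, a ^ 3 = 1) (hcard : Nat.card A = 27) (σ : A ≃* A)
    (hσ : ∀ a, σ (σ a) = a) (z : A) (hσz : σ z = z) (hz1 : z ≠ 1) :
    ∃ Y : Subgroup A, Nat.card Y = 9 ∧ (∀ y ∈ Y, σ y ∈ Y) ∧ z ∉ Y := by
  classical
  set 𝒮 : Set (Subgroup A) := {Y | (∀ y ∈ Y, σ y ∈ Y) ∧ z ∉ Y} with h𝒮
  have hbot : (⊥ : Subgroup A) ∈ 𝒮 := by
    refine ⟨fun y hy => ?_, fun h => hz1 (Subgroup.mem_bot.mp h)⟩
    rw [Subgroup.mem_bot] at hy ⊢
    rw [hy, map_one]
  obtain ⟨Y, -, ⟨hYinv, hzY⟩, hYmax⟩ := (Set.toFinite 𝒮).exists_le_maximal hbot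
  have hz4 : ∀ a : A, a = (a * a) * (a * a) := by
    intro a
    have := hexp a
    calc a = a ^ 3 * a := by rw [this, one_mul]
      _ = (a * a) * (a * a) := by rw [pow_succ, pow_two, mul_assoc]
  -- adjoining an inverted element keeps us in `𝒮`
  have hminus : ∀ w : A, σ w = w⁻¹ → w ∈ Y := by
    intro w hw
    have hmem : Y ⊔ Subgroup.zpowers w ∈ 𝒮 := by
      refine ⟨fun x hx => ?_, fun hx => ?_⟩
      · obtain ⟨y, hy, u, hu, rfl⟩ := Subgroup.mem_sup.mp hx
        obtain ⟨k, rfl⟩ := Subgroup.mem_zpowers_iff.mp hu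
        rw [map_mul, map_zpow, hw]
        exact Subgroup.mem_sup.mpr ⟨σ y, hYinv y hy, (w⁻¹) ^ k,
          Subgroup.zpow_mem _ (Subgroup.inv_mem _ (Subgroup.mem_zpowers w)) k, rfl⟩
      · obtain ⟨y, hy, u, hu, hyu⟩ := Subgroup.mem_sup.mp hx
        obtain ⟨k, rfl⟩ := Subgroup.mem_zpowers_iff.mp hu
        have h1 : σ y * (w ^ k)⁻¹ = z := by
          have := congrArg σ hyu
          rw [map_mul, map_zpow, hw, hσz, inv_zpow] at this
          exact this
        have h2 : z * z = y * σ y := by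
          calc z * z = (y * w ^ k) * (σ y * (w ^ k)⁻¹) := by rw [hyu, h1]
            _ = y * σ y := by
              rw [mul_mul_mul_comm, mul_inv_cancel, mul_one]
        apply hzY
        rw [hz4 z, h2]
        exact Y.mul_mem (Y.mul_mem hy (hYinv y hy)) (Y.mul_mem hy (hYinv y hy))
    have := hYmax hmem le_sup_left
    exact this (le_sup_right (a := Y) (Subgroup.mem_zpowers w))
  -- adjoining a fixed element either keeps us in `𝒮` or captures `z`
  have hplus : ∀ w : A, σ w = w → w ∈ Y ⊔ Subgroup.zpowers z := by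
    intro w hw
    by_cases hzw : z ∈ Y ⊔ Subgroup.zpowers w
    · obtain ⟨y, hy, u, hu, hyu⟩ := Subgroup.mem_sup.mp hzw
      obtain ⟨k, rfl⟩ := Subgroup.mem_zpowers_iff.mp hu
      have hk : w ^ k = w ^ (k % 3) := zpow_eq_zpow_emod' k (hexp w)
      have hk3 : k % 3 = 0 ∨ k % 3 = 1 ∨ k % 3 = 2 := by omega
      have hwk : w ^ k = y⁻¹ * z := by rw [← hyu]; group
      have hmem : y⁻¹ * z ∈ Y ⊔ Subgroup.zpowers z :=
        Subgroup.mul_mem _ (le_sup_left (a := Y) (Y.inv_mem hy))
          (le_sup_right (a := Y) (Subgroup.mem_zpowers z))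
      rcases hk3 with h0 | h1 | h2
      · exfalso
        rw [hk, h0, zpow_zero] at hwk
        apply hzY
        have : z = y := by
          have := congrArg (y * ·) hwk
          simpa using this.symm
        rw [this]; exact hy
      · rw [hk, h1, zpow_one] at hwk
        rw [hwk]; exact hmem
      · rw [hk, h2] at hwk
        have hw2 : w ^ (2 : ℤ) = w * w := by
          rw [zpow_ofNat, pow_two]
        rw [hw2] at hwk
        rw [hz4 w, hwk]
        exact Subgroup.mul_mem _ hmem hmem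
    · have hmem : Y ⊔ Subgroup.zpowers w ∈ 𝒮 := by
        refine ⟨fun x hx => ?_, hzw⟩
        obtain ⟨y, hy, u, hu, rfl⟩ := Subgroup.mem_sup.mp hx
        obtain ⟨k, rfl⟩ := Subgroup.mem_zpowers_iff.mp hu
        rw [map_mul, map_zpow, hw]
        exact Subgroup.mem_sup.mpr ⟨σ y, hYinv y hy, w ^ k,
          Subgroup.zpow_mem _ (Subgroup.mem_zpowers w) k, rfl⟩
      have := hYmax hmem le_sup_left
      exact le_sup_left (a := Y) (this (le_sup_right (a := Y) (Subgroup.mem_zpowers w)))
  have htop : Y ⊔ Subgroup.zpowers z = ⊤ := by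
    rw [eq_top_iff]
    intro j _
    have h1 : j * (σ j)⁻¹ ∈ Y := hminus _ (by rw [map_mul, map_inv, hσ]; group)
    have h2 : j * σ j ∈ Y ⊔ Subgroup.zpowers z := hplus _ (by rw [map_mul, hσ, mul_comm])
    have h3 : j = ((j * σ j) * (j * σ j)) * ((j * (σ j)⁻¹) * (j * (σ j)⁻¹)) := by
      have key : ∀ a b : A, ((a * b) * (a * b)) * ((a * b⁻¹) * (a * b⁻¹)) = (a * a) * (a * a) := by
        intro a b
        rw [mul_mul_mul_comm a b a b, mul_mul_mul_comm a b⁻¹ a b⁻¹,
          mul_mul_mul_comm (a * a) (b * b) (a * a), mul_mul_mul_comm b b b⁻¹ b⁻¹,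
          mul_inv_cancel, one_mul, mul_one]
      rw [key]
      exact hz4 j
    rw [h3]
    exact Subgroup.mul_mem _ (Subgroup.mul_mem _ h2 h2)
      (le_sup_left (a := Y) (Y.mul_mem h1 h1))
  -- counting
  have hrel : Y.relIndex (Y ⊔ Subgroup.zpowers z) = Y.relIndex (Subgroup.zpowers z) := by
    haveI : Y.Normal := inferInstance
    exact Subgroup.relIndex_sup_left (Subgroup.zpowers z) Y
  have hdvd : Y.relIndex (Subgroup.zpowers z) ∣ 3 := by
    have h1 : Y.relIndex (Subgroup.zpowers z) ∣ Nat.card (Subgroup.zpowers z) :=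
      Subgroup.relIndex_dvd_card _ _
    have h2 : Nat.card (Subgroup.zpowers z) ∣ 3 := by
      rw [Nat.card_zpowers]
      exact orderOf_dvd_of_pow_eq_one (hexp z)
    exact h1.trans h2
  have hmul : Y.relIndex (Y ⊔ Subgroup.zpowers z) * Nat.card Y = 27 := by
    rw [htop, Subgroup.relIndex_top_right, mul_comm, Subgroup.card_mul_index, hcard]
  rw [hrel] at hmul
  have h13 : Y.relIndex (Subgroup.zpowers z) = 1 ∨ Y.relIndex (Subgroup.zpowers z) = 3 :=
    (Nat.dvd_prime Nat.prime_three).mp hdvd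
  refine ⟨Y, ?_, hYinv, hzY⟩
  rcases h13 with h1 | h3
  · exfalso
    rw [h1, one_mul] at hmul
    have : Y = ⊤ := Subgroup.eq_top_of_card_eq Y (by rw [hmul, hcard])
    rw [this] at hzY
    exact hzY (Subgroup.mem_top z)
  · rw [h3] at hmul
    omega

end Cfsg.Agent.Helper3.Ord162
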