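import Mathlib
import Cfsg.Agent.Helper3.Ord162a
import Cfsg.Agent.Helper3.Ord162b
import Cfsg.Agent.Helper10.PGroupBasic

set_option autoImplicit false
set_option linter.style.haveILetI false
set_option linter.unusedSectionVars false
set_option maxHeartbeats 1000000

/-!
# Groups of order 162, part C: the recognition theorem
-/

namespace Cfsg.Agent.Helper3.Ord162

open Equiv
open scoped Pointwise

theorem fact3 : (162:ℕ).factorization 3 = 4 := by
  have h : (162:ℕ) = 2 * 3 ^ 4 := by norm_num
  rw [h, Nat.factorization_mul (by norm_num) (by norm_num), Nat.factorization_pow]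
  simp [Nat.factorization_eq_zero_of_not_dvd, Nat.prime_three.factorization_self]

theorem fact2 : (162:ℕ).factorization 2 = 1 := by
  have h : (162:ℕ) = 2 * 3 ^ 4 := by norm_num
  rw [h, Nat.factorization_mul (by norm_num) (by norm_num), Nat.factorization_pow]
  simp [Nat.factorization_eq_zero_of_not_dvd, Nat.prime_two.factorization_self]

/-- A normal subgroup meeting the Sylow subgroup `S` nontrivially contains `Z(S)` when the
latter has prime order. -/
theorem mem_of_normal_of_inf_ne_bot {G : Type*} [Group G] [Finite G] (S : Sylow 3 G)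
    (Z : Subgroup G)
    (hZ : Z = (S : Subgroup G) ⊓ Subgroup.centralizer ((S : Subgroup G) : Set G))
    (hZcard : Nat.card Z = 3) (z : G) (hzZ : z ∈ Z)
    (M : Subgroup G) [M.Normal] (hM : M ⊓ (S : Subgroup G) ≠ ⊥) : z ∈ M := by
  obtain ⟨⟨x, hx⟩, hx1⟩ := (Subgroup.ne_bot_iff_exists_ne_one).mp hM
  have hx1' : x ≠ 1 := fun h => hx1 (Subtype.ext h)
  obtain ⟨hxM, hxS⟩ := Subgroup.mem_inf.mp hx
  have hMS : M.subgroupOf (S : Subgroup G) ≠ ⊥ := by
    intro h
    have : (⟨x, hxS⟩ : (S : Subgroup G)) ∈ M.subgroupOf (S : Subgroup G) :=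
      Subgroup.mem_subgroupOf.mpr hxM
    rw [h, Subgroup.mem_bot] at this
    exact hx1' (congrArg Subtype.val this)
  obtain ⟨w, hwM, hw1, hwc⟩ :=
    Cfsg.Agent.Helper10.exists_ne_one_mem_inf_center S.isPGroup' (M.subgroupOf (S : Subgroup G)) hMS
  have hwM' : (w : G) ∈ M := Subgroup.mem_subgroupOf.mp hwM
  have hwZ : (w : G) ∈ Z := by
    rw [hZ]
    refine Subgroup.mem_inf.mpr ⟨w.2, ?_⟩
    rw [Subgroup.mem_centralizer_iff]
    intro h hh
    have := Subgroup.mem_center_iff.mp hwc ⟨h, hh⟩
    exact congrArg Subtype.val this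
  haveI : Fact (Nat.Prime 3) := ⟨Nat.prime_three⟩
  have hw1' : (⟨(w : G), hwZ⟩ : Z) ≠ 1 := by
    intro h
    apply hw1
    apply Subtype.ext
    have h' : (w : G) = 1 := congrArg (Subtype.val : Z → G) h
    rw [h']; rfl
  have htop := zpowers_eq_top_of_prime_card hZcard hw1'
  have hz : (⟨z, hzZ⟩ : Z) ∈ Subgroup.zpowers (⟨(w : G), hwZ⟩ : Z) := by
    rw [htop]; exact Subgroup.mem_top _
  obtain ⟨k, hk⟩ := Subgroup.mem_zpowers_iff.mp hz
  have hk' : (w : G) ^ k = z := by
    have := congrArg Subtype.val hk
    simpa using this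
  rw [← hk']
  exact M.zpow_mem hwM' k

theorem main {G : Type*} [Group G] [Finite G] (hG : Nat.card G = 162)
    (S : Sylow 3 G) (T : Sylow 2 G) (J : Subgroup G) [hJn : J.Normal]
    (hJcomm : IsMulCommutative J)
    (hJexp : ∀ a ∈ J, a ^ 3 = 1) (hJcard : Nat.card J = 27)
    (Z : Subgroup G)
    (hZ : Z = (S : Subgroup G) ⊓ Subgroup.centralizer ((S : Subgroup G) : Set G))
    (hZcard : Nat.card Z = 3)
    (hZT : Z ≤ Subgroup.centralizer ((T : Subgroup G) : Set G))
    (hST : (S : Subgroup G) ⊓ Subgroup.centralizer ((T : Subgroup G) : Set G) ≠ S) :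
    Nonempty (G ≃* Subgroup.centralizer ({cc} : Set (Perm (Fin 9)))) := by
  classical
  have hS : Nat.card S = 81 := by rw [S.card_eq_multiplicity, hG, fact3]; norm_num
  have hT : Nat.card T = 2 := by rw [T.card_eq_multiplicity, hG, fact2]; norm_num
  -- the central element `z`
  have hZne : Z ≠ ⊥ := by
    intro h
    rw [h, Subgroup.card_bot] at hZcard
    omega
  obtain ⟨⟨z, hzZ⟩, hz1⟩ := (Subgroup.ne_bot_iff_exists_ne_one).mp hZne
  have hz1' : z ≠ 1 := fun h => hz1 (Subtype.ext h)
  have hz3 : z ^ 3 = 1 := by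
    have := pow_card_eq_one' (G := Z) (x := ⟨z, hzZ⟩)
    rw [hZcard] at this
    have := congrArg Subtype.val this
    simpa using this
  have hzS : z ∈ (S : Subgroup G) ∧ z ∈ Subgroup.centralizer ((S : Subgroup G) : Set G) := by
    have := hzZ
    rw [hZ] at this
    exact Subgroup.mem_inf.mp this
  have hzT : z ∈ Subgroup.centralizer ((T : Subgroup G) : Set G) := hZT hzZ
  have hzc : z ∈ Subgroup.center G := by
    have hSC : (S : Subgroup G) ≤ Subgroup.centralizer ({z} : Set G) := by
      intro s hs
      rw [Subgroup.mem_centralizer_iff]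
      intro y hy
      rw [Set.mem_singleton_iff] at hy
      subst hy
      exact ((Subgroup.mem_centralizer_iff.mp hzS.2) s hs).symm
    have hTC : (T : Subgroup G) ≤ Subgroup.centralizer ({z} : Set G) := by
      intro s hs
      rw [Subgroup.mem_centralizer_iff]
      intro y hy
      rw [Set.mem_singleton_iff] at hy
      subst hy
      exact ((Subgroup.mem_centralizer_iff.mp hzT) s hs).symm
    have h81 : 81 ∣ Nat.card (Subgroup.centralizer ({z} : Set G)) := by
      rw [← hS]; exact Subgroup.card_dvd_of_le hSC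
    have h2 : 2 ∣ Nat.card (Subgroup.centralizer ({z} : Set G)) := by
      rw [← hT]; exact Subgroup.card_dvd_of_le hTC
    have h162 : 162 ∣ Nat.card (Subgroup.centralizer ({z} : Set G)) :=
      Nat.Coprime.mul_dvd_of_dvd_of_dvd (by norm_num : Nat.Coprime 81 2) h81 h2
    have hle : Nat.card (Subgroup.centralizer ({z} : Set G)) ∣ 162 := by
      rw [← hG]; exact Subgroup.card_subgroup_dvd_card _
    have heq : Nat.card (Subgroup.centralizer ({z} : Set G)) = Nat.card G := by
      rw [hG]; exact Nat.dvd_antisymm hle h162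
    have htop := Subgroup.eq_top_of_card_eq _ heq
    rw [Subgroup.mem_center_iff]
    intro g
    have hg : g ∈ Subgroup.centralizer ({z} : Set G) := by rw [htop]; exact Subgroup.mem_top g
    exact ((Subgroup.mem_centralizer_iff.mp hg) z (Set.mem_singleton z)).symm
  have hzcomm : ∀ g : G, g * z = z * g := fun g => Subgroup.mem_center_iff.mp hzc g
  have hz4 : z = (z * z) * (z * z) := by
    calc z = z ^ 3 * z := by rw [hz3, one_mul]
      _ = (z * z) * (z * z) := by rw [pow_succ, pow_two, mul_assoc]
  -- `z ∈ J`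
  have hJp : IsPGroup 3 J := IsPGroup.of_card (n := 3) (by rw [hJcard]; norm_num)
  have hJS : J ≤ (S : Subgroup G) := hJp.le_sylow_of_normal S
  have hJne : J ⊓ (S : Subgroup G) ≠ ⊥ := by
    rw [inf_eq_left.mpr hJS]
    intro h
    rw [h, Subgroup.card_bot] at hJcard
    omega
  have hzJ : z ∈ J := mem_of_normal_of_inf_ne_bot S Z hZ hZcard z hzZ J hJne
  -- the involution `t`
  have hTne : (T : Subgroup G) ≠ ⊥ := by
    intro h
    have : Nat.card (T : Subgroup G) = 1 := by rw [h, Subgroup.card_bot]
    omega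
  obtain ⟨⟨t, htT⟩, ht1⟩ := (Subgroup.ne_bot_iff_exists_ne_one).mp hTne
  have ht1' : t ≠ 1 := fun h => ht1 (Subtype.ext h)
  have ht2 : t ^ 2 = 1 := by
    have := pow_card_eq_one' (G := (T : Subgroup G)) (x := ⟨t, htT⟩)
    rw [hT] at this
    have := congrArg Subtype.val this
    simpa using this
  have htt : t * t = 1 := by rw [← pow_two]; exact ht2
  have htinv : t⁻¹ = t := inv_eq_of_mul_eq_one_left htt
  -- the invariant complement inside `J`
  letI : CommGroup ↥J :=
    { (inferInstance : Group ↥J) with mul_comm := fun a b => hJcomm.is_comm.comm a b }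
  let σ : ↥J ≃* ↥J := MulAut.conjNormal t
  have hσapp : ∀ a : ↥J, ((σ a : ↥J) : G) = t * a * t⁻¹ := fun a => MulAut.conjNormal_apply t a
  have hσσ : ∀ a : ↥J, σ (σ a) = a := by
    intro a
    apply Subtype.ext
    rw [hσapp, hσapp, htinv]
    calc t * (t * ↑a * t) * t = (t * t) * ↑a * (t * t) := by group
      _ = a := by rw [htt, one_mul, mul_one]
  have hσz : σ ⟨z, hzJ⟩ = ⟨z, hzJ⟩ := by
    apply Subtype.ext
    rw [hσapp]
    show t * z * t⁻¹ = z
    rw [hzcomm t, mul_assoc, mul_inv_cancel, mul_one]
  have hexpJ : ∀ a : ↥J, a ^ 3 = 1 := by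
    intro a
    apply Subtype.ext
    have := hJexp a a.2
    simpa using this
  have hzJ1 : (⟨z, hzJ⟩ : ↥J) ≠ 1 := fun h => hz1' (congrArg Subtype.val h)
  obtain ⟨Y, hYcard, hYinv, hzY⟩ :=
    exists_invariant_complement hexpJ hJcard σ hσσ ⟨z, hzJ⟩ hσz hzJ1
  set YG : Subgroup G := Y.map J.subtype with hYG
  have hYGcard : Nat.card YG = 9 := by
    rw [← hYcard]
    exact Nat.card_congr (Y.equivMapOfInjective J.subtype J.subtype_injective).symm.toEquiv
  have hYGt : ∀ y ∈ YG, t * y * t⁻¹ ∈ YG := by
    rintro _ ⟨a, ha, rfl⟩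
    exact ⟨σ a, hYinv a ha, hσapp a⟩
  have hzYG : z ∉ YG := by
    rintro ⟨a, ha, haz⟩
    apply hzY
    have : a = ⟨z, hzJ⟩ := Subtype.ext haz
    rw [← this]; exact ha
  -- the subgroup `U` of order 18
  have htnorm : t ∈ Subgroup.normalizer (YG : Set G) := by
    apply Subgroup.mem_normalizer_fintype
    intro n hn
    exact hYGt n hn
  have hnorm : Subgroup.zpowers t ≤ Subgroup.normalizer (YG : Set G) :=
    (Subgroup.zpowers_le).mpr htnorm
  set U : Subgroup G := Subgroup.zpowers t ⊔ YG with hU
  have hUset : ((U : Subgroup G) : Set G) = (Subgroup.zpowers t : Set G) * (YG : Set G) :=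
    Subgroup.coe_mul_of_left_le_normalizer_right _ _ hnorm
  have hot : orderOf t = 2 := orderOf_eq_prime ht2 ht1'
  have hct : Nat.card (Subgroup.zpowers t) = 2 := by rw [Nat.card_zpowers, hot]
  have hUcard : Nat.card U = 18 := by
    have h1 : Nat.card U ≤ 18 := by
      have h0 : Nat.card U = Nat.card ((U : Subgroup G) : Set G) := rfl
      rw [h0, hUset]
      calc Nat.card ((Subgroup.zpowers t : Set G) * (YG : Set G) : Set G)
          ≤ Nat.card (Subgroup.zpowers t : Set G) * Nat.card (YG : Set G) := Set.natCard_mul_le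
        _ = 2 * 9 := by
          have e1 : Nat.card (Subgroup.zpowers t : Set G) = Nat.card (Subgroup.zpowers t) := rfl
          have e2 : Nat.card (YG : Set G) = Nat.card YG := rfl
          rw [e1, e2, hct, hYGcard]
    have h2 : 2 ∣ Nat.card U := by
      rw [← hct]; exact Subgroup.card_dvd_of_le le_sup_left
    have h9 : 9 ∣ Nat.card U := by
      rw [← hYGcard]; exact Subgroup.card_dvd_of_le le_sup_right
    have h18 : 18 ∣ Nat.card U :=
      Nat.Coprime.mul_dvd_of_dvd_of_dvd (by norm_num : Nat.Coprime 2 9) h2 h9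
    have hpos : 0 < Nat.card U := Nat.card_pos
    obtain ⟨k, hk⟩ := h18
    have : k = 1 := by nlinarith
    omega
  have hUindex : U.index = 9 := by
    have := U.card_mul_index
    rw [hUcard, hG] at this
    omega
  have hzU : z ∉ U := by
    intro h
    have h' : z ∈ (Subgroup.zpowers t : Set G) * (YG : Set G) := by
      rw [← hUset]; exact h
    obtain ⟨x, hx, y, hy, hxy⟩ := Set.mem_mul.mp h'
    obtain ⟨k, rfl⟩ := Subgroup.mem_zpowers_iff.mp hx
    have hxx : t ^ k * t ^ k = 1 := by
      rw [← zpow_add, ← two_mul, zpow_mul, zpow_ofNat, ht2, one_zpow]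
    have hyz : y * z = z * y := hzcomm y
    have hzz : z * z = y * y := by
      calc z * z = (t ^ k * y) * z := by rw [hxy]
        _ = t ^ k * (y * z) := by rw [mul_assoc]
        _ = t ^ k * (z * y) := by rw [hyz]
        _ = t ^ k * ((t ^ k * y) * y) := by rw [hxy]
        _ = (t ^ k * t ^ k) * (y * y) := by group
        _ = y * y := by rw [hxx, one_mul]
    apply hzYG
    rw [hz4, hzz]
    exact YG.mul_mem (YG.mul_mem hy hy) (YG.mul_mem hy hy)
  -- the core of `U` is trivial
  have hSindex : (S : Subgroup G).index = 2 := by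
    have := (S : Subgroup G).card_mul_index
    rw [hS, hG] at this
    omega
  haveI hSn : (S : Subgroup G).Normal := Subgroup.normal_of_index_eq_two hSindex
  have hcore : U.normalCore = ⊥ := by
    by_contra hN
    have hNU : U.normalCore ≤ U := Subgroup.normalCore_le U
    by_cases hNS : U.normalCore ⊓ (S : Subgroup G) = ⊥
    · -- then the core has order 2 and equals `T`, which is then central
      have hdvd : Nat.card U.normalCore ∣ 2 := by
        have h1 : (S : Subgroup G).relIndex U.normalCore ∣ (S : Subgroup G).index :=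
          Subgroup.relIndex_dvd_index_of_normal _ _
        have h2 : ((S : Subgroup G) ⊓ U.normalCore).relIndex U.normalCore =
            (S : Subgroup G).relIndex U.normalCore := Subgroup.inf_relIndex_right _ _
        rw [inf_comm, hNS, Subgroup.relIndex_bot_left] at h2
        rw [h2, ← hSindex]
        exact h1
      have hc2 : Nat.card U.normalCore = 2 := by
        have h12 := (Nat.dvd_prime Nat.prime_two).mp hdvd
        rcases h12 with h1 | h2
        · exact absurd (Subgroup.card_eq_one.mp h1) hN
        · exact h2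
      haveI : Fact (Nat.Prime 2) := ⟨Nat.prime_two⟩
      have hNp : IsPGroup 2 U.normalCore := IsPGroup.of_card (n := 1) (by rw [hc2]; norm_num)
      have hNT : U.normalCore ≤ (T : Subgroup G) := hNp.le_sylow_of_normal T
      have hNeqT : U.normalCore = (T : Subgroup G) :=
        Subgroup.eq_of_le_of_card_ge hNT (by rw [hc2, hT])
      apply hST
      rw [inf_eq_left]
      intro s _
      rw [Subgroup.mem_centralizer_iff]
      intro x hx
      -- `x ∈ T = core`, a normal subgroup of order 2
      by_cases hx1 : x = 1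
      · rw [hx1, one_mul, mul_one]
      · have hxN : x ∈ U.normalCore := by rw [hNeqT]; exact hx
        have hconj : s * x * s⁻¹ ∈ U.normalCore :=
          (inferInstance : U.normalCore.Normal).conj_mem x hxN s
        obtain ⟨b, hb, huniq⟩ := (Nat.card_eq_two_iff' (1 : U.normalCore)).mp hc2
        have e1 : (⟨x, hxN⟩ : U.normalCore) = b :=
          huniq _ (fun h => hx1 (congrArg Subtype.val h))
        have e2 : (⟨s * x * s⁻¹, hconj⟩ : U.normalCore) = b := by
          apply huniq
          intro h
          have := congrArg Subtype.val h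
          simp only [Subgroup.coe_one] at this
          apply hx1
          have h3 : x = s⁻¹ * (s * x * s⁻¹) * s := by group
          rw [h3, this]; group
        have e3 : s * x * s⁻¹ = x := by
          have := e2.trans e1.symm
          exact congrArg Subtype.val this
        calc x * s = (s * x * s⁻¹) * s := by rw [e3]
          _ = s * x := by group
    · exact hzU (hNU (mem_of_normal_of_inf_ne_bot S Z hZ hZcard z hzZ U.normalCore hNS))
  -- the action on the cosets of `U`
  let φ : G →* Perm (G ⧸ U) := MulAction.toPermHom G (G ⧸ U)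
  have hφ : Function.Injective φ := by
    rw [← MonoidHom.ker_eq_bot_iff, ← Subgroup.normalCore_eq_ker]
    exact hcore
  have hcard9 : Nat.card (G ⧸ U) = 9 := by
    rw [← Subgroup.index_eq_card]; exact hUindex
  let e : (G ⧸ U) ≃ Fin 9 := Finite.equivFinOfCardEq hcard9
  let ψ : G →* Perm (Fin 9) := e.permCongrHom.toMonoidHom.comp φ
  have hψ : Function.Injective ψ := e.permCongrHom.injective.comp hφ
  have hfix : ∀ x, ψ z x ≠ x := by
    intro x hx
    have h1 : ψ z x = e (φ z (e.symm x)) := rfl
    rw [h1] at hx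
    have h2 : φ z (e.symm x) = e.symm x := by
      apply e.injective
      rw [hx, Equiv.apply_symm_apply]
    obtain ⟨g, hg⟩ := QuotientGroup.mk_surjective (e.symm x)
    rw [← hg] at h2
    have h3 : φ z (QuotientGroup.mk g : G ⧸ U) = (QuotientGroup.mk (z * g) : G ⧸ U) := rfl
    rw [h3, QuotientGroup.eq] at h2
    apply hzU
    have h4 : (z * g)⁻¹ * g = z⁻¹ := by
      rw [← hzcomm g]; group
    rw [h4] at h2
    exact (U.inv_mem_iff).mp h2
  exact equiv_of_action hG z hzc hz3 ψ hψ hfix

end Cfsg.Agent.Helper3.Ord162
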