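import Mathlib

set_option autoImplicit false

universe u

open scoped commutatorElement

namespace Cfsg.Agent.Helper3.PD

/-- the `r`-torsion of an abelian normal subgroup `M`, as a subgroup -/
private def torsionIn {X : Type u} [Group X] (M : Subgroup X)
    (hab : ∀ a ∈ M, ∀ b ∈ M, a * b = b * a) (r : ℕ) : Subgroup X where
  carrier := {x | x ∈ M ∧ x ^ r = 1}
  one_mem' := ⟨M.one_mem, one_pow r⟩
  mul_mem' := by
    rintro a b ⟨ha, har⟩ ⟨hb, hbr⟩
    refine ⟨M.mul_mem ha hb, ?_⟩
    have hc : Commute a b := hab a ha b hb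
    rw [hc.mul_pow, har, hbr, one_mul]
  inv_mem' := by
    rintro a ⟨ha, har⟩
    exact ⟨M.inv_mem ha, by rw [inv_pow, har, inv_one]⟩

private lemma torsionIn_normal {X : Type u} [Group X] (M : Subgroup X) [M.Normal]
    (hab : ∀ a ∈ M, ∀ b ∈ M, a * b = b * a) (r : ℕ) : (torsionIn M hab r).Normal := by
  constructor
  rintro n ⟨hn, hnr⟩ g
  refine ⟨‹M.Normal›.conj_mem n hn g, ?_⟩
  rw [conj_pow, hnr, mul_one, mul_inv_cancel]

/-- FPFA: `X` solvable, every nontrivial normal subgroup contains `X'`: then `X'` is an abelian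
`r`-group. -/
theorem commutator_isPGroup {X : Type u} [Group X] [Finite X] (hsol : Group.IsSolvable X)
    (hmin : ∀ L : Subgroup X, L.Normal → L ≠ ⊥ → commutator X ≤ L) :
    (∀ a ∈ commutator X, ∀ b ∈ commutator X, a * b = b * a) ∧
      ∃ r : ℕ, r.Prime ∧ IsPGroup r (commutator X) := by
  classical
  set M : Subgroup X := commutator X with hM
  by_cases hMbot : M = ⊥
  · refine ⟨?_, 2, Nat.prime_two, ?_⟩
    · intro a ha b hb
      rw [hMbot, Subgroup.mem_bot] at ha hb
      rw [ha, hb]
    · rw [hMbot]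
      exact IsPGroup.of_bot
  -- `⁅M, M⁆ = ⊥`
  have hMM : ⁅M, M⁆ = ⊥ := by
    by_contra hne
    have hnorm : (⁅M, M⁆ : Subgroup X).Normal := by
      rw [hM]; infer_instance
    have hle : M ≤ ⁅M, M⁆ := hmin _ hnorm hne
    have heq : ⁅M, M⁆ = M := le_antisymm (Subgroup.commutator_le_left M M) hle
    -- derived series is constant `M` from step 1 on
    have hder : ∀ k : ℕ, derivedSeries X (k + 1) = M := by
      intro k
      induction k with
      | zero =>
        rw [derivedSeries_succ, derivedSeries_zero, hM, commutator_def]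
      | succ k ih =>
        rw [derivedSeries_succ, ih, heq]
    obtain ⟨n, hn⟩ := hsol.solvable
    have h1 : derivedSeries X (n + 1) = ⊥ := by
      rw [derivedSeries_succ, hn]
      exact Subgroup.commutator_bot_left ⊥
    rw [hder n] at h1
    exact hMbot h1
  have hab : ∀ a ∈ M, ∀ b ∈ M, a * b = b * a := by
    intro a ha b hb
    have hc : ⁅a, b⁆ ∈ ⁅M, M⁆ := Subgroup.commutator_mem_commutator ha hb
    rw [hMM, Subgroup.mem_bot] at hc
    exact (commutatorElement_eq_one_iff_mul_comm.mp hc)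
  refine ⟨hab, ?_⟩
  -- a prime dividing `|M|`
  have hcard : Nat.card M ≠ 1 := by
    intro h1
    exact hMbot ((Subgroup.card_eq_one).mp h1)
  obtain ⟨r, hr, hrdvd⟩ := Nat.exists_prime_and_dvd hcard
  have : Fact r.Prime := ⟨hr⟩
  obtain ⟨x, hx⟩ := exists_prime_orderOf_dvd_card' r hrdvd
  -- `L` = r-torsion of `M`
  have hLn : (torsionIn M hab r).Normal := torsionIn_normal M hab r
  have hLne : torsionIn M hab r ≠ ⊥ := by
    intro hbot
    have hxL : (x : X) ∈ torsionIn M hab r := by
      refine ⟨x.2, ?_⟩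
      have : x ^ r = 1 := by rw [← hx]; exact pow_orderOf_eq_one x
      have h2 := congrArg (Subtype.val) this
      simpa using h2
    rw [hbot, Subgroup.mem_bot] at hxL
    have hx1 : x = 1 := Subtype.ext hxL
    rw [hx1, orderOf_one] at hx
    exact hr.one_lt.ne hx
  have hML : M ≤ torsionIn M hab r := hmin _ hLn hLne
  refine ⟨r, hr, ?_⟩
  intro g
  refine ⟨1, ?_⟩
  have hg := (hML g.2).2
  rw [pow_one]
  exact Subtype.ext (by simpa using hg)

end Cfsg.Agent.Helper3.PD
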