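import Mathlib
import Cfsg.Prelude.Def_Characters
import Cfsg.Prelude.Def_Blocks
import Cfsg.Agent.Helper5.PDDefs
import Cfsg.Agent.Helper24.Clifford
import Cfsg.Agent.Helper24.Codegree
import Cfsg.Agent.Helper24.Expansion
import Cfsg.Agent.Helper24.Abelian
import Cfsg.Agent.Helper24.Orthogonality
import Cfsg.Agent.Helper8.CharComp

set_option autoImplicit false

/-!
# S4813 piece FPFC: a character of prime degree `ℓ` vanishing off the abelian commutator
subgroup forces `|X : X'| ∈ {ℓ, ℓ²}`.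
-/

namespace Cfsg.Agent.Helper3.PD

open Cfsg Cfsg.Agent.Helper5.PD Cfsg.Agent.Helper24

universe u

/-- Sum over the group of a function vanishing off a subgroup. -/
theorem sum_eq_sum_subgroup_of_vanish {X : Type u} [Group X] [Fintype X] (M : Subgroup X) [Fintype M]
    (F : X → ℂ) (hF : ∀ g : X, g ∉ M → F g = 0) : ∑ g : X, F g = ∑ m : M, F m := by
  classical
  have h1 : ∑ g : X, F g = ∑ g ∈ Finset.univ.filter (fun g : X => g ∈ M), F g := by
    symm
    apply Finset.sum_subset (Finset.filter_subset _ _)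
    intro g _ hg
    apply hF
    intro hgM
    exact hg (Finset.mem_filter.mpr ⟨Finset.mem_univ _, hgM⟩)
  rw [h1]
  exact Finset.sum_subtype _ (fun x => by simp) F

theorem index_commutator_of_vanish {X : Type u} [Group X] [Finite X]
    (hab : ∀ a ∈ commutator X, ∀ b ∈ commutator X, a * b = b * a)
    (χ : IrrCharacter X) (ℓ : ℕ) (hℓ : ℓ.Prime) (hχ : charDegree (χ : X → ℂ) = ℓ)
    (hvan : ∀ g : X, g ∉ commutator X → (χ : X → ℂ) g = 0) :
    (commutator X).index = ℓ ∨ (commutator X).index = ℓ ^ 2 := by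
  classical
  haveI : Fintype X := Fintype.ofFinite X
  set M : Subgroup X := commutator X with hM
  haveI hMn : M.Normal := by rw [hM]; infer_instance
  haveI : Fintype M := Fintype.ofFinite M
  haveI : Fintype (IrrCharacter M) := Fintype.ofFinite _
  have hchar : IsCharacter X (χ : X → ℂ) := IsIrrCharacter.isCharacter χ.2
  have hcf : IsClassFunction X (χ : X → ℂ) := IsCharacter.isClassFunction hchar
  have hres : IsCharacter M (fun n : M => (χ : X → ℂ) n) :=
    Cfsg.Agent.Helper8.isCharacter_restrict M hchar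
  obtain ⟨n, hn⟩ := IsCharacter.exists_nat_coeff hres
  have hcoef : ∀ ψ : IrrCharacter M,
      classInner (fun n : M => (χ : X → ℂ) n) (ψ : M → ℂ) = (n ψ : ℂ) := by
    intro ψ
    rw [hn]
    exact classInner_sum_irr _ ψ
  -- linear characters of M
  have hlin : ∀ ψ : IrrCharacter M, (ψ : M → ℂ) 1 = 1 := by
    rw [← comm_iff_forall_irr_one]
    intro a b
    exact Subtype.ext (hab a a.2 b b.2)
  -- degree
  have hχ1 : (χ : X → ℂ) 1 = (ℓ : ℂ) := by rw [irrDeg_spec, ← charDegree_irr, hχ]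
  have hdeg : ℓ = ∑ ψ : IrrCharacter M, n ψ := by
    have h2 := congrFun hn 1
    simp only [Finset.sum_apply, Pi.smul_apply, smul_eq_mul, hlin, mul_one] at h2
    have h3 : (χ : X → ℂ) ((1 : M) : X) = (ℓ : ℂ) := by
      rw [Subgroup.coe_one]; exact hχ1
    rw [h3] at h2
    exact_mod_cast h2
  -- norm via expansion
  have hnorm1 : classInner (fun n : M => (χ : X → ℂ) n) (fun n : M => (χ : X → ℂ) n) =
      ((∑ ψ : IrrCharacter M, n ψ ^ 2 : ℕ) : ℂ) := by
    conv_lhs => rw [hn]
    rw [classInner_sum_sum]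
    push_cast
    apply Finset.sum_congr rfl
    intro ψ _
    rw [Complex.conj_natCast, sq]
  -- norm via vanishing
  have hnorm2 : classInner (fun n : M => (χ : X → ℂ) n) (fun n : M => (χ : X → ℂ) n) =
      (M.index : ℂ) := by
    have h1 := classInner_irr_self χ
    unfold classInner at h1 ⊢
    rw [sum_eq_sum_subgroup_of_vanish M (fun g => (χ : X → ℂ) g * (starRingEnd ℂ) ((χ : X → ℂ) g))
      (fun g hg => by rw [hvan g hg, zero_mul])] at h1
    have hcard : (Nat.card X : ℂ) = (Nat.card M : ℂ) * (M.index : ℂ) := by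
      rw [← Subgroup.card_mul_index M]; push_cast; ring
    have hM0 : (Nat.card M : ℂ) ≠ 0 := by exact_mod_cast (Nat.card_pos (α := M)).ne'
    have hX0 : (Nat.card X : ℂ) ≠ 0 := by exact_mod_cast (Nat.card_pos (α := X)).ne'
    have hI0 : (M.index : ℂ) ≠ 0 := by
      intro h0; rw [h0, mul_zero] at hcard; exact hX0 hcard
    rw [hcard] at h1
    field_simp at h1 ⊢
    rw [h1]
  have hf : M.index = ∑ ψ : IrrCharacter M, n ψ ^ 2 := by
    have := hnorm2.symm.trans hnorm1
    exact_mod_cast this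
  -- Clifford: the nonzero multiplicities are all equal
  have hℓ0 : ℓ ≠ 0 := hℓ.ne_zero
  obtain ⟨lam, hlam⟩ : ∃ lam : IrrCharacter M, n lam ≠ 0 := by
    by_contra hcon
    push Not at hcon
    apply hℓ0
    rw [hdeg]
    exact Finset.sum_eq_zero (fun ψ _ => hcon ψ)
  have hconst : classInner (fun n : M => (χ : X → ℂ) n) (lam : M → ℂ) ≠ 0 := by
    rw [hcoef]; exact_mod_cast hlam
  have hall : ∀ ψ : IrrCharacter M, n ψ ≠ 0 → n ψ = n lam := by
    intro ψ hψ
    have hex : ∃ g : X, (ψ : M → ℂ) = conjFun M (lam : M → ℂ) g := by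
      by_contra hcon
      push Not at hcon
      have h0 := classInner_restrict_eq_zero_of_not_conj M χ.2 lam.2 hconst ψ.2 hcon
      rw [hcoef] at h0
      exact hψ (by exact_mod_cast h0)
    obtain ⟨g, hg⟩ := hex
    have h1 := classInner_restrict_conjFun M hcf (lam : M → ℂ) g
    rw [← hg, hcoef, hcoef] at h1
    exact_mod_cast h1
  set e := n lam with he
  set T : Finset (IrrCharacter M) := Finset.univ.filter (fun ψ => n ψ ≠ 0) with hT
  have hmemT : ∀ ψ : IrrCharacter M, ψ ∈ T ↔ n ψ ≠ 0 := by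
    intro ψ
    rw [hT, Finset.mem_filter]
    exact ⟨fun h => h.2, fun h => ⟨Finset.mem_univ _, h⟩⟩
  have hnT : ∀ ψ : IrrCharacter M, n ψ = if ψ ∈ T then e else 0 := by
    intro ψ
    by_cases h : n ψ ≠ 0
    · rw [if_pos ((hmemT ψ).mpr h)]
      exact hall ψ h
    · rw [if_neg (fun hmem => h ((hmemT ψ).mp hmem))]
      push Not at h
      exact h
  have hdeg' : ℓ = T.card * e := by
    rw [hdeg]
    rw [Finset.sum_congr rfl (fun ψ _ => hnT ψ)]
    rw [Finset.sum_ite_mem, Finset.univ_inter, Finset.sum_const, smul_eq_mul]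
  have hf' : M.index = T.card * e ^ 2 := by
    rw [hf]
    have : ∀ ψ : IrrCharacter M, n ψ ^ 2 = if ψ ∈ T then e ^ 2 else 0 := by
      intro ψ
      rw [hnT ψ]
      split_ifs
      · rfl
      · simp
    rw [Finset.sum_congr rfl (fun ψ _ => this ψ)]
    rw [Finset.sum_ite_mem, Finset.univ_inter, Finset.sum_const, smul_eq_mul]
  have hedvd : e ∣ ℓ := ⟨T.card, by rw [hdeg']; ring⟩
  rcases (Nat.dvd_prime hℓ).mp hedvd with h1 | h1
  · left
    rw [hf', h1, one_pow, mul_one]
    rw [hdeg', h1, mul_one]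
  · right
    have ht : T.card = 1 := by
      have h2 : T.card * ℓ = 1 * ℓ := by rw [one_mul]; rw [h1] at hdeg'; exact hdeg'.symm
      exact Nat.eq_of_mul_eq_mul_right hℓ.pos h2
    rw [hf', ht, one_mul, h1]

end Cfsg.Agent.Helper3.PD
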