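import Mathlib
import Cfsg.Prelude.Def_Characters
import Cfsg.Prelude.Def_Blocks
import Cfsg.Agent.Helper5.PDDefs
import Cfsg.Agent.Helper3.PDFPFA
import Cfsg.Agent.Helper3.PDFPFC
import Cfsg.Agent.Helper29.TwoDegA
import Cfsg.Agent.Helper29.TwoDegB

set_option autoImplicit false

/-!
# S4813 piece FPF (core): `|X|` has at most two prime divisors, given the vanishing statement FPFB
as a hypothesis.
-/

namespace Cfsg.Agent.Helper3.PD

open Cfsg Cfsg.Agent.Helper5.PD Cfsg.Agent.Helper24

universe u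

theorem card_two_primes_of_vanish {X : Type u} [Group X] [Finite X]
    (hB : (∀ a ∈ commutator X, ∀ b ∈ commutator X, a * b = b * a) →
      (∀ g : X, g ∉ commutator X → ∀ x ∈ commutator X, g * x = x * g → x = 1) →
      ∀ (χ : IrrCharacter X), charDegree (χ : X → ℂ) ≠ 1 → ∀ g : X, g ∉ commutator X →
        (χ : X → ℂ) g = 0)
    (hsol : Group.IsSolvable X) (h : PrimeDeg X)
    (hmin : ∀ L : Subgroup X, L.Normal → L ≠ ⊥ → commutator X ≤ L)
    (hna : ¬ commutator X ≤ (⊥ : Subgroup X)) :
    (Nat.card X).primeFactors.card ≤ 2 := by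
  classical
  haveI : Fintype X := Fintype.ofFinite X
  by_cases hZ : Subgroup.center X = ⊥
  · obtain ⟨hab, r, hr, hrM⟩ := commutator_isPGroup hsol hmin
    have hfpf := Cfsg.Agent.Helper29.TwoDeg.fpf_of_center_eq_bot hmin hab hZ
    obtain ⟨χ, hχ⟩ := Cfsg.Agent.Helper29.TwoDeg.exists_nonlinear hna
    rw [← charDegree_irr] at hχ
    have hℓ := h χ hχ
    set ℓ := charDegree (χ : X → ℂ) with hℓdef
    have hvan := hB hab hfpf χ hχ
    have hidx := index_commutator_of_vanish hab χ ℓ hℓ rfl hvan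
    haveI : Fact r.Prime := ⟨hr⟩
    obtain ⟨a, ha⟩ := (IsPGroup.iff_card (p := r) (G := commutator X)).mp hrM
    have hcard : ∃ b : ℕ, Nat.card X = r ^ a * ℓ ^ b := by
      rcases hidx with h1 | h1
      · exact ⟨1, by rw [← Subgroup.card_mul_index (commutator X), ha, h1, pow_one]⟩
      · exact ⟨2, by rw [← Subgroup.card_mul_index (commutator X), ha, h1]⟩
    obtain ⟨b, hb⟩ := hcard
    have hsub : (Nat.card X).primeFactors ⊆ {r, ℓ} := by
      intro q hq
      have hqp : q.Prime := Nat.prime_of_mem_primeFactors hq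
      have hqd : q ∣ Nat.card X := Nat.dvd_of_mem_primeFactors hq
      rw [hb] at hqd
      rw [Finset.mem_insert, Finset.mem_singleton]
      rcases (Nat.Prime.dvd_mul hqp).mp hqd with h1 | h1
      · left
        exact (Nat.prime_dvd_prime_iff_eq hqp hr).mp (hqp.dvd_of_dvd_pow h1)
      · right
        exact (Nat.prime_dvd_prime_iff_eq hqp hℓ).mp (hqp.dvd_of_dvd_pow h1)
    exact (Finset.card_le_card hsub).trans Finset.card_le_two
  · obtain ⟨p, hp, hpX⟩ := Cfsg.Agent.Helper29.TwoDeg.isPGroup_of_center_ne_bot hmin hna hZ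
    haveI : Fact p.Prime := ⟨hp⟩
    obtain ⟨k, hk⟩ := (IsPGroup.iff_card (p := p) (G := X)).mp hpX
    have hsub : (Nat.card X).primeFactors ⊆ {p} := by
      intro q hq
      have hqp : q.Prime := Nat.prime_of_mem_primeFactors hq
      have hqd : q ∣ Nat.card X := Nat.dvd_of_mem_primeFactors hq
      rw [hk] at hqd
      rw [Finset.mem_singleton]
      exact (Nat.prime_dvd_prime_iff_eq hqp hp).mp (hqp.dvd_of_dvd_pow hqd)
    have := Finset.card_le_card hsub
    rw [Finset.card_singleton] at this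
    omega

end Cfsg.Agent.Helper3.PD
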