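import Mathlib
import Cfsg.Prelude.Def_Characters
import Cfsg.Prelude.Def_Blocks
import Cfsg.Agent.Helper5.PDDefs
import Cfsg.Agent.Helper3.PDFPFcore
import Cfsg.Agent.Helper27.PDFPFB

set_option autoImplicit false

/-!
# S4813 piece FPF: `|X|` has at most two prime divisors.
-/

namespace Cfsg.Agent.Helper3.PD

open Cfsg Cfsg.Agent.Helper5.PD Cfsg.Agent.Helper24

universe u

theorem card_two_primes {X : Type u} [Group X] [Finite X] (hsol : Group.IsSolvable X) (h : PrimeDeg X)
    (hmin : ∀ L : Subgroup X, L.Normal → L ≠ ⊥ → commutator X ≤ L)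
    (hna : ¬ commutator X ≤ (⊥ : Subgroup X)) :
    (Nat.card X).primeFactors.card ≤ 2 :=
  card_two_primes_of_vanish
    (fun hab hfpf χ hχ g hg => Cfsg.Agent.Helper27.PD.vanish_off_commutator hab hfpf χ hχ g hg)
    hsol h hmin hna

end Cfsg.Agent.Helper3.PD
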