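import Mathlib
import Cfsg.Prelude.Def_Characters
import Cfsg.Prelude.Def_Blocks
import Cfsg.Agent.Helper5.PDDefs
import Cfsg.Agent.Helper24.GagolaCentral
import Cfsg.Agent.Helper24.Codegree
import Cfsg.Agent.Helper24.Burnside
import Cfsg.Agent.Helper29.TwoDegB

set_option autoImplicit false

/-!
# S4466 piece RED: reduction of `PrimeDeg ⇒ solvable` to the simple case
-/

namespace Cfsg.Agent.Helper3.PD

open Cfsg Cfsg.Agent.Helper5.PD Cfsg.Agent.Helper24

universe u

/-- `PrimeDeg` passes to quotients (inflation). -/
theorem primeDeg_quot {G : Type u} [Group G] [Finite G] (h : PrimeDeg G) (K : Subgroup G) [K.Normal] :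
    PrimeDeg (G ⧸ K) := by
  classical
  haveI : Fintype G := Fintype.ofFinite G
  intro ψ hψ
  have h2 : charDegree ((irrInflate K ψ : IrrCharacter G) : G → ℂ) =
      charDegree (ψ : G ⧸ K → ℂ) := by
    unfold charDegree
    rfl
  have h1 := h (irrInflate K ψ)
  rw [h2] at h1
  exact h1 hψ

/-- `PrimeDeg` passes to normal subgroups (Clifford: degrees of constituents divide). -/
theorem primeDeg_normal {G : Type u} [Group G] [Finite G] (h : PrimeDeg G) (N : Subgroup G) [N.Normal] :
    PrimeDeg N := by
  classical
  haveI : Fintype G := Fintype.ofFinite G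
  haveI : Fintype N := Fintype.ofFinite N
  intro θ hθ
  obtain ⟨χ, hχ⟩ := Cfsg.Agent.Helper29.TwoDeg.exists_irr_over N θ
  obtain ⟨e, he, _⟩ := Cfsg.Agent.Helper29.TwoDeg.irrDeg_dvd_of_over N χ θ hχ
  rw [charDegree_irr] at hθ ⊢
  have hχ1 : irrDeg χ ≠ 1 := by
    intro h1
    rw [h1] at he
    have : irrDeg θ = 1 := Nat.eq_one_of_mul_eq_one_left he.symm
    exact hθ this
  have hp : (irrDeg χ).Prime := by
    have := h χ
    rw [charDegree_irr] at this
    exact this hχ1
  have hdvd : irrDeg θ ∣ irrDeg χ := ⟨e, by rw [he]; ring⟩
  rcases (Nat.dvd_prime hp).mp hdvd with h1 | h1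
  · exact absurd h1 hθ
  · rw [h1]; exact hp

/-- Reduction to the simple case. -/
theorem solvable_of_simple_case
    (hsimple : ∀ (S : Type u) [Group S] [Finite S], IsSimpleGroup S → (¬ ∀ a b : S, a * b = b * a) → PrimeDeg S → False)
    {G : Type u} [Group G] [Finite G] (h : PrimeDeg G) : Group.IsSolvable G := by
  classical
  suffices H : ∀ n : ℕ, ∀ (G : Type u) [Group G] [Finite G], Nat.card G = n → PrimeDeg G →
      Group.IsSolvable G from H _ G rfl h
  intro n
  induction n using Nat.strong_induction_on with
  | _ n ih =>
    intro G _ _ hcard h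
    by_cases hsub : Subsingleton G
    · exact Group.isSolvable_of_comm (fun a b => Subsingleton.elim _ _)
    · haveI : Nontrivial G := not_subsingleton_iff_nontrivial.mp hsub
      by_cases hs : IsSimpleGroup G
      · by_cases hab : ∀ a b : G, a * b = b * a
        · exact Group.isSolvable_of_comm hab
        · exact (hsimple G hs hab h).elim
      · obtain ⟨N, hN, hNbot, hNtop⟩ := exists_normal_of_not_simple hs
        haveI := hN
        have hmul : Nat.card N * N.index = n := by rw [← hcard]; exact Subgroup.card_mul_index N
        have hn0 : 0 < n := by rw [← hcard]; exact Nat.card_pos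
        have hN1 : 1 < Nat.card N := by
          rw [Subgroup.one_lt_card_iff_ne_bot]; exact hNbot
        have hN2 : 1 < N.index := by
          have h0 : N.index ≠ 0 := Subgroup.index_ne_zero_of_finite
          have h1 : N.index ≠ 1 := fun h => hNtop (Subgroup.index_eq_one.mp h)
          omega
        have hlt1 : Nat.card N < n := by
          rw [← hmul]
          have : 0 < Nat.card N := Nat.card_pos
          nlinarith
        have hlt2 : N.index < n := by
          rw [← hmul]
          have : 0 < N.index := by omega
          nlinarith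
        haveI : Group.IsSolvable N := ih _ hlt1 N rfl (primeDeg_normal h N)
        haveI : Group.IsSolvable (G ⧸ N) := ih _ hlt2 (G ⧸ N) (Subgroup.index_eq_card N).symm
          (primeDeg_quot h N)
        refine Group.isSolvable_of_ker_le_range N.subtype (QuotientGroup.mk' N) ?_
        rw [QuotientGroup.ker_mk', Subgroup.range_subtype]

end Cfsg.Agent.Helper3.PD
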