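import Mathlib

/-!
# Power graphs, part A: abstract graph invariants and their transport

For a reflexive symmetric relation `R` on a type we define closed twins, dominating vertices of
a closed neighbourhood, class sizes, the co-adjacency step inside a neighbourhood, and a numerical
invariant `Psi R x n`.  All of it is transported along a bijection preserving `R`.
-/

namespace Cfsg.Agent.Helper3.PowerGraph

section Abstract

variable {V : Type*} (R : V → V → Prop)

/-- closed twins -/
def Twin (x y : V) : Prop := ∀ z, R x z ↔ R y z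

/-- `z` is adjacent to every vertex adjacent to `x` -/
def Dom (x z : V) : Prop := ∀ y, R x y → R z y

/-- co-adjacency step inside the neighbourhood of `x` -/
def Step (x a b : V) : Prop := R x b ∧ ¬ R a b

/-- size of the twin class -/
noncomputable def csize (x : V) : ℕ := Nat.card {y // Twin R x y}

/-- the numerical invariant -/
def Psi (x : V) (n : ℕ) : Prop :=
  ∃ w, R x w ∧ ¬ Dom R x w ∧ csize R w < csize R x ∧
    n = 1 + csize R x + Nat.card {z // Relation.ReflTransGen (Step R x) w z}

theorem Twin.refl (x : V) : Twin R x x := fun _ => Iff.rfl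

theorem Twin.symm {x y : V} (h : Twin R x y) : Twin R y x := fun z => (h z).symm

theorem Twin.trans {x y z : V} (h : Twin R x y) (h' : Twin R y z) : Twin R x z :=
  fun w => (h w).trans (h' w)

theorem csize_eq_of_twin {x y : V} (h : Twin R x y) : csize R x = csize R y := by
  unfold csize
  refine Nat.card_congr (Equiv.subtypeEquivRight ?_)
  intro z
  exact ⟨fun hz => (Twin.symm R h).trans R hz, fun hz => h.trans R hz⟩

theorem csize_pos [Finite V] (x : V) : 0 < csize R x := by
  unfold csize
  have : Nonempty {y // Twin R x y} := ⟨⟨x, Twin.refl R x⟩⟩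
  exact Nat.card_pos

variable {V' : Type*} (R' : V' → V' → Prop) (e : V ≃ V')

theorem twin_map (he : ∀ a b, R a b ↔ R' (e a) (e b)) (x y : V) :
    Twin R x y ↔ Twin R' (e x) (e y) := by
  constructor
  · intro h z'
    obtain ⟨z, rfl⟩ := e.surjective z'
    rw [← he, ← he]
    exact h z
  · intro h z
    rw [he, he]
    exact h (e z)

theorem csize_map (he : ∀ a b, R a b ↔ R' (e a) (e b)) (x : V) :
    csize R x = csize R' (e x) := by
  unfold csize
  exact Nat.card_congr (e.subtypeEquiv (fun y => twin_map R R' e he x y))

theorem dom_map (he : ∀ a b, R a b ↔ R' (e a) (e b)) (x z : V) :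
    Dom R x z ↔ Dom R' (e x) (e z) := by
  constructor
  · intro h y' hy'
    obtain ⟨y, rfl⟩ := e.surjective y'
    rw [← he] at hy' ⊢
    exact h y hy'
  · intro h y hy
    rw [he] at hy ⊢
    exact h (e y) hy

theorem rtg_map_imp (he : ∀ a b, R a b ↔ R' (e a) (e b)) (x w z : V)
    (h : Relation.ReflTransGen (Step R x) w z) :
    Relation.ReflTransGen (Step R' (e x)) (e w) (e z) := by
  refine Relation.ReflTransGen.lift (r := Step R x) (p := Step R' (e x)) e ?_ w z h
  intro a b hab
  exact ⟨(he x b).1 hab.1, fun hc => hab.2 ((he a b).2 hc)⟩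

theorem rtg_map (he : ∀ a b, R a b ↔ R' (e a) (e b)) (x w z : V) :
    Relation.ReflTransGen (Step R x) w z ↔
      Relation.ReflTransGen (Step R' (e x)) (e w) (e z) := by
  constructor
  · exact rtg_map_imp R R' e he x w z
  · intro h
    have he' : ∀ a b, R' a b ↔ R (e.symm a) (e.symm b) := by
      intro a b
      rw [he]
      simp
    have := rtg_map_imp R' R e.symm he' (e x) (e w) (e z) h
    simpa using this

theorem Psi_map (he : ∀ a b, R a b ↔ R' (e a) (e b)) (x : V) (n : ℕ) (h : Psi R x n) :
    Psi R' (e x) n := by
  obtain ⟨w, h1, h2, h3, h4⟩ := h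
  refine ⟨e w, (he x w).1 h1, fun hc => h2 ((dom_map R R' e he x w).2 hc), ?_, ?_⟩
  · rw [← csize_map R R' e he, ← csize_map R R' e he]
    exact h3
  · rw [h4, ← csize_map R R' e he]
    congr 1
    exact Nat.card_congr (e.subtypeEquiv (fun z => rtg_map R R' e he x w z))

end Abstract

end Cfsg.Agent.Helper3.PowerGraph
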