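import Mathlib
import Cfsg.Agent.Helper3.PowerGraphA

namespace Cfsg.Agent.Helper3.PowerGraph

open Subgroup

variable {G : Type*} [Group G]

/-- adjacency in the power graph -/
def adj (x y : G) : Prop := x ∈ zpowers y ∨ y ∈ zpowers x

/-- `1` or a prime power -/
def IsPP (n : ℕ) : Prop := ∃ p k : ℕ, p.Prime ∧ n = p ^ k

theorem adj_refl (x : G) : adj x x := Or.inl (mem_zpowers x)

theorem adj_symm {x y : G} (h : adj x y) : adj y x := Or.symm h

theorem adj_one (y : G) : adj 1 y := Or.inl (one_mem _)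

theorem mem_zpowers_trans {a b c : G} (h1 : a ∈ zpowers b) (h2 : b ∈ zpowers c) :
    a ∈ zpowers c :=
  (zpowers_le.2 h2) h1

theorem mem_zpowers_of_orderOf_dvd [Finite G] {x a b : G} (ha : a ∈ zpowers x)
    (hb : b ∈ zpowers x) (h : orderOf a ∣ orderOf b) : a ∈ zpowers b := by
  classical
  have : Fintype (zpowers x) := Fintype.ofFinite _
  let a' : zpowers x := ⟨a, ha⟩
  let b' : zpowers x := ⟨b, hb⟩
  have hoa : orderOf a' = orderOf a := Subgroup.orderOf_mk a ha
  have hob : orderOf b' = orderOf b := Subgroup.orderOf_mk b hb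
  have hd : 0 < orderOf b' := orderOf_pos b'
  have hle := IsCyclic.card_pow_eq_one_le (α := zpowers x) hd
  have hsub : (Finset.univ.filter (fun g : zpowers x => g ∈ zpowers b')) ⊆
      Finset.univ.filter (fun g : zpowers x => g ^ orderOf b' = 1) := by
    intro g hg
    simp only [Finset.mem_filter, Finset.mem_univ, true_and] at hg ⊢
    obtain ⟨k, rfl⟩ := hg
    rw [← zpow_natCast, ← zpow_mul, mul_comm, zpow_mul, zpow_natCast, pow_orderOf_eq_one, one_zpow]
  have hcardT : (Finset.univ.filter (fun g : zpowers x => g ∈ zpowers b')).card = orderOf b' := by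
    rw [← Fintype.card_subtype, ← Nat.card_eq_fintype_card]
    exact Nat.card_zpowers b'
  have heq := Finset.eq_of_subset_of_card_le hsub (by rw [hcardT]; exact hle)
  have h1 : a' ∈ Finset.univ.filter (fun g : zpowers x => g ^ orderOf b' = 1) := by
    simp only [Finset.mem_filter, Finset.mem_univ, true_and]
    rw [← orderOf_dvd_iff_pow_eq_one, hoa, hob]
    exact h
  rw [← heq] at h1
  simp only [Finset.mem_filter, Finset.mem_univ, true_and] at h1
  obtain ⟨k, hk⟩ := h1
  refine ⟨k, ?_⟩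
  have := congrArg Subtype.val hk
  simpa using this

theorem mem_zpowers_iff_orderOf_dvd [Finite G] {x a b : G} (ha : a ∈ zpowers x)
    (hb : b ∈ zpowers x) : a ∈ zpowers b ↔ orderOf a ∣ orderOf b :=
  ⟨orderOf_dvd_of_mem_zpowers, mem_zpowers_of_orderOf_dvd ha hb⟩


theorem zpowers_eq_iff {x y : G} : zpowers y = zpowers x ↔ y ∈ zpowers x ∧ x ∈ zpowers y := by
  constructor
  · intro h
    exact ⟨h ▸ mem_zpowers y, h ▸ mem_zpowers x⟩
  · rintro ⟨h1, h2⟩
    exact le_antisymm (zpowers_le.2 h1) (zpowers_le.2 h2)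

theorem zpowers_eq_of_mem_of_orderOf_eq [Finite G] {x y : G} (h : y ∈ zpowers x)
    (ho : orderOf y = orderOf x) : zpowers y = zpowers x := by
  refine zpowers_eq_iff.2 ⟨h, ?_⟩
  exact mem_zpowers_of_orderOf_dvd (mem_zpowers x) h (by rw [ho])

theorem card_generators [Finite G] (x : G) :
    Nat.card {y : G // zpowers y = zpowers x} = Nat.totient (orderOf x) := by
  classical
  have : Fintype (zpowers x) := Fintype.ofFinite _
  have h1 : Nat.card {y : G // zpowers y = zpowers x} =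
      Nat.card {a : zpowers x // orderOf a = orderOf x} := by
    refine Nat.card_congr ?_
    refine
      { toFun := fun y => ⟨⟨y.1, (zpowers_eq_iff.1 y.2).1⟩, ?_⟩
        invFun := fun a => ⟨a.1.1, ?_⟩
        left_inv := fun y => rfl
        right_inv := fun a => rfl }
    · rw [Subgroup.orderOf_mk, ← Nat.card_zpowers, ← Nat.card_zpowers x, y.2]
    · apply zpowers_eq_of_mem_of_orderOf_eq a.1.2
      have := a.2
      rw [← Subgroup.orderOf_coe] at this
      exact this
  rw [h1, Nat.card_eq_fintype_card, Fintype.card_subtype]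
  apply IsCyclic.card_orderOf_eq_totient
  rw [← Nat.card_eq_fintype_card, Nat.card_zpowers]

theorem exists_mem_zpowers_orderOf_eq [Finite G] (x : G) {e : ℕ} (he : e ∣ orderOf x) :
    ∃ z ∈ zpowers x, orderOf z = e := by
  have hn : 0 < orderOf x := orderOf_pos x
  obtain ⟨k, hk⟩ := he
  have hk0 : k ≠ 0 := by
    rintro rfl
    rw [mul_zero] at hk
    omega
  refine ⟨x ^ k, npow_mem_zpowers x k, ?_⟩
  rw [orderOf_pow_of_dvd hk0 ⟨e, by rw [hk, mul_comm]⟩, hk]
  exact Nat.mul_div_cancel _ (Nat.pos_of_ne_zero hk0)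

theorem adj_iff_of_mem [Finite G] {x a b : G} (ha : a ∈ zpowers x) (hb : b ∈ zpowers x) :
    adj a b ↔ orderOf a ∣ orderOf b ∨ orderOf b ∣ orderOf a := by
  unfold adj
  rw [mem_zpowers_iff_orderOf_dvd ha hb, mem_zpowers_iff_orderOf_dvd hb ha]

theorem adj_of_mem_of_isPP [Finite G] {x a b : G} (hx : IsPP (orderOf x)) (ha : a ∈ zpowers x)
    (hb : b ∈ zpowers x) : adj a b := by
  obtain ⟨p, k, hp, hk⟩ := hx
  rw [adj_iff_of_mem ha hb]
  have h1 := orderOf_dvd_of_mem_zpowers ha
  have h2 := orderOf_dvd_of_mem_zpowers hb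
  rw [hk] at h1 h2
  obtain ⟨i, -, hi⟩ := (Nat.dvd_prime_pow hp).1 h1
  obtain ⟨j, -, hj⟩ := (Nat.dvd_prime_pow hp).1 h2
  rw [hi, hj]
  rcases le_total i j with h | h
  · exact Or.inl (pow_dvd_pow p h)
  · exact Or.inr (pow_dvd_pow p h)

theorem isPP_of_dvd {d n : ℕ} (h : d ∣ n) (hn : IsPP n) : IsPP d := by
  obtain ⟨p, k, hp, rfl⟩ := hn
  obtain ⟨i, -, hi⟩ := (Nat.dvd_prime_pow hp).1 h
  exact ⟨p, i, hp, hi⟩

theorem exists_prime_ne_dvd {n : ℕ} (hn : n ≠ 0) (hnpp : ¬ IsPP n) (p : ℕ) (hp : p.Prime) :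
    ∃ l : ℕ, l.Prime ∧ l ≠ p ∧ l ∣ n := by
  by_contra hcon
  push Not at hcon
  apply hnpp
  refine ⟨p, n.primeFactorsList.length, hp, ?_⟩
  apply Nat.eq_prime_pow_of_unique_prime_dvd hn
  intro q hq hqn
  by_contra hne
  exact hcon q hq hne hqn


theorem nt2 {d n : ℕ} (hn : n ≠ 0) (hd1 : d ≠ 1) (hdn : d ∣ n) (hne : d ≠ n) (hnpp : ¬ IsPP n) :
    ∃ r : ℕ, r.Prime ∧ r ∣ n ∧ ¬ d ∣ r ^ (n.factorization r) ∧ ¬ r ^ (n.factorization r) ∣ d := by
  have hd0 : d ≠ 0 := ne_zero_of_dvd_ne_zero hn hdn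
  have h1 : ∃ r : ℕ, d.factorization r < n.factorization r := by
    by_contra hcon
    push Not at hcon
    have : n.factorization ≤ d.factorization := fun r => hcon r
    have hnd := (Nat.factorization_le_iff_dvd hn hd0).1 this
    exact hne (Nat.dvd_antisymm hdn hnd)
  obtain ⟨r, hr⟩ := h1
  have hrp : r.Prime := by
    by_contra hnp
    rw [Nat.factorization_eq_zero_of_not_prime n hnp] at hr
    omega
  have hrn : r ∣ n := by
    apply Nat.dvd_of_factorization_pos
    omega
  have hnot : ¬ r ^ (n.factorization r) ∣ d := by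
    rw [hrp.pow_dvd_iff_le_factorization hd0]
    omega
  by_cases hde : d ∣ r ^ (n.factorization r)
  · obtain ⟨j, -, hj⟩ := (Nat.dvd_prime_pow hrp).1 hde
    have hj0 : j ≠ 0 := by
      rintro rfl
      exact hd1 (by simpa using hj)
    have hrd : r ∣ d := by
      rw [hj]
      exact dvd_pow_self r hj0
    obtain ⟨l, hl, hlr, hln⟩ := exists_prime_ne_dvd hn hnpp r hrp
    refine ⟨l, hl, hln, ?_, ?_⟩
    · intro hc
      have := hrp.dvd_of_dvd_pow (hrd.trans hc)
      exact hlr ((Nat.prime_dvd_prime_iff_eq hrp hl).1 this).symm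
    · intro hc
      have hpos : 0 < n.factorization l := hl.factorization_pos_of_dvd hn hln
      have h2 : l ∣ r ^ j := by
        rw [← hj]
        exact (dvd_pow_self l (by omega)).trans hc
      have := hl.dvd_of_dvd_pow h2
      exact hlr ((Nat.prime_dvd_prime_iff_eq hl hrp).1 this)
  · exact ⟨r, hrp, hrn, hde, hnot⟩

end Cfsg.Agent.Helper3.PowerGraph
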