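import Mathlib
import Cfsg.Agent.Helper3.PowerGraphB

/-!
# Power graphs, part C: closed twins in a finite group whose only dominating vertex is `1`
-/

namespace Cfsg.Agent.Helper3.PowerGraph

open Subgroup

variable {G : Type*} [Group G]

/-- the identity is the only vertex adjacent to all others -/
def OnlyOne (G : Type*) [Group G] : Prop := ∀ g : G, (∀ y : G, adj g y) → g = 1

theorem twin_of_zpowers_eq {x t : G} (h : zpowers t = zpowers x) : Twin adj x t := by
  intro z
  unfold adj
  rw [← zpowers_le, ← zpowers_le (g := t), h]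

variable [Finite G]

theorem isPP_of_twin_lt (hS : OnlyOne G) {x y : G} (ht : Twin adj x y) (hxy : x ∈ zpowers y)
    (hyx : y ∉ zpowers x) : IsPP (orderOf y) := by
  by_contra hnpp
  have hn : orderOf y ≠ 0 := (orderOf_pos y).ne'
  have hdn : orderOf x ∣ orderOf y := orderOf_dvd_of_mem_zpowers hxy
  have hd1 : orderOf x ≠ 1 := by
    intro h1
    rw [orderOf_eq_one_iff] at h1
    subst h1
    have : y = 1 := hS y (fun z => (ht z).1 (adj_one z))
    exact hyx (by rw [this]; exact one_mem _)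
  have hne : orderOf x ≠ orderOf y := by
    intro h
    have := zpowers_eq_of_mem_of_orderOf_eq hxy h
    exact hyx (by rw [this]; exact mem_zpowers y)
  obtain ⟨r, hr, hrn, h1, h2⟩ := nt2 hn hd1 hdn hne hnpp
  obtain ⟨z, hz, hoz⟩ := exists_mem_zpowers_orderOf_eq y (Nat.ordProj_dvd (orderOf y) r)
  have hadj : adj x z := (ht z).2 (Or.inr hz)
  rw [adj_iff_of_mem hxy hz, hoz] at hadj
  rcases hadj with h | h
  · exact h1 h
  · exact h2 h

theorem exists_sep (w lo hi : G) (hlo : lo ∈ zpowers w) (hhi : hi ∈ zpowers w)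
    (h1 : lo ∈ zpowers hi) (h2 : hi ∉ zpowers lo) (hpp : IsPP (orderOf hi))
    (hw : ¬ IsPP (orderOf w)) : ∃ s, adj lo s ∧ ¬ adj hi s := by
  obtain ⟨p, b, hp, hb⟩ := hpp
  have hdv : orderOf lo ∣ p ^ b := hb ▸ orderOf_dvd_of_mem_zpowers h1
  obtain ⟨a, hab, ha⟩ := (Nat.dvd_prime_pow hp).1 hdv
  have hab' : a < b := by
    rcases Nat.lt_or_ge a b with h | h
    · exact h
    · exfalso
      have : a = b := le_antisymm hab h
      apply h2
      apply mem_zpowers_of_orderOf_dvd hhi hlo
      rw [ha, hb, this]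
  have hw0 : orderOf w ≠ 0 := (orderOf_pos w).ne'
  obtain ⟨l, hl, hlp, hlw⟩ := exists_prime_ne_dvd hw0 hw p hp
  have hpbw : p ^ b ∣ orderOf w := hb ▸ orderOf_dvd_of_mem_zpowers hhi
  have hpaw : p ^ a ∣ orderOf w := (pow_dvd_pow p hab).trans hpbw
  have hcop : Nat.Coprime (p ^ a) l :=
    Nat.Coprime.pow_left a ((Nat.coprime_primes hp hl).2 (Ne.symm hlp))
  have hdvd : p ^ a * l ∣ orderOf w := Nat.Coprime.mul_dvd_of_dvd_of_dvd hcop hpaw hlw
  obtain ⟨s, hs, hos⟩ := exists_mem_zpowers_orderOf_eq w hdvd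
  refine ⟨s, ?_, ?_⟩
  · rw [adj_iff_of_mem hlo hs, ha, hos]
    exact Or.inl (dvd_mul_right _ _)
  · rw [adj_iff_of_mem hhi hs, hb, hos]
    rintro (h | h)
    · have h3 : p ^ a * p ∣ p ^ a * l := by
        rw [← pow_succ]
        exact (pow_dvd_pow p hab').trans h
      have h4 : p ∣ l := Nat.dvd_of_mul_dvd_mul_left (pow_pos hp.pos a) h3
      exact hlp ((Nat.prime_dvd_prime_iff_eq hp hl).1 h4).symm
    · have h3 : l ∣ p ^ b := (dvd_mul_left l (p ^ a)).trans h
      have h4 := hl.dvd_of_dvd_pow h3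
      exact hlp ((Nat.prime_dvd_prime_iff_eq hl hp).1 h4)

theorem zpowers_eq_of_twin_of_le (hS : OnlyOne G) {w x t : G} (hw : ¬ IsPP (orderOf w))
    (hx : x ∈ zpowers w) (ht : Twin adj x t) : zpowers t = zpowers x := by
  by_contra hne
  have hadj : adj x t := (ht t).2 (adj_refl t)
  have hadjw : adj t w := (ht w).1 (Or.inl hx)
  rcases hadj with hxt | htx
  · have htx' : t ∉ zpowers x := fun h => hne (zpowers_eq_iff.2 ⟨h, hxt⟩)
    have hpp := isPP_of_twin_lt hS ht hxt htx'
    have htw : t ∈ zpowers w := by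
      rcases hadjw with h | h
      · exact h
      · exfalso
        exact hw (isPP_of_dvd (orderOf_dvd_of_mem_zpowers h) hpp)
    obtain ⟨s, hs1, hs2⟩ := exists_sep w x t hx htw hxt htx' hpp hw
    exact hs2 ((ht s).1 hs1)
  · have hxt' : x ∉ zpowers t := fun h => hne (zpowers_eq_iff.2 ⟨htx, h⟩)
    have hpp := isPP_of_twin_lt hS (Twin.symm _ ht) htx hxt'
    have htw : t ∈ zpowers w := mem_zpowers_trans htx hx
    obtain ⟨s, hs1, hs2⟩ := exists_sep w t x htw hx htx hxt' hpp hw
    exact hs2 ((ht s).2 hs1)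

theorem twin_iff_of_le (hS : OnlyOne G) {w x : G} (hw : ¬ IsPP (orderOf w))
    (hx : x ∈ zpowers w) (t : G) : Twin adj x t ↔ zpowers t = zpowers x :=
  ⟨zpowers_eq_of_twin_of_le hS hw hx, twin_of_zpowers_eq⟩

theorem csize_eq_totient (hS : OnlyOne G) {w x : G} (hw : ¬ IsPP (orderOf w))
    (hx : x ∈ zpowers w) : csize adj x = Nat.totient (orderOf x) := by
  unfold csize
  rw [← card_generators x]
  exact Nat.card_congr (Equiv.subtypeEquivRight (fun t => twin_iff_of_le hS hw hx t))

theorem totient_le_csize (w : G) : Nat.totient (orderOf w) ≤ csize adj w := by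
  unfold csize
  rw [← card_generators w]
  exact Nat.card_le_card_of_injective
    (Subtype.map id (fun y (h : zpowers y = zpowers w) => twin_of_zpowers_eq h))
    (Subtype.map_injective _ Function.injective_id)

theorem twin_sandwich (hS : OnlyOne G) {x z y : G} (ht : Twin adj x y) (hxz : x ∈ zpowers z)
    (hzy : z ∈ zpowers y) : Twin adj x z := by
  by_cases hyx : y ∈ zpowers x
  · exact twin_of_zpowers_eq (zpowers_eq_iff.2 ⟨mem_zpowers_trans hzy hyx, hxz⟩)
  · have hpp := isPP_of_twin_lt hS ht (mem_zpowers_trans hxz hzy) hyx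
    intro w
    constructor
    · intro hxw
      have hyw := (ht w).1 hxw
      rcases hxw with h | h
      · rcases hyw with h' | h'
        · exact Or.inl (mem_zpowers_trans hzy h')
        · exact adj_of_mem_of_isPP hpp hzy h'
      · exact Or.inr (mem_zpowers_trans h hxz)
    · intro hzw
      rcases hzw with h | h
      · exact Or.inl (mem_zpowers_trans hxz h)
      · exact (ht w).2 (Or.inr (mem_zpowers_trans h hzy))

theorem dom_of_isPP {x z : G} (hx : IsPP (orderOf x)) (hz : z ∈ zpowers x) : Dom adj x z := by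
  intro y hxy
  rcases hxy with h | h
  · exact Or.inl (mem_zpowers_trans hz h)
  · exact adj_of_mem_of_isPP hx hz h

end Cfsg.Agent.Helper3.PowerGraph
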