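import Mathlib
import Cfsg.Agent.Helper3.PowerGraphC

/-!
# Power graphs, part D: class size comparison, co-connectivity, and the order formula
-/

namespace Cfsg.Agent.Helper3.PowerGraph

open Subgroup

variable {G : Type*} [Group G] [Finite G]

theorem card_nongenerators (w : G) :
    Nat.card {t : G // t ∈ zpowers w ∧ w ∉ zpowers t} + Nat.totient (orderOf w) = orderOf w := by
  have h := Set.ncard_inter_add_ncard_sdiff_eq_ncard (zpowers w : Set G) {t : G | w ∈ zpowers t}
    (Set.toFinite _)
  have h1 : ((zpowers w : Set G) ∩ {t : G | w ∈ zpowers t}).ncard = Nat.totient (orderOf w) := by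
    rw [← card_generators w, ← _root_.Nat.card_coe_set_eq]
    refine Nat.card_congr (Equiv.subtypeEquivRight ?_)
    intro t
    simp only [Set.mem_inter_iff, SetLike.mem_coe, Set.mem_ofPred_eq]
    exact zpowers_eq_iff.symm
  have h2 : ((zpowers w : Set G) \ {t : G | w ∈ zpowers t}).ncard =
      Nat.card {t : G // t ∈ zpowers w ∧ w ∉ zpowers t} := by
    rw [← _root_.Nat.card_coe_set_eq]
    rfl
  have h3 : (zpowers w : Set G).ncard = orderOf w := by
    rw [← _root_.Nat.card_coe_set_eq]
    exact Nat.card_zpowers w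
  omega

theorem csize_le_of_le (hS : OnlyOne G) {x w : G} (hxw : x ∈ zpowers w)
    (hnt : ¬ Twin adj x w) : csize adj x ≤ csize adj w := by
  by_cases hw : IsPP (orderOf w)
  · obtain ⟨p, j, hp, hj⟩ := hw
    have hj0 : j ≠ 0 := by
      rintro rfl
      rw [pow_zero, orderOf_eq_one_iff] at hj
      subst hj
      have : x = 1 := by simpa using hxw
      subst this
      exact hnt (Twin.refl _ _)
    have hsub : ∀ t, Twin adj x t → t ∈ zpowers w ∧ w ∉ zpowers t := by
      intro t ht
      have hadj : adj t w := (ht w).1 (Or.inl hxw)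
      by_cases htw : t ∈ zpowers w
      · refine ⟨htw, fun hwt => hnt ?_⟩
        exact ht.trans _ (twin_of_zpowers_eq (zpowers_eq_iff.2 ⟨hwt, htw⟩))
      · exfalso
        have hwt : w ∈ zpowers t := by
          rcases hadj with h | h
          · exact absurd h htw
          · exact h
        exact hnt (twin_sandwich hS ht hxw hwt)
    have h1 : csize adj x ≤ Nat.card {t : G // t ∈ zpowers w ∧ w ∉ zpowers t} :=
      Nat.card_le_card_of_injective (Subtype.map id hsub)
        (Subtype.map_injective _ Function.injective_id)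
    have h2 := card_nongenerators w
    have h3 : Nat.totient (p ^ j) = p ^ (j - 1) * (p - 1) :=
      Nat.totient_prime_pow hp (Nat.pos_of_ne_zero hj0)
    have h4 := totient_le_csize w
    rw [hj] at h2 h4
    rw [h3] at h2 h4
    have h5 : p ^ j = p ^ (j - 1) * p := by
      rw [← pow_succ]
      congr 1
      omega
    rw [h5] at h2
    obtain ⟨k, rfl⟩ : ∃ k, p = k + 2 := ⟨p - 2, by have := hp.two_le; omega⟩
    have h6 : 0 < (k + 2) ^ (j - 1) := pow_pos (by omega) _
    have h7 : k + 2 - 1 = k + 1 := by omega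
    rw [h7] at h2 h4
    nlinarith
  · rw [csize_eq_totient hS hw hxw, csize_eq_totient hS hw (mem_zpowers w)]
    exact Nat.le_of_dvd (Nat.totient_pos.2 (orderOf_pos w))
      (Nat.totient_dvd_of_dvd (orderOf_dvd_of_mem_zpowers hxw))

/-- proper nontrivial part of the cyclic group generated by `x` -/
def DStar (x : G) : Set G := {z | z ∈ zpowers x ∧ z ≠ 1 ∧ x ∉ zpowers z}

omit [Finite G] in
theorem rtg_subset {x w z : G} (hw : w ∈ DStar x)
    (h : Relation.ReflTransGen (Step adj x) w z) : z ∈ DStar x := by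
  induction h with
  | refl => exact hw
  | tail _ hstep ih =>
    obtain ⟨hxc, hbc⟩ := hstep
    rcases hxc with h | h
    · exact absurd (Or.inl (mem_zpowers_trans ih.1 h)) hbc
    · refine ⟨h, ?_, ?_⟩
      · rintro rfl
        exact hbc (adj_symm (adj_one _))
      · intro hx
        exact hbc (Or.inl (mem_zpowers_trans ih.1 hx))

/-- a generator of the Sylow `r`-subgroup of `zpowers x` -/
noncomputable def syl (x : G) (r : ℕ) : G := x ^ (orderOf x / r ^ ((orderOf x).factorization r))

omit [Finite G] in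
theorem syl_mem (x : G) (r : ℕ) : syl x r ∈ zpowers x := npow_mem_zpowers x _

theorem orderOf_syl (x : G) (r : ℕ) :
    orderOf (syl x r) = r ^ ((orderOf x).factorization r) := by
  have hn : 0 < orderOf x := orderOf_pos x
  have hdvd : r ^ ((orderOf x).factorization r) ∣ orderOf x := Nat.ordProj_dvd _ _
  unfold syl
  rw [orderOf_pow_of_dvd]
  · exact Nat.div_div_self hdvd hn.ne'
  · intro h0
    have := Nat.div_mul_cancel hdvd
    rw [h0, zero_mul] at this
    omega
  · exact Nat.div_dvd_of_dvd hdvd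

theorem syl_mem_DStar {x : G} (hx : ¬ IsPP (orderOf x)) {r : ℕ} (hr : r.Prime)
    (hrn : r ∣ orderOf x) : syl x r ∈ DStar x := by
  have hn : orderOf x ≠ 0 := (orderOf_pos x).ne'
  have hpos : 0 < (orderOf x).factorization r := hr.factorization_pos_of_dvd hn hrn
  refine ⟨syl_mem x r, ?_, ?_⟩
  · intro h1
    have h2 := orderOf_syl x r
    rw [h1, orderOf_one] at h2
    have : 1 < r ^ ((orderOf x).factorization r) := Nat.one_lt_pow hpos.ne' hr.one_lt
    omega
  · intro h1
    have h2 := orderOf_dvd_of_mem_zpowers h1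
    rw [orderOf_syl] at h2
    exact hx (isPP_of_dvd h2 ⟨r, _, hr, rfl⟩)

theorem not_adj_syl_syl {x : G} {r r' : ℕ} (hr : r.Prime) (hr' : r'.Prime)
    (hrn : r ∣ orderOf x) (hrn' : r' ∣ orderOf x) (hne : r ≠ r') :
    ¬ adj (syl x r) (syl x r') := by
  have hn : orderOf x ≠ 0 := (orderOf_pos x).ne'
  have hpos : 0 < (orderOf x).factorization r := hr.factorization_pos_of_dvd hn hrn
  have hpos' : 0 < (orderOf x).factorization r' := hr'.factorization_pos_of_dvd hn hrn'
  rw [adj_iff_of_mem (syl_mem x r) (syl_mem x r'), orderOf_syl, orderOf_syl]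
  rintro (h | h)
  · have h1 : r ∣ r' ^ (orderOf x).factorization r' := (dvd_pow_self r hpos.ne').trans h
    exact hne ((Nat.prime_dvd_prime_iff_eq hr hr').1 (hr.dvd_of_dvd_pow h1))
  · have h1 : r' ∣ r ^ (orderOf x).factorization r := (dvd_pow_self r' hpos'.ne').trans h
    exact hne ((Nat.prime_dvd_prime_iff_eq hr' hr).1 (hr'.dvd_of_dvd_pow h1)).symm

theorem exists_syl_not_adj {x a : G} (hx : ¬ IsPP (orderOf x)) (ha : a ∈ DStar x) :
    ∃ r : ℕ, r.Prime ∧ r ∣ orderOf x ∧ ¬ adj a (syl x r) := by
  have hn : orderOf x ≠ 0 := (orderOf_pos x).ne'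
  have hd1 : orderOf a ≠ 1 := by
    intro h
    exact ha.2.1 (orderOf_eq_one_iff.1 h)
  have hdn : orderOf a ∣ orderOf x := orderOf_dvd_of_mem_zpowers ha.1
  have hne : orderOf a ≠ orderOf x := by
    intro h
    have := zpowers_eq_of_mem_of_orderOf_eq ha.1 h
    exact ha.2.2 (by rw [this]; exact mem_zpowers x)
  obtain ⟨r, hr, hrn, h1, h2⟩ := nt2 hn hd1 hdn hne hx
  refine ⟨r, hr, hrn, ?_⟩
  rw [adj_iff_of_mem ha.1 (syl_mem x r), orderOf_syl]
  rintro (h | h)
  · exact h1 h
  · exact h2 h

theorem rtg_of_mem {x a b : G} (hx : ¬ IsPP (orderOf x)) (ha : a ∈ DStar x) (hb : b ∈ DStar x) :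
    Relation.ReflTransGen (Step adj x) a b := by
  obtain ⟨r, hr, hrn, h1⟩ := exists_syl_not_adj hx ha
  obtain ⟨r', hr', hrn', h1'⟩ := exists_syl_not_adj hx hb
  have s1 : Step adj x a (syl x r) := ⟨Or.inr (syl_mem x r), h1⟩
  by_cases hrr : r = r'
  · subst hrr
    have s2 : Step adj x (syl x r) b := ⟨Or.inr hb.1, fun h => h1' (adj_symm h)⟩
    exact (Relation.ReflTransGen.single s1).tail s2
  · have s2 : Step adj x (syl x r) (syl x r') :=
      ⟨Or.inr (syl_mem x r'), not_adj_syl_syl hr hr' hrn hrn' hrr⟩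
    have s3 : Step adj x (syl x r') b := ⟨Or.inr hb.1, fun h => h1' (adj_symm h)⟩
    exact ((Relation.ReflTransGen.single s1).tail s2).tail s3

theorem rtg_iff {x w : G} (hx : ¬ IsPP (orderOf x)) (hw : w ∈ DStar x) (z : G) :
    Relation.ReflTransGen (Step adj x) w z ↔ z ∈ DStar x :=
  ⟨rtg_subset hw, rtg_of_mem hx hw⟩

/-- the order formula -/
theorem orderOf_eq_formula (hS : OnlyOne G) {x w : G} (hx : ¬ IsPP (orderOf x))
    (hw : w ∈ DStar x) :
    orderOf x = 1 + csize adj x +
      Nat.card {z // Relation.ReflTransGen (Step adj x) w z} := by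
  have hx1 : x ≠ 1 := by
    rintro rfl
    exact hx ⟨2, 0, Nat.prime_two, by simp⟩
  have hA : Nat.card {z // Relation.ReflTransGen (Step adj x) w z} = (DStar x).ncard := by
    rw [← _root_.Nat.card_coe_set_eq]
    exact Nat.card_congr (Equiv.subtypeEquivRight (fun z => rtg_iff hx hw z))
  have hB : csize adj x = {t : G | zpowers t = zpowers x}.ncard := by
    rw [← _root_.Nat.card_coe_set_eq]
    unfold csize
    exact Nat.card_congr
      (Equiv.subtypeEquivRight (fun t => twin_iff_of_le hS hx (mem_zpowers x) t))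
  have hC : orderOf x = (zpowers x : Set G).ncard := by
    rw [← _root_.Nat.card_coe_set_eq]
    exact (Nat.card_zpowers x).symm
  have hU : (zpowers x : Set G) = insert 1 ({t : G | zpowers t = zpowers x} ∪ DStar x) := by
    ext z
    simp only [SetLike.mem_coe, Set.mem_insert_iff, Set.mem_union, Set.mem_ofPred_eq, DStar]
    constructor
    · intro hz
      by_cases h1 : z = 1
      · exact Or.inl h1
      · by_cases h2 : x ∈ zpowers z
        · exact Or.inr (Or.inl (zpowers_eq_iff.2 ⟨hz, h2⟩))
        · exact Or.inr (Or.inr ⟨hz, h1, h2⟩)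
    · rintro (h | h | h)
      · rw [h]
        exact one_mem _
      · exact (zpowers_eq_iff.1 h).1
      · exact h.1
  have hdisj : Disjoint {t : G | zpowers t = zpowers x} (DStar x) := by
    rw [Set.disjoint_left]
    intro z hz hz'
    exact hz'.2.2 (zpowers_eq_iff.1 hz).2
  have h1not : (1 : G) ∉ {t : G | zpowers t = zpowers x} ∪ DStar x := by
    rintro (h | h)
    · have := (zpowers_eq_iff.1 h).2
      rw [zpowers_one_eq_bot, mem_bot] at this
      exact hx1 this
    · exact h.2.1 rfl
  rw [hC, hU, Set.ncard_insert_of_notMem h1not (Set.toFinite _),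
    Set.ncard_union_eq hdisj (Set.toFinite _) (Set.toFinite _), hA, hB]
  omega

end Cfsg.Agent.Helper3.PowerGraph
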