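import Mathlib
import Cfsg.Agent.Helper3.PowerGraphD

/-!
# Power graphs, part E: isomorphic power graphs give the same prime graph
-/

namespace Cfsg.Agent.Helper3.PowerGraph

open Subgroup

section

variable {G : Type*} [Group G] [Finite G]

theorem psi_of_orderOf_eq (hS : OnlyOne G) {x : G} {p q : ℕ} (hp : p.Prime) (hq : q.Prime)
    (hpq : p < q) (hx : orderOf x = p * q) : Psi adj x (p * q) := by
  have hnpp : ¬ IsPP (orderOf x) := by
    rw [hx]
    rintro ⟨r, k, hr, hk⟩
    have h1 : p ∣ r ^ k := hk ▸ dvd_mul_right p q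
    have h2 : q ∣ r ^ k := hk ▸ dvd_mul_left q p
    have h3 := (Nat.prime_dvd_prime_iff_eq hp hr).1 (hp.dvd_of_dvd_pow h1)
    have h4 := (Nat.prime_dvd_prime_iff_eq hq hr).1 (hq.dvd_of_dvd_pow h2)
    omega
  have how : orderOf (x ^ q) = p := by
    rw [orderOf_pow_of_dvd hq.ne_zero (hx ▸ dvd_mul_left q p), hx]
    exact Nat.mul_div_cancel p hq.pos
  have hov : orderOf (x ^ p) = q := by
    rw [orderOf_pow_of_dvd hp.ne_zero (hx ▸ dvd_mul_right p q), hx]
    exact Nat.mul_div_cancel_left q hp.pos
  have hwmem : x ^ q ∈ zpowers x := npow_mem_zpowers x q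
  have hwD : x ^ q ∈ DStar x := by
    refine ⟨hwmem, ?_, ?_⟩
    · intro h1
      rw [h1, orderOf_one] at how
      exact hp.one_lt.ne how
    · intro h1
      have h2 := orderOf_dvd_of_mem_zpowers h1
      rw [how, hx] at h2
      have h3 : p * q ∣ p * 1 := by rwa [mul_one]
      have h4 := Nat.dvd_of_mul_dvd_mul_left hp.pos h3
      have := hq.one_lt
      have := Nat.le_of_dvd Nat.one_pos h4
      omega
  refine ⟨x ^ q, Or.inr hwmem, ?_, ?_, ?_⟩
  · intro hd
    have h1 : adj (x ^ q) (x ^ p) := hd _ (Or.inr (npow_mem_zpowers x p))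
    rcases h1 with h | h
    · have h2 := orderOf_dvd_of_mem_zpowers h
      rw [how, hov] at h2
      have := (Nat.prime_dvd_prime_iff_eq hp hq).1 h2
      omega
    · have h2 := orderOf_dvd_of_mem_zpowers h
      rw [how, hov] at h2
      have := (Nat.prime_dvd_prime_iff_eq hq hp).1 h2
      omega
  · rw [csize_eq_totient hS hnpp hwmem, csize_eq_totient hS hnpp (mem_zpowers x), how, hx,
      Nat.totient_mul ((Nat.coprime_primes hp hq).2 hpq.ne), Nat.totient_prime hp,
      Nat.totient_prime hq]
    have h1 := hp.two_le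
    have h2 : 2 ≤ q - 1 := by omega
    have h3 : 0 < p - 1 := by omega
    nlinarith
  · rw [← hx]
    exact orderOf_eq_formula hS hnpp hwD

theorem orderOf_eq_of_psi (hS : OnlyOne G) {x : G} {n : ℕ} (h : Psi adj x n) :
    orderOf x = n := by
  obtain ⟨w, hxw, hnd, hlt, hn⟩ := h
  have hw_mem : w ∈ zpowers x := by
    by_contra hnot
    have hxw' : x ∈ zpowers w := by
      rcases hxw with h | h
      · exact h
      · exact absurd h hnot
    have hnt : ¬ Twin adj x w := fun ht => by
      have := csize_eq_of_twin _ ht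
      omega
    have := csize_le_of_le hS hxw' hnt
    omega
  have hnpp : ¬ IsPP (orderOf x) := fun hpp => hnd (dom_of_isPP hpp hw_mem)
  have hwD : w ∈ DStar x := by
    refine ⟨hw_mem, ?_, ?_⟩
    · rintro rfl
      exact hnd (fun y _ => adj_one y)
    · intro hx
      apply hnd
      have ht : Twin adj x w := twin_of_zpowers_eq (zpowers_eq_iff.2 ⟨hw_mem, hx⟩)
      intro y hy
      exact (ht y).1 hy
  rw [hn]
  exact orderOf_eq_formula hS hnpp hwD

end

theorem main_dir {G H : Type*} [Group G] [Finite G] [Group H] [Finite H] (e : G ≃ H)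
    (he : ∀ x y : G, adj x y ↔ adj (e x) (e y)) {p q : ℕ} (hp : p.Prime) (hq : q.Prime)
    (hpq : p < q) (hg : ∃ g : G, orderOf g = p * q) : ∃ h : H, orderOf h = p * q := by
  obtain ⟨g, hg⟩ := hg
  by_cases hS : OnlyOne H
  · have hSG : OnlyOne G := by
      intro g0 hg0
      have h1 : e g0 = 1 := hS _ (fun y' => by
        obtain ⟨y, rfl⟩ := e.surjective y'
        exact (he g0 y).1 (hg0 y))
      have h2 : e 1 = 1 := hS _ (fun y' => by
        obtain ⟨y, rfl⟩ := e.surjective y'
        exact (he 1 y).1 (adj_one y))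
      exact e.injective (h1.trans h2.symm)
    have h1 := psi_of_orderOf_eq hSG hp hq hpq hg
    have h2 := Psi_map adj adj e he g _ h1
    exact ⟨e g, orderOf_eq_of_psi hS h2⟩
  · unfold OnlyOne at hS
    push Not at hS
    obtain ⟨h, hdom, hne⟩ := hS
    have hcard : Nat.card H = Nat.card G := (Nat.card_congr e).symm
    have hdiv : p * q ∣ Nat.card H := by
      rw [hcard, ← hg]
      exact orderOf_dvd_natCard g
    have key : ∀ r : ℕ, r.Prime → r ∣ Nat.card H → r ∣ orderOf h := by
      intro r hr hrd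
      have := Fact.mk hr
      obtain ⟨y, hy⟩ := exists_prime_orderOf_dvd_card' r hrd
      rcases hdom y with h1 | h1
      · have h2 := orderOf_dvd_of_mem_zpowers h1
        rw [hy] at h2
        rcases (Nat.dvd_prime hr).1 h2 with h3 | h3
        · exact absurd (orderOf_eq_one_iff.1 h3) hne
        · rw [h3]
      · have h2 := orderOf_dvd_of_mem_zpowers h1
        rwa [hy] at h2
    have hpd := key p hp (dvd_trans (dvd_mul_right p q) hdiv)
    have hqd := key q hq (dvd_trans (dvd_mul_left q p) hdiv)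
    have h3 : p * q ∣ orderOf h :=
      Nat.Coprime.mul_dvd_of_dvd_of_dvd ((Nat.coprime_primes hp hq).2 hpq.ne) hpd hqd
    obtain ⟨z, -, hz⟩ := exists_mem_zpowers_orderOf_eq h h3
    exact ⟨z, hz⟩

theorem main_lt {G H : Type*} [Group G] [Finite G] [Group H] [Finite H] (e : G ≃ H)
    (he : ∀ x y : G, adj x y ↔ adj (e x) (e y)) {p q : ℕ} (hp : p.Prime) (hq : q.Prime)
    (hpq : p < q) : (∃ g : G, orderOf g = p * q) ↔ (∃ h : H, orderOf h = p * q) := by
  constructor
  · exact main_dir e he hp hq hpq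
  · apply main_dir e.symm _ hp hq hpq
    intro x y
    rw [he]
    simp

theorem main {G H : Type*} [Group G] [Finite G] [Group H] [Finite H] (e : G ≃ H)
    (he : ∀ x y : G, adj x y ↔ adj (e x) (e y)) {p q : ℕ} (hp : p.Prime) (hq : q.Prime)
    (hpq : p ≠ q) : (∃ g : G, orderOf g = p * q) ↔ (∃ h : H, orderOf h = p * q) := by
  rcases lt_or_gt_of_ne hpq with h | h
  · exact main_lt e he hp hq h
  · rw [mul_comm p q]
    exact main_lt e he hq hp h

end Cfsg.Agent.Helper3.PowerGraph
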