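import Mathlib
import Cfsg.Agent.Helper3.S0429PCLcore
import Cfsg.Agent.Helper27.S0429MATE3h

/-! s0429pieces PCLOSED (wrapper: `PCLOSED_core` + MATE3). -/

set_option autoImplicit false

namespace Cfsg.Agent.S0429P

open Finset

variable {V : Type*} [Fintype V] [DecidableEq V] {G : SimpleGraph V} [DecidableRel G.Adj]

theorem PCLOSED (h : G.IsSRGWith 77 16 0 4) {C : Finset V} (hC : C ∈ Coc21 G) {a b : V} (ha : a ∈ C) (hb : b ∈ C)
    (hab : a ≠ b) : cls G a b ⊆ C :=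
  PCLOSED_core h hC ha hb hab
    (MATE3 h ⟨hab.symm, (mem_Coc21.mp hC).1 a ha b hb⟩)

end Cfsg.Agent.S0429P
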