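import Mathlib

set_option autoImplicit false
set_option linter.unusedSectionVars false
set_option linter.unusedVariables false

/-! # S0679, step (1b) (helper3): for `G ≤ Perm α`, `|α| = 11`, `11 ∣ |G|`, a Sylow `11`-subgroup `P` has order `11`,
`C_G(P)` has order `11` and `|N_G(P)| = 11 d`, `d ∣ 10`. -/

namespace Cfsg.Agent.S0679P

open Equiv Equiv.Perm Subgroup

variable {α : Type*} [Fintype α] [DecidableEq α]

/-- the centraliser in `Perm α`, `|α| = 11`, of an element of order `11` has order `11` -/
theorem NORM11.card_centralizer (h11 : Fintype.card α = 11) {σ : Perm α} (hσ : orderOf σ = 11) :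
    Nat.card (Subgroup.centralizer ({σ} : Set (Perm α))) = 11 := by
  have hp : Nat.Prime 11 := by norm_num
  obtain ⟨n, hn⟩ := Equiv.Perm.cycleType_prime_order (σ := σ) (by rw [hσ]; exact hp)
  rw [hσ] at hn
  have hsum : σ.cycleType.sum ≤ 11 := by
    rw [Equiv.Perm.sum_cycleType, ← h11]
    exact Finset.card_le_univ _
  rw [hn, Multiset.sum_replicate, smul_eq_mul] at hsum
  have hn0 : n = 0 := by omega
  subst hn0
  rw [Equiv.Perm.nat_card_centralizer, hn, h11]
  simp

/-- `|G|` divides `11!` -/
theorem NORM11.card_dvd (h11 : Fintype.card α = 11) (G : Subgroup (Perm α)) :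
    Nat.card G ∣ 39916800 := by
  have h1 : Nat.card G ∣ Nat.card (Perm α) := Subgroup.card_subgroup_dvd_card G
  have h2 : Nat.card (Perm α) = 39916800 := by
    rw [Nat.card_perm, Nat.card_eq_fintype_card, h11]
    decide
  rwa [h2] at h1

/-- a Sylow `11`-subgroup has order `11` -/
theorem NORM11.card_sylow (h11 : Fintype.card α = 11) (G : Subgroup (Perm α)) (P : Sylow 11 G)
    (h : 11 ∣ Nat.card G) : Nat.card (P : Subgroup G) = 11 := by
  have hp : Nat.Prime 11 := by norm_num
  have : Fact (Nat.Prime 11) := ⟨hp⟩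
  have hne : Nat.card G ≠ 0 := Nat.card_pos.ne'
  have h1 := Sylow.card_eq_multiplicity P
  have hv1 : 0 < (Nat.card G).factorization 11 := hp.factorization_pos_of_dvd hne h
  have hv2 : (Nat.card G).factorization 11 ≤ 1 := by
    by_contra hcon
    push Not at hcon
    have h2 : 11 ^ 2 ∣ 11 ^ (Nat.card G).factorization 11 := pow_dvd_pow 11 hcon
    have h3 : 11 ^ (Nat.card G).factorization 11 ∣ Nat.card G := Nat.ordProj_dvd _ _
    have h4 := (h2.trans h3).trans (NORM11.card_dvd h11 G)
    norm_num at h4
  have hv : (Nat.card G).factorization 11 = 1 := by omega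
  rw [h1, hv, pow_one]

/-- **S0679, step (1b)**: the order of the normaliser of a Sylow `11`-subgroup -/
theorem NORM11.main (h11 : Fintype.card α = 11) (G : Subgroup (Perm α)) (P : Sylow 11 G)
    (h : 11 ∣ Nat.card G) :
    Nat.card (Subgroup.centralizer ((P : Subgroup G) : Set G)) = 11 ∧
    (Nat.card (Subgroup.normalizer ((P : Subgroup G) : Set G)) = 11 ∨
      Nat.card (Subgroup.normalizer ((P : Subgroup G) : Set G)) = 22 ∨
      Nat.card (Subgroup.normalizer ((P : Subgroup G) : Set G)) = 55 ∨
      Nat.card (Subgroup.normalizer ((P : Subgroup G) : Set G)) = 110) := by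
  have hp : Nat.Prime 11 := by norm_num
  have : Fact (Nat.Prime 11) := ⟨hp⟩
  have hPc := NORM11.card_sylow h11 G P h
  have hcyc : IsCyclic (P : Subgroup G) := isCyclic_of_prime_card hPc
  obtain ⟨g, hg⟩ := IsCyclic.exists_generator (α := (P : Subgroup G))
  have hgo : orderOf g = 11 := by
    rw [orderOf_eq_card_of_forall_mem_zpowers hg, hPc]
  set σ : Perm α := ((g : G) : Perm α) with hσdef
  have hσ : orderOf σ = 11 := by
    rw [hσdef, Subgroup.orderOf_coe, Subgroup.orderOf_coe, hgo]
  set C : Subgroup G := Subgroup.centralizer ((P : Subgroup G) : Set G) with hC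
  set N : Subgroup G := Subgroup.normalizer ((P : Subgroup G) : Set G) with hN
  -- `P ≤ C`
  have hPC : (P : Subgroup G) ≤ C := by
    intro x hx
    rw [hC, Subgroup.mem_centralizer_iff]
    intro y hy
    obtain ⟨i, hi⟩ := Subgroup.mem_zpowers_iff.mp (hg ⟨x, hx⟩)
    obtain ⟨j, hj⟩ := Subgroup.mem_zpowers_iff.mp (hg ⟨y, hy⟩)
    have hx' : x = (g : G) ^ i := by
      have := congrArg Subtype.val hi
      simpa using this.symm
    have hy' : y = (g : G) ^ j := by
      have := congrArg Subtype.val hj
      simpa using this.symm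
    rw [hx', hy']
    exact (Commute.zpow_zpow_self (g : G) j i).eq
  -- `|C| ∣ 11`
  have hCle : C.map G.subtype ≤ Subgroup.centralizer ({σ} : Set (Perm α)) := by
    rintro _ ⟨c, hc, rfl⟩
    rw [Subgroup.mem_centralizer_iff]
    intro y hy
    rw [Set.mem_singleton_iff] at hy
    subst hy
    rw [hC, SetLike.mem_coe, Subgroup.mem_centralizer_iff] at hc
    have := hc (g : G) g.2
    have h2 := congrArg Subtype.val this
    simpa using h2
  have hCdvd : Nat.card C ∣ 11 := by
    have h1 := Subgroup.card_dvd_of_le hCle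
    rwa [Subgroup.card_map_of_injective G.subtype_injective, NORM11.card_centralizer h11 hσ] at h1
  have hCcard : Nat.card C = 11 := by
    have h1 : 11 ∣ Nat.card C := by
      rw [← hPc]; exact Subgroup.card_dvd_of_le hPC
    exact Nat.dvd_antisymm hCdvd h1
  refine ⟨hCcard, ?_⟩
  -- `N / C` embeds into `Aut P`
  have key := Subgroup.card_dvd_of_injective _
    (QuotientGroup.kerLift_injective (P : Subgroup G).normalizerMonoidHom)
  rw [Subgroup.normalizerMonoidHom_ker, ← Subgroup.index, ← Subgroup.relIndex] at key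
  rw [IsCyclic.card_mulAut, hPc, Nat.totient_prime hp] at key
  have hCN : C ≤ N := Subgroup.centralizer_le_normalizer _
  have hmul : Nat.card C * C.relIndex N = Nat.card N := by
    have h1 := Subgroup.card_mul_index (C.subgroupOf N)
    rw [Nat.card_congr (Subgroup.subgroupOfEquivOfLe hCN).toEquiv] at h1
    exact h1
  have hd : C.relIndex N ∣ 10 := key
  have hd10 : C.relIndex N ≤ 10 := Nat.le_of_dvd (by norm_num) hd
  rw [← hmul, hCcard]
  generalize C.relIndex N = d at hd hd10
  interval_cases d <;> simp_all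

end Cfsg.Agent.S0679P
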