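import Mathlib

set_option autoImplicit false
set_option linter.unusedSectionVars false
set_option linter.unusedVariables false

/-! # S0679, step (2) (helper3): a subgroup `G` of `Perm α`, `|α| = 11`, whose Sylow `11`-normaliser has order `55`
lies in `A_11` (Frattini) and, if `7, 25, 81 ∤ |G|`, has order `55`, `660`, `7920` or `95040`. -/

namespace Cfsg.Agent.S0679P

open Equiv Equiv.Perm

variable {α : Type*} [Fintype α] [DecidableEq α]

/-- a permutation of odd order is even -/
theorem ORD5.sign_of_odd {g : Perm α} (h : Odd (orderOf g)) : Perm.sign g = 1 := by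
  have h1 : Perm.sign g ^ orderOf g = 1 := by
    rw [← map_pow, pow_orderOf_eq_one, map_one]
  rcases Int.units_eq_one_or (Perm.sign g) with h2 | h2
  · exact h2
  · rw [h2, Odd.neg_one_pow h] at h1
    exact absurd h1 (by decide)

/-- the arithmetic: the number `n` of Sylow `11`-subgroups -/
theorem ORD5.aux_arith {n : ℕ} (hdvd : 55 * n ∣ 19958400) (h7 : ¬ 7 ∣ 55 * n) (h25 : ¬ 25 ∣ 55 * n)
    (h81 : ¬ 81 ∣ 55 * n) (hmod : n % 11 = 1) : n = 1 ∨ n = 12 ∨ n = 144 ∨ n = 1728 := by
  have h1 : n ∣ 362880 := by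
    have : (19958400 : ℕ) = 55 * 362880 := by norm_num
    rw [this] at hdvd
    exact Nat.dvd_of_mul_dvd_mul_left (by norm_num) hdvd
  have h7' : ¬ 7 ∣ n := fun h => h7 (Dvd.dvd.mul_left h 55)
  have h5' : ¬ 5 ∣ n := by
    intro h
    apply h25
    obtain ⟨c, rfl⟩ := h
    exact ⟨11 * c, by ring⟩
  have h81' : ¬ 81 ∣ n := fun h => h81 (Dvd.dvd.mul_left h 55)
  have hc35 : Nat.Coprime n 35 := by
    have : (35 : ℕ) = 5 * 7 := by norm_num
    rw [this]
    apply Nat.Coprime.mul_right
    · exact ((Nat.Prime.coprime_iff_not_dvd (by norm_num)).mpr h5').symm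
    · exact ((Nat.Prime.coprime_iff_not_dvd (by norm_num)).mpr h7').symm
  have h2 : n ∣ 10368 := by
    have : (362880 : ℕ) = 10368 * 35 := by norm_num
    rw [this] at h1
    exact hc35.dvd_of_dvd_mul_right h1
  have h3 : (10368 : ℕ) = 2 ^ 7 * 3 ^ 4 := by norm_num
  rw [h3] at h2
  obtain ⟨d1, d2, hd1, hd2, rfl⟩ := (Nat.dvd_mul).mp h2
  obtain ⟨a, ha, rfl⟩ := (Nat.dvd_prime_pow Nat.prime_two).mp hd1
  obtain ⟨b, hb, rfl⟩ := (Nat.dvd_prime_pow Nat.prime_three).mp hd2
  interval_cases a <;> interval_cases b <;> simp_all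

/-- **S0679, step (2)** -/
theorem ORD5.main (h11 : Fintype.card α = 11) (G : Subgroup (Perm α))
    (hnd : ¬ 7 ∣ Nat.card G ∧ ¬ 25 ∣ Nat.card G ∧ ¬ 81 ∣ Nat.card G)
    (P : Sylow 11 G) (hN : Nat.card (Subgroup.normalizer ((P : Subgroup G) : Set G)) = 55) :
    G ≤ alternatingGroup α ∧
      (Nat.card G = 55 ∨ Nat.card G = 660 ∨ Nat.card G = 7920 ∨ Nat.card G = 95040) := by
  have : Fact (Nat.Prime 11) := ⟨by norm_num⟩
  have : Nontrivial α := by
    rw [← Fintype.one_lt_card_iff_nontrivial, h11]; norm_num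
  -- the even part of `G`
  set E : Subgroup G := (alternatingGroup α).subgroupOf G with hE
  have hEn : E.Normal := by rw [hE]; infer_instance
  have hmemE : ∀ g : G, g ∈ E ↔ Perm.sign (g : Perm α) = 1 := by
    intro g
    rw [hE, Subgroup.mem_subgroupOf, Perm.mem_alternatingGroup]
  -- elements of odd order lie in `E`
  have hoddE : ∀ g : G, Odd (orderOf g) → g ∈ E := by
    intro g hg
    rw [hmemE]
    apply ORD5.sign_of_odd
    rwa [Subgroup.orderOf_coe]
  -- `N_G(P) ≤ E`
  have hNE : Subgroup.normalizer ((P : Subgroup G) : Set G) ≤ E := by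
    intro g hg
    apply hoddE
    have h1 : orderOf (⟨g, hg⟩ : Subgroup.normalizer ((P : Subgroup G) : Set G)) ∣ 55 := by
      rw [← hN]; exact orderOf_dvd_natCard _
    rw [Subgroup.orderOf_mk] at h1
    have h55 : Odd 55 := by decide
    exact Odd.of_dvd_nat h55 h1
  -- `P ≤ E`
  have hPE : (P : Subgroup G) ≤ E := le_trans Subgroup.le_normalizer hNE
  -- Frattini
  have hF := Sylow.normalizer_sup_eq_top' P hPE
  have hEtop : E = ⊤ := by
    rw [eq_top_iff, ← hF]
    exact sup_le hNE le_rfl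
  have hGA : G ≤ alternatingGroup α := by
    intro g hg
    have : (⟨g, hg⟩ : G) ∈ E := by rw [hEtop]; exact Subgroup.mem_top _
    rw [hE, Subgroup.mem_subgroupOf] at this
    exact this
  refine ⟨hGA, ?_⟩
  -- the order
  set n := Nat.card (Sylow 11 G) with hn
  have hidx : n = (Subgroup.normalizer ((P : Subgroup G) : Set G)).index := P.card_eq_index_normalizer
  have hcard : Nat.card G = 55 * n := by
    rw [hidx, ← hN, Subgroup.card_mul_index]
  have hmod : n % 11 = 1 := by
    have := card_sylow_modEq_one 11 G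
    exact this
  have hdvd : Nat.card G ∣ 19958400 := by
    have h1 : Nat.card G ∣ Nat.card (alternatingGroup α) := Subgroup.card_dvd_of_le hGA
    have h2 : Nat.card (alternatingGroup α) = 19958400 := by
      rw [nat_card_alternatingGroup, Nat.card_eq_fintype_card, h11]
      decide
    rwa [h2] at h1
  rw [hcard] at hdvd hnd
  rcases ORD5.aux_arith hdvd hnd.1 hnd.2.1 hnd.2.2 hmod with h | h | h | h <;> rw [hcard, h]
  · left; rfl
  · right; left; rfl
  · right; right; left; rfl
  · right; right; right; rfl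

end Cfsg.Agent.S0679P
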