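import Mathlib
import Cfsg.Agent.Helper13.S0679Defs
import Cfsg.Agent.Helper18.S0679BR
import Cfsg.Agent.Helper9.S0679WITT4
import Cfsg.Agent.Helper3.S0679SYL
import Cfsg.Agent.Helper3.S0679ORB

set_option autoImplicit false
set_option linter.unusedSectionVars false
set_option linter.unusedVariables false

/-! # S0679, chapter (4), piece 4-Y5 (helper3): an element of order 5 of `G` centralises `x` (type `3² 1⁵`). -/

namespace Cfsg.Agent.S0679P

open Equiv MulAction

variable {α : Type*} [Fintype α] [DecidableEq α] {G : Subgroup (Equiv.Perm α)}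

/-- the elements of `G` normalising `⟨x⟩` in the sense `n x n⁻¹ = x^{±1}` -/
def FOUR.Y5.aux_N (G : Subgroup (Equiv.Perm α)) (x : Perm α) : Subgroup (Perm α) where
  carrier := {n | n ∈ G ∧ (n * x * n⁻¹ = x ∨ n * x * n⁻¹ = x⁻¹)}
  one_mem' := ⟨G.one_mem, Or.inl (by simp)⟩
  mul_mem' := by
    rintro a b ⟨ha, ha'⟩ ⟨hb, hb'⟩
    refine ⟨G.mul_mem ha hb, ?_⟩
    have e : a * b * x * (a * b)⁻¹ = a * (b * x * b⁻¹) * a⁻¹ := by group
    rw [e]
    rcases hb' with hb' | hb' <;> rcases ha' with ha' | ha'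
    · left; rw [hb', ha']
    · right; rw [hb', ha']
    · right
      rw [hb']
      have : a * x⁻¹ * a⁻¹ = (a * x * a⁻¹)⁻¹ := by group
      rw [this, ha']
    · left
      rw [hb']
      have : a * x⁻¹ * a⁻¹ = (a * x * a⁻¹)⁻¹ := by group
      rw [this, ha', inv_inv]
  inv_mem' := by
    rintro a ⟨ha, ha'⟩
    refine ⟨G.inv_mem ha, ?_⟩
    rcases ha' with ha' | ha'
    · left
      have : a⁻¹ * x * a⁻¹⁻¹ = a⁻¹ * (a * x * a⁻¹) * a := by rw [ha']; group
      rw [this]; group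
    · right
      have h1 : x = a⁻¹ * x⁻¹ * a := by
        have : a⁻¹ * (a * x * a⁻¹) * a = a⁻¹ * x⁻¹ * a := by rw [ha']
        rw [← this]; group
      have h2 : a⁻¹ * x * a⁻¹⁻¹ = (a⁻¹ * x⁻¹ * a)⁻¹ := by group
      rw [h2, ← h1]

theorem FOUR.Y5.mem_aux_N {x n : Perm α} :
    n ∈ FOUR.Y5.aux_N G x ↔ n ∈ G ∧ (n * x * n⁻¹ = x ∨ n * x * n⁻¹ = x⁻¹) := Iff.rfl

/-- `N` preserves the fixed points of `x` -/
theorem FOUR.Y5.aux_fix {x n : Perm α} (hn : n ∈ FOUR.Y5.aux_N G x) {w : α} (hw : x w = w) :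
    x (n w) = n w := by
  have hw' : x⁻¹ w = w := by rw [Perm.inv_eq_iff_eq, hw]
  rcases hn.2 with h | h
  · have h1 : x * n = n * x := by
      have : n * x * n⁻¹ * n = x * n := by rw [h]
      rw [← this]; group
    have := congrArg (fun f : Perm α => f w) h1
    simp only [Perm.mul_apply] at this
    rw [this, hw]
  · have h1 : x⁻¹ * n = n * x := by
      have : n * x * n⁻¹ * n = x⁻¹ * n := by rw [h]
      rw [← this]; group
    have h2 : n = x * n * x := by
      have : x * (x⁻¹ * n) = x * (n * x) := by rw [h1]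
      rw [← mul_assoc, ← mul_assoc] at this
      simpa using this
    have := congrArg (fun f : Perm α => f w) h2
    simp only [Perm.mul_apply] at this
    rw [hw] at this
    exact this.symm

/-- **4-Y5** -/
theorem FOUR.Y5 (h11 : Fintype.card α = 11) (h3 : IsMultiplyPretransitive G α 3)
    (hord : Nat.card G = 95040) {x : Perm α} (hx : x ∈ G) (hct : x.cycleType = {3, 3}) :
    ∃ y ∈ G, orderOf y = 5 ∧ y * x = x * y := by
  classical
  set N := FOUR.Y5.aux_N G x with hN
  -- five fixed points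
  have hsupp : x.support.card = 6 := by
    rw [← Equiv.Perm.sum_cycleType, hct]
    rfl
  have hfix : (fixF x).card = 5 := by
    have := card_fixF x
    rw [hsupp, h11] at this
    omega
  obtain ⟨w, hw⟩ : ∃ w, w ∈ fixF x := by
    apply Finset.card_pos.mp
    rw [hfix]; norm_num
  have hw' : x w = w := mem_fixF.mp hw
  -- the orbit of `w` under `N` is `Fix x`
  have horb : orbF N w = fixF x := by
    ext b
    rw [mem_orbF, mem_fixF]
    constructor
    · rintro ⟨n, hn, rfl⟩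
      exact FOUR.Y5.aux_fix hn hw'
    · intro hb
      obtain ⟨n, hnG, hnw, hnx⟩ := FOUR.WITT h11 h3 hord hx hct hw' hb
      exact ⟨n, ⟨hnG, hnx⟩, hnw⟩
  have h5 : 5 ∣ Nat.card N := by
    have := SYL.card_orbF_dvd N w
    rwa [horb, hfix] at this
  obtain ⟨y, hyN, hy5⟩ := SYL.cauchy N (by norm_num : Nat.Prime 5) h5
  rcases hyN.2 with h | h
  · refine ⟨y, hyN.1, hy5, ?_⟩
    have : y * x * y⁻¹ * y = x * y := by rw [h]
    rw [← this]; group
  · refine ⟨y ^ 2, G.pow_mem hyN.1 2, ?_, ?_⟩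
    · have hc : Nat.Coprime (orderOf y) 2 := by rw [hy5]; decide
      rw [hc.orderOf_pow, hy5]
    · have h1 : y ^ 2 * x * (y ^ 2)⁻¹ = x := by
        have e : y ^ 2 * x * (y ^ 2)⁻¹ = y * (y * x * y⁻¹) * y⁻¹ := by
          rw [pow_two, mul_inv_rev]
          simp only [mul_assoc]
        rw [e, h]
        have e2 : y * x⁻¹ * y⁻¹ = (y * x * y⁻¹)⁻¹ := by group
        rw [e2, h, inv_inv]
      have : y ^ 2 * x * (y ^ 2)⁻¹ * y ^ 2 = x * y ^ 2 := by rw [h1]
      rw [← this]; group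

end Cfsg.Agent.S0679P
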