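import Mathlib
import Cfsg.Agent.Helper3.MinNonab
import Cfsg.Agent.Helper24.SolvTransB
import Cfsg.Agent.Helper6.FrobSemidirect
import Cfsg.Agent.Helper5.ZasLattice
import Cfsg.Agent.Helper5.ZasFinal

/-!
# S0686: the linear part

`H ≤ GL(V)` acting fixed-point-freely; a perfect subgroup is `SL(2,5)` (Zassenhaus), a
non-abelian subgroup of prime power order in which all `H`-normal abelian subgroups are central
is `Q₈`.
-/

set_option autoImplicit false
set_option linter.unusedSectionVars false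
set_option linter.style.haveILetI false

namespace Cfsg.Agent.Helper3.S0686Lib

variable {p : ℕ} [Fact p.Prime] {V : Type*} [AddCommGroup V] [Module (ZMod p) V] [Finite V]

/-- regularity on the non-zero vectors gives fixed-point-freeness -/
theorem fpf_of_reg (H : Subgroup (V ≃ₗ[ZMod p] V))
    (hreg : ∀ v w : V, v ≠ 0 → w ≠ 0 → ∃! h : H, (h : V ≃ₗ[ZMod p] V) v = w)
    (h : H) (hh : h ≠ 1) (v : V) (hv : (h : V ≃ₗ[ZMod p] V) v = v) : v = 0 := by
  by_contra hv0
  obtain ⟨h0, -, huniq⟩ := hreg v v hv0 hv0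
  have h1 := huniq h hv
  have h2 := huniq 1 (by simp)
  exact hh (h1.trans h2.symm)

theorem finite_linearEquiv : Finite (V ≃ₗ[ZMod p] V) :=
  Finite.of_injective (fun e : V ≃ₗ[ZMod p] V => (e : V → V)) DFunLike.coe_injective

theorem nontrivial_of_ne_bot (H : Subgroup (V ≃ₗ[ZMod p] V)) (N : Subgroup H) (hne : N ≠ ⊥) :
    Nontrivial V := by
  by_contra hV
  rw [not_nontrivial_iff_subsingleton] at hV
  apply hne
  rw [eq_bot_iff]
  intro n _
  rw [Subgroup.mem_bot]
  apply Subtype.ext
  apply LinearEquiv.ext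
  intro v
  exact Subsingleton.elim _ _

/-- the perfect case: Zassenhaus' theorem -/
theorem perfect_case (H : Subgroup (V ≃ₗ[ZMod p] V))
    (hfpf : ∀ h : H, h ≠ 1 → ∀ v : V, (h : V ≃ₗ[ZMod p] V) v = v → v = 0)
    (N : Subgroup H) (hperf : ⁅N, N⁆ = N) (hne : N ≠ ⊥) :
    Nonempty (N ≃* Matrix.SpecialLinearGroup (Fin 2) (ZMod 5)) := by
  haveI := nontrivial_of_ne_bot H N hne
  haveI : Finite (V ≃ₗ[ZMod p] V) := finite_linearEquiv
  haveI : Nontrivial N := (Subgroup.nontrivial_iff_ne_bot N).2 hne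
  have hfpf' : ∀ s : N, s ≠ 1 → ∀ v : V, s • v = v → v = 0 := by
    intro s hs v hv
    have hs' : (s : H) ≠ 1 := fun h => hs (Subtype.ext h)
    exact hfpf (s : H) hs' v hv
  obtain ⟨L, iG, iF, H₀, hH₀, ⟨e⟩⟩ :=
    Cfsg.Agent.Helper6.exists_frobenius_of_fpf' (S := N) (V := V) hfpf'
  obtain ⟨p', hp', V', i1, i2, i3, i4, ⟨S⟩⟩ :=
    Cfsg.Agent.Helper5.Zas.exists_setup_of_fc H₀ hH₀
  have S' := Cfsg.Agent.Helper5.Zas.Setup.ofEquiv S e
  have hcomm : commutator N = ⊤ := by
    apply Subgroup.map_injective N.subtype_injective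
    rw [Subgroup.map_subtype_commutator, hperf, ← MonoidHom.range_eq_map, Subgroup.range_subtype]
  exact Cfsg.Agent.Helper5.ZasFin.perfect_iso_sl25 S' hcomm inferInstance

/-- the action on the multiplicative copy of `V` -/
def mulAutHom (H : Subgroup (V ≃ₗ[ZMod p] V)) : H →* MulAut (Multiplicative V) where
  toFun h := AddEquiv.toMultiplicative ((h : V ≃ₗ[ZMod p] V).toAddEquiv)
  map_one' := by
    ext v
    rfl
  map_mul' := by
    intro a b
    ext v
    rfl

theorem mulAutHom_apply (H : Subgroup (V ≃ₗ[ZMod p] V)) (h : H) (v : Multiplicative V) :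
    mulAutHom H h v = Multiplicative.ofAdd ((h : V ≃ₗ[ZMod p] V) (Multiplicative.toAdd v)) := rfl

/-- in a generalized quaternion group of order at least `16` the square of `a 1` is not central -/
theorem quat_sq_not_central {k : ℕ} (hk : 4 ≤ k) :
    (QuaternionGroup.a 1 * QuaternionGroup.a 1 : QuaternionGroup k) * QuaternionGroup.xa 0 ≠
      QuaternionGroup.xa 0 * (QuaternionGroup.a 1 * QuaternionGroup.a 1) := by
  intro h
  rw [QuaternionGroup.a_mul_a, QuaternionGroup.a_mul_xa, QuaternionGroup.xa_mul_a] at h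
  have h2 : (0 : ZMod (2 * k)) - (1 + 1) = 0 + (1 + 1) := by
    injection h
  have h3 : ((4 : ℕ) : ZMod (2 * k)) = 0 := by
    have : (4 : ZMod (2 * k)) = (0 + (1 + 1)) - (0 - (1 + 1)) := by ring
    rw [← h2, sub_self] at this
    exact_mod_cast this
  rw [ZMod.natCast_eq_zero_iff] at h3
  have := Nat.le_of_dvd (by norm_num) h3
  omega

/-- the prime power case: `Q₈` -/
theorem quaternion_case (H : Subgroup (V ≃ₗ[ZMod p] V))
    (hfpf : ∀ h : H, h ≠ 1 → ∀ v : V, (h : V ≃ₗ[ZMod p] V) v = v → v = 0)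
    (N : Subgroup H) (hNn : N.Normal) (r : ℕ) (hr : r.Prime) (hNr : IsPGroup r N)
    (hNna : ¬ IsMulCommutative N)
    (hcen : ∀ M : Subgroup H, M.Normal → M ≤ N → IsMulCommutative M →
      ∀ m ∈ M, ∀ n ∈ N, m * n = n * m) :
    Nonempty (N ≃* QuaternionGroup 2) := by
  have hne : N ≠ ⊥ := by
    rintro rfl
    apply hNna
    exact ⟨⟨fun a b => Subsingleton.elim _ _⟩⟩
  haveI := nontrivial_of_ne_bot H N hne
  haveI : Finite (V ≃ₗ[ZMod p] V) := finite_linearEquiv
  haveI : Fact r.Prime := ⟨hr⟩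
  have hfpf' : ∀ a ∈ N, a ≠ 1 → ∀ v : Multiplicative V, mulAutHom H a v = v → v = 1 := by
    intro a _ ha v hv
    rw [mulAutHom_apply] at hv
    have h1 : (a : V ≃ₗ[ZMod p] V) (Multiplicative.toAdd v) = Multiplicative.toAdd v :=
      congrArg Multiplicative.toAdd hv
    have h2 := hfpf a ha _ h1
    exact Multiplicative.toAdd.injective h2
  rcases Cfsg.Agent.Helper24.SolvTrans.fpf_cyclic_or_quaternion (mulAutHom H) r N hNr hfpf' with
    hc | ⟨-, n, ⟨e⟩⟩
  · exact absurd (IsCyclic.isMulCommutative (α := N)) hNna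
  · -- `N ≃* QuaternionGroup (2 ^ n)`
    rcases Nat.lt_or_ge n 2 with hn | hn
    · interval_cases n
      · -- order four: abelian
        exfalso
        apply hNna
        have hcard : Nat.card N = 2 ^ 2 := by
          rw [Nat.card_congr e.toEquiv, Nat.card_eq_fintype_card, QuaternionGroup.card]
          norm_num
        haveI : Fact (Nat.Prime 2) := ⟨Nat.prime_two⟩
        exact IsPGroup.isMulCommutative_of_card_eq_prime_sq hcard
      · exact ⟨by simpa using e⟩
    · exfalso
      have hk : 4 ≤ 2 ^ n := by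
        calc 4 = 2 ^ 2 := by norm_num
          _ ≤ 2 ^ n := Nat.pow_le_pow_right (by norm_num) hn
      set k := 2 ^ n with hkdef
      -- the subgroup generated by the squares
      set M : Subgroup H := Subgroup.closure {x : H | ∃ g ∈ N, x = g * g} with hM
      have hP : ∀ x ∈ M, ∃ (hx : x ∈ N) (i : ZMod (2 * k)), e ⟨x, hx⟩ = QuaternionGroup.a i := by
        intro x hx
        induction hx using Subgroup.closure_induction with
        | mem y hy =>
          obtain ⟨g, hg, rfl⟩ := hy
          refine ⟨N.mul_mem hg hg, ?_⟩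
          have h1 : (⟨g * g, N.mul_mem hg hg⟩ : N) = ⟨g, hg⟩ * ⟨g, hg⟩ := rfl
          rw [h1, map_mul]
          rcases e ⟨g, hg⟩ with i | i
          · exact ⟨i + i, QuaternionGroup.a_mul_a i i⟩
          · exact ⟨_, QuaternionGroup.xa_mul_xa i i⟩
        | one =>
          refine ⟨N.one_mem, 0, ?_⟩
          have h1 : (⟨1, N.one_mem⟩ : N) = 1 := rfl
          rw [h1, map_one, QuaternionGroup.one_def]
        | mul y z _ _ ihy ihz =>
          obtain ⟨hy, i, hi⟩ := ihy
          obtain ⟨hz, j, hj⟩ := ihz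
          refine ⟨N.mul_mem hy hz, i + j, ?_⟩
          have h1 : (⟨y * z, N.mul_mem hy hz⟩ : N) = ⟨y, hy⟩ * ⟨z, hz⟩ := rfl
          rw [h1, map_mul, hi, hj, QuaternionGroup.a_mul_a]
        | inv y _ ihy =>
          obtain ⟨hy, i, hi⟩ := ihy
          refine ⟨N.inv_mem hy, -i, ?_⟩
          have h1 : (⟨y⁻¹, N.inv_mem hy⟩ : N) = ⟨y, hy⟩⁻¹ := rfl
          rw [h1, map_inv, hi]
          apply inv_eq_of_mul_eq_one_right
          rw [QuaternionGroup.a_mul_a, add_neg_cancel, QuaternionGroup.a_zero]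
      have hMN : M ≤ N := fun x hx => (hP x hx).1
      have hMc : IsMulCommutative M := by
        refine ⟨⟨fun x y => ?_⟩⟩
        apply Subtype.ext
        obtain ⟨hx, i, hi⟩ := hP x x.2
        obtain ⟨hy, j, hj⟩ := hP y y.2
        have h1 : e (⟨x, hx⟩ * ⟨y, hy⟩) = e (⟨y, hy⟩ * ⟨x, hx⟩) := by
          rw [map_mul, map_mul, hi, hj, QuaternionGroup.a_mul_a, QuaternionGroup.a_mul_a, add_comm]
        have h2 := e.injective h1
        have h4 : (x : H) * y = y * x := congrArg Subtype.val h2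
        rw [Subgroup.coe_mul, Subgroup.coe_mul]
        exact h4
      have hMn : M.Normal := by
        refine ⟨fun x hx γ => ?_⟩
        induction hx using Subgroup.closure_induction with
        | mem y hy =>
          obtain ⟨g, hg, rfl⟩ := hy
          apply Subgroup.subset_closure
          refine ⟨γ * g * γ⁻¹, hNn.conj_mem g hg γ, ?_⟩
          group
        | one => simp
        | mul y z _ _ ihy ihz =>
          have : γ * (y * z) * γ⁻¹ = (γ * y * γ⁻¹) * (γ * z * γ⁻¹) := by group
          rw [this]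
          exact M.mul_mem ihy ihz
        | inv y _ ihy =>
          have : γ * y⁻¹ * γ⁻¹ = (γ * y * γ⁻¹)⁻¹ := by group
          rw [this]
          exact M.inv_mem ihy
      have hcM := hcen M hMn hMN hMc
      set g : N := e.symm (QuaternionGroup.a 1) with hg
      set n₀ : N := e.symm (QuaternionGroup.xa 0) with hn₀
      have hgM : ((g * g : N) : H) ∈ M := by
        apply Subgroup.subset_closure
        exact ⟨(g : H), g.2, rfl⟩
      have h1 := hcM _ hgM (n₀ : H) n₀.2
      have h2 : (g * g) * n₀ = n₀ * (g * g) := Subtype.ext h1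
      have h3 := congrArg e h2
      simp only [map_mul, hg, hn₀, MulEquiv.apply_symm_apply] at h3
      exact quat_sq_not_central hk h3

end Cfsg.Agent.Helper3.S0686Lib
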