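import Cfsg.Agent.Helper27.S0745Defs
import Cfsg.Agent.Helper10.S0745CARDG

/-! # S0745 board, row CARDL: core (the statement of CARDSS for `Δ` enters as a hypothesis) -/

set_option autoImplicit false

namespace Cfsg.Agent.S0745P

open Equiv

variable {α : Type*} [Fintype α] [DecidableEq α]

/-- core of CARDL: `hSS` is the conclusion of `card_SS_mul G (t+1) h.hom1 Δ hΔ` -/
theorem card_L_aux_core {G : Subgroup (Perm α)} {t c r : ℕ} (h : Hyp G t c r) (Δ : Finset α)
    (hSS : (Fintype.card α).choose (t + 1) * Nat.card (SS G Δ) = Nat.card G) :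
    Nat.card (SS G Δ) * r = (t + 1).factorial := by
  have hG := card_G h
  have hdeg := h.deg
  set n := Fintype.card α with hn
  set L := Nat.card (SS G Δ) with hL
  set D := n.descFactorial t with hD
  have hGpos : 0 < Nat.card G := Nat.card_pos
  have hDc : 0 < D * c := by rw [← hG]; exact hGpos
  -- `(t+1)! * C(n,t+1) = (n - t) * D`
  have h1 : (t + 1).factorial * n.choose (t + 1) = (n - t) * D := by
    rw [← Nat.descFactorial_eq_factorial_mul_choose, Nat.descFactorial_succ]
  have h2 : n - t = r * c := by omega
  rw [h2] at h1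
  have h3 : (D * c) * (L * r) = (D * c) * (t + 1).factorial := by
    have e1 : (t + 1).factorial * (n.choose (t + 1) * L) = (t + 1).factorial * (D * c) := by
      rw [hSS, hG]
    have e2 : (t + 1).factorial * (n.choose (t + 1) * L) = (r * c * D) * L := by
      rw [← mul_assoc, h1]
    rw [e2] at e1
    calc (D * c) * (L * r) = (r * c * D) * L := by ring
      _ = (t + 1).factorial * (D * c) := e1
      _ = (D * c) * (t + 1).factorial := by ring
  exact Nat.eq_of_mul_eq_mul_left hDc h3

end Cfsg.Agent.S0745P
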