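import Mathlib
import Cfsg.Agent.Helper14.S2481.Defs
import Cfsg.Agent.Helper20.S2481AUB
import Cfsg.Agent.Helper20.S2481DIVSUMU

/-!
# S2481, piece ARITHU: the final inequality for the class number of `SU_n(q)`
-/

set_option autoImplicit false

namespace Cfsg.Agent.S2481P

namespace ARITHU

theorem AU_2_1_1 : AU 2 1 1 = 3 := by
  decide +kernel

theorem AU_2_2_2 : AU 2 2 2 = 9 := by
  decide +kernel

theorem AU_2_3_3 : AU 2 3 3 = 24 := by
  decide +kernel

theorem AU_2_6_6 : AU 2 6 6 = 324 := by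
  decide +kernel

/-- the case `q ≥ 3` -/
theorem case_ge3 (q n k : ℕ) (hq : 3 ≤ q) (hn : 2 ≤ n)
    (hup : (q + 1) * k ≤ AU q n n +
      ∑ d ∈ (Nat.gcd n (q + 1)).divisors.filter (fun d => 2 ≤ d),
        (d ^ 2 - 1) * AU q (n / d) (n / d)) :
    100 * k ≤ 826 * q ^ (n - 1) := by
  have h1 : AU q n n ≤ 3 * q ^ n := AU_bound_ge3 q hq n n
  have h2 : ∑ d ∈ (Nat.gcd n (q + 1)).divisors.filter (fun d => 2 ≤ d),
      (d ^ 2 - 1) * AU q (n / d) (n / d) ≤
      ∑ d ∈ (Nat.gcd n (q + 1)).divisors.filter (fun d => 2 ≤ d),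
        3 * ((d ^ 2 - 1) * q ^ (n / d)) := by
    apply Finset.sum_le_sum
    intro d _
    calc (d ^ 2 - 1) * AU q (n / d) (n / d) ≤ (d ^ 2 - 1) * (3 * q ^ (n / d)) :=
          Nat.mul_le_mul_left _ (AU_bound_ge3 q hq (n / d) (n / d))
      _ = 3 * ((d ^ 2 - 1) * q ^ (n / d)) := by ring
  rw [← Finset.mul_sum] at h2
  have h3 := sum_div_bound_U q n (by omega) hn
  obtain ⟨m, rfl⟩ : ∃ m, n = m + 1 := ⟨n - 1, by omega⟩
  simp only [Nat.add_sub_cancel] at h3 ⊢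
  have e : q ^ (m + 1) = q * q ^ m := by ring
  rw [e] at h1
  have hp : 0 < q ^ m := pow_pos (by omega) _
  -- (q+1) k ≤ 3 q q^m + 12 q^m
  have key : (q + 1) * k ≤ (3 * q + 12) * q ^ m := by
    calc (q + 1) * k ≤ _ := hup
      _ ≤ 3 * (q * q ^ m) + 3 * (4 * q ^ m) := by omega
      _ = (3 * q + 12) * q ^ m := by ring
  -- 100 (3q+12) ≤ 826 (q+1)
  have key2 : (q + 1) * (100 * k) ≤ (q + 1) * (826 * q ^ m) := by
    calc (q + 1) * (100 * k) = 100 * ((q + 1) * k) := by ring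
      _ ≤ 100 * ((3 * q + 12) * q ^ m) := Nat.mul_le_mul_left _ key
      _ = (100 * (3 * q + 12)) * q ^ m := by ring
      _ ≤ (826 * (q + 1)) * q ^ m := Nat.mul_le_mul_right _ (by omega)
      _ = (q + 1) * (826 * q ^ m) := by ring
  exact Nat.le_of_mul_le_mul_left key2 (by omega)

open Classical in
/-- the case `q = 2` -/
theorem case_two (n k : ℕ) (hn : 2 ≤ n)
    (hup : (2 + 1) * k ≤ AU 2 n n +
      ∑ d ∈ (Nat.gcd n (2 + 1)).divisors.filter (fun d => 2 ≤ d),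
        (d ^ 2 - 1) * AU 2 (n / d) (n / d)) :
    100 * k ≤ 826 * 2 ^ (n - 1) := by
  have h1 : 100 * AU 2 n n ≤ 850 * 2 ^ n := AU_bound_two n n
  have hg : Nat.gcd n 3 ∣ 3 := Nat.gcd_dvd_right _ _
  norm_num at hup
  rcases (Nat.dvd_prime Nat.prime_three).1 hg with h | h
  · rw [h] at hup
    have : (Nat.divisors 1).filter (fun d => 2 ≤ d) = ∅ := by decide
    rw [this, Finset.sum_empty, add_zero] at hup
    obtain ⟨m, rfl⟩ : ∃ m, n = m + 1 := ⟨n - 1, by omega⟩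
    simp only [Nat.add_sub_cancel]
    have e : 2 ^ (m + 1) = 2 * 2 ^ m := by ring
    rw [e] at h1
    omega
  · rw [h] at hup
    have : (Nat.divisors 3).filter (fun d => 2 ≤ d) = {3} := by decide
    rw [this, Finset.sum_singleton] at hup
    norm_num at hup
    have h3 : 3 ∣ n := h ▸ Nat.gcd_dvd_left n 3
    obtain ⟨m, rfl⟩ := h3
    rw [Nat.mul_div_cancel_left m (by norm_num : 0 < 3)] at hup
    have h2 : 100 * AU 2 m m ≤ 850 * 2 ^ m := AU_bound_two m m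
    rcases Nat.lt_or_ge m 3 with hm | hm
    · interval_cases m
      · omega
      · rw [AU_2_3_3, AU_2_1_1] at hup
        norm_num
        omega
      · rw [AU_2_6_6, AU_2_2_2] at hup
        norm_num
        omega
    · obtain ⟨j, rfl⟩ : ∃ j, m = j + 3 := ⟨m - 3, by omega⟩
      have e1 : 3 * (j + 3) - 1 = 3 * j + 8 := by omega
      rw [e1]
      have e2 : (2 : ℕ) ^ (3 * (j + 3)) = 512 * (2 ^ j) ^ 3 := by
        rw [← pow_mul]; ring
      have e3 : (2 : ℕ) ^ (3 * j + 8) = 256 * (2 ^ j) ^ 3 := by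
        rw [← pow_mul]; ring
      have e4 : (2 : ℕ) ^ (j + 3) = 8 * 2 ^ j := by ring
      rw [e2] at h1
      rw [e4] at h2
      rw [e3]
      have hp : 1 ≤ 2 ^ j := Nat.one_le_two_pow
      set x := 2 ^ j with hx
      have hx3 : x ≤ x ^ 3 := by nlinarith [Nat.pow_le_pow_left hp 2]
      -- 300 k ≤ 850*512 x^3 + 8*850*8 x ≤ 3 * 826 * 256 x^3
      nlinarith

end ARITHU

open Classical in
-- piece ARITHU (uses AUB2, AUB3, DIVSUMU; `q = 2`, `n = 3, 6` by computation: `AU 2 3 3 = 24`,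
-- `AU 2 6 6 = 324`, `AU 2 1 1 = 3`, `AU 2 2 2 = 9`)
theorem final_arith_U (q n k : ℕ) (hq : 2 ≤ q) (hn : 2 ≤ n)
    (hup : (q + 1) * k ≤ AU q n n +
      ∑ d ∈ (Nat.gcd n (q + 1)).divisors.filter (fun d => 2 ≤ d),
        (d ^ 2 - 1) * AU q (n / d) (n / d)) :
    100 * k ≤ 826 * q ^ (n - 1) := by
  rcases Nat.lt_or_ge q 3 with h | h
  · obtain rfl : q = 2 := by omega
    exact ARITHU.case_two n k hn hup
  · exact ARITHU.case_ge3 q n k h hn (by convert hup)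

end Cfsg.Agent.S2481P
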