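import Mathlib
import Cfsg.Agent.Helper4.S2522.Defs
import Cfsg.Agent.Helper23.S2522N1UNIQ

/-! S2522 piece N1TEST (helper3): a test pair `(v₃, t₃)` with `v₃ ∉ span {e, g e - e}` such that
`φ v₃ ≠ t₃` forces the compression of `g` along `(e, φ)` to be non-scalar.  Uses N1UNIQ. -/

set_option autoImplicit false

namespace Cfsg.Agent.S2522P

open Module

namespace N1TEST
variable {K : Type*} [Field K] {V : Type*} [AddCommGroup V] [Module K V]

theorem exists_notMem_span_pair [FiniteDimensional K V] (hn : 3 ≤ Module.finrank K V) (a b : V) :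
    ∃ v : V, v ∉ Submodule.span K {a, b} := by
  classical
  by_contra hcon
  push Not at hcon
  have htop : Submodule.span K ({a, b} : Set V) = ⊤ := by
    rw [eq_top_iff]
    intro v _
    exact hcon v
  have h1 : Module.finrank K (Submodule.span K ({a, b} : Set V)) ≤ 2 := by
    have h2 := finrank_span_le_card (R := K) ({a, b} : Set V)
    have h3 : (({a, b} : Set V)).toFinset.card ≤ 2 := by
      have : (({a, b} : Set V)).toFinset = ({a, b} : Finset V) := by
        ext x; simp
      rw [this]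
      exact Finset.card_le_two
    exact h2.trans h3
  rw [htop, finrank_top] at h1
  omega

theorem exists_test [FiniteDimensional K V] (hn : 3 ≤ Module.finrank K V) (g : Module.End K V)
    (hsurj : Function.Surjective g) (e : V) (hne : ∀ c : K, g e ≠ c • e) :
    ∃ (v₃ : V) (t₃ : K), v₃ ∉ Submodule.span K {e, g e - e} ∧
      ∀ (φ : Module.Dual K V) (_h1 : φ e = 1) (h : φ (g e) = 1), φ v₃ ≠ t₃ →
        ¬ ∃ c : K, comp g e φ h = c • (1 : Module.End K (LinearMap.ker φ)) := by
  classical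
  obtain ⟨v₃, hv₃⟩ := exists_notMem_span_pair (K := K) hn e (g e - e)
  by_cases hbad : ∃ (ψ : Module.Dual K V) (_ : ψ e = 1) (hψ : ψ (g e) = 1),
      ∃ c : K, comp g e ψ hψ = c • (1 : Module.End K (LinearMap.ker ψ))
  · obtain ⟨ψ, hψ1, hψ, hψs⟩ := hbad
    refine ⟨v₃, ψ v₃, hv₃, ?_⟩
    intro φ h1 h hφ hs
    have := N1UNIQ.phi_unique hn g hsurj e hne φ ψ h1 h hψ1 hψ hs hψs
    exact hφ (by rw [this])
  · refine ⟨v₃, 0, hv₃, ?_⟩
    intro φ h1 h _ hs
    exact hbad ⟨φ, h1, h, hs⟩

end N1TEST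

end Cfsg.Agent.S2522P
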