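import Mathlib
import Cfsg.Agent.Helper4.S2522.Defs

/-! S2522 piece N2A (helper3): if `g - 1` is onto and `dim V ≥ 4` then the compression minus one has
rank at least two.  Direct proof (no use of N2CRIT): the kernel of `comp - 1` injects, through
`g - 1`, into the line `K • g e`. -/

set_option autoImplicit false

namespace Cfsg.Agent.S2522P

open Module

namespace N2A
variable {K : Type*} [Field K] {V : Type*} [AddCommGroup V] [Module K V]

theorem ker_le_one [FiniteDimensional K V] (g : Module.End K V)
    (hinj : Function.Injective ⇑(g - 1 : Module.End K V)) (e : V) (φ : Module.Dual K V)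
    (h : φ (g e) = 1) :
    Module.finrank K (LinearMap.ker (comp g e φ h - 1)) ≤ 1 := by
  classical
  -- the map `w ↦ (g - 1) w` from `ker (comp - 1)` into `span {g e}`
  have hmem : ∀ w : LinearMap.ker (comp g e φ h - 1),
      (g - 1) ((w : LinearMap.ker φ) : V) ∈ Submodule.span K {g e} := by
    intro w
    have hw := w.2
    rw [LinearMap.mem_ker] at hw
    have hw' : (((comp g e φ h - 1) (w : LinearMap.ker φ) : LinearMap.ker φ) : V) = 0 := by
      rw [hw]; rfl
    rw [LinearMap.sub_apply, Submodule.coe_sub, comp_coe, Module.End.one_apply] at hw'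
    have : (g - 1) ((w : LinearMap.ker φ) : V)
        = φ (g ((w : LinearMap.ker φ) : V)) • g e := by
      rw [LinearMap.sub_apply, Module.End.one_apply]
      have e1 : g ((w : LinearMap.ker φ) : V) - ((w : LinearMap.ker φ) : V)
          = (g ((w : LinearMap.ker φ) : V) - φ (g ((w : LinearMap.ker φ) : V)) • g e
              - ((w : LinearMap.ker φ) : V)) + φ (g ((w : LinearMap.ker φ) : V)) • g e := by
        abel
      rw [e1, hw', zero_add]
    rw [this]
    exact Submodule.smul_mem _ _ (Submodule.mem_span_singleton_self _)
  let f : LinearMap.ker (comp g e φ h - 1) →ₗ[K] Submodule.span K {g e} :=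
    { toFun := fun w => ⟨(g - 1) ((w : LinearMap.ker φ) : V), hmem w⟩
      map_add' := by
        intro a b
        apply Subtype.ext
        simp only [Submodule.coe_add, map_add]
      map_smul' := by
        intro c a
        apply Subtype.ext
        simp only [Submodule.coe_smul, map_smul, RingHom.id_apply] }
  have hf : Function.Injective f := by
    intro a b hab
    have h1 : (g - 1) ((a : LinearMap.ker φ) : V) = (g - 1) ((b : LinearMap.ker φ) : V) :=
      congrArg Subtype.val hab
    have h2 := hinj h1
    exact Subtype.ext (Subtype.ext h2)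
  calc Module.finrank K (LinearMap.ker (comp g e φ h - 1))
      ≤ Module.finrank K (Submodule.span K {g e}) :=
        LinearMap.finrank_le_finrank_of_injective hf
    _ ≤ 1 := by
        have := finrank_span_le_card (R := K) ({g e} : Set V)
        simpa using this

theorem rank_of_top [FiniteDimensional K V] (hn : 4 ≤ Module.finrank K V) (g : Module.End K V)
    (htop : LinearMap.range (g - 1) = ⊤) (e : V) (φ : Module.Dual K V) (h1 : φ e = 1)
    (h : φ (g e) = 1) : 2 ≤ Module.finrank K (LinearMap.range (comp g e φ h - 1)) := by
  have hsurj : Function.Surjective ⇑(g - 1 : Module.End K V) := LinearMap.range_eq_top.mp htop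
  have hinj : Function.Injective ⇑(g - 1 : Module.End K V) := LinearMap.injective_iff_surjective.mpr hsurj
  have hk := ker_le_one g hinj e φ h
  have hφ : φ ≠ 0 := by
    intro h0
    rw [h0] at h1
    simp at h1
  have hW := Module.Dual.finrank_ker_add_one_of_ne_zero hφ
  have hrn := LinearMap.finrank_range_add_finrank_ker (comp g e φ h - 1)
  omega

end N2A

end Cfsg.Agent.S2522P
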