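import Mathlib
import Cfsg.Agent.Helper5.S2536DefsA

/-! S2536 stage 2, pieces PISUP and NORMALHALL (helper3). -/

set_option autoImplicit false

namespace Cfsg.Agent.S2536P

open Equiv Nat

universe u v

section General

variable {G : Type u} [Group G] [Finite G]

omit [Finite G] in
theorem PISUP_relIndex_mul_card {H K : Subgroup G} (h : H ≤ K) :
    H.relIndex K * Nat.card H = Nat.card K := by
  have := Subgroup.card_mul_index (H.subgroupOf K)
  rw [Nat.card_congr (Subgroup.subgroupOfEquivOfLe h).toEquiv] at this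
  rw [mul_comm]
  exact this

/-- NORMALHALL -/
theorem isPiHall_subgroupOf_normal {π : Set ℕ} {H N : Subgroup G} [N.Normal]
    (hH : Cfsg.IsPiHall π H) : Cfsg.IsPiHall π (H.subgroupOf N) := by
  obtain ⟨h1, h2⟩ := hH
  refine ⟨fun p hp hpd => ?_, fun p hp hpπ hpd => ?_⟩
  · apply h1 p hp
    have e : Nat.card (H.subgroupOf N) = Nat.card (H ⊓ N : Subgroup G) := by
      rw [← Subgroup.inf_subgroupOf_right]
      exact Nat.card_congr (Subgroup.subgroupOfEquivOfLe inf_le_right).toEquiv
    rw [e] at hpd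
    exact hpd.trans (Subgroup.card_dvd_of_le inf_le_left)
  · apply h2 p hp hpπ
    -- `(H.subgroupOf N).index = H.relIndex N = H.relIndex (H ⊔ N) ∣ H.index`
    have e1 : (H.subgroupOf N).index = H.relIndex N := rfl
    rw [e1] at hpd
    have key : H.relIndex N = H.relIndex (H ⊔ N) := by
      have a1 : N.relIndex (H ⊔ N) = N.relIndex H := Subgroup.relIndex_sup_right H N
      have a2 : N.relIndex (H ⊔ N) * Nat.card N = Nat.card (H ⊔ N : Subgroup G) := by
        have := PISUP_relIndex_mul_card (le_sup_right : N ≤ H ⊔ N)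
        exact this
      have a3 : H.relIndex (H ⊔ N) * Nat.card H = Nat.card (H ⊔ N : Subgroup G) :=
        PISUP_relIndex_mul_card (le_sup_left : H ≤ H ⊔ N)
      have a4 : (H ⊓ N).relIndex H * Nat.card (H ⊓ N : Subgroup G) = Nat.card H :=
        PISUP_relIndex_mul_card (inf_le_left : H ⊓ N ≤ H)
      have a5 : (H ⊓ N).relIndex N * Nat.card (H ⊓ N : Subgroup G) = Nat.card N :=
        PISUP_relIndex_mul_card (inf_le_right : H ⊓ N ≤ N)
      rw [Subgroup.inf_relIndex_left] at a4
      rw [Subgroup.inf_relIndex_right] at a5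
      have hpos : 0 < Nat.card H := Nat.card_pos
      have hpos2 : 0 < Nat.card (H ⊓ N : Subgroup G) := Nat.card_pos
      have hpos3 : 0 < N.relIndex H := by
        rcases Nat.eq_zero_or_pos (N.relIndex H) with h0 | h0
        · rw [h0, zero_mul] at a4; omega
        · exact h0
      -- |H ⊔ N| = [H:H∩N] |N| = [H:H∩N] [N:H∩N] |H∩N| = [N:H∩N] |H|
      have : H.relIndex (H ⊔ N) * Nat.card H = H.relIndex N * Nat.card H := by
        rw [a3, ← a2, a1, ← a5, ← a4]
        ring
      exact (Nat.eq_of_mul_eq_mul_right hpos this).symm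
    rw [key] at hpd
    exact hpd.trans (Subgroup.relIndex_dvd_index_of_le le_sup_left)

omit [Finite G] in
/-- PISUP -/
theorem card_sup_dvd_mul {H K : Subgroup G} (h : H ≤ Subgroup.normalizer (K : Set G)) :
    Nat.card (H ⊔ K : Subgroup G) ∣ Nat.card H * Nat.card K := by
  set M : Subgroup G := H ⊔ K with hM
  have hHM : H ≤ M := le_sup_left
  have hKM : K ≤ M := le_sup_right
  have hMN : M ≤ Subgroup.normalizer (K : Set G) := sup_le h Subgroup.le_normalizer
  have : (K.subgroupOf M).Normal := (Subgroup.normal_subgroupOf_iff_le_normalizer hKM).2 hMN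
  have htop : H.subgroupOf M ⊔ K.subgroupOf M = ⊤ := by
    rw [← Subgroup.subgroupOf_sup hHM hKM, Subgroup.subgroupOf_self]
  have h1 : (K.subgroupOf M).relIndex (H.subgroupOf M ⊔ K.subgroupOf M) =
      (K.subgroupOf M).relIndex (H.subgroupOf M) := Subgroup.relIndex_sup_right _ _
  rw [htop, Subgroup.relIndex_top_right] at h1
  have h2 : (K.subgroupOf M).relIndex (H.subgroupOf M) ∣ Nat.card (H.subgroupOf M) :=
    Subgroup.relIndex_dvd_card _ _
  have eH : Nat.card (H.subgroupOf M) = Nat.card H :=
    Nat.card_congr (Subgroup.subgroupOfEquivOfLe hHM).toEquiv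
  have eK : Nat.card (K.subgroupOf M) = Nat.card K :=
    Nat.card_congr (Subgroup.subgroupOfEquivOfLe hKM).toEquiv
  have h3 : Nat.card (K.subgroupOf M) * (K.subgroupOf M).index = Nat.card M :=
    Subgroup.card_mul_index _
  rw [← h3, h1, eK, mul_comm]
  rw [eH] at h2
  exact Nat.mul_dvd_mul h2 (dvd_refl _)

end General

end Cfsg.Agent.S2536P
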