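import Mathlib
import Cfsg.Prelude.Def_Classical
import Cfsg.Agent.Helper8.MatBNDefs
import Cfsg.Agent.Helper8.S2546Defs
import Cfsg.Agent.Helper17.S2546PRES
import Cfsg.Agent.Helper17.S2546XMEM
import Cfsg.Agent.Helper17.S2546SUPP
import Cfsg.Agent.Helper17.S2547Defs

set_option autoImplicit false
open scoped Matrix

/-! # S2547 piece TNORM: diagonal elements of `SO(J)` normalize the simple root sets. -/

namespace Cfsg.Agent.S2547P

open Cfsg.Agent.MatBN Cfsg.Agent.S2546P Cfsg.Agent.S2546P.SUPP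

variable {K : Type*} [Field K]

namespace TNORM

theorem diag_eq {n : ℕ} (T : Matrix (Fin n) (Fin n) K) (hT : IsDg T) :
    T = Matrix.diagonal (fun i => T i i) := by
  ext a c
  by_cases h : a = c
  · subst h
    rw [Matrix.diagonal_apply_eq]
  · rw [Matrix.diagonal_apply_ne _ h, hT a c h]

theorem diag_ne_zero {n : ℕ} (T T' : Matrix (Fin n) (Fin n) K) (hT : IsDg T) (h1 : T * T' = 1)
    (i : Fin n) : T i i ≠ 0 := by
  intro h0
  have h2 : (T * T') i i = 1 := by rw [h1, Matrix.one_apply_eq]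
  rw [Matrix.mul_apply] at h2
  have h3 : ∑ k, T i k * T' k i = 0 := by
    apply Finset.sum_eq_zero
    intro k _
    by_cases hk : i = k
    · subst hk
      rw [h0, zero_mul]
    · rw [hT i k hk, zero_mul]
  rw [h3] at h2
  exact zero_ne_one h2

theorem conj_diag {n : ℕ} (d : Fin n → K) (hne : ∀ i, d i ≠ 0) (T' M : Matrix (Fin n) (Fin n) K)
    (h2 : T' * Matrix.diagonal d = 1) (a c : Fin n) :
    (Matrix.diagonal d * M * T') a c = d a * M a c * (d c)⁻¹ := by
  have hT' : T' = Matrix.diagonal (fun i => (d i)⁻¹) := by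
    have e1 : Matrix.diagonal d * Matrix.diagonal (fun i => (d i)⁻¹) = 1 := by
      rw [Matrix.diagonal_mul_diagonal]
      have : (fun i => d i * (d i)⁻¹) = fun _ => (1 : K) := by
        funext i
        exact mul_inv_cancel₀ (hne i)
      rw [this, Matrix.diagonal_one]
    calc T' = T' * (Matrix.diagonal d * Matrix.diagonal (fun i => (d i)⁻¹)) := by rw [e1, mul_one]
      _ = (T' * Matrix.diagonal d) * Matrix.diagonal (fun i => (d i)⁻¹) := by rw [mul_assoc]
      _ = Matrix.diagonal (fun i => (d i)⁻¹) := by rw [h2, one_mul]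
  rw [hT', Matrix.mul_diagonal, Matrix.diagonal_mul]

theorem conj_apply {n : ℕ} (T T' M : Matrix (Fin n) (Fin n) K) (hT : IsDg T) (h1 : T * T' = 1)
    (h2 : T' * T = 1) (a c : Fin n) : (T * M * T') a c = T a a * M a c * (T c c)⁻¹ := by
  have hne := diag_ne_zero T T' hT h1
  have h3 := conj_diag (fun i => T i i) hne T' M (by rw [← diag_eq T hT]; exact h2) a c
  rwa [← diag_eq T hT] at h3

theorem diag_rev {n : ℕ} (T : Matrix (Fin n) (Fin n) K) (hT : IsDg T)
    (hP : PresJ (RingHom.id K) n T) (a : Fin n) : T a a * T a.rev a.rev = 1 := by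
  have h := hP a a.rev
  rw [if_pos rfl] at h
  rw [← h]
  symm
  apply Finset.sum_eq_single a
  · intro i _ hia
    rw [hT i a hia, zero_mul]
  · intro h0
    exact absurd (Finset.mem_univ a) h0

end TNORM

/-- TNORM -/
theorem torus_conj_mem_X (n : ℕ) (hn : n % 2 = 1) (j : ℕ) (hj : j < n / 2) (t x : SOJ K n)
    (ht : IsDg (rhoO K n t)) (hx : x ∈ XsetO K n j) : t * x * t⁻¹ ∈ XsetO K n j := by
  have ht' : IsDg (rho (RingHom.id K) n t) := ht
  have hmul : rho (RingHom.id K) n t * rho (RingHom.id K) n t⁻¹ = 1 := by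
    rw [← map_mul, mul_inv_cancel, map_one]
  have hmul' : rho (RingHom.id K) n t⁻¹ * rho (RingHom.id K) n t = 1 := by
    rw [← map_mul, inv_mul_cancel, map_one]
  have hP := presJ_of_mem (RingHom.id K) n t
  have hne := TNORM.diag_ne_zero _ _ ht' hmul
  have hd := TNORM.diag_rev _ ht' hP
  have hconj : ∀ a c, rho (RingHom.id K) n (t * x * t⁻¹) a c =
      rho (RingHom.id K) n t a a * rho (RingHom.id K) n x a c *
        (rho (RingHom.id K) n t c c)⁻¹ := by
    intro a c
    rw [map_mul, map_mul]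
    exact TNORM.conj_apply _ _ _ ht' hmul hmul' a c
  generalize rho (RingHom.id K) n t = T at ht' hne hd hconj
  show rho (RingHom.id K) n (t * x * t⁻¹) ∈ XMat (RingHom.id K) n j
  have hx' : rho (RingHom.id K) n x ∈ XMat (RingHom.id K) n j := hx
  unfold XMat at hx' ⊢
  by_cases h1 : j + 1 < n / 2
  · rw [if_pos h1] at hx' ⊢
    obtain ⟨c, hc⟩ := hx'
    have hj0 : j < n := by omega
    have hj1 : j + 1 < n := by omega
    refine ⟨c * T ⟨j, hj0⟩ ⟨j, hj0⟩ * (T ⟨j + 1, hj1⟩ ⟨j + 1, hj1⟩)⁻¹, ?_⟩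
    ext a b
    rw [hconj, hc, xL_apply, xL_apply]
    simp only [RingHom.id_apply]
    have ha := a.2
    have hb := b.2
    by_cases hab : a = b
    · subst hab
      have e1 : ¬ (a.val = j ∧ a.val = j + 1) := by omega
      have e2 : ¬ (a.val = n - 2 - j ∧ a.val = n - 1 - j) := by omega
      rw [if_pos rfl, if_neg e1, if_neg e2]
      have := hne a
      field_simp
      ring
    · rw [if_neg hab]
      by_cases hA : a.val = j ∧ b.val = j + 1
      · have e2 : ¬ (a.val = n - 2 - j ∧ b.val = n - 1 - j) := by omega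
        rw [if_pos hA, if_neg e2]
        have ea : a = ⟨j, hj0⟩ := Fin.ext hA.1
        have eb : b = ⟨j + 1, hj1⟩ := Fin.ext hA.2
        rw [ea, eb]
        ring
      · rw [if_neg hA]
        by_cases hB : a.val = n - 2 - j ∧ b.val = n - 1 - j
        · rw [if_pos hB]
          have ea : (⟨j + 1, hj1⟩ : Fin n).rev = a := by
            apply Fin.ext
            rw [Fin.val_rev, hB.1]
            simp only
            omega
          have eb : (⟨j, hj0⟩ : Fin n).rev = b := by
            apply Fin.ext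
            rw [Fin.val_rev, hB.2]
            simp only
            omega
          have h3 := hd ⟨j + 1, hj1⟩
          have h4 := hd ⟨j, hj0⟩
          rw [ea] at h3
          rw [eb] at h4
          have h5 : T a a = (T ⟨j + 1, hj1⟩ ⟨j + 1, hj1⟩)⁻¹ := by
            rw [mul_comm] at h3
            exact eq_inv_of_mul_eq_one_left h3
          have h6 : (T b b)⁻¹ = T ⟨j, hj0⟩ ⟨j, hj0⟩ := by
            exact (eq_inv_of_mul_eq_one_left h4).symm
          rw [h5, h6]
          ring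
        · rw [if_neg hB]
          ring
  · rw [if_neg h1] at hx' ⊢
    have h2' : ¬ (n % 2 = 0) := by omega
    rw [if_neg h2'] at hx' ⊢
    obtain ⟨p, q, hpq, hc⟩ := hx'
    simp only [RingHom.id_apply] at hpq
    have hm0 : n / 2 - 1 < n := by omega
    have hm1 : n / 2 < n := by omega
    have hm2 : n / 2 + 1 < n := by omega
    have r0 : (⟨n / 2 - 1, hm0⟩ : Fin n).rev = ⟨n / 2 + 1, hm2⟩ := by
      apply Fin.ext
      rw [Fin.val_rev]
      simp only
      omega
    have r1 : (⟨n / 2, hm1⟩ : Fin n).rev = ⟨n / 2, hm1⟩ := by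
      apply Fin.ext
      rw [Fin.val_rev]
      simp only
      omega
    have h3 := hd ⟨n / 2 - 1, hm0⟩
    have h4 := hd ⟨n / 2, hm1⟩
    rw [r0] at h3
    rw [r1] at h4
    have n0 := hne ⟨n / 2 - 1, hm0⟩
    have n1 := hne ⟨n / 2, hm1⟩
    have n2 := hne ⟨n / 2 + 1, hm2⟩
    have h5 : (T ⟨n / 2 + 1, hm2⟩ ⟨n / 2 + 1, hm2⟩)⁻¹ = T ⟨n / 2 - 1, hm0⟩ ⟨n / 2 - 1, hm0⟩ :=
      (eq_inv_of_mul_eq_one_left h3).symm
    have h6 : (T ⟨n / 2, hm1⟩ ⟨n / 2, hm1⟩)⁻¹ = T ⟨n / 2, hm1⟩ ⟨n / 2, hm1⟩ :=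
      (eq_inv_of_mul_eq_one_left h4).symm
    refine ⟨p * T ⟨n / 2 - 1, hm0⟩ ⟨n / 2 - 1, hm0⟩ * (T ⟨n / 2, hm1⟩ ⟨n / 2, hm1⟩)⁻¹,
      q * T ⟨n / 2 - 1, hm0⟩ ⟨n / 2 - 1, hm0⟩ * (T ⟨n / 2 + 1, hm2⟩ ⟨n / 2 + 1, hm2⟩)⁻¹, ?_, ?_⟩
    · simp only [RingHom.id_apply]
      rw [h5, h6]
      generalize T ⟨n / 2 - 1, hm0⟩ ⟨n / 2 - 1, hm0⟩ = d0 at *
      generalize T ⟨n / 2, hm1⟩ ⟨n / 2, hm1⟩ = d1 at *
      linear_combination (d0 * d0) * hpq + (p * p * d0 * d0) * h4
    · ext a b
      rw [hconj, hc, xO_apply, xO_apply]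
      simp only [RingHom.id_apply]
      have ha := a.2
      have hb := b.2
      by_cases hab : a = b
      · subst hab
        have e1 : ¬ (a.val = n / 2 - 1 ∧ a.val = n / 2) := by omega
        have e2 : ¬ (a.val = n / 2 - 1 ∧ a.val = n / 2 + 1) := by omega
        have e3 : ¬ (a.val = n / 2 ∧ a.val = n / 2 + 1) := by omega
        rw [if_pos rfl, if_neg e1, if_neg e2, if_neg e3]
        have := hne a
        field_simp
        ring
      · rw [if_neg hab]
        by_cases hA : a.val = n / 2 - 1 ∧ b.val = n / 2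
        · have e2 : ¬ (a.val = n / 2 - 1 ∧ b.val = n / 2 + 1) := by omega
          have e3 : ¬ (a.val = n / 2 ∧ b.val = n / 2 + 1) := by omega
          rw [if_pos hA, if_neg e2, if_neg e3]
          have ea : a = ⟨n / 2 - 1, hm0⟩ := Fin.ext hA.1
          have eb : b = ⟨n / 2, hm1⟩ := Fin.ext hA.2
          rw [ea, eb]
          ring
        · rw [if_neg hA]
          by_cases hB : a.val = n / 2 - 1 ∧ b.val = n / 2 + 1
          · have e3 : ¬ (a.val = n / 2 ∧ b.val = n / 2 + 1) := by omega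
            rw [if_pos hB, if_neg e3]
            have ea : a = ⟨n / 2 - 1, hm0⟩ := Fin.ext hB.1
            have eb : b = ⟨n / 2 + 1, hm2⟩ := Fin.ext hB.2
            rw [ea, eb]
            ring
          · rw [if_neg hB]
            by_cases hC : a.val = n / 2 ∧ b.val = n / 2 + 1
            · rw [if_pos hC]
              have ea : a = ⟨n / 2, hm1⟩ := Fin.ext hC.1
              have eb : b = ⟨n / 2 + 1, hm2⟩ := Fin.ext hC.2
              rw [ea, eb, h5, h6]
              ring
            · rw [if_neg hC]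
              ring

end Cfsg.Agent.S2547P
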