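import Mathlib
import Cfsg.Agent.Helper2.SL2Quaternion

/-! S2787 piece SL2P (driver lead): two non-commuting elements of order > 2 in a 2-subgroup of
`SL₂(p)`, from the quaternion Sylow 2-subgroups (S0261). -/

set_option autoImplicit false

namespace Cfsg.Agent.S2787P

namespace SL2P

theorem two_ne_zero' (k : ℕ) (hk : 1 ≤ k) : (2 : ZMod (2 * 2 ^ k)) ≠ 0 := by
  have h2 : 2 ≤ 2 ^ k := by
    calc 2 = 2 ^ 1 := (pow_one 2).symm
      _ ≤ 2 ^ k := Nat.pow_le_pow_right (by norm_num) hk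
  have h : ((2 : ℕ) : ZMod (2 * 2 ^ k)) ≠ 0 := by
    rw [ne_eq, ZMod.natCast_eq_zero_iff]
    intro hd
    have := Nat.le_of_dvd (by norm_num) hd
    omega
  exact_mod_cast h

theorem half_ne_zero (k : ℕ) : ((2 ^ k : ℕ) : ZMod (2 * 2 ^ k)) ≠ 0 := by
  rw [ne_eq, ZMod.natCast_eq_zero_iff]
  intro hd
  have hpos : 0 < 2 ^ k := by positivity
  have := Nat.le_of_dvd hpos hd
  omega

end SL2P

open SL2P in
/-- SL2P (from landed S0261 / Helper2.SL2Q.sylow_quaternion). -/
theorem sl2_witness (p : ℕ) [Fact p.Prime] (hp : p ≠ 2) :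
    ∃ T : Subgroup (Matrix.SpecialLinearGroup (Fin 2) (ZMod p)), IsPGroup 2 T ∧
      ∃ x ∈ T, ∃ y ∈ T, x * x ≠ 1 ∧ y * y ≠ 1 ∧ x * y ≠ y * x := by
  have hodd : Odd (Fintype.card (ZMod p)) := by
    rw [ZMod.card]
    exact (Fact.out : p.Prime).odd_of_ne_two hp
  have : Fact (Nat.Prime 2) := ⟨Nat.prime_two⟩
  obtain ⟨P⟩ : Nonempty (Sylow 2 (Matrix.SpecialLinearGroup (Fin 2) (ZMod p))) := inferInstance
  obtain ⟨k, hk, ⟨e⟩⟩ := Cfsg.Agent.Helper2.SL2Q.sylow_quaternion hodd P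
  refine ⟨P, P.isPGroup', ?_⟩
  have h2 := two_ne_zero' k hk
  have hn := half_ne_zero k
  let x : ↥(P : Subgroup (Matrix.SpecialLinearGroup (Fin 2) (ZMod p))) :=
    e.symm (QuaternionGroup.a 1)
  let y : ↥(P : Subgroup (Matrix.SpecialLinearGroup (Fin 2) (ZMod p))) :=
    e.symm (QuaternionGroup.xa 0)
  have hx : x * x ≠ 1 := by
    show e.symm (QuaternionGroup.a 1) * e.symm (QuaternionGroup.a 1) ≠ 1
    rw [← map_mul, ne_eq, MulEquiv.map_eq_one_iff, QuaternionGroup.a_mul_a, QuaternionGroup.one_def,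
      QuaternionGroup.a.injEq]
    intro h
    apply h2
    rw [← h]
    norm_num
  have hy : y * y ≠ 1 := by
    show e.symm (QuaternionGroup.xa 0) * e.symm (QuaternionGroup.xa 0) ≠ 1
    rw [← map_mul, ne_eq, MulEquiv.map_eq_one_iff, QuaternionGroup.xa_mul_xa,
      QuaternionGroup.one_def, QuaternionGroup.a.injEq]
    intro h
    apply hn
    rw [← h]
    push_cast
    ring
  have hxy : x * y ≠ y * x := by
    show e.symm (QuaternionGroup.a 1) * e.symm (QuaternionGroup.xa 0) ≠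
      e.symm (QuaternionGroup.xa 0) * e.symm (QuaternionGroup.a 1)
    rw [← map_mul, ← map_mul, ne_eq, EmbeddingLike.apply_eq_iff_eq, QuaternionGroup.a_mul_xa,
      QuaternionGroup.xa_mul_a, QuaternionGroup.xa.injEq]
    intro h
    apply h2
    linear_combination (-1 : ZMod (2 * 2 ^ k)) * h
  refine ⟨x.1, x.2, y.1, y.2, ?_, ?_, ?_⟩
  · intro h
    apply hx
    apply Subtype.ext
    exact h
  · intro h
    apply hy
    apply Subtype.ext
    exact h
  · intro h
    apply hxy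
    apply Subtype.ext
    exact h

end Cfsg.Agent.S2787P
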