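import Cfsg.Prelude.Def_LocalStructure
import Cfsg.Agent.Helper14.Amalgam6
import Cfsg.Agent.Helper14.Irreducible2
import Cfsg.Agent.Helper25.S2856DISTSMUL
import Cfsg.Agent.Helper25.S2856ZSMUL
import Cfsg.Agent.Helper20.S2856ZLE

/-! S2856/S2857 piece VGEN (driver helper14): `V_λ^{(k+1)}` lies in every `G_λ`-invariant subgroup containing
`V_μ^{(k)}` for one neighbour `μ` of `λ`. -/

set_option autoImplicit false

namespace Cfsg.Agent.S2856P

open Cfsg Cfsg.Agent.Helper14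

variable {X : Type*} [Group X] {p : ℕ} [Fact p.Prime] (M₁ M₂ : Subgroup X)

namespace VGEN

/-- one half of VSMUL, proved here directly from DISTSMUL and ZSMUL -/
theorem viter_smul_le (g : X) (k : ℕ) (ν : CosetVertex M₁ M₂) :
    vertexVIter p M₁ M₂ k (g • ν) ≤ (vertexVIter p M₁ M₂ k ν).map (cj g) := by
  unfold vertexVIter
  apply iSup_le
  rintro ⟨μ, hμ⟩
  show vertexZ p μ ≤ _
  have h1 : μ = g • (g⁻¹ • μ) := by rw [smul_inv_smul]
  have h2 : (cosetGraph M₁ M₂).dist ν (g⁻¹ • μ) ≤ k := by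
    rw [← dist_smul M₁ M₂ g ν (g⁻¹ • μ), ← h1]
    exact hμ
  rw [h1, vertexZ_smul M₁ M₂ g (g⁻¹ • μ)]
  apply Subgroup.map_mono
  exact le_iSup (fun ν' : {ν' : CosetVertex M₁ M₂ // (cosetGraph M₁ M₂).dist ν ν' ≤ k} =>
    vertexZ p (ν' : CosetVertex M₁ M₂)) ⟨g⁻¹ • μ, h2⟩

end VGEN

/-- piece VGEN: `V_λ^{(k+1)}` lies in every `G_λ`-invariant subgroup containing `V_μ^{(k)}` for one
neighbour `μ` of `λ`. -/
theorem vertexVIter_succ_le (h : IsCharPAmalgamPair p M₁ M₂) (k : ℕ) (lam μ : CosetVertex M₁ M₂)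
    (hadj : (cosetGraph M₁ M₂).Adj lam μ) (N : Subgroup X)
    (hN : MulAction.stabilizer X lam ≤ Subgroup.normalizer (N : Set X))
    (hle : vertexVIter p M₁ M₂ k μ ≤ N) : vertexVIter p M₁ M₂ (k + 1) lam ≤ N := by
  have hconn : (cosetGraph M₁ M₂).Connected := cosetGraph_connected M₁ M₂ h.1.1
  -- every neighbour of `lam` has `V^{(k)} ≤ N`
  have hA : ∀ μ' : CosetVertex M₁ M₂, (cosetGraph M₁ M₂).Adj lam μ' →
      vertexVIter p M₁ M₂ k μ' ≤ N := by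
    intro μ' hadj'
    obtain ⟨g, hg, rfl⟩ := neighbours_transitive M₁ M₂ lam μ μ' hadj hadj'
    have hgN : N.map (cj g) = N := mem_normalizer_iff_map_cj.1 (hN hg)
    rw [← hgN]
    exact le_trans (VGEN.viter_smul_le M₁ M₂ g k μ) (Subgroup.map_mono hle)
  have hZ : ∀ μ' : CosetVertex M₁ M₂, vertexZ p μ' ≤ vertexVIter p M₁ M₂ k μ' := by
    intro μ'
    unfold vertexVIter
    exact le_iSup (fun ν : {ν : CosetVertex M₁ M₂ // (cosetGraph M₁ M₂).dist μ' ν ≤ k} =>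
      vertexZ p (ν : CosetVertex M₁ M₂)) ⟨μ', by rw [SimpleGraph.dist_self]; exact Nat.zero_le k⟩
  unfold vertexVIter
  apply iSup_le
  rintro ⟨ν, hν⟩
  show vertexZ p ν ≤ N
  by_cases hνl : lam = ν
  · subst hνl
    refine le_trans (vertexZ_le_iSup_adj M₁ M₂ h lam) ?_
    apply iSup_le
    rintro ⟨μ', hadj'⟩
    exact le_trans (hZ μ') (hA μ' hadj')
  · obtain ⟨w, hw, hlt⟩ := exists_adj_dist_lt (cosetGraph M₁ M₂) hconn hνl
    have hwk : (cosetGraph M₁ M₂).dist w ν ≤ k := by omega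
    refine le_trans ?_ (hA w hw)
    unfold vertexVIter
    exact le_iSup (fun ν' : {ν' : CosetVertex M₁ M₂ // (cosetGraph M₁ M₂).dist w ν' ≤ k} =>
      vertexZ p (ν' : CosetVertex M₁ M₂)) ⟨ν, hwk⟩

end Cfsg.Agent.S2856P
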