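import Mathlib
import Cfsg.Prelude.Def_JComponents
import Cfsg.Prelude.Def_Involutions
import Cfsg.Agent.Helper5.S2951Defs
import Cfsg.Agent.Helper7.S2951FIN
import Cfsg.Agent.Helper10.S2951PSTRUCT
import Cfsg.Agent.Helper10.S2951E3

/-! S2951 board, piece E4 (blueprint §6 (E4)): `L₁ = K₁ ⊔ T`. -/

set_option autoImplicit false

universe u

namespace Cfsg.Agent.S2951P

open Cfsg Subgroup Cfsg.Agent.Helper15.JComp Cfsg.Agent.S2951P

variable {G : Type u} [Group G] [Finite G] {M T K K' L L' : Subgroup G}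

omit [Finite G] in
/-- `[K : H] * |H| = |K|` for `H ≤ K`. -/
theorem E4_aux_relIndex_mul_card {H K : Subgroup G} (h : H ≤ K) :
    H.relIndex K * Nat.card ↥H = Nat.card ↥K := by
  have h1 := (H.subgroupOf K).index_mul_card
  rwa [Nat.card_congr (Subgroup.subgroupOfEquivOfLe h).toEquiv] at h1

omit [Finite G] in
/-- `m K m⁻¹ = K` puts `m` into the normalizer -/
theorem E4_aux_mem_normalizer {K : Subgroup G} {m : G}
    (h : K.map (MulAut.conj m).toMonoidHom = K) : m ∈ normalizer (K : Set G) := by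
  rw [mem_normalizer_iff]
  intro x
  constructor
  · intro hx
    rw [← h]
    exact ⟨x, hx, rfl⟩
  · intro hx
    rw [← h] at hx
    obtain ⟨y, hy, hyx⟩ := hx
    have : y = x := by
      have h2 : m * y * m⁻¹ = m * x * m⁻¹ := hyx
      have : y = m⁻¹ * (m * y * m⁻¹) * m := by group
      rw [this, h2]; group
    rw [← this]; exact hy

/-- a `J(T)`-component has at least 12 elements -/
theorem E4_aux_card_ge {T K : Subgroup G} (hK : IsJComponent T K) : 12 ≤ Nat.card ↥K := by
  have h1 := E4_aux_relIndex_mul_card (Cfsg.Agent.Helper14.pCoreOf_le 2 K)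
  rw [jc_relIndex hK] at h1
  have h2 : Nat.card ↥(wOf K) ≤ Nat.card ↥(pCoreOf 2 K) :=
    Subgroup.card_le_of_le (wOf_le_pCoreOf K)
  rw [jc_card_wOf hK] at h2
  omega

/-- E4 (M) = (E4). -/
theorem E4 {K₁ K₂ L₁ L₂ : Subgroup G} (d : PairData M T K₁ K₂ L₁ L₂)
    (hiso : IsS4Type ↥(K₁ ⊔ T)) : L₁ = K₁ ⊔ T := by
  have c := d.c
  have hL2 : IsTwoLocal L₁ := d.lk₁.1.1
  have hKL : K₁ ≤ L₁ := le_sup_left.trans d.lk₁.2
  have hJL : thompsonSubgroupOf 2 T ≤ L₁ := le_sup_right.trans d.lk₁.2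
  have hLM : ¬ L₁ ≤ M := fun h => d.out₁ (hKL.trans h)
  have hSyl : IsSylowTwoIn T L₁ := (c.main hL2 hLM d.le₁).1.1
  have hN : normalizer (K₁ : Set G) = K₁ ⊔ T := E3 d hiso
  obtain ⟨-, -, -, -, hP5⟩ := PSTRUCT d.comp₁ hSyl hKL d.norm₁
  -- `|K₁| = 12`
  have hK1card : Nat.card ↥K₁ = 12 := by
    obtain ⟨T', -⟩ : ∃ T' : Sylow 2 ↥(K₁ ⊔ T), True := ⟨default, trivial⟩
    have hF := FIN hiso T'
    have hodd := hF.card_odd
    have heq : K₁.subgroupOf (K₁ ⊔ T) = closure {x : ↥(K₁ ⊔ T) | Odd (orderOf x)} := by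
      apply le_antisymm
      · -- `K₁` is generated by its elements of odd order
        have hgen : K₁ ≤ (closure {x : ↥(K₁ ⊔ T) | Odd (orderOf x)}).map (K₁ ⊔ T).subtype := by
          conv_lhs => rw [← d.comp₁.1]
          rw [closure_le]
          rintro g ⟨hgK, hgo⟩
          refine ⟨⟨g, le_sup_left (a := K₁) hgK⟩, ?_, rfl⟩
          apply Subgroup.subset_closure
          show Odd (orderOf (⟨g, _⟩ : ↥(K₁ ⊔ T)))
          rw [← Subgroup.orderOf_coe]
          exact hgo
        intro y hy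
        obtain ⟨y', hy', hyy⟩ := hgen (mem_subgroupOf.mp hy)
        have : y' = y := Subtype.ext hyy
        rw [← this]; exact hy'
      · rw [closure_le]
        intro x hx
        rw [SetLike.mem_coe, mem_subgroupOf]
        apply hP5 _ x.2
        rw [Subgroup.orderOf_coe]
        exact hx
    rw [← heq] at hodd
    rw [← hodd]
    exact (Nat.card_congr (Subgroup.subgroupOfEquivOfLe (le_sup_left : K₁ ≤ K₁ ⊔ T)).toEquiv).symm
  -- every component inside `L₁` is `K₁`
  have hU : ∀ K'' : Subgroup G, IsJComponent T K'' → K'' ≤ L₁ → K'' = K₁ := by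
    intro K'' hK'' hK''L
    have hnorm : K'' ≤ normalizer (K₁ : Set G) :=
      c.normalizes hL2 hLM hJL hK'' d.comp₁ hK''L hKL
    rw [hN] at hnorm
    have hle : K'' ≤ K₁ := by
      conv_lhs => rw [← hK''.1]
      rw [closure_le]
      rintro g ⟨hgK, hgo⟩
      exact hP5 g (hnorm hgK) hgo
    apply Subgroup.eq_of_le_of_card_ge hle
    rw [hK1card]
    exact E4_aux_card_ge hK''
  apply le_antisymm
  · apply c.le_of_gen hL2 hLM hJL
    · intro m hm
      obtain ⟨hmL, hmJ⟩ := mem_inf.mp hm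
      have hcomp : IsJComponent T (K₁.map (MulAut.conj m).toMonoidHom) :=
        StraddleCtx.conj_component d.comp₁ hmJ
      have hle : K₁.map (MulAut.conj m).toMonoidHom ≤ L₁ := by
        rintro _ ⟨x, hx, rfl⟩
        exact L₁.mul_mem (L₁.mul_mem hmL (hKL hx)) (L₁.inv_mem hmL)
      have := hU _ hcomp hle
      rw [← hN]
      exact E4_aux_mem_normalizer this
    · intro K'' hK'' hK''L
      rw [hU K'' hK'' hK''L]
      exact le_sup_left
  · exact sup_le hKL d.le₁

end Cfsg.Agent.S2951P
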