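import Mathlib
import Cfsg.Prelude.Def_BaumannBlocks
import Cfsg.Agent.Helper26.S3050Defs

/-!
# S3050 piece D8b: `vOf Q ι` is a normal subgroup of `G` inside `Q` on which `G` acts as `SL₂(F)` on its natural module
-/

set_option autoImplicit false
set_option linter.unusedSectionVars false

namespace Cfsg.Agent.S3050P

open Cfsg.Agent.Helper18.NatMod Cfsg.Agent.S3050P
open scoped IsMulCommutative

section final

variable {F : Type*} [Field F] [CharP F 2]
variable {G : Type*} [Group G] (Q : Subgroup G) [Q.Normal] [IsMulCommutative ↥Q]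
  (e : G ⧸ Q ≃* Matrix.SpecialLinearGroup (Fin 2) F)
  (hc : Q ≤ Subgroup.centralizer (Q : Set G))

local notation "SF" => Matrix.SpecialLinearGroup (Fin 2) F
local notation "MF" => Matrix (Fin 2) (Fin 2) F

/-- the parametrisation `F² → vOf Q ι` as a homomorphism -/
def D8b_aux_phi (ι : (Fin 2 → F) →+ Additive ↥Q) : Multiplicative (Fin 2 → F) →* ↥(vOf Q ι) where
  toFun v := ⟨((Additive.toMul (ι (Multiplicative.toAdd v)) : ↥Q) : G), ⟨Multiplicative.toAdd v, rfl⟩⟩
  map_one' := by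
    apply Subtype.ext
    show ((Additive.toMul (ι 0) : ↥Q) : G) = 1
    rw [map_zero]; rfl
  map_mul' v v' := by
    apply Subtype.ext
    show ((Additive.toMul (ι (Multiplicative.toAdd v + Multiplicative.toAdd v')) : ↥Q) : G) = _
    rw [map_add]; rfl

theorem D8b_aux_phi_coe (ι : (Fin 2 → F) →+ Additive ↥Q) (v : Multiplicative (Fin 2 → F)) :
    ((D8b_aux_phi Q ι v : ↥(vOf Q ι)) : G) = ((Additive.toMul (ι (Multiplicative.toAdd v)) : ↥Q) : G) := rfl

theorem D8b_aux_phi_bij (ι : (Fin 2 → F) →+ Additive ↥Q) (hinj : Function.Injective ι) :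
    Function.Bijective (D8b_aux_phi Q ι) := by
  constructor
  · intro v v' h
    have h1 : ((Additive.toMul (ι (Multiplicative.toAdd v)) : ↥Q) : G)
        = ((Additive.toMul (ι (Multiplicative.toAdd v')) : ↥Q) : G) := by
      rw [← D8b_aux_phi_coe, ← D8b_aux_phi_coe, h]
    have h2 := Additive.toMul.injective (Subtype.ext h1)
    exact Multiplicative.toAdd.injective (hinj h2)
  · rintro ⟨n, v, hv⟩
    exact ⟨Multiplicative.ofAdd v, Subtype.ext hv⟩

/-- conjugation of a point of `vOf Q ι` -/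
theorem D8b_aux_conj (ι : (Fin 2 → F) →+ Additive ↥Q)
    (hι : ∀ (g : SF) (v : Fin 2 → F),
      ι ((g : MF).mulVec v) = (letI := modOf Q e Q hc; g • ι v))
    (g : G) (v : Fin 2 → F) :
    g * ((Additive.toMul (ι v) : ↥Q) : G) * g⁻¹
      = ((Additive.toMul (ι (((e (g : G ⧸ Q) : SF) : MF).mulVec v)) : ↥Q) : G) := by
  rw [hι, modOf_smul_coe]

/-- D8b -/
theorem vOf_props (ι : (Fin 2 → F) →+ Additive ↥Q)
    (hι : ∀ (g : SF) (v : Fin 2 → F),
      ι ((g : MF).mulVec v) = (letI := modOf Q e Q hc; g • ι v))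
    (hinj : Function.Injective ι) :
    vOf Q ι ≤ Q ∧ (vOf Q ι).Normal ∧ Cfsg.ActsAsSL2OnSection F ⊤ ⊤ (vOf Q ι) ⊥ := by
  have hle : vOf Q ι ≤ Q := by
    rintro n ⟨v, rfl⟩
    exact (Additive.toMul (ι v)).2
  have hnorm : (vOf Q ι).Normal := by
    constructor
    rintro n ⟨v, rfl⟩ g
    exact ⟨_, (D8b_aux_conj Q e hc ι hι g v).symm⟩
  refine ⟨hle, hnorm, ?_, bot_le, ?_⟩
  · rw [Subgroup.normalizer_eq_top]
  · let Φ : Multiplicative (Fin 2 → F) ≃* ↥(vOf Q ι) :=
      MulEquiv.ofBijective (D8b_aux_phi Q ι) (D8b_aux_phi_bij Q ι hinj)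
    have hΦ : ∀ v, Φ v = D8b_aux_phi Q ι v := fun v => rfl
    let ρ : ↥(⊤ : Subgroup G) →* SF :=
      (e.toMonoidHom.comp (QuotientGroup.mk' Q)).comp (⊤ : Subgroup G).subtype
    have hρ : ∀ x : ↥(⊤ : Subgroup G), ρ x = e ((x : G) : G ⧸ Q) := fun x => rfl
    refine ⟨ρ, Φ.symm.toMonoidHom, ?_, Φ.symm.surjective, ?_, ?_⟩
    · rw [MonoidHom.range_eq_top]
      intro s
      obtain ⟨g, hg⟩ := QuotientGroup.mk'_surjective Q (e.symm s)
      refine ⟨⟨g, Subgroup.mem_top g⟩, ?_⟩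
      rw [hρ]
      show e ((g : G) : G ⧸ Q) = s
      have : ((g : G) : G ⧸ Q) = e.symm s := hg
      rw [this, MulEquiv.apply_symm_apply]
    · intro u
      show Φ.symm u = 1 ↔ (u : G) ∈ (⊥ : Subgroup G)
      rw [Subgroup.mem_bot, MulEquiv.map_eq_one_iff]
      exact ⟨fun h => by rw [h]; rfl, fun h => Subtype.ext h⟩
    · intro x u
      set v : Multiplicative (Fin 2 → F) := Φ.symm u with hv
      have hu : u = Φ v := by rw [hv, MulEquiv.apply_symm_apply]
      have hu' : (u : G) = ((Additive.toMul (ι (Multiplicative.toAdd v)) : ↥Q) : G) := by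
        rw [hu, hΦ, D8b_aux_phi_coe]
      have hconj := D8b_aux_conj Q e hc ι hι (x : G) (Multiplicative.toAdd v)
      let v' : Multiplicative (Fin 2 → F) :=
        Multiplicative.ofAdd (((e ((x : G) : G ⧸ Q) : SF) : MF).mulVec (Multiplicative.toAdd v))
      refine ⟨Φ v', ?_, ?_⟩
      · rw [hΦ, D8b_aux_phi_coe, hu', hconj]
        rfl
      · show Multiplicative.toAdd (Φ.symm (Φ v')) = _
        rw [MulEquiv.symm_apply_apply]
        rfl

end final

end Cfsg.Agent.S3050P
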