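import Mathlib

set_option autoImplicit false
set_option linter.unusedSectionVars false
set_option linter.unusedVariables false
set_option linter.style.haveILetI false

/-! # S3154, piece DESC: descent of a homomorphism from the preimage of a normaliser. -/

namespace Cfsg.Agent.S3154P

/-- DESC: descent of a hom from the preimage of a normaliser -/
theorem DESC {G Q S : Type*} [Group G] [Group Q] [Group S] (f : G →* Q) (hf : Function.Surjective f)
    (A : Subgroup Q) (P : Subgroup G)
    (hP : ∀ g : G, f g ∈ Subgroup.normalizer (A : Set Q) ↔ g ∈ P)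
    (ψ : P →* S) (hψ : Function.Surjective ψ) (hk : ∀ g : P, ψ g = 1 ↔ f (g : G) ∈ A) :
    ∃ φ : Subgroup.normalizer (A : Set Q) →* S, Function.Surjective φ ∧
      φ.ker = A.subgroupOf (Subgroup.normalizer (A : Set Q)) := by
  classical
  -- the restriction of `f` to `P`, with values in the normaliser
  let f' : P →* Subgroup.normalizer (A : Set Q) :=
    { toFun := fun g => ⟨f (g : G), (hP (g : G)).mpr g.2⟩
      map_one' := by
        apply Subtype.ext
        simp
      map_mul' := by
        intro x y
        apply Subtype.ext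
        simp }
  have hf'val : ∀ g : P, ((f' g : Subgroup.normalizer (A : Set Q)) : Q) = f (g : G) := fun g => rfl
  have hf' : Function.Surjective f' := by
    rintro ⟨n, hn⟩
    obtain ⟨g, rfl⟩ := hf n
    exact ⟨⟨g, (hP g).mp hn⟩, rfl⟩
  have hker : f'.ker ≤ ψ.ker := by
    intro g hg
    rw [MonoidHom.mem_ker] at hg ⊢
    rw [hk]
    have : f (g : G) = 1 := by
      have := congrArg Subtype.val hg
      simpa [hf'val] using this
    rw [this]
    exact A.one_mem
  let φ : Subgroup.normalizer (A : Set Q) →* S := f'.liftOfSurjective hf' ⟨ψ, hker⟩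
  have hφ : ∀ g : P, φ (f' g) = ψ g := by
    intro g
    exact MonoidHom.liftOfRightInverse_comp_apply f' _ _ ⟨ψ, hker⟩ g
  refine ⟨φ, ?_, ?_⟩
  · intro s
    obtain ⟨g, rfl⟩ := hψ s
    exact ⟨f' g, hφ g⟩
  · ext n
    obtain ⟨g, rfl⟩ := hf' n
    rw [MonoidHom.mem_ker, hφ, hk, Subgroup.mem_subgroupOf, hf'val]

end Cfsg.Agent.S3154P
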