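import Mathlib
import Cfsg.Agent.Helper16.S3174Defs
import Cfsg.Agent.Helper23.S3174MSUB

/-!
# S3174 piece FI: `t` fixes `⁅x, x^t⁆` when `t² ∈ W`; for `t ∈ M = C_T(Z_2)` this commutator lies in `Z_2`
-/

set_option autoImplicit false

namespace Cfsg.Agent.S3174P

open scoped commutatorElement

variable {T : Type*} [Group T] [Finite T]

/-- elements of `Z_3` commute with the elements of `W = C_T(Z_3)` -/
theorem FI_aux_comm {W : Subgroup T} (c : Cfg T W) {w z : T} (hw : w ∈ W) (hz : z ∈ Zi T 3) :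
    w * z = z * w := by
  have h := hw
  rw [c.hW, Subgroup.mem_centralizer_iff] at h
  exact (h z hz).symm

/-- a commutator in `W` does not change when one entry is multiplied by a central element -/
theorem FI_aux_comm_mul {W : Subgroup T} (c : Cfg T W) {a b z : T} (ha : a ∈ W) (hb : b ∈ W)
    (hz : z ∈ Zi T 3) : ⁅a, z * b⁆ = ⁅a, b⁆ := by
  have h1 : a * z = z * a := FI_aux_comm c ha hz
  have h2 : b * z = z * b := FI_aux_comm c hb hz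
  have h3 : a⁻¹ * z⁻¹ = z⁻¹ * a⁻¹ := by
    rw [← mul_inv_rev, ← mul_inv_rev, ← h1]
  have h4 : b⁻¹ * z⁻¹ = z⁻¹ * b⁻¹ := by
    rw [← mul_inv_rev, ← mul_inv_rev, ← h2]
  simp only [commutatorElement_def, mul_inv_rev]
  calc a * (z * b) * a⁻¹ * (b⁻¹ * z⁻¹)
      = (a * z) * b * a⁻¹ * (b⁻¹ * z⁻¹) := by group
    _ = (z * a) * b * a⁻¹ * (z⁻¹ * b⁻¹) := by rw [h1, h4]
    _ = z * a * b * (a⁻¹ * z⁻¹) * b⁻¹ := by group
    _ = z * a * b * (z⁻¹ * a⁻¹) * b⁻¹ := by rw [h3]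
    _ = z * a * (b * z⁻¹) * a⁻¹ * b⁻¹ := by group
    _ = z * a * (z⁻¹ * b) * a⁻¹ * b⁻¹ := by
        have : b * z⁻¹ = z⁻¹ * b := by
          have := h2
          calc b * z⁻¹ = z⁻¹ * (z * b) * z⁻¹ := by group
            _ = z⁻¹ * (b * z) * z⁻¹ := by rw [h2]
            _ = z⁻¹ * b := by group
        rw [this]
    _ = z * (a * z⁻¹) * b * a⁻¹ * b⁻¹ := by group
    _ = z * (z⁻¹ * a) * b * a⁻¹ * b⁻¹ := by
        have : a * z⁻¹ = z⁻¹ * a := by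
          calc a * z⁻¹ = z⁻¹ * (z * a) * z⁻¹ := by group
            _ = z⁻¹ * (a * z) * z⁻¹ := by rw [h1]
            _ = z⁻¹ * a := by group
        rw [this]
    _ = a * b * a⁻¹ * b⁻¹ := by group

/-- FI -/
theorem fi {W : Subgroup T} (c : Cfg T W) (x : T) (hx : x ∈ W) (t : T) (ht : t * t ∈ W) :
    t * ⁅x, t * x * t⁻¹⁆ * t⁻¹ = ⁅x, t * x * t⁻¹⁆ := by
  have hnW : W.Normal := c.nW
  have hx' : t * x * t⁻¹ ∈ W := hnW.conj_mem x hx t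
  -- `t ⁅x, x'⁆ t⁻¹ = ⁅x', s x s⁻¹⁆` with `s = t * t`
  have h1 : t * ⁅x, t * x * t⁻¹⁆ * t⁻¹ = ⁅t * x * t⁻¹, (t * t) * x * (t * t)⁻¹⁆ := by
    simp only [commutatorElement_def]; group
  -- `s x s⁻¹ = ⁅s, x⁆ * x`
  have h2 : (t * t) * x * (t * t)⁻¹ = ⁅t * t, x⁆ * x := by
    simp only [commutatorElement_def]; group
  have hz : ⁅t * t, x⁆ ∈ Zi T 3 := c.cm _ ht _ hx
  rw [h1, h2, FI_aux_comm_mul c hx' hx hz]
  -- `⁅x', x⁆ = ⁅x, x'⁆⁻¹ = ⁅x, x'⁆`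
  have hy : ⁅x, t * x * t⁻¹⁆ ∈ Zi T 3 := c.cm _ hx _ hx'
  have hy2 : ⁅x, t * x * t⁻¹⁆ ^ 2 = 1 := c.ex _ hy
  have hinv : (⁅x, t * x * t⁻¹⁆)⁻¹ = ⁅x, t * x * t⁻¹⁆ := by
    rw [inv_eq_iff_mul_eq_one, ← pow_two]; exact hy2
  rw [← commutatorElement_inv, hinv]

/-- FI2 -/
theorem fi2 {W : Subgroup T} (c : Cfg T W) (x : T) (hx : x ∈ W) (t : T) (ht : t ∈ Mc T) :
    ⁅x, t * x * t⁻¹⁆ ∈ Zi T 2 := by
  obtain ⟨-, -, hsq, -, hfix, -⟩ := msub c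
  have hnW : W.Normal := c.nW
  have hx' : t * x * t⁻¹ ∈ W := hnW.conj_mem x hx t
  by_cases htW : t ∈ W
  · -- `t x t⁻¹ = ⁅t, x⁆ x`, so the commutator is trivial
    have h2 : t * x * t⁻¹ = ⁅t, x⁆ * x := by
      simp only [commutatorElement_def]; group
    have hz : ⁅t, x⁆ ∈ Zi T 3 := c.cm _ htW _ hx
    rw [h2, FI_aux_comm_mul c hx hx hz, commutatorElement_self]
    exact Subgroup.one_mem _
  · have hy : ⁅x, t * x * t⁻¹⁆ ∈ Zi T 3 := c.cm _ hx _ hx'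
    exact hfix t ht htW _ hy (fi c x hx t (hsq t ht))

end Cfsg.Agent.S3174P
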