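import Mathlib
import Cfsg.Agent.Helper20.S3206FOCAL
import Cfsg.Agent.Helper7.S3206PABEL

set_option autoImplicit false
set_option linter.unusedSectionVars false
set_option linter.unusedVariables false
set_option linter.style.haveILetI false

/-! # S3206, piece CORE: no perfect central extension of `G` by a group of order 2
(the preimage of `S` is an abelian Sylow 2-subgroup of `L` by PABEL; FOCAL on `L`). -/

namespace Cfsg.Agent.S3206P

/-- CORE: no perfect central extension of `G` by a group of order 2. -/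
theorem CORE {G : Type*} [Group G] [Finite G] {L : Type*} [Group L] [Finite L]
    (hperf : commutator L = ⊤)
    (π : L →* G) (hπ : Function.Surjective π) (hker : π.ker ≤ Subgroup.center L)
    (hk2 : Nat.card ↥π.ker = 2)
    (S : Sylow 2 G) (hcard : Nat.card ↥(S : Subgroup G) = 8) (hexp : ∀ x ∈ (S : Subgroup G), x ^ 2 = 1)
    (htr : ∀ x ∈ (S : Subgroup G), ∀ y ∈ (S : Subgroup G), x ≠ 1 → y ≠ 1 →
      ∃ g ∈ Subgroup.normalizer ((S : Subgroup G) : Set G), g * x * g⁻¹ = y) : False := by
  classical
  haveI : Fact (Nat.Prime 2) := ⟨Nat.prime_two⟩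
  -- the preimage of `S` is a Sylow 2-subgroup of `L`
  have hkp : IsPGroup 2 ↥π.ker := IsPGroup.of_card (n := 1) (by rw [hk2, pow_one])
  have hP1 : IsPGroup 2 ↥((S : Subgroup G).comap π) := S.2.comap_of_ker_isPGroup π hkp
  have hP2 : ¬ 2 ∣ ((S : Subgroup G).comap π).index := by
    rw [Subgroup.index_comap_of_surjective _ hπ]
    exact S.not_dvd_index
  let P : Sylow 2 L := hP1.toSylow hP2
  have hPmem : ∀ x : L, x ∈ (P : Subgroup L) ↔ π x ∈ (S : Subgroup G) := fun x => Iff.rfl
  have hPab : ∀ x ∈ (P : Subgroup L), ∀ y ∈ (P : Subgroup L), x * y = y * x := by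
    intro x hx y hy
    exact PABEL π hπ hker hk2 S hcard hexp htr x y ((hPmem x).mp hx) ((hPmem y).mp hy)
  -- a non-identity element of the kernel
  haveI : Nontrivial ↥π.ker := by
    rw [← Finite.one_lt_card_iff_nontrivial, hk2]
    norm_num
  obtain ⟨⟨z, hzk⟩, hz1⟩ := exists_ne (1 : ↥π.ker)
  have hzP : z ∈ (P : Subgroup L) := by
    rw [hPmem, MonoidHom.mem_ker.mp hzk]
    exact Subgroup.one_mem _
  have hzc : z ∈ Subgroup.center L := hker hzk
  have hz : z = 1 :=
    FOCAL hperf P hPab z hzP (fun g _ => Subgroup.mem_center_iff.mp hzc g)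
  apply hz1
  exact Subtype.ext hz

end Cfsg.Agent.S3206P
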