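import Mathlib
import Cfsg.Prelude.Def_Solvable
import Cfsg.Prelude.Def_CaseTheorems
import Cfsg.Agent.Helper9.S3390FIX3
import Cfsg.Agent.Helper9.S3390BASIC
import Cfsg.Agent.Helper5.S3390SMALL

set_option autoImplicit false
set_option linter.unusedSectionVars false
set_option linter.unusedVariables false
set_option linter.style.haveILetI false

/-! # S3390, piece ORB: `|S : T| = 2`, `S` neither dihedral nor quasi-dihedral: a non-identity element of
`S` fixing a point lies in `T`, and the point is `α` or `β`. -/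

namespace Cfsg.Agent.S3390P

open MulAction

/-- A subgroup of order 4 all of whose elements square to 1 is a Klein four-group. -/
theorem ORB.aux_klein {G : Type*} [Group G] (U : Subgroup G) (h4 : Nat.card ↥U = 4)
    (hsq : ∀ u ∈ U, u * u = 1) : IsKleinFour ↥U where
  card_four := h4
  exponent_two := by
    have hdvd : Monoid.exponent ↥U ∣ 2 := by
      apply Monoid.exponent_dvd_of_forall_pow_eq_one
      rintro ⟨u, hu⟩
      apply Subtype.ext
      rw [pow_two]
      exact hsq u hu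
    have hne : Monoid.exponent ↥U ≠ 1 := by
      intro h1
      have hsub : Subsingleton ↥U := Monoid.exp_eq_one_iff.1 h1
      have : Nat.card ↥U ≤ 1 := Finite.card_le_one_iff_subsingleton.2 hsub
      omega
    rcases (Nat.dvd_prime Nat.prime_two).mp hdvd with h | h
    · exact absurd h hne
    · exact h

variable {G : Type*} [Group G] [Finite G] {Ω : Type*} [Fintype Ω] [MulAction G Ω]

/-- ORB: `|S : T| = 2`, `S` neither dihedral nor quasi-dihedral: a non-identity element of `S` fixing a point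
lies in `T` and the point is `α` or `β`. -/
theorem ORB (hfix : ∀ g : G, g ≠ 1 → Nat.card (MulAction.fixedBy Ω g) ≤ 2)
    (S : Subgroup G) (hS : IsPGroup 2 S) (α : Ω)
    (hT1 : S ⊓ stabilizer G α ≠ ⊥)
    (x : G) (hxS : x ∈ S) (hxα : x • α ≠ α) (hxx : x • (x • α) = α)
    (hTβ : ∀ t ∈ S ⊓ stabilizer G α, t • (x • α) = x • α)
    (hidx : (S ⊓ stabilizer G α).relIndex S = 2)
    (hnD : ¬ ((∃ n : ℕ, Nonempty (↥S ≃* DihedralGroup n)) ∨ Cfsg.IsQuasiDihedral ↥S)) :
    ∀ s ∈ S, s ≠ 1 → ∀ ω : Ω, s • ω = ω → (ω = α ∨ ω = x • α) ∧ s ∈ S ⊓ stabilizer G α := by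
  classical
  intro s hsS hs1 ω hsω
  -- a non-identity element of `T`
  obtain ⟨t, ht1⟩ := (Subgroup.ne_bot_iff_exists_ne_one.mp hT1)
  have htT' : (t : G) ∈ S ⊓ stabilizer G α := t.2
  have htα : (t : G) • α = α := mem_stabilizer_iff.mp (Subgroup.mem_inf.mp htT').2
  have htβ : (t : G) • (x • α) = x • α := hTβ _ htT'
  have ht1' : (t : G) ≠ 1 := fun h => ht1 (Subtype.ext h)
  have hxT : x ∉ S ⊓ stabilizer G α := fun h => hxα (mem_stabilizer_iff.mp (Subgroup.mem_inf.mp h).2)
  -- index two: `S = T ∪ xT`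
  have hidx' : ((S ⊓ stabilizer G α).subgroupOf S).index = 2 := hidx
  have hcos : ∀ u ∈ S, u ∉ S ⊓ stabilizer G α → x⁻¹ * u ∈ S ⊓ stabilizer G α := by
    intro u huS huT
    have h1 := Subgroup.mul_mem_iff_of_index_two hidx' (a := (⟨x⁻¹, S.inv_mem hxS⟩ : S))
      (b := (⟨u, huS⟩ : S))
    simp only [Subgroup.mem_subgroupOf, Subgroup.coe_mul] at h1
    apply h1.mpr
    constructor
    · intro h
      exact absurd ((Subgroup.inv_mem_iff _).mp h) hxT
    · intro h
      exact absurd h huT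
  by_cases hωα : ω = α
  · subst hωα
    exact ⟨Or.inl rfl, Subgroup.mem_inf.mpr ⟨hsS, mem_stabilizer_iff.mpr hsω⟩⟩
  by_cases hωβ : ω = x • α
  · subst hωβ
    refine ⟨Or.inr rfl, ?_⟩
    by_contra hsT
    have h1 := hcos s hsS hsT
    have h2 := hTβ _ h1
    -- `x⁻¹ s` fixes `β`, so `s β = x β = α`
    rw [mul_smul, hsω] at h2
    -- h2 : x⁻¹ • x • α = x • α
    rw [inv_smul_smul] at h2
    exact hxα h2.symm
  · exfalso
    -- the stabiliser of `ω` in `S`
    have hSω1 : S ⊓ stabilizer G ω ≠ ⊥ := by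
      intro h
      have : s ∈ S ⊓ stabilizer G ω := Subgroup.mem_inf.mpr ⟨hsS, mem_stabilizer_iff.mpr hsω⟩
      rw [h, Subgroup.mem_bot] at this
      exact hs1 this
    have hαβ : α ≠ x • α := fun h => hxα h.symm
    have hSω2 : ¬ S ≤ stabilizer G ω := by
      intro h
      have htω : (t : G) • ω = ω := mem_stabilizer_iff.mp (h (Subgroup.mem_inf.mp htT').1)
      exact FIX3 hfix (t : G) ht1' α (x • α) ω hαβ (Ne.symm hωα) (Ne.symm hωβ) htα htβ htω
    obtain ⟨y, hyS, hyω, hyy, hyfix⟩ := BASIC hfix S hS ω hSω1 hSω2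
    have hidxω : (S ⊓ stabilizer G ω).relIndex S = 2 := by
      by_contra hne
      exact hnD (SMALL hfix S hS ω hSω1 y hyS hyω hyy hyfix hne).2
    have hidxω' : ((S ⊓ stabilizer G ω).subgroupOf S).index = 2 := hidxω
    -- `T ⊓ S_ω = ⊥`
    have hinf : (S ⊓ stabilizer G α) ⊓ (S ⊓ stabilizer G ω) = ⊥ := by
      rw [Subgroup.eq_bot_iff_forall]
      intro u hu
      by_contra hu1
      obtain ⟨hu1', hu2'⟩ := Subgroup.mem_inf.mp hu
      have huα : u • α = α := mem_stabilizer_iff.mp (Subgroup.mem_inf.mp hu1').2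
      have huβ : u • (x • α) = x • α := hTβ _ hu1'
      have huω : u • ω = ω := mem_stabilizer_iff.mp (Subgroup.mem_inf.mp hu2').2
      exact FIX3 hfix u hu1 α (x • α) ω hαβ (Ne.symm hωα) (Ne.symm hωβ) huα huβ huω
    -- all squares are trivial
    have hsq : ∀ u ∈ S, u * u = 1 := by
      intro u huS
      have h1 := Subgroup.mul_self_mem_of_index_two hidx' (⟨u, huS⟩ : S)
      have h2 := Subgroup.mul_self_mem_of_index_two hidxω' (⟨u, huS⟩ : S)
      simp only [Subgroup.mem_subgroupOf, Subgroup.coe_mul] at h1 h2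
      have : u * u ∈ (S ⊓ stabilizer G α) ⊓ (S ⊓ stabilizer G ω) := Subgroup.mem_inf.mpr ⟨h1, h2⟩
      rwa [hinf, Subgroup.mem_bot] at this
    -- `|S| = 4`
    have hle : Nat.card S ≤ 4 := by
      have := Subgroup.relIndex_inf_le (H := S ⊓ stabilizer G α) (K := S ⊓ stabilizer G ω) (L := S)
      rw [hinf, Subgroup.relIndex_bot_left, hidx, hidxω] at this
      exact this
    have hge : 4 ≤ Nat.card S := by
      have h1 := Subgroup.relIndex_mul_relIndex (⊥ : Subgroup G) (S ⊓ stabilizer G α) S bot_le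
        inf_le_left
      rw [Subgroup.relIndex_bot_left, Subgroup.relIndex_bot_left, hidx] at h1
      have h2 : 1 < Nat.card ↥(S ⊓ stabilizer G α) := (Subgroup.one_lt_card_iff_ne_bot _).mpr hT1
      omega
    haveI : IsKleinFour ↥S := ORB.aux_klein S (le_antisymm hle hge) hsq
    exact hnD (Or.inl ⟨2, IsKleinFour.nonempty_mulEquiv⟩)

end Cfsg.Agent.S3390P
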