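import Mathlib
import Cfsg.Agent.Helper20.S3412STM2
import Cfsg.Agent.Helper24.S3412SCARD
import Cfsg.Agent.Helper3.S3412SROOT

/-! S3412 piece SCLASS (helper3): an `IsQ` subgroup of `SL₃(3)` is some `TP v` or some `TH φ`. -/

set_option autoImplicit false

namespace Cfsg.Agent.S3412P

open Matrix Cfsg.Agent.Helper2.RootSLn Cfsg.Agent.Helper7.AutPSL

namespace SCLASS

theorem isQ_cases {A : Subgroup L33} (hA : IsQ A) :
    (∃ v : Fin 3 → ZMod 3, v ≠ 0 ∧ A = TP v) ∨ (∃ φ : Fin 3 → ZMod 3, φ ≠ 0 ∧ A = TH φ) := by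
  obtain ⟨hcard, -, h27⟩ := hA
  have hTm : ∀ a ∈ A, IsTm a := by
    intro a ha
    by_cases h1 : a = 1
    · rw [h1]; exact isTm_one
    · exact STM2.isTm_of_dvd (h27 a ha h1)
  rcases SROOT.rootClosed_le_SL (le_refl 3) A hTm with ⟨v, hv, hle⟩ | ⟨φ, hφ, hle⟩
  · left
    refine ⟨v, hv, ?_⟩
    apply Subgroup.eq_of_le_of_card_ge hle
    rw [hcard, SCARD.card_TP hv]
  · right
    refine ⟨φ, hφ, ?_⟩
    apply Subgroup.eq_of_le_of_card_ge hle
    rw [hcard, SCARD.card_TH hφ]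

end SCLASS

end Cfsg.Agent.S3412P
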