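import Mathlib
import Cfsg.Agent.Helper18.S3493X5
import Cfsg.Agent.Helper3.PiSimple1
import Cfsg.Agent.Helper29.S3501DER

set_option autoImplicit false
set_option linter.unusedSectionVars false
set_option linter.unusedVariables false
set_option linter.style.haveILetI false

/-! # S3493, piece SD2: the diagonal case with two factors.

`SD2.transport`: a group `A` acting on a set `X` in bijection with a finite non-abelian simple group `T`
such that every element acts (through the bijection) as an automorphism or an anti-automorphism,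
all inner automorphisms occur and `A` is primitive on each orbit: impossible (Lemma X). -/

namespace Cfsg.Agent.S3493P

open MulAction

/-- Transport form of Lemma X. -/
theorem SD2.transport {A X T : Type*} [Group A] [MulAction A X] [Group T] [Finite T]
    (hT : IsSimpleGroup T) (hnc : ∃ x y : T, x * y ≠ y * x) (β : T ≃ X)
    (hauto : ∀ g : A, ∃ φ : T ≃* T, (∀ t, g • β t = β (φ t)) ∨ (∀ t, g • β t = β ((φ t)⁻¹)))
    (hinn : ∀ s : T, ∃ g : A, ∀ t, g • β t = β (s * t * s⁻¹))
    (hprim : ∀ x : X, MulAction.IsPreprimitive A (MulAction.orbit A x)) : False := by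
  letI inst : MulAction A T := β.mulAction A
  have hsm : ∀ (g : A) (t : T), g • t = β.symm (g • β t) := fun g t => rfl
  have hβ : ∀ (g : A) (t : T), β (g • t) = g • β t := by
    intro g t
    rw [hsm, Equiv.apply_symm_apply]
  refine XHyp.false (A := A) (T := T) ⟨?_, ?_, ?_, ?_, hnc⟩
  · -- automorphism or anti-automorphism
    intro g
    obtain ⟨φ, h | h⟩ := hauto g
    · left
      have hg : ∀ t : T, g • t = φ t := by
        intro t
        rw [hsm, h, Equiv.symm_apply_apply]
      intro x y
      rw [hg, hg, hg, map_mul]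
    · right
      have hg : ∀ t : T, g • t = (φ t)⁻¹ := by
        intro t
        rw [hsm, h, Equiv.symm_apply_apply]
      intro x y
      rw [hg, hg, hg, map_mul, mul_inv_rev]
  · -- inner automorphisms
    intro s
    obtain ⟨g, hg⟩ := hinn s
    refine ⟨g, fun t => ?_⟩
    rw [hsm, hg, Equiv.symm_apply_apply]
  · -- invariant subgroups are normal
    intro H hH
    haveI : H.Normal := by
      refine ⟨fun x hx s => ?_⟩
      obtain ⟨g, hg⟩ := hinn s
      have : g • x = s * x * s⁻¹ := by
        rw [hsm, hg, Equiv.symm_apply_apply]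
      rw [← this]
      exact hH g x hx
    haveI := hT
    exact Subgroup.Normal.eq_bot_or_eq_top inferInstance
  · -- primitivity on the orbits
    intro x
    let f : MulAction.orbit A x →ₑ[@id A] MulAction.orbit A (β x) :=
      { toFun := fun y => ⟨β y, by
          obtain ⟨g, hg⟩ := y.2
          refine ⟨g, ?_⟩
          change g • β x = β y
          rw [← hβ]
          exact congrArg β hg⟩
        map_smul' := by
          intro g y
          apply Subtype.ext
          change β (g • (y : T)) = g • β (y : T)
          exact hβ g y }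
    have hbij : Function.Bijective f := by
      constructor
      · intro y y' hyy'
        apply Subtype.ext
        apply β.injective
        exact congrArg Subtype.val hyy'
      · rintro ⟨z, g, hg⟩
        refine ⟨⟨g • x, MulAction.mem_orbit x g⟩, ?_⟩
        apply Subtype.ext
        change β (g • x) = z
        rw [hβ]
        exact hg
    exact (MulAction.isPreprimitive_congr (Function.surjective_id) hbij).mpr (hprim (β x))

/-- SD2: the diagonal case with two factors. -/
theorem SD2 {G Ω : Type*} [Group G] [Finite G] [MulAction G Ω] [FaithfulSMul G Ω] [Finite Ω]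
    (hprim : MulAction.IsPreprimitive G Ω)
    (hep : ∀ (α : Ω) (ω : Ω), MulAction.IsPreprimitive (MulAction.stabilizer G α)
      (MulAction.orbit (MulAction.stabilizer G α) ω))
    (N : Subgroup G) [N.Normal] (hN : N ≠ ⊥) (a : Ω)
    {T : Type} [Group T] (hT : IsSimpleGroup T) (hnabT : ¬ IsMulCommutative T)
    (e : N ≃* (Fin 2 → T))
    (hdiag : ∀ n : N, (n : G) ∈ MulAction.stabilizer G a ↔ e n 0 = e n 1) : False := by
  classical
  haveI := hprim
  haveI := hT
  haveI htr : IsPretransitive N Ω := Cfsg.Agent.S3501P.DER.normal_transitive N hN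
  -- `T` is finite
  haveI hfin : Finite T := by
    have hinj : Function.Injective (fun t : T => e.symm (Pi.mulSingle (0 : Fin 2) t)) := by
      intro s t hst
      have h1 : Pi.mulSingle (0 : Fin 2) s = Pi.mulSingle (0 : Fin 2) t := e.symm.injective hst
      have h2 := congrFun h1 0
      simpa using h2
    exact Finite.of_injective _ hinj
  -- `T` is not commutative and has trivial centre
  have hnc : ∃ x y : T, x * y ≠ y * x := by
    by_contra hcon
    push Not at hcon
    exact hnabT ⟨⟨hcon⟩⟩
  have hc : Subgroup.center T = ⊥ := by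
    rcases Subgroup.Normal.eq_bot_or_eq_top (H := Subgroup.center T) inferInstance with h | h
    · exact h
    · exfalso
      apply hnabT
      refine ⟨⟨fun x y => ?_⟩⟩
      have : y ∈ Subgroup.center T := by rw [h]; trivial
      exact (Subgroup.mem_center_iff.mp this x)
  -- the bijection `T ≃ Ω`
  let β0 : T → Ω := fun t => ((e.symm (Pi.mulSingle (0 : Fin 2) t) : N) : G) • a
  have hconst : ∀ s : T, ((e.symm (fun _ => s) : N) : G) ∈ stabilizer G a := by
    intro s
    rw [hdiag, MulEquiv.apply_symm_apply]
  have pt : ∀ f : Fin 2 → T, ((e.symm f : N) : G) • a = β0 (f 0 * (f 1)⁻¹) := by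
    intro f
    have hf : f = Pi.mulSingle (0 : Fin 2) (f 0 * (f 1)⁻¹) * (fun _ => f 1) := by
      funext i
      fin_cases i
      · simp
      · simp
    conv_lhs => rw [hf]
    rw [map_mul, Subgroup.coe_mul, mul_smul]
    have := hconst (f 1)
    rw [mem_stabilizer_iff] at this
    rw [this]
  have hβinj : Function.Injective β0 := by
    intro t t' htt'
    have h1 : (((e.symm (Pi.mulSingle (0 : Fin 2) t'))⁻¹ * e.symm (Pi.mulSingle (0 : Fin 2) t) : N) : G)
        ∈ stabilizer G a := by
      rw [mem_stabilizer_iff, Subgroup.coe_mul, mul_smul, Subgroup.coe_inv]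
      change (_ : G)⁻¹ • β0 t = a
      rw [htt']
      exact inv_smul_smul _ _
    rw [hdiag, map_mul, map_inv, MulEquiv.apply_symm_apply, MulEquiv.apply_symm_apply] at h1
    simp only [Pi.mul_apply, Pi.inv_apply, Pi.mulSingle_eq_same] at h1
    have h2 : (Pi.mulSingle (0 : Fin 2) t' : Fin 2 → T) 1 = 1 := by simp
    have h3 : (Pi.mulSingle (0 : Fin 2) t : Fin 2 → T) 1 = 1 := by simp
    rw [h2, h3] at h1
    have : t'⁻¹ * t = 1 := by simpa using h1
    exact (inv_mul_eq_one.mp this).symm
  have hβsurj : Function.Surjective β0 := by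
    intro ω
    obtain ⟨n, hn⟩ := exists_smul_eq N a ω
    refine ⟨e n 0 * (e n 1)⁻¹, ?_⟩
    rw [← pt (e n), MulEquiv.symm_apply_apply]
    exact hn
  let β : T ≃ Ω := Equiv.ofBijective β0 ⟨hβinj, hβsurj⟩
  have hββ0 : ∀ t, β t = β0 t := fun t => rfl
  -- conjugation by an element of the stabiliser
  have hconj : ∀ (g : G), g ∈ stabilizer G a → ∀ n : N,
      g • ((n : G) • a) = ((MulAut.conjNormal g n : N) : G) • a := by
    intro g hg n
    rw [MulAut.conjNormal_apply, mul_smul, mul_smul]
    have : g⁻¹ • a = a := by
      rw [inv_smul_eq_iff]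
      exact (mem_stabilizer_iff.mp hg).symm
    rw [this]
  have hform : ∀ (g : G), g ∈ stabilizer G a → ∀ t : T,
      g • β t = β ((e (MulAut.conjNormal g (e.symm (Pi.mulSingle (0 : Fin 2) t)))) 0 *
        ((e (MulAut.conjNormal g (e.symm (Pi.mulSingle (0 : Fin 2) t)))) 1)⁻¹) := by
    intro g hg t
    rw [hββ0, hββ0, ← pt, MulEquiv.symm_apply_apply]
    exact hconj g hg _
  apply SD2.transport (A := stabilizer G a) (X := Ω) hT hnc β ?_ ?_ (hep a)
  · -- automorphism or anti-automorphism
    rintro ⟨g, hg⟩
    let θ : (Fin 2 → T) ≃* (Fin 2 → T) := (e.symm.trans (MulAut.conjNormal g)).trans e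
    have hθ : ∀ f, θ f = e (MulAut.conjNormal g (e.symm f)) := fun f => rfl
    obtain ⟨π, φ, hπ⟩ := Cfsg.Agent.Helper3.PiSimple.exists_perm hc θ
    refine ⟨φ 0, ?_⟩
    have hπ01 : π 0 ≠ π 1 := fun h => by
      have := π.injective h
      exact absurd this (by decide)
    have hcases : (π 0 = 0 ∧ π 1 = 1) ∨ (π 0 = 1 ∧ π 1 = 0) := by
      generalize π 0 = u at hπ01 ⊢
      generalize π 1 = v at hπ01 ⊢
      fin_cases u <;> fin_cases v <;> simp_all
    have hv0 : ∀ t : T, θ (Pi.mulSingle (0 : Fin 2) t) (π 0) = φ 0 t := by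
      intro t
      rw [hπ]
      simp
    have hv1 : ∀ t : T, θ (Pi.mulSingle (0 : Fin 2) t) (π 1) = 1 := by
      intro t
      rw [hπ]
      simp
    rcases hcases with ⟨h0, h1⟩ | ⟨h0, h1⟩
    · left
      intro t
      change g • β t = _
      rw [hform g hg t, ← hθ]
      rw [h0] at hv0
      rw [h1] at hv1
      rw [hv0, hv1, inv_one, mul_one]
    · right
      intro t
      change g • β t = _
      rw [hform g hg t, ← hθ]
      rw [h0] at hv0
      rw [h1] at hv1
      rw [hv0, hv1, one_mul]
  · -- inner automorphisms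
    intro s
    refine ⟨⟨((e.symm (fun _ => s) : N) : G), hconst s⟩, fun t => ?_⟩
    change ((e.symm (fun _ => s) : N) : G) • β t = _
    rw [hform _ (hconst s) t]
    have h1 : MulAut.conjNormal ((e.symm (fun _ => s) : N) : G) (e.symm (Pi.mulSingle (0 : Fin 2) t)) =
        e.symm (fun _ => s) * e.symm (Pi.mulSingle (0 : Fin 2) t) * (e.symm (fun _ => s))⁻¹ := by
      apply Subtype.ext
      rw [MulAut.conjNormal_apply]
      simp
    have h2 : e (MulAut.conjNormal ((e.symm (fun _ => s) : N) : G)
        (e.symm (Pi.mulSingle (0 : Fin 2) t))) =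
        (fun _ => s) * Pi.mulSingle (0 : Fin 2) t * (fun _ => s)⁻¹ := by
      rw [h1, map_mul, map_mul, map_inv, MulEquiv.apply_symm_apply, MulEquiv.apply_symm_apply]
    rw [h2]
    congr 1
    simp

end Cfsg.Agent.S3493P
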