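import Mathlib

/-! # S3501 piece TWOTRANS (helper3)

One class of derangements + an abelian transitive normal subgroup `N` of a faithful action gives
2-transitivity.  Mathlib only. -/

set_option autoImplicit false

namespace Cfsg.Agent.S3501P

open MulAction

section
variable {G : Type*} [Group G] [Finite G] {Ω : Type*} [Fintype Ω] [MulAction G Ω] [FaithfulSMul G Ω]

/-- auxiliary: an element of the abelian transitive subgroup `N` fixing a point is trivial. -/
theorem TWOTRANS.semireg (N : Subgroup G) (hab : ∀ x ∈ N, ∀ y ∈ N, x * y = y * x)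
    [IsPretransitive N Ω] (a : Ω) (n : G) (hn : n ∈ N) (hfix : n • a = a) : n = 1 := by
  apply FaithfulSMul.eq_of_smul_eq_smul (α := Ω)
  intro ω
  obtain ⟨m, hm⟩ := exists_smul_eq N a ω
  have hm' : (m : G) • a = ω := hm
  rw [one_smul, ← hm', ← mul_smul, hab n hn m m.2, mul_smul, hfix]

/-- TWOTRANS: one class of derangements + abelian transitive normal `N` gives 2-transitivity. -/
theorem TWOTRANS (N : Subgroup G) [N.Normal] (hab : ∀ x ∈ N, ∀ y ∈ N, x * y = y * x) [IsPretransitive N Ω]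
    (hone : ∀ x y : G, (∀ ω : Ω, x • ω ≠ ω) → (∀ ω : Ω, y • ω ≠ ω) → IsConj x y) :
    IsMultiplyPretransitive G Ω 2 := by
  rw [is_two_pretransitive_iff]
  intro a b a' b' hab1 hab2
  -- n moves a to b, n' moves a' to b'
  obtain ⟨n, hn⟩ := exists_smul_eq N a b
  obtain ⟨n', hn'⟩ := exists_smul_eq N a' b'
  have hnab : (n : G) • a = b := hn
  have hn'ab : (n' : G) • a' = b' := hn'
  have hn1 : (n : G) ≠ 1 := by
    intro h
    rw [h, one_smul] at hnab
    exact hab1 hnab
  have hn'1 : (n' : G) ≠ 1 := by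
    intro h
    rw [h, one_smul] at hn'ab
    exact hab2 hn'ab
  have hder : ∀ ω : Ω, (n : G) • ω ≠ ω := fun ω hω =>
    hn1 (TWOTRANS.semireg N hab ω n n.2 hω)
  have hder' : ∀ ω : Ω, (n' : G) • ω ≠ ω := fun ω hω =>
    hn'1 (TWOTRANS.semireg N hab ω n' n'.2 hω)
  obtain ⟨g, hg⟩ := isConj_iff.1 (hone n n' hder hder')
  -- hg : g * n * g⁻¹ = n'
  have hgn : g * (n : G) = (n' : G) * g := by
    rw [← hg]; group
  obtain ⟨m, hm⟩ := exists_smul_eq N (g • a) a'
  have hm' : (m : G) • (g • a) = a' := hm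
  refine ⟨(m : G) * g, ?_, ?_⟩
  · rw [mul_smul, hm']
  · rw [← hnab, ← mul_smul, mul_assoc, hgn, ← mul_assoc, hab m m.2 n' n'.2, mul_assoc, mul_smul,
      mul_smul, hm', hn'ab]

end

end Cfsg.Agent.S3501P
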