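import Mathlib
import Cfsg.Agent.Helper29.S3501BRIDGE
import Cfsg.Agent.Helper29.S3501CRIT

set_option autoImplicit false
set_option linter.unusedSectionVars false
set_option linter.unusedVariables false
set_option linter.style.haveILetI false

/-! # S3520, piece PROD3: in the product case with `m ≥ 2` there are three pairwise non-conjugate
derangements `(u, 1, 1, …)`, `(u, s, 1, …)`, `(u, s', 1, …)`, where `u` has no conjugate in `K 0`. -/

namespace Cfsg.Agent.S3520P

open MulAction

variable {G : Type*} [Group G] [Finite G] {Ω : Type*} [Fintype Ω] [MulAction G Ω]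

/-- PROD3: product case, `m ≥ 2`: three pairwise non-conjugate derangements. -/
theorem PROD3
    (h3 : ∀ x y z : G, (∀ ω : Ω, x • ω ≠ ω) → (∀ ω : Ω, y • ω ≠ ω) → (∀ ω : Ω, z • ω ≠ ω) →
      ¬ IsConj x y → ¬ IsConj x z → ¬ IsConj y z → False)
    (N : Subgroup G) [N.Normal] (htr : IsPretransitive N Ω) (a : Ω)
    {T : Type} [Group T] [Finite T]
    (hlt : ∀ s : T, s ≠ 1 → Nat.card (Subgroup.centralizer ({s} : Set T)) < Nat.card T)
    (s s' : T) (hs1 : s ≠ 1) (hs'1 : s' ≠ 1)
    (hne : Nat.card (Subgroup.centralizer ({s} : Set T)) ≠ Nat.card (Subgroup.centralizer ({s'} : Set T)))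
    {m : ℕ} (hm : 2 ≤ m) (e : N ≃* (Fin m → T)) (K : Fin m → Subgroup T) (hK : ∀ i, K i ≠ ⊤)
    (hst : ∀ n : N, (n : G) ∈ stabilizer G a ↔ ∀ i, e n i ∈ K i) : False := by
  classical
  haveI := htr
  have hm0 : 0 < m := by omega
  have hm1 : 1 < m := by omega
  let i0 : Fin m := ⟨0, hm0⟩
  let i1 : Fin m := ⟨1, hm1⟩
  have hi01 : i0 ≠ i1 := by
    intro h
    have := congrArg Fin.val h
    simp [i0, i1] at this
  obtain ⟨u, hu⟩ := Cfsg.Agent.S3501P.JORDAN (K i0) (hK i0)
  let f : T → (Fin m → T) := fun w =>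
    Function.update (Function.update (1 : Fin m → T) i0 u) i1 w
  have hf0 : ∀ w, f w i0 = u := by
    intro w
    simp [f, hi01]
  have hf1 : ∀ w, f w i1 = w := by
    intro w
    simp [f]
  have hfo : ∀ w i, i ≠ i1 → f w i = f 1 i := by
    intro w i hi
    simp [f, hi]
  -- the three elements are derangements
  have hder : ∀ w, ∀ ω : Ω, ((e.symm (f w) : N) : G) • ω ≠ ω := by
    intro w
    rw [Cfsg.Agent.S3501P.CRIT.prod N a e K hst]
    refine ⟨i0, fun g => ?_⟩
    have : e (e.symm (f w)) i0 = u := by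
      rw [MulEquiv.apply_symm_apply]
      exact hf0 w
    rw [this]
    exact hu g
  -- the order of the centraliser
  let c : T → ℕ := fun t => Nat.card (Subgroup.centralizer ({t} : Set T))
  let P : ℕ := ∏ i ∈ (Finset.univ : Finset (Fin m)).erase i1, c (f 1 i)
  have hcpos : ∀ t, 0 < c t := fun t => Nat.card_pos
  have hP : 0 < P := Finset.prod_pos fun i _ => hcpos _
  have hcard : ∀ w, Nat.card (Subgroup.centralizer ({e.symm (f w)} : Set N)) = c w * P := by
    intro w
    rw [Cfsg.Agent.S3501P.CRIT.card_centralizer_pi N e (e.symm (f w))]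
    simp only [MulEquiv.apply_symm_apply]
    rw [← Finset.mul_prod_erase Finset.univ _ (Finset.mem_univ i1), hf1 w]
    congr 1
    apply Finset.prod_congr rfl
    intro i hi
    rw [hfo w i (Finset.ne_of_mem_erase hi)]
  have hnc : ∀ w w', c w ≠ c w' →
      ¬ IsConj ((e.symm (f w) : N) : G) ((e.symm (f w') : N) : G) := by
    intro w w' hww' hconj
    obtain ⟨g, hg⟩ := isConj_iff.mp hconj
    have := Cfsg.Agent.S3501P.CRIT.card_centralizer_eq N (e.symm (f w)) (e.symm (f w')) g hg
    rw [hcard w, hcard w'] at this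
    exact hww' (Nat.eq_of_mul_eq_mul_right hP this)
  have hc1 : c 1 = Nat.card T := by
    have : Subgroup.centralizer ({(1 : T)} : Set T) = ⊤ := by
      ext z
      simp [Subgroup.mem_centralizer_singleton_iff]
    change Nat.card (Subgroup.centralizer ({(1 : T)} : Set T)) = Nat.card T
    rw [this, Subgroup.card_top]
  have h1s : c 1 ≠ c s := by
    rw [hc1]
    exact (hlt s hs1).ne'
  have h1s' : c 1 ≠ c s' := by
    rw [hc1]
    exact (hlt s' hs'1).ne'
  exact h3 _ _ _ (hder 1) (hder s) (hder s') (hnc 1 s h1s) (hnc 1 s' h1s') (hnc s s' hne)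

end Cfsg.Agent.S3520P
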