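import Mathlib

set_option autoImplicit false
set_option linter.unusedSectionVars false
set_option linter.unusedVariables false
set_option linter.style.haveILetI false

/-! # S3641, sub-piece PERM.DVD16: if three-point fixers are trivial, a two-point stabiliser acts freely on
the other 16 points, so its order divides 16. -/

namespace Cfsg.Agent.S3641P

/-- A group acting freely on a finite set has order dividing the size of the set. -/
theorem PERM.DVD16.aux_free {C X : Type*} [Group C] [MulAction C X] [Finite X]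
    (h : ∀ x : X, MulAction.stabilizer C x = ⊥) : Nat.card C ∣ Nat.card X := by
  have e := MulAction.selfEquivOrbitsQuotientProd h
  rw [Nat.card_congr e, Nat.card_prod]
  exact dvd_mul_left _ _

/-- PERM.DVD16: if three-point fixers are trivial, a two-point stabiliser acts freely on the other 16 points,
so its order divides 16. -/
theorem PERM.DVD16 {Ω : Type*} [Fintype Ω] [DecidableEq Ω] (hΩ : Fintype.card Ω = 18)
    (H : Subgroup (Equiv.Perm Ω))
    (h3 : ∀ h ∈ H, ∀ a b c : Ω, a ≠ b → a ≠ c → b ≠ c → h a = a → h b = b → h c = c → h = 1)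
    (a b : Ω) (hab : a ≠ b) :
    Nat.card {h : Equiv.Perm Ω // h ∈ H ∧ h a = a ∧ h b = b} ∣ 16 := by
  classical
  -- the two-point stabiliser as a subgroup
  let C : Subgroup (Equiv.Perm Ω) :=
    { carrier := {h | h ∈ H ∧ h a = a ∧ h b = b}
      one_mem' := ⟨H.one_mem, rfl, rfl⟩
      mul_mem' := by
        rintro x y ⟨hx, hxa, hxb⟩ ⟨hy, hya, hyb⟩
        refine ⟨H.mul_mem hx hy, ?_, ?_⟩
        · rw [Equiv.Perm.mul_apply, hya, hxa]
        · rw [Equiv.Perm.mul_apply, hyb, hxb]
      inv_mem' := by
        rintro x ⟨hx, hxa, hxb⟩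
        refine ⟨H.inv_mem hx, ?_, ?_⟩
        · rw [Equiv.Perm.inv_eq_iff_eq, hxa]
        · rw [Equiv.Perm.inv_eq_iff_eq, hxb] }
  have hCmem : ∀ h : Equiv.Perm Ω, h ∈ C ↔ h ∈ H ∧ h a = a ∧ h b = b := fun h => Iff.rfl
  change Nat.card ↥C ∣ 16
  -- the invariant set of the other 16 points
  let X : SubMulAction ↥C Ω :=
    { carrier := {ω | ω ≠ a ∧ ω ≠ b}
      smul_mem' := by
        rintro ⟨c, hc, hca, hcb⟩ ω ⟨hωa, hωb⟩
        refine ⟨?_, ?_⟩
        · intro h
          apply hωa
          apply c.injective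
          rw [hca]
          exact h
        · intro h
          apply hωb
          apply c.injective
          rw [hcb]
          exact h }
  have hXmem : ∀ ω : Ω, ω ∈ X ↔ ω ≠ a ∧ ω ≠ b := fun ω => Iff.rfl
  have hfree : ∀ x : X, MulAction.stabilizer ↥C x = ⊥ := by
    rintro ⟨ω, hωa, hωb⟩
    rw [Subgroup.eq_bot_iff_forall]
    rintro ⟨c, hc, hca, hcb⟩ hstab
    rw [MulAction.mem_stabilizer_iff] at hstab
    have hcω : c ω = ω := congrArg Subtype.val hstab
    apply Subtype.ext
    exact h3 c hc a b ω hab (Ne.symm hωa) (Ne.symm hωb) hca hcb hcω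
  have hdvd := PERM.DVD16.aux_free hfree
  have hX16 : Nat.card ↥X = 16 := by
    have e : ↥X ≃ {ω : Ω // ω ≠ a ∧ ω ≠ b} := Equiv.refl _
    rw [Nat.card_congr e, Nat.card_eq_fintype_card, Fintype.card_subtype]
    have hfilter : (Finset.univ.filter fun ω : Ω => ω ≠ a ∧ ω ≠ b) =
        (Finset.univ.erase a).erase b := by
      ext ω
      simp only [Finset.mem_filter, Finset.mem_univ, true_and, Finset.mem_erase, and_true]
      tauto
    rw [hfilter, Finset.card_erase_of_mem, Finset.card_erase_of_mem (Finset.mem_univ a),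
      Finset.card_univ, hΩ]
    exact Finset.mem_erase.mpr ⟨Ne.symm hab, Finset.mem_univ b⟩
  rwa [hX16] at hdvd

end Cfsg.Agent.S3641P
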