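import Mathlib
import Cfsg.Agent.Helper4.P1Congr

set_option autoImplicit false
set_option linter.style.haveILetI false

/-! # S3641, piece TRANSPORT: a field with 17 elements is `ZMod 17`; transport of `PSL₂` and `PGL₂`. -/

namespace Cfsg.Agent.S3641P

/-- TRANSPORT.psl -/
theorem TRANSPORT.psl {F : Type*} [Field F] [Fintype F] (hF : Fintype.card F = 17) :
    Nonempty (Matrix.ProjectiveSpecialLinearGroup (Fin 2) (ZMod 17) ≃*
      Matrix.ProjectiveSpecialLinearGroup (Fin 2) F) := by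
  haveI : Fact (Nat.Prime 17) := ⟨by norm_num⟩
  exact ⟨Cfsg.Agent.Helper4.P1Congr.pslCongr (ZMod.ringEquivOfPrime F (by norm_num) hF)⟩

/-- TRANSPORT.pgl -/
theorem TRANSPORT.pgl {F : Type*} [Field F] [Fintype F] (hF : Fintype.card F = 17) :
    Nonempty (Matrix.ProjGenLinGroup (Fin 2) (ZMod 17) ≃*
      (GL (Fin 2) F ⧸ Subgroup.center (GL (Fin 2) F))) := by
  haveI : Fact (Nat.Prime 17) := ⟨by norm_num⟩
  exact ⟨Cfsg.Agent.Helper4.P1Congr.pglCongr (ZMod.ringEquivOfPrime F (by norm_num) hF)⟩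

end Cfsg.Agent.S3641P
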