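import Cfsg.Agent.Helper3.S3786Kcore
import Cfsg.Agent.Helper2.S3786SYL2
import Cfsg.Agent.Helper13.S3786CRIT2

/-! # S3786 pieces, row `CSet_exists` (official wrapper): `SYL2` + `CRIT2` with `q = 2`. -/

set_option autoImplicit false

namespace Cfsg.Agent.S3786P

open Subgroup

universe u

section K

variable {F : Type*} [Field F] {p : ℕ} [Fact p.Prime] [CharP F p] {V : Type*} [AddCommGroup V] [Module F V]
  [FiniteDimensional F V] [Nontrivial V] {H : Type u} [Group H] [Finite H] {ρ₀ : Representation F H V}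
  {T : Sylow p H} {n : ℕ}

/-- K5b. (`SYL2` + `CRIT2` with `q = 2`.) -/
theorem CSet_exists (S : KSet ρ₀ p (T : Subgroup H) n) : ∃ S₂ C : Subgroup H, CSet p (T : Subgroup H) n S₂ C :=
  haveI : Fact (Nat.Prime 2) := ⟨Nat.prime_two⟩
  CSet_exists_aux_core p (T : Subgroup H) n (SYL2 S) (fun S₂ hS₂ => CRIT2 2 S₂ hS₂)

end K

end Cfsg.Agent.S3786P
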