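import Mathlib
import Cfsg.Agent.Helper10.S3805Defs

/-!
# S3805 piece QUOT (helper3): a normal subgroup meeting `ι(Q)` in `ι(1 × D3)` gives a homomorphism
`G → D3` extending the first projection (or `ι(Q) = G`).
-/

set_option autoImplicit false

namespace Cfsg.Agent.S3805P

open Cfsg

theorem QUOT_sq_ne_one : ((1, DihedralGroup.r 1) : Q) * (1, DihedralGroup.r 1) ≠ 1 := by decide

/-- **QUOT.** A normal subgroup meeting `ι(Q)` in `ι(1 × D3)` gives `G → D3` extending the first
projection. -/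
theorem exists_quotient_map {G : Type*} [Group G] [Finite G] (c : Cfg G)
    (hmax : ∀ H : Subgroup G, c.ι.range ≤ H → H = ⊤ ∨ H = c.ι.range)
    (K2 : Subgroup G) [K2.Normal] (h2 : K2 ⊓ c.ι.range = F2.map c.ι) :
    c.ι.range = ⊤ ∨ ∃ π : G →* D3, ∀ q : Q, π (c.ι q) = q.1 := by
  rcases hmax (K2 ⊔ c.ι.range) le_sup_right with htop | hR
  · -- `G = K2 * ι(Q)`
    right
    let f : Q →* G ⧸ K2 := (QuotientGroup.mk' K2).comp c.ι
    have hf : Function.Surjective f := by
      intro x
      obtain ⟨g, rfl⟩ := QuotientGroup.mk'_surjective K2 x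
      have hg : g ∈ K2 ⊔ c.ι.range := by rw [htop]; exact Subgroup.mem_top g
      rw [← SetLike.mem_coe, Subgroup.normal_mul] at hg
      obtain ⟨k, hk, y, ⟨q, rfl⟩, rfl⟩ := hg
      refine ⟨q, ?_⟩
      change (QuotientGroup.mk' K2) (c.ι q) = (QuotientGroup.mk' K2) (k * c.ι q)
      rw [map_mul]
      have : (QuotientGroup.mk' K2) k = 1 := by
        rw [QuotientGroup.mk'_apply, QuotientGroup.eq_one_iff]
        exact hk
      rw [this, one_mul]
    have hker : f.ker ≤ (MonoidHom.fst D3 D3).ker := by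
      intro q hq
      rw [MonoidHom.mem_ker] at hq ⊢
      have hq' : c.ι q ∈ K2 := by
        have : (QuotientGroup.mk' K2) (c.ι q) = 1 := hq
        rwa [QuotientGroup.mk'_apply, QuotientGroup.eq_one_iff] at this
      have hmem : c.ι q ∈ K2 ⊓ c.ι.range := ⟨hq', ⟨q, rfl⟩⟩
      rw [h2] at hmem
      obtain ⟨q', hq'F, hqq⟩ := hmem
      have := c.inj hqq
      subst this
      have hq'F' : q' ∈ F2 := hq'F
      rw [F2, Subgroup.mem_prod, Subgroup.mem_bot] at hq'F'
      exact hq'F'.1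
    refine ⟨(f.liftOfSurjective hf ⟨MonoidHom.fst D3 D3, hker⟩).comp (QuotientGroup.mk' K2), ?_⟩
    intro q
    change (f.liftOfSurjective hf ⟨MonoidHom.fst D3 D3, hker⟩) (f q) = q.1
    rw [MonoidHom.liftOfRightInverse_comp_apply]
    rfl
  · -- `K2 ≤ ι(Q)`, so `K2 = ι(F2)` is normal in `G`
    left
    have hle : K2 ≤ c.ι.range := by
      rw [← hR]; exact le_sup_left
    have hK2 : K2 = F2.map c.ι := by
      rw [← h2]; exact (inf_eq_left.mpr hle).symm
    rw [eq_top_iff]
    intro g _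
    have hb : c.ι (1, DihedralGroup.r 1) ∈ K2 := by
      rw [hK2]
      refine ⟨(1, DihedralGroup.r 1), ?_, rfl⟩
      simp [F2, Subgroup.mem_prod]
    have hconj : g * c.ι (1, DihedralGroup.r 1) * g⁻¹ ∈ K2 :=
      Subgroup.Normal.conj_mem inferInstance _ hb g
    rw [hK2] at hconj
    obtain ⟨q', _, hq'⟩ := hconj
    exact c.ti g (1, DihedralGroup.r 1) q' QUOT_sq_ne_one hq'.symm
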