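import Mathlib
import Cfsg.Agent.Helper2.S4130Defs
import Cfsg.Agent.Helper23.S4130INHN
import Cfsg.Agent.Helper7.S4130DIV
import Cfsg.Agent.Helper29.S4130PKN1
import Cfsg.Agent.Helper29.S4130PKN2
import Cfsg.Agent.Helper7.S4130PK2

/-!
# S4130 row PNONAB (helper3): (SQ)-group, normal nonabelian Sylow `q`-subgroup `P` containing `G'`:
`|G'| ∣ q`.
-/

set_option autoImplicit false

namespace Cfsg.Agent.S4130P

open Subgroup
open scoped commutatorElement

/-- (PNONAB) (SQ)-group, normal nonabelian Sylow `q`-subgroup `P` containing `G'`: `|G'| ∣ q`. -/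
theorem PNONAB {G : Type*} [Group G] [Finite G] (h : SqfCls G) (q : ℕ) [Fact q.Prime]
    (P : Sylow q G) [(P : Subgroup G).Normal] (hna : ¬ IsMulCommutative (P : Subgroup G))
    (hG' : commutator G ≤ P) : Nat.card (commutator G) ∣ q := by
  classical
  -- Schur–Zassenhaus complement
  obtain ⟨H, hH⟩ := Subgroup.exists_right_complement'_of_coprime (N := (P : Subgroup G))
    P.card_coprime_index
  have hdisj : Disjoint (P : Subgroup G) H := hH.disjoint
  have hcardH : Nat.card H = (P : Subgroup G).index := by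
    have h1 := hH.card_mul_card
    have h2 := (P : Subgroup G).card_mul_index
    have hpos : 0 < Nat.card (P : Subgroup G) := Nat.card_pos
    exact Nat.eq_of_mul_eq_mul_left hpos (h1.trans h2.symm)
  have hHcop : (Nat.card H).Coprime q := by
    rw [hcardH]
    obtain ⟨n, hn⟩ := IsPGroup.iff_card.mp P.isPGroup'
    have := P.card_coprime_index
    rw [hn] at this
    by_cases hn0 : n = 0
    · -- P trivial contradicts nonabelian
      exfalso
      apply hna
      subst hn0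
      rw [pow_zero] at hn
      haveI : Subsingleton (P : Subgroup G) := (Nat.card_eq_one_iff_unique.mp hn).1
      constructor
      constructor
      intro a b
      exact Subsingleton.elim _ _
    · exact (Nat.Coprime.coprime_dvd_left (dvd_pow_self q hn0) this).symm
  -- H centralizes P
  have hHP : ∀ x ∈ H, ∀ u ∈ (P : Subgroup G), x * u = u * x := by
    intro x hx u hu
    have hord : (orderOf x).Coprime q := by
      have h1 : orderOf x ∣ Nat.card H := by
        have := orderOf_dvd_natCard (⟨x, hx⟩ : H)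
        rwa [Subgroup.orderOf_mk] at this
      exact Nat.Coprime.coprime_dvd_left h1 hHcop
    have := PK2 h q (P : Subgroup G) P.isPGroup' hna x hord
    rw [mem_centralizer_iff] at this
    exact (this u hu).symm
  -- H is abelian
  have hHab : ∀ x ∈ H, ∀ y ∈ H, x * y = y * x := by
    intro x hx y hy
    have h1 : ⁅x, y⁆ ∈ commutator G := by
      rw [commutator_def]
      exact Subgroup.commutator_mem_commutator (Subgroup.mem_top x) (Subgroup.mem_top y)
    have h2 : ⁅x, y⁆ ∈ (P : Subgroup G) := hG' h1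
    have h3 : ⁅x, y⁆ ∈ H := by
      rw [commutatorElement_def]
      exact H.mul_mem (H.mul_mem (H.mul_mem hx hy) (H.inv_mem hx)) (H.inv_mem hy)
    have h4 : ⁅x, y⁆ = 1 := by
      have : ⁅x, y⁆ ∈ (P : Subgroup G) ⊓ H := ⟨h2, h3⟩
      rw [hdisj.eq_bot] at this
      exact Subgroup.mem_bot.mp this
    rw [commutatorElement_def] at h4
    have : x * y = (x * y * x⁻¹ * y⁻¹) * (y * x) := by group
    rw [this, h4, one_mul]
  -- decomposition
  have hdec : ∀ g : G, ∃ u ∈ (P : Subgroup G), ∃ x ∈ H, g = u * x := by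
    intro g
    have hg : g ∈ (P : Subgroup G) ⊔ H := by rw [hH.sup_eq_top]; exact Subgroup.mem_top g
    obtain ⟨u, hu, x, hx, hux⟩ := Subgroup.mem_sup_of_normal_left.mp hg
    exact ⟨u, hu, x, hx, hux.symm⟩
  -- every commutator of G is a commutator of P
  have hle : commutator G ≤ (commutator (P : Subgroup G)).map (P : Subgroup G).subtype := by
    rw [commutator_eq_closure, Subgroup.closure_le]
    rintro c ⟨g₁, g₂, rfl⟩
    obtain ⟨u₁, hu₁, x₁, hx₁, rfl⟩ := hdec g₁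
    obtain ⟨u₂, hu₂, x₂, hx₂, rfl⟩ := hdec g₂
    have e : ⁅u₁ * x₁, u₂ * x₂⁆ = ⁅u₁, u₂⁆ := by
      have c1 : x₁ * u₂ = u₂ * x₁ := hHP x₁ hx₁ u₂ hu₂
      have c2 : x₂ * u₁ = u₁ * x₂ := hHP x₂ hx₂ u₁ hu₁
      have c3 : x₁ * x₂ = x₂ * x₁ := hHab x₁ hx₁ x₂ hx₂
      have c4 : x₁ * u₁ = u₁ * x₁ := hHP x₁ hx₁ u₁ hu₁
      have c5 : x₂ * u₂ = u₂ * x₂ := hHP x₂ hx₂ u₂ hu₂
      rw [commutatorElement_def, commutatorElement_def]
      -- (u₁x₁)(u₂x₂)(u₁x₁)⁻¹(u₂x₂)⁻¹ = u₁u₂u₁⁻¹u₂⁻¹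
      have s1 : u₁ * x₁ * (u₂ * x₂) = u₁ * u₂ * (x₁ * x₂) := by
        rw [mul_assoc u₁ x₁, ← mul_assoc x₁ u₂, c1, mul_assoc u₂, ← mul_assoc u₁]
      have s2 : (u₁ * x₁)⁻¹ * (u₂ * x₂)⁻¹ = (x₁ * x₂)⁻¹ * (u₁⁻¹ * u₂⁻¹) := by
        have : (u₂ * x₂) * (u₁ * x₁) = (u₂ * u₁) * (x₁ * x₂) := by
          rw [mul_assoc u₂ x₂, ← mul_assoc x₂ u₁, c2, mul_assoc u₁, ← mul_assoc u₂, c3]
        rw [← mul_inv_rev, this, mul_inv_rev, mul_inv_rev u₂ u₁]
      have hcen : ∀ w ∈ (P : Subgroup G), (x₁ * x₂) * w = w * (x₁ * x₂) := by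
        intro w hw
        rw [mul_assoc, hHP x₂ hx₂ w hw, ← mul_assoc, hHP x₁ hx₁ w hw, mul_assoc]
      have hw : u₁⁻¹ * u₂⁻¹ ∈ (P : Subgroup G) :=
        (P : Subgroup G).mul_mem ((P : Subgroup G).inv_mem hu₁) ((P : Subgroup G).inv_mem hu₂)
      calc u₁ * x₁ * (u₂ * x₂) * (u₁ * x₁)⁻¹ * (u₂ * x₂)⁻¹
          = (u₁ * x₁ * (u₂ * x₂)) * ((u₁ * x₁)⁻¹ * (u₂ * x₂)⁻¹) := by group
        _ = u₁ * u₂ * (x₁ * x₂) * ((x₁ * x₂)⁻¹ * (u₁⁻¹ * u₂⁻¹)) := by rw [s1, s2]
        _ = u₁ * u₂ * u₁⁻¹ * u₂⁻¹ := by group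
    rw [e]
    refine ⟨⁅(⟨u₁, hu₁⟩ : (P : Subgroup G)), ⟨u₂, hu₂⟩⁆, ?_, rfl⟩
    rw [commutator_def]
    exact Subgroup.commutator_mem_commutator (Subgroup.mem_top _) (Subgroup.mem_top _)
  -- |P'| ∣ q
  have hPsq : SqfCls (P : Subgroup G) := Chk.INHN h (P : Subgroup G)
  have hPp : IsPGroup q (P : Subgroup G) := P.isPGroup'
  have hcl : ∀ x : (P : Subgroup G), (centralizer ({x} : Set (P : Subgroup G))).index ∣ q :=
    fun x => PSQP q hPp hPsq x
  have hc2 := PKN1 q hPp hcl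
  have hd := PKN2 q hc2 hcl
  have hcard : Nat.card ((commutator (P : Subgroup G)).map (P : Subgroup G).subtype) =
      Nat.card (commutator (P : Subgroup G)) :=
    Nat.card_congr ((commutator (P : Subgroup G)).equivMapOfInjective _
      (P : Subgroup G).subtype_injective).symm.toEquiv
  exact ((Subgroup.card_dvd_of_le hle).trans (hcard ▸ dvd_rfl)).trans hd

end Cfsg.Agent.S4130P
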