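import Mathlib
import Cfsg.Agent.Helper5.S4330Defs
import Cfsg.Agent.Helper27.S4330B0R
import Cfsg.Agent.Helper19.S4330MAXFIX

/-!
# S4330 piece B4A (helper3): a maximal abelian subgroup `A` of the extraspecial-like group `Ω`,
`K₀ ∈ MaxFix A`, `A = K₀ × ⟨z⟩` (via B0R), hence `N_Ω(K₀) ≤ A`.
-/

set_option autoImplicit false

namespace Cfsg.Agent.Helper5.S4330

section module
variable {V : Type*} [CommGroup V] [Finite V]

/-- `MulAut V` is finite. -/
theorem B4A_aux_finite : Finite (MulAut V) :=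
  Finite.of_injective (fun e : MulAut V => e.toEquiv) MulEquiv.toEquiv_injective

/-- integer powers of an automorphism fixing `v` fix `v`. -/
theorem B4A_aux_zpow_fix {e : MulAut V} {v : V} (h : e v = v) (s : ℤ) : (e ^ s) v = v := by
  have he : e ∈ MulAction.stabilizer (MulAut V) v := by
    rw [MulAction.mem_stabilizer_iff, MulAut.smul_def]; exact h
  have := (MulAction.stabilizer (MulAut V) v).zpow_mem he s
  rw [MulAction.mem_stabilizer_iff, MulAut.smul_def] at this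
  exact this

/-- everything in `K ⊔ ⟨e⟩` fixes a vector fixed by `K` and by `e`. -/
theorem B4A_aux_fix_sup {K : Subgroup (MulAut V)} {e : MulAut V} {v : V}
    (hK : v ∈ Fix (K : Set (MulAut V))) (he : e v = v) :
    v ∈ Fix ((K ⊔ Subgroup.zpowers e : Subgroup (MulAut V)) : Set (MulAut V)) := by
  intro s hs
  have hle : K ⊔ Subgroup.zpowers e ≤ MulAction.stabilizer (MulAut V) v := by
    apply sup_le
    · intro k hk
      rw [MulAction.mem_stabilizer_iff, MulAut.smul_def]; exact hK k hk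
    · rw [Subgroup.zpowers_le, MulAction.mem_stabilizer_iff, MulAut.smul_def]; exact he
  have := hle hs
  rw [MulAction.mem_stabilizer_iff, MulAut.smul_def] at this
  exact this

/-- a non-identity power of a fixed-point-free `z` with `z^p = 1` is fixed-point-free. -/
theorem B4A_aux_fpf {p : ℕ} [Fact p.Prime] {z : MulAut V} (hzp : z ^ p = 1)
    (hzfix : ∀ v : V, z v = v → v = 1) {c : MulAut V} (hc : c ∈ Subgroup.zpowers z) (hc1 : c ≠ 1) :
    ∀ v : V, c v = v → v = 1 := by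
  obtain ⟨j, rfl⟩ := Subgroup.mem_zpowers_iff.mp hc
  have hz1 : z ≠ 1 := by
    rintro rfl
    simp at hc1
  have hord : orderOf z = p := orderOf_eq_prime hzp hz1
  have hndvd : ¬ (p : ℤ) ∣ j := by
    intro hdvd
    apply hc1
    rw [← hord] at hdvd
    exact orderOf_dvd_iff_zpow_eq_one.mp hdvd
  have hcop : IsCoprime j (p : ℤ) := by
    have hp : Prime (p : ℤ) := Nat.prime_iff_prime_int.mp (Fact.out : p.Prime)
    exact (hp.coprime_iff_not_dvd.mpr hndvd).symm
  obtain ⟨s, t, hst⟩ := hcop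
  intro v hv
  apply hzfix
  have hz : z = (z ^ j) ^ s := by
    have h1 : z ^ (s * j + t * (p : ℤ)) = z := by rw [hst, zpow_one]
    rw [zpow_add, mul_comm t, zpow_mul z (p : ℤ) t, zpow_natCast, hzp, one_zpow, mul_one,
      mul_comm s, zpow_mul] at h1
    exact h1.symm
  rw [hz]
  exact B4A_aux_zpow_fix hv s

/-- `A ⊔ ⟨g⟩` is abelian if `A` is and `g` centralizes `A`. -/
theorem B4A_aux_comm_sup {A : Subgroup (MulAut V)} (hA : Comm A) {g : MulAut V}
    (hg : ∀ a ∈ A, g * a = a * g) : Comm (A ⊔ Subgroup.zpowers g) := by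
  have key : ∀ x : MulAut V, (∀ a ∈ A, x * a = a * x) → x * g = g * x →
      ∀ y ∈ A ⊔ Subgroup.zpowers g, x * y = y * x := by
    intro x hxA hxg y hy
    have hle : A ⊔ Subgroup.zpowers g ≤ Subgroup.centralizer {x} := by
      apply sup_le
      · intro a ha
        rw [Subgroup.mem_centralizer_singleton_iff]
        first | exact hxA a ha | exact (hxA a ha).symm
      · rw [Subgroup.zpowers_le, Subgroup.mem_centralizer_singleton_iff]
        first | exact hxg | exact hxg.symm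
    have := hle hy
    rw [Subgroup.mem_centralizer_singleton_iff] at this
    first | exact this | exact this.symm
  intro x hx y hy
  have hle : A ⊔ Subgroup.zpowers g ≤ Subgroup.centralizer {y} := by
    apply sup_le
    · intro a ha
      rw [Subgroup.mem_centralizer_singleton_iff]
      have := key a (fun a' ha' => hA a ha a' ha') (hg a ha).symm y hy
      first | exact this | exact this.symm
    · rw [Subgroup.zpowers_le, Subgroup.mem_centralizer_singleton_iff]
      have := key g hg rfl y hy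
      first | exact this | exact this.symm
  have := hle hx
  rw [Subgroup.mem_centralizer_singleton_iff] at this
  first | exact this | exact this.symm

/-- maximality in `MaxFix`: an element of `A` fixing a nontrivial vector of `Fix K` lies in `K`. -/
theorem B4A_aux_mem_of_fix {A K : Subgroup (MulAut V)} (hK : K ∈ MaxFix A) {e : MulAut V}
    (he : e ∈ A) {w : V} (hwF : w ∈ Fix (K : Set (MulAut V))) (hw1 : w ≠ 1) (hew : e w = w) :
    e ∈ K := by
  obtain ⟨hKA, -, hKmax⟩ := hK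
  have hK'A : K ⊔ Subgroup.zpowers e ≤ A := sup_le hKA (Subgroup.zpowers_le.mpr he)
  have hfix' : Fix ((K ⊔ Subgroup.zpowers e : Subgroup (MulAut V)) : Set (MulAut V)) ≠ ⊥ := by
    intro h
    have := B4A_aux_fix_sup hwF hew
    rw [h] at this
    exact hw1 (Subgroup.mem_bot.mp this)
  have hnlt : ¬ K < K ⊔ Subgroup.zpowers e := fun hlt => hfix' (hKmax _ hK'A hlt)
  have heq : K ⊔ Subgroup.zpowers e = K := by
    by_contra hne
    exact hnlt (lt_of_le_of_ne le_sup_left (Ne.symm hne))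
  rw [← heq]
  exact (le_sup_right : Subgroup.zpowers e ≤ K ⊔ Subgroup.zpowers e) (Subgroup.mem_zpowers e)

/-- a member of `MaxFix A` meets `⟨z⟩` trivially (`z` fixed-point-free, `z^p = 1`). -/
theorem B4A_aux_inter_zpowers {p : ℕ} [Fact p.Prime] {z : MulAut V} (hzp : z ^ p = 1)
    (hzfix : ∀ v : V, z v = v → v = 1) {K : Subgroup (MulAut V)}
    (hKfix : Fix (K : Set (MulAut V)) ≠ ⊥) {c : MulAut V} (hcK : c ∈ K)
    (hcz : c ∈ Subgroup.zpowers z) : c = 1 := by
  obtain ⟨w₀, hw₀1⟩ := (Subgroup.ne_bot_iff_exists_ne_one).mp hKfix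
  by_contra hc1
  exact hw₀1 (Subtype.ext (B4A_aux_fpf hzp hzfix hcz hc1 _ (w₀.2 c hcK)))

/-! ## B4A : structure of an extraspecial-like `Ω` of exponent `p` with fixed-point-free centre -/

theorem exists_maxAbelian_structure {p : ℕ} [Fact p.Prime] [Nontrivial V]
    (hcop : (Nat.card V).Coprime p) {Ω : Subgroup (MulAut V)} (hexp : ∀ g ∈ Ω, g ^ p = 1)
    {z : MulAut V} (hz : z ∈ Ω) (hzc : ∀ g ∈ Ω, g * z = z * g)
    (hcomm : ∀ a ∈ Ω, ∀ b ∈ Ω, a * b * a⁻¹ * b⁻¹ ∈ Subgroup.zpowers z)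
    (hzfix : ∀ v : V, z v = v → v = 1) (hnab : ∃ a ∈ Ω, ∃ b ∈ Ω, a * b ≠ b * a) :
    ∃ A K₀ : Subgroup (MulAut V), A ≤ Ω ∧ Comm A ∧ NormBy Ω A ∧ z ∈ A ∧ K₀ ∈ MaxFix A ∧
      (∀ g ∈ Ω, cj g K₀ = K₀ → g ∈ A) ∧ ∃ g ∈ Ω, g ∉ A := by
  classical
  haveI : Finite (MulAut V) := B4A_aux_finite
  have hpp : p.Prime := Fact.out
  have hzp : z ^ p = 1 := hexp z hz
  -- a maximal abelian subgroup of Ω containing z
  let S : Set (Subgroup (MulAut V)) := {B | B ≤ Ω ∧ Comm B ∧ z ∈ B}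
  have hS : S.Nonempty := by
    refine ⟨Subgroup.zpowers z, Subgroup.zpowers_le.mpr hz, ?_, Subgroup.mem_zpowers z⟩
    intro a ha b hb
    obtain ⟨i, rfl⟩ := Subgroup.mem_zpowers_iff.mp ha
    obtain ⟨j, rfl⟩ := Subgroup.mem_zpowers_iff.mp hb
    exact zpow_mul_comm z i j
  obtain ⟨A, ⟨hAΩ, hAc, hzA⟩, hAmax⟩ :=
    (wellFounded_gt (α := Subgroup (MulAut V))).has_min S hS
  -- A is self-centralizing in Ω
  have hself : ∀ g ∈ Ω, (∀ a ∈ A, g * a = a * g) → g ∈ A := by
    intro g hg hga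
    by_contra hgA
    have hB : A ⊔ Subgroup.zpowers g ∈ S :=
      ⟨sup_le hAΩ (Subgroup.zpowers_le.mpr hg), B4A_aux_comm_sup hAc hga,
        (le_sup_left : A ≤ A ⊔ Subgroup.zpowers g) hzA⟩
    apply hAmax _ hB
    refine lt_of_le_of_ne le_sup_left ?_
    intro h
    apply hgA
    rw [h]
    exact (le_sup_right : Subgroup.zpowers g ≤ A ⊔ Subgroup.zpowers g) (Subgroup.mem_zpowers g)
  -- A is normal in Ω
  have hAn : NormBy Ω A := by
    intro l hl e he
    have h1 : l * e * l⁻¹ * e⁻¹ ∈ A :=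
      (Subgroup.zpowers_le.mpr hzA) (hcomm l hl e (hAΩ he))
    have h2 : l * e * l⁻¹ = (l * e * l⁻¹ * e⁻¹) * e := by group
    rw [h2]
    exact A.mul_mem h1 he
  -- A ≠ Ω
  have hgA : ∃ g ∈ Ω, g ∉ A := by
    obtain ⟨a, ha, b, hb, hab⟩ := hnab
    by_cases haA : a ∈ A
    · by_cases hbA : b ∈ A
      · exact absurd (hAc a haA b hbA) hab
      · exact ⟨b, hb, hbA⟩
    · exact ⟨a, ha, haA⟩
  -- K₀
  have hfixbot : Fix (((⊥ : Subgroup (MulAut V)) : Subgroup (MulAut V)) : Set (MulAut V)) ≠ ⊥ := by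
    obtain ⟨v, hv⟩ := exists_ne (1 : V)
    intro h
    have hvF : v ∈ Fix (((⊥ : Subgroup (MulAut V)) : Subgroup (MulAut V)) : Set (MulAut V)) := by
      intro s hs
      have : s = 1 := Subgroup.mem_bot.mp hs
      rw [this]; rfl
    rw [h] at hvF
    exact hv (Subgroup.mem_bot.mp hvF)
  obtain ⟨K₀, hK₀, -⟩ := exists_mem_MaxFix (E := A) (K₀ := ⊥) bot_le hfixbot
  obtain ⟨hK₀A, hK₀fix, hK₀max⟩ := hK₀
  obtain ⟨w₀, hw₀1⟩ := (Subgroup.ne_bot_iff_exists_ne_one).mp hK₀fix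
  have hw₀F : (w₀ : V) ∈ Fix (K₀ : Set (MulAut V)) := w₀.2
  have hw₀ne : (w₀ : V) ≠ 1 := fun h => hw₀1 (Subtype.ext h)
  -- K₀ ∩ ⟨z⟩ = 1
  have hK0z : ∀ c ∈ K₀, c ∈ Subgroup.zpowers z → c = 1 := by
    intro c hcK hcz
    by_contra hc1
    exact hw₀ne (B4A_aux_fpf hzp hzfix hcz hc1 _ (hw₀F c hcK))
  -- maximality: an element of A fixing a nontrivial vector of Fix K₀ lies in K₀
  have hmaxK : ∀ e ∈ A, (∃ w ∈ Fix (K₀ : Set (MulAut V)), w ≠ 1 ∧ e w = w) → e ∈ K₀ := by
    intro e he ⟨w, hwF, hw1, hew⟩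
    have hK'A : K₀ ⊔ Subgroup.zpowers e ≤ A := sup_le hK₀A (Subgroup.zpowers_le.mpr he)
    have hfix' : Fix ((K₀ ⊔ Subgroup.zpowers e : Subgroup (MulAut V)) : Set (MulAut V)) ≠ ⊥ := by
      intro h
      have := B4A_aux_fix_sup hwF hew
      rw [h] at this
      exact hw1 (Subgroup.mem_bot.mp this)
    have hnlt : ¬ K₀ < K₀ ⊔ Subgroup.zpowers e := fun hlt => hfix' (hK₀max _ hK'A hlt)
    have heq : K₀ ⊔ Subgroup.zpowers e = K₀ := by
      by_contra hne
      exact hnlt (lt_of_le_of_ne le_sup_left (Ne.symm hne))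
    rw [← heq]
    exact (le_sup_right : Subgroup.zpowers e ≤ K₀ ⊔ Subgroup.zpowers e) (Subgroup.mem_zpowers e)
  have hz1 : z ≠ 1 := by
    rintro rfl
    obtain ⟨v, hv⟩ := exists_ne (1 : V)
    exact hv (hzfix v rfl)
  have hordz : orderOf z = p := orderOf_eq_prime hzp hz1
  -- A = K₀ ⟨z⟩
  have hAeq : ∀ a ∈ A, ∃ k ∈ K₀, ∃ c ∈ Subgroup.zpowers z, a = k * c := by
    intro a ha
    by_contra hno
    have hWa : ∀ w ∈ Fix (K₀ : Set (MulAut V)), a w ∈ Fix (K₀ : Set (MulAut V)) := by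
      intro w hw k hk
      have h1 : k (a w) = (k * a) w := rfl
      rw [h1, hAc k (hK₀A hk) a ha]
      change a (k w) = a w
      rw [hw k hk]
    have hWz : ∀ w ∈ Fix (K₀ : Set (MulAut V)), z w ∈ Fix (K₀ : Set (MulAut V)) := by
      intro w hw k hk
      have h1 : k (z w) = (k * z) w := rfl
      rw [h1, hAc k (hK₀A hk) z hzA]
      change z (k w) = z w
      rw [hw k hk]
    have hbot := eq_bot_of_rank_two_fpf (p := p) (a := a) (b := z)
      ((hzc a (hAΩ ha))) (hexp a (hAΩ ha)) hzp (Fix (K₀ : Set (MulAut V))) hWa hWz hcop ?_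
    · exact hK₀fix hbot
    · intro i j hi hj hij w hw hfixw
      by_contra hw1
      have heA : a ^ i * z ^ j ∈ A := A.mul_mem (A.pow_mem ha i) (A.pow_mem hzA j)
      have heK : a ^ i * z ^ j ∈ K₀ := hmaxK _ heA ⟨w, hw, hw1, hfixw⟩
      by_cases hi0 : i = 0
      · subst hi0
        rw [pow_zero, one_mul] at heK
        have h1 := hK0z _ heK (Subgroup.pow_mem _ (Subgroup.mem_zpowers z) j)
        have hdvd : p ∣ j := by
          rw [← hordz]; exact orderOf_dvd_of_pow_eq_one h1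
        have hj0 : j ≠ 0 := by
          rintro rfl
          exact hij rfl
        exact absurd (Nat.le_of_dvd (Nat.pos_of_ne_zero hj0) hdvd) (not_le.mpr hj)
      · -- a ∈ K₀⟨z⟩
        have hcopi : Nat.Coprime i (orderOf a) := by
          have h1 : Nat.Coprime i p :=
            (Nat.coprime_of_lt_prime hi0 hi hpp).symm
          exact Nat.Coprime.coprime_dvd_right (orderOf_dvd_of_pow_eq_one (hexp a (hAΩ ha))) h1
        obtain ⟨m, hm⟩ := exists_pow_eq_self_of_coprime hcopi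
        apply hno
        have hai : a ^ i = (a ^ i * z ^ j) * (z ^ j)⁻¹ := by group
        have hcm : Commute (a ^ i * z ^ j) ((z ^ j)⁻¹) :=
          hAc _ heA _ (A.inv_mem (A.pow_mem hzA j))
        refine ⟨(a ^ i * z ^ j) ^ m, K₀.pow_mem heK m, ((z ^ j)⁻¹) ^ m, ?_, ?_⟩
        · exact Subgroup.pow_mem _ (Subgroup.inv_mem _
            (Subgroup.pow_mem _ (Subgroup.mem_zpowers z) j)) m
        · rw [← hcm.mul_pow, ← hai, hm]
  refine ⟨A, K₀, hAΩ, hAc, hAn, hzA, ⟨hK₀A, hK₀fix, hK₀max⟩, ?_, hgA⟩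
  intro g hg hgK
  apply hself g hg
  intro a ha
  obtain ⟨k, hk, c, hc, rfl⟩ := hAeq a ha
  -- g commutes with k
  have hgk : g * k = k * g := by
    have h1 : g * k * g⁻¹ ∈ K₀ := by
      have := conj_mem_cj (a := g) hk
      rwa [hgK] at this
    have h2 : g * k * g⁻¹ * k⁻¹ ∈ K₀ := K₀.mul_mem h1 (K₀.inv_mem hk)
    have h3 := hK0z _ h2 (hcomm g hg k (hAΩ (hK₀A hk)))
    have : g * k = (g * k * g⁻¹ * k⁻¹) * (k * g) := by group
    rw [this, h3, one_mul]
  -- g commutes with c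
  have hgc : g * c = c * g := by
    obtain ⟨j, rfl⟩ := Subgroup.mem_zpowers_iff.mp hc
    have : Commute g z := hzc g hg
    exact (this.zpow_right j)
  rw [← mul_assoc, hgk, mul_assoc, hgc, mul_assoc]

end module

end Cfsg.Agent.Helper5.S4330
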