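import Mathlib
import Cfsg.Agent.Helper5.S4330Defs
import Cfsg.Agent.Helper3.S4330B4A
import Cfsg.Agent.Helper6.S4330PROJ
import Cfsg.Agent.Helper6.S4330P4

/-!
# S4330 piece B4B (helper3): the regular vector `v = ∏_{K ∈ 𝒦₀ \ {K₀}} v_K`.
-/

set_option autoImplicit false

namespace Cfsg.Agent.Helper5.S4330

section module
variable {V : Type*} [CommGroup V] [Finite V]

/-- an element of an abelian `A` normalizes every subgroup of `A`. -/
theorem B4B_aux_cj_self {A K : Subgroup (MulAut V)} (hA : Comm A) (hKA : K ≤ A) {g : MulAut V}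
    (hg : g ∈ A) : cj g K = K := by
  ext y
  rw [mem_cj]
  constructor
  · intro h
    have h1 : g * (g⁻¹ * y * g) = (g⁻¹ * y * g) * g := hA g hg _ (hKA h)
    have h2 : y = g⁻¹ * y * g := by
      have : y * g = g⁻¹ * y * g * g := by rw [← h1]; group
      exact mul_right_cancel this
    rw [h2]; exact h
  · intro h
    have h1 : g * y = y * g := hA g hg y (hKA h)
    have : g⁻¹ * y * g = y := by
      rw [mul_assoc, ← h1]; group
    rw [this]; exact h

/-- a subgroup of a group of exponent `p` has order prime to `|V|`. -/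
theorem B4B_aux_coprime {p : ℕ} [Fact p.Prime] (hcop : (Nat.card V).Coprime p)
    {Ω K : Subgroup (MulAut V)} (hexp : ∀ g ∈ Ω, g ^ p = 1) (hK : K ≤ Ω) :
    (Nat.card K).Coprime (Nat.card V) := by
  haveI : Finite (MulAut V) := B4A_aux_finite
  have hKp : IsPGroup p K := by
    intro g
    refine ⟨1, ?_⟩
    apply Subtype.ext
    rw [pow_one]
    simpa using hexp g.1 (hK g.2)
  obtain ⟨n, hn⟩ := IsPGroup.iff_card.mp hKp
  rw [hn]
  exact (Nat.Coprime.pow_right n hcop).symm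

/-! ## B4B : the regular vector -/

theorem exists_regular_vector_aux {p : ℕ} [Fact p.Prime] (hp : p ≠ 2) [Nontrivial V]
    (hcop : (Nat.card V).Coprime p) {Ω : Subgroup (MulAut V)} (hexp : ∀ g ∈ Ω, g ^ p = 1)
    {z : MulAut V} (hz : z ∈ Ω) (hzc : ∀ g ∈ Ω, g * z = z * g)
    (hcen : ∀ c ∈ Ω, (∀ g ∈ Ω, g * c = c * g) → c ∈ Subgroup.zpowers z)
    (hcomm : ∀ a ∈ Ω, ∀ b ∈ Ω, a * b * a⁻¹ * b⁻¹ ∈ Subgroup.zpowers z)
    (hzfix : ∀ v : V, z v = v → v = 1)
    {A K₀ : Subgroup (MulAut V)} (hAΩ : A ≤ Ω) (hA : Comm A) (hAn : NormBy Ω A) (hzA : z ∈ A)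
    (hK₀ : K₀ ∈ MaxFix A) (hNK : ∀ g ∈ Ω, cj g K₀ = K₀ → g ∈ A) (hgA : ∃ g ∈ Ω, g ∉ A) :
    ∃ v : V, ∀ g ∈ Ω, g ≠ 1 → g v ≠ v := by
  classical
  haveI : Finite (MulAut V) := B4A_aux_finite
  have hpp : p.Prime := Fact.out
  have hzp : z ^ p = 1 := hexp z hz
  -- the orbit of K₀ without K₀
  let S : Set (Subgroup (MulAut V)) := {K | (∃ h ∈ Ω, cj h K₀ = K) ∧ K ≠ K₀}
  have hSmax : ∀ K ∈ S, K ∈ MaxFix A := by
    rintro K ⟨⟨h, hh, rfl⟩, -⟩
    exact cj_mem_MaxFix hAn hh hK₀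
  -- the square of an element outside A is outside A
  have hsq : ∀ g ∈ Ω, g ∉ A → g * g ∉ A := by
    intro g hg hgA' hgg
    apply hgA'
    obtain ⟨m, hm⟩ : ∃ m, p + 1 = 2 * m := by
      rcases hpp.eq_two_or_odd with h2 | hodd
      · exact absurd h2 hp
      · exact ⟨(p + 1) / 2, by omega⟩
    have h1 : g = (g * g) ^ m := by
      rw [← pow_two, ← pow_mul, ← hm, pow_succ, hexp g hg, one_mul]
    rw [h1]
    exact A.pow_mem hgg m
  -- Claim I: the intersection of S is trivial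
  have hclaim : ∀ a : MulAut V, (∀ K ∈ S, a ∈ K) → a = 1 := by
    intro a ha
    obtain ⟨g₀, hg₀, hg₀A⟩ := hgA
    have hK₁S : cj g₀ K₀ ∈ S := ⟨⟨g₀, hg₀, rfl⟩, fun h => hg₀A (hNK g₀ hg₀ h)⟩
    have haK₁ : a ∈ cj g₀ K₀ := ha _ hK₁S
    have hK₁max := hSmax _ hK₁S
    have haA : a ∈ A := hK₁max.1 haK₁
    -- a is central in Ω
    have hcentral : ∀ g ∈ Ω, g * a = a * g := by
      intro g hg
      by_cases hgA' : g ∈ A
      · exact hA g hgA' a haA
      · have hK1 : cj g K₀ ∈ S := ⟨⟨g, hg, rfl⟩, fun h => hgA' (hNK g hg h)⟩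
        have hK2 : cj (g * g) K₀ ∈ S :=
          ⟨⟨g * g, Ω.mul_mem hg hg, rfl⟩, fun h => hsq g hg hgA' (hNK _ (Ω.mul_mem hg hg) h)⟩
        have ha1 : a ∈ cj g K₀ := ha _ hK1
        have ha2 : a ∈ cj (g * g) K₀ := ha _ hK2
        have hga : g * a * g⁻¹ ∈ cj (g * g) K₀ := by
          rw [cj_mul]; exact conj_mem_cj ha1
        have hc : g * a * g⁻¹ * a⁻¹ ∈ cj (g * g) K₀ :=
          (cj (g * g) K₀).mul_mem hga ((cj (g * g) K₀).inv_mem ha2)
        have hc1 := B4A_aux_inter_zpowers hzp hzfix (hSmax _ hK2).2.1 hc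
          (hcomm g hg a (hAΩ haA))
        have : g * a = (g * a * g⁻¹ * a⁻¹) * (a * g) := by group
        rw [this, hc1, one_mul]
    have haz := hcen a (hAΩ haA) hcentral
    exact B4A_aux_inter_zpowers hzp hzfix hK₁max.2.1 haK₁ haz
  -- choice of the v_K
  have hex : ∀ K : Subgroup (MulAut V), ∃ w : V, K ∈ MaxFix A →
      w ∈ Fix (K : Set (MulAut V)) ∧ w ≠ 1 := by
    intro K
    by_cases hK : K ∈ MaxFix A
    · obtain ⟨w, hw1⟩ := (Subgroup.ne_bot_iff_exists_ne_one).mp hK.2.1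
      exact ⟨w.1, fun _ => ⟨w.2, fun h => hw1 (Subtype.ext h)⟩⟩
    · exact ⟨1, fun h => absurd h hK⟩
  choose f hf using hex
  let T : Finset (Subgroup (MulAut V)) := (Set.toFinite S).toFinset
  have hT : ∀ K, K ∈ T ↔ K ∈ S := fun K => Set.Finite.mem_toFinset _
  let v : V := ∏ K ∈ T, f K
  -- projections of v
  have hcopK : ∀ K ∈ MaxFix A, (Nat.card K).Coprime (Nat.card V) := fun K hK =>
    B4B_aux_coprime hcop hexp (hK.1.trans hAΩ)
  have hprojS : ∀ K ∈ S, proj K v = f K := by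
    intro K hK
    have hKm := hSmax K hK
    change proj K (∏ K' ∈ T, f K') = f K
    rw [map_prod]
    rw [Finset.prod_eq_single K]
    · exact proj_of_mem_Fix (hcopK K hKm) (hf K hKm).1
    · intro K' hK' hne
      exact proj_eq_one hA hKm (hSmax K' ((hT K').mp hK')) (Ne.symm hne)
        (hf K' (hSmax K' ((hT K').mp hK'))).1
    · intro hnot
      exact absurd ((hT K).mpr hK) hnot
  have hproj0 : proj K₀ v = 1 := by
    change proj K₀ (∏ K' ∈ T, f K') = 1
    rw [map_prod]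
    apply Finset.prod_eq_one
    intro K' hK'
    have hK'S := (hT K').mp hK'
    exact proj_eq_one hA hK₀ (hSmax K' hK'S) (Ne.symm hK'S.2) (hf K' (hSmax K' hK'S)).1
  refine ⟨v, ?_⟩
  intro g hg hg1 hgv
  apply hg1
  -- g normalizes K₀
  have hgK₀ : cj g K₀ = K₀ := by
    by_contra hne
    have hK1 : cj g K₀ ∈ S := ⟨⟨g, hg, rfl⟩, hne⟩
    have h1 : proj (cj g K₀) v = f (cj g K₀) := hprojS _ hK1
    have h2 : proj (cj g K₀) v = 1 := by
      have := proj_cj g K₀ v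
      rw [hgv, hproj0, map_one] at this
      exact this.symm
    exact (hf _ (hSmax _ hK1)).2 (h1.symm.trans h2)
  have hgA' : g ∈ A := hNK g hg hgK₀
  apply hclaim
  intro K hK
  have hKm := hSmax K hK
  have hcjK : cj g K = K := B4B_aux_cj_self hA hKm.1 hgA'
  have hfix : g (f K) = f K := by
    have := proj_cj g K v
    rw [hcjK, hgv, hprojS K hK] at this
    exact this
  exact B4A_aux_mem_of_fix hKm hgA' (hf K hKm).1 (hf K hKm).2 hfix

end module

end Cfsg.Agent.Helper5.S4330
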