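import Mathlib
import Cfsg.Agent.Helper26.S4394Defs
import Cfsg.Agent.Helper29.S4394GSa
import Cfsg.Agent.Helper20.S4394GSb
import Cfsg.Agent.Helper20.S4394GSc
import Cfsg.Agent.Helper24.S4394GSd
import Cfsg.Agent.Helper8.S4394GSe

set_option autoImplicit false

/-!
# S4394, piece GS: the normal Sylow subgroup of a minimal non-nilpotent group is good
-/

namespace Cfsg.Agent.S4394P

open Cfsg

/-- GS (M): the normal Sylow subgroup of a minimal non-nilpotent group is good. -/
theorem GS {X : Type*} [Group X] [Finite X] (p : ℕ) [Fact p.Prime]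
    (hX : Cfsg.IsMinimalNonNilpotent X) (P : Sylow p X) (hPn : (P : Subgroup X).Normal)
    (hP1 : (P : Subgroup X) ≠ ⊥) : Good p ↥(P : Subgroup X) := by
  obtain ⟨y, q, hq, hqp, hyo, hyq, hS⟩ := GSa p hX P hPn hP1
  obtain ⟨hb1, hb2, hb3, _hb4⟩ := GSb hS
  -- notation
  set PP : Subgroup X := (P : Subgroup X) with hPP
  set C : Subgroup X := PP ⊓ Subgroup.centralizer {y} with hC
  refine ⟨C.subgroupOf PP, ?_, ?_, ?_, ?_, ?_⟩
  · -- (G1)
    intro c hc
    rw [Subgroup.mem_subgroupOf] at hc
    rw [Subgroup.mem_center_iff]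
    intro u
    apply Subtype.ext
    have := hb3 (c : X) hc (u : X) u.2
    simpa using this.symm
  · -- (G2)
    intro u v
    rw [Subgroup.mem_subgroupOf]
    have := hb1 (u : X) u.2 (v : X) v.2
    simpa using this
  · -- (G3)
    intro u
    rw [Subgroup.mem_subgroupOf]
    have := hb2 (u : X) u.2
    simpa using this
  · -- (P2)
    intro x hx z hz
    rw [Subgroup.mem_subgroupOf] at hx hz
    have hxC : (x : X) ∉ Subgroup.centralizer {y} := by
      intro h
      exact hx ⟨x.2, h⟩
    obtain ⟨t, ht, hxt⟩ := GSc hS (x : X) x.2 hxC (z : X) hz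
    refine ⟨⟨t, ht⟩, ?_⟩
    apply Subtype.ext
    simpa using hxt
  · -- (P4)
    intro hp3 hidx A hZA hA N hNZ hNne
    have hidx' : C.relIndex PP = p ^ 2 := hidx
    have hp2 : 2 ≤ p := (Fact.out : p.Prime).two_le
    have hp23 : p = 2 ∨ p = 3 := by omega
    rcases hp23 with hp | hp
    · -- p = 2
      subst hp
      have hidx4 : C.relIndex PP = 4 := by rw [hidx']; norm_num
      have hAP : A.map PP.subtype ≤ PP := Subgroup.map_subtype_le A
      have hCmap : (C.subgroupOf PP).map PP.subtype = C := by
        rw [Subgroup.subgroupOf_map_subtype]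
        exact inf_eq_left.mpr inf_le_left
      have hCA : C ≤ A.map PP.subtype := by
        rw [← hCmap]
        exact Subgroup.map_mono hZA
      have hArel : (A.map PP.subtype).relIndex PP = 2 := by
        unfold Subgroup.relIndex Subgroup.subgroupOf
        rw [Subgroup.comap_map_eq_self_of_injective PP.subtype_injective]
        exact hA
      have hNC : N.map PP.subtype ≤ C := by
        rw [← hCmap]
        exact Subgroup.map_mono hNZ
      have hNne' : N.map PP.subtype ≠ C := by
        intro h
        apply hNne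
        rw [← hCmap] at h
        exact Subgroup.map_injective PP.subtype_injective h
      obtain ⟨a, haA, haN⟩ := GSd hS hidx4 (A.map PP.subtype) hAP hCA hArel (N.map PP.subtype) hNC hNne'
      obtain ⟨a₀, ha₀, rfl⟩ := haA
      refine ⟨a₀, ha₀, ?_⟩
      intro h
      apply haN
      refine ⟨a₀ ^ 2, h, ?_⟩
      simp
    · -- p = 3
      subst hp
      exfalso
      have hidx9 : C.relIndex PP = 9 := by rw [hidx']; norm_num
      exact GSe hS q hq hqp hyo hyq hidx9

end Cfsg.Agent.S4394P
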