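import Mathlib
import Cfsg.Prelude.Def_Transfer
import Cfsg.Agent.Helper4.S4404Defs

/-! Board `s4404pieces`, rows GEN (`exists_generator_three`) and SUPCARD (`sup_eq_of_card`). -/

set_option autoImplicit false
set_option linter.unusedVariables false

namespace Cfsg.Agent.S4404P

open Subgroup
open scoped commutatorElement

variable {S : Type*} [Group S] [Finite S]

/-- SUPCARD -/
theorem sup_eq_of_card (M : Subgroup S) (hM : Cfsg.IsElementaryAbelian 2 M) (X₁ X₂ U : Subgroup S) (hUM : U ≤ M)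
    (h₁ : X₁ ≤ U) (h₂ : X₂ ≤ U) (hdisj : X₁ ⊓ X₂ = ⊥) (hcard : Nat.card ↥X₁ * Nat.card ↥X₂ = Nat.card ↥U) :
    X₁ ⊔ X₂ = U := by
  have hle : X₁ ⊔ X₂ ≤ U := sup_le h₁ h₂
  -- the product map `X₁ × X₂ → X₁ ⊔ X₂` is injective
  let f : ↥X₁ × ↥X₂ → ↥(X₁ ⊔ X₂) := fun ab =>
    ⟨(ab.1 : S) * (ab.2 : S), (X₁ ⊔ X₂).mul_mem (le_sup_left (a := X₁) ab.1.2) (le_sup_right (b := X₂) ab.2.2)⟩
  have hf : Function.Injective f := by
    rintro ⟨a, b⟩ ⟨a', b'⟩ hab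
    have h0 : (a : S) * (b : S) = (a' : S) * (b' : S) := congrArg Subtype.val hab
    have h3 : (a' : S)⁻¹ * (a : S) = (b' : S) * (b : S)⁻¹ := by
      calc (a' : S)⁻¹ * (a : S) = (a' : S)⁻¹ * ((a : S) * (b : S)) * (b : S)⁻¹ := by group
        _ = (a' : S)⁻¹ * ((a' : S) * (b' : S)) * (b : S)⁻¹ := by rw [h0]
        _ = (b' : S) * (b : S)⁻¹ := by group
    have h4 : (a' : S)⁻¹ * (a : S) ∈ X₁ ⊓ X₂ := by
      refine mem_inf.mpr ⟨X₁.mul_mem (X₁.inv_mem a'.2) a.2, ?_⟩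
      rw [h3]
      exact X₂.mul_mem b'.2 (X₂.inv_mem b.2)
    rw [hdisj, mem_bot] at h4
    have ha : (a : S) = (a' : S) := by
      have := inv_mul_eq_one.mp h4
      exact this.symm
    have hb : (b : S) = (b' : S) := by
      rw [ha] at h0
      exact mul_left_cancel h0
    exact Prod.ext (Subtype.ext ha) (Subtype.ext hb)
  have h5 : Nat.card (↥X₁ × ↥X₂) ≤ Nat.card ↥(X₁ ⊔ X₂) := Nat.card_le_card_of_injective f hf
  rw [Nat.card_prod, hcard] at h5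
  exact Subgroup.eq_of_le_of_card_ge hle h5

/-- GEN : a cyclic `3`-group `Q` is `zpowers x` for a `3`-element `x`, and `⁅Q, M⁆ = [M, x]`. -/
theorem exists_generator_three (M Q : Subgroup S) (hQc : IsCyclic ↥Q) (hQ3 : IsPGroup 3 ↥Q) :
    ∃ x : S, Q = zpowers x ∧ (∃ k : ℕ, x ^ 3 ^ k = 1) ∧ ⁅Q, M⁆ = Wc M x := by
  obtain ⟨g, hg⟩ := hQc.exists_generator
  have hQ : Q = zpowers (g : S) := by
    apply le_antisymm
    · intro y hy
      obtain ⟨i, hi⟩ := mem_zpowers_iff.mp (hg ⟨y, hy⟩)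
      refine mem_zpowers_iff.mpr ⟨i, ?_⟩
      have := congrArg Subtype.val hi
      simpa using this
    · exact (zpowers_le).mpr g.2
  refine ⟨(g : S), hQ, ?_, ?_⟩
  · obtain ⟨k, hk⟩ := hQ3 g
    refine ⟨k, ?_⟩
    have := congrArg Subtype.val hk
    simpa using this
  · unfold Wc
    rw [Subgroup.commutator_comm, ← hQ]

end Cfsg.Agent.S4404P
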