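import Mathlib
import Cfsg.Prelude.Def_Transfer
import Cfsg.Agent.Helper4.S4404Defs
import Cfsg.Agent.S0004
import Cfsg.Agent.S0005

/-! Board `s4404pieces`, rows SYLC (`exists_conj_le`), HALL2P (`exists_odd_hall`), HALLJ (`exists_hall`). -/

set_option autoImplicit false
set_option linter.unusedVariables false

namespace Cfsg.Agent.S4404P

open Subgroup
open scoped commutatorElement Pointwise

variable {S : Type*} [Group S] [Finite S]

/-- SYLC (Sylow): a subgroup `P ≤ H` of order the full `p`-part of `|H|` contains a conjugate of each `p`-subgroup of `H`. -/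
theorem exists_conj_le (H P A : Subgroup S) (p : ℕ) [Fact p.Prime] (hPH : P ≤ H)
    (hP : Nat.card ↥P = p ^ (Nat.card ↥H).factorization p) (hAH : A ≤ H) (hA : IsPGroup p ↥A) :
    ∃ h ∈ H, A.map (MulAut.conj h).toMonoidHom ≤ P := by
  have hcardP : Nat.card ↥(P.subgroupOf H) = p ^ (Nat.card ↥H).factorization p := by
    rw [← hP]
    exact Nat.card_congr (Subgroup.subgroupOfEquivOfLe hPH).toEquiv
  let P' : Sylow p ↥H := Sylow.ofCard (P.subgroupOf H) hcardP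
  have hA' : IsPGroup p ↥(A.subgroupOf H) :=
    hA.of_equiv (Subgroup.subgroupOfEquivOfLe hAH).symm
  obtain ⟨Q', hQ'⟩ := hA'.exists_le_sylow
  obtain ⟨g, hg⟩ := MulAction.exists_smul_eq ↥H Q' P'
  refine ⟨(g : S), g.2, ?_⟩
  rintro _ ⟨a, ha, rfl⟩
  have haQ : (⟨a, hAH ha⟩ : ↥H) ∈ (Q' : Subgroup ↥H) := hQ' (Subgroup.mem_subgroupOf.mpr ha)
  have h1 : MulAut.conj g • (⟨a, hAH ha⟩ : ↥H) ∈ MulAut.conj g • (Q' : Subgroup ↥H) :=
    Subgroup.smul_mem_pointwise_smul _ _ _ haQ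
  have h2 : (g • Q' : Sylow p ↥H) = P' := hg
  have h3 : ((g • Q' : Sylow p ↥H) : Subgroup ↥H) = (P' : Subgroup ↥H) := congrArg _ h2
  rw [Sylow.coe_subgroup_smul] at h3
  rw [h3] at h1
  have h4 : MulAut.conj g • (⟨a, hAH ha⟩ : ↥H) ∈ P.subgroupOf H := h1
  rw [Subgroup.mem_subgroupOf] at h4
  have h5 : ((MulAut.conj g • (⟨a, hAH ha⟩ : ↥H) : ↥H) : S) = (g : S) * a * (g : S)⁻¹ := by
    rw [MulAut.smul_def]
    simp [MulAut.conj_apply]
  rw [h5] at h4
  exact h4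

/-- the `2`-part and the odd part of a positive number -/
theorem HALL2P_aux_split (N : ℕ) (hN : N ≠ 0) :
    N = ordCompl[2] N * ordProj[2] N ∧ (ordCompl[2] N).Coprime (ordProj[2] N) ∧ Odd (ordCompl[2] N) := by
  refine ⟨?_, ?_, ?_⟩
  · rw [mul_comm]; exact (Nat.ordProj_mul_ordCompl_eq_self N 2).symm
  · exact (Nat.Coprime.pow_left _ (Nat.coprime_ordCompl Nat.prime_two hN)).symm
  · have h := Nat.coprime_ordCompl Nat.prime_two hN
    rw [Nat.odd_iff]
    have h2 : ¬ 2 ∣ ordCompl[2] N := (Nat.Prime.coprime_iff_not_dvd Nat.prime_two).mp h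
    omega

/-- HALL2P (`S0005`, `S0004`): a Hall `2'`-subgroup of the solvable group `S` containing `Q` and a conjugate of `E`. -/
theorem exists_odd_hall [Group.IsSolvable S] (Q E : Subgroup S) (hQ : Odd (Nat.card ↥Q)) (hE : Odd (Nat.card ↥E)) :
    ∃ H : Subgroup S, Odd (Nat.card ↥H) ∧ Q ≤ H ∧ ∃ g : S, E.map (MulAut.conj g).toMonoidHom ≤ H := by
  have hN : Nat.card S ≠ 0 := Nat.card_pos.ne'
  obtain ⟨hsplit, hcop, hodd⟩ := HALL2P_aux_split (Nat.card S) hN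
  have hcopK : ∀ K : Subgroup S, Odd (Nat.card ↥K) → (Nat.card ↥K).Coprime (ordProj[2] (Nat.card S)) := by
    intro K hK
    apply Nat.Coprime.pow_right
    rw [Nat.odd_iff] at hK
    apply Nat.Coprime.symm
    rw [Nat.Prime.coprime_iff_not_dvd Nat.prime_two]
    omega
  obtain ⟨H, hHc, hQH⟩ := Cfsg.Agent.S0005.result (G := S) _ _ hsplit hcop Q (hcopK Q hQ)
  obtain ⟨H', hH'c, hEH'⟩ := Cfsg.Agent.S0005.result (G := S) _ _ hsplit hcop E (hcopK E hE)
  obtain ⟨g, hg⟩ := Cfsg.Agent.S0004.result (G := S) _ _ hsplit hcop H' H hH'c hHc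
  refine ⟨H, by rw [hHc]; exact hodd, hQH, g, ?_⟩
  rintro _ ⟨e, he, rfl⟩
  have h1 : MulAut.conj g • e ∈ MulAut.conj g • H' := Subgroup.smul_mem_pointwise_smul _ _ _ (hEH' he)
  rw [hg] at h1
  exact h1

/-- number theory for HALLJ -/
theorem HALLJ_aux_split (N p : ℕ) (hN : N ≠ 0) (hp : p.Prime) (hp3 : p ≠ 3) :
    ∃ n : ℕ, N = (3 ^ N.factorization 3 * p ^ N.factorization p) * n ∧
      (3 ^ N.factorization 3 * p ^ N.factorization p).Coprime n ∧ Nat.Coprime 3 n := by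
  have h3 : Nat.Prime 3 := Nat.prime_three
  set N₃ := ordCompl[3] N with hN₃
  have hN₃0 : N₃ ≠ 0 := (Nat.ordCompl_pos 3 hN).ne'
  have e1 : N = 3 ^ N.factorization 3 * N₃ := (Nat.ordProj_mul_ordCompl_eq_self N 3).symm
  have c1 : Nat.Coprime 3 N₃ := Nat.coprime_ordCompl h3 hN
  have hfp : N₃.factorization p = N.factorization p := by
    rw [hN₃, Nat.factorization_ordCompl, Finsupp.erase_ne hp3]
  set n := ordCompl[p] N₃ with hn
  have e2 : N₃ = p ^ N.factorization p * n := by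
    rw [← hfp]; exact (Nat.ordProj_mul_ordCompl_eq_self N₃ p).symm
  have c2 : Nat.Coprime p n := Nat.coprime_ordCompl hp hN₃0
  have c3 : Nat.Coprime 3 n := by
    apply Nat.Coprime.coprime_dvd_right _ c1
    exact ⟨p ^ N.factorization p, by rw [mul_comm]; exact e2⟩
  refine ⟨n, ?_, ?_, c3⟩
  · rw [mul_assoc, ← e2]; exact e1
  · exact Nat.Coprime.mul_left (Nat.Coprime.pow_left _ c3) (Nat.Coprime.pow_left _ c2)

/-- HALLJ (`S0005` in `↥H`): a Hall `{3,p}`-subgroup of `H` containing `x`. -/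
theorem exists_hall (H : Subgroup S) (hsol : Group.IsSolvable ↥H) (p : ℕ) [Fact p.Prime] (hp3 : p ≠ 3) (x : S)
    (hx : x ∈ H) (hx3 : ∃ k : ℕ, x ^ 3 ^ k = 1) :
    ∃ J : Subgroup S, J ≤ H ∧ x ∈ J ∧
      Nat.card ↥J = 3 ^ (Nat.card ↥H).factorization 3 * p ^ (Nat.card ↥H).factorization p := by
  have hp : p.Prime := Fact.out
  have hN : Nat.card ↥H ≠ 0 := Nat.card_pos.ne'
  obtain ⟨n, hsplit, hcop, hc3⟩ := HALLJ_aux_split (Nat.card ↥H) p hN hp hp3
  -- the cyclic subgroup generated by `x` inside `↥H`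
  let K : Subgroup ↥H := zpowers (⟨x, hx⟩ : ↥H)
  have hKcop : (Nat.card ↥K).Coprime n := by
    obtain ⟨k, hk⟩ := hx3
    have hk' : (⟨x, hx⟩ : ↥H) ^ 3 ^ k = 1 := by
      apply Subtype.ext
      simpa using hk
    have hdvd : Nat.card ↥K ∣ 3 ^ k := by
      rw [Nat.card_zpowers]
      exact orderOf_dvd_of_pow_eq_one hk'
    exact Nat.Coprime.coprime_dvd_left hdvd (Nat.Coprime.pow_left _ hc3)
  obtain ⟨J', hJ'c, hKJ'⟩ := Cfsg.Agent.S0005.result (G := ↥H) _ _ hsplit hcop K hKcop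
  refine ⟨J'.map H.subtype, ?_, ?_, ?_⟩
  · rintro _ ⟨y, _, rfl⟩
    exact y.2
  · exact ⟨⟨x, hx⟩, hKJ' (mem_zpowers _), rfl⟩
  · rw [← hJ'c]
    exact Nat.card_congr (J'.equivMapOfInjective H.subtype H.subtype_injective).symm.toEquiv

end Cfsg.Agent.S4404P
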