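import Mathlib
import Cfsg.Agent.Helper3.S4411Defs
import Cfsg.Agent.Helper18.S4411ORDCENT
import Cfsg.Agent.Helper1.S4411ORDPSOL
import Cfsg.Agent.Helper13.S4411ORDSTEP

/-!
# S4411 piece ORD: the Thompson ordering argument

Among the `p`-subgroups `H` with a `q`-element of `N_G(H)` acting non-trivially, choose one maximising
`(|N_G(H)|_p, |H|)` lexicographically (blueprint: `departures/helper3_S4411_blueprint.md`).
-/

set_option autoImplicit false

namespace Cfsg.Agent.S4411P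

open Cfsg

universe u

/-- `p ^ a ∣ n` gives `a ≤ v_p(n)`. -/
theorem ORD_aux_le_fact {p a n : ℕ} (hp : p.Prime) (hn : n ≠ 0) (h : p ^ a ∣ n) : a ≤ n.factorization p :=
  (hp.pow_dvd_iff_le_factorization hn).1 h

/-- the ordering argument: some member is normalised by a Sylow `p`-subgroup of `G`. -/
theorem ORD {G : Type u} [Group G] [Finite G] (p q : ℕ) [Fact p.Prime] [Fact q.Prime] (hpq : p ≠ q)
    (h23 : ¬ ((p = 2 ∧ q = 3) ∨ (p = 3 ∧ q = 2)))
    (hsol : ∀ H : Subgroup G, IsPGroup p ↥H →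
      Cfsg.IsPSolvable p (↥(Subgroup.normalizer (H : Set G)) ⧸
        (Subgroup.centralizer (H : Set G)).subgroupOf (Subgroup.normalizer (H : Set G))))
    (H : Subgroup G) (hH : IsPGroup p ↥H) (hA : Acts q H) :
    ∃ (K : Subgroup G) (S : Sylow p G), IsPGroup p K ∧ Acts q K ∧
      (S : Subgroup G) ≤ Subgroup.normalizer (K : Set G) := by
  classical
  have hp : p.Prime := Fact.out
  set M : ℕ := Nat.card G + 1 with hM
  let a : Subgroup G → ℕ := fun X => (Nat.card ↥(Subgroup.normalizer (X : Set G))).factorization p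
  let f : Subgroup G → ℕ := fun X => a X * M + Nat.card ↥X
  have hf : ∀ X, f X = a X * M + Nat.card ↥X := fun _ => rfl
  let 𝓗 : Set (Subgroup G) := {X | IsPGroup p ↥X ∧ Acts q X}
  obtain ⟨H₀, ⟨hH₀p, hH₀A⟩, hmax⟩ := Set.exists_max_image 𝓗 f (Set.toFinite 𝓗) ⟨H, hH, hA⟩
  set N := Subgroup.normalizer (H₀ : Set G) with hN
  let R' : Sylow p ↥N := default
  set R : Subgroup G := (R' : Subgroup ↥N).map N.subtype with hR
  have hRcard : Nat.card ↥R = p ^ (a H₀) := by
    rw [hR, Subgroup.card_map_of_injective N.subtype_injective]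
    exact R'.card_eq_multiplicity
  have hRp : IsPGroup p ↥R := IsPGroup.of_card hRcard
  have hcardle : ∀ X : Subgroup G, Nat.card ↥X < M := fun X =>
    Nat.lt_succ_of_le (Subgroup.card_le_card_group X)
  -- (i) `C_R(H₀) ≤ H₀`
  have hC : R ⊓ Subgroup.centralizer (H₀ : Set G) ≤ H₀ := by
    obtain ⟨H₁, hH₁p, hH₁A, hle, hH₁eq, hRN₁⟩ := ORD_cent p q hpq H₀ hH₀p hH₀A R'
    have h1 : f H₁ ≤ f H₀ := hmax H₁ ⟨hH₁p, hH₁A⟩
    have h2 : (a H₀) ≤ a H₁ := by
      apply ORD_aux_le_fact hp Nat.card_pos.ne'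
      rw [← hRcard]
      exact Subgroup.card_dvd_of_le hRN₁
    have h3 : Nat.card ↥H₀ ≤ Nat.card ↥H₁ := Subgroup.card_le_of_le hle
    have h4 : (a H₀) * M ≤ a H₁ * M := Nat.mul_le_mul_right M h2
    have h5 : Nat.card ↥H₁ ≤ Nat.card ↥H₀ := by
      rw [hf, hf] at h1
      omega
    have h6 : H₀ = H₁ := Subgroup.eq_of_le_of_card_ge hle h5
    have h7 : R ⊓ Subgroup.centralizer (H₀ : Set G) ≤ H₁ := by
      rw [hH₁eq]
      exact le_sup_right
    exact le_trans h7 (le_of_eq h6.symm)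
  -- (ii) `N` is `p`-solvable
  have hsolN : Cfsg.IsPSolvable p ↥N := ORD_psol p H₀ hH₀p (hsol H₀ hH₀p) R' hC
  -- (iii) Lemma T
  obtain ⟨K, hKR, hKA, hNRK⟩ := ORD_step p q hpq h23 H₀ hH₀p hH₀A hsolN R
    (Subgroup.map_subtype_le _) ⟨R', rfl⟩
  have hKp : IsPGroup p ↥K := hRp.to_le hKR
  -- (iv) `v_p |N_G(K)| ≤ (a H₀)`
  have hK1 : f K ≤ f H₀ := hmax K ⟨hKp, hKA⟩
  have hKa : a K ≤ (a H₀) := by
    by_contra hcon
    push Not at hcon
    have h1 : ((a H₀) + 1) * M ≤ a K * M := Nat.mul_le_mul_right M hcon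
    have h2 := hcardle H₀
    rw [hf, hf] at hK1
    have h3 : ((a H₀) + 1) * M = (a H₀) * M + M := by ring
    omega
  -- `R` is a Sylow `p`-subgroup of `G`
  have hnot : ¬ p ^ ((a H₀) + 1) ∣ Nat.card G := by
    intro hdvd
    have h1 := Sylow.prime_dvd_card_quotient_normalizer hdvd hRcard
    have h2 : Nat.card ↥(Subgroup.normalizer (R : Set G)) =
        Nat.card (↥(Subgroup.normalizer (R : Set G)) ⧸
          R.comap (Subgroup.normalizer (R : Set G)).subtype) *
        Nat.card ↥(R.comap (Subgroup.normalizer (R : Set G)).subtype) :=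
      Subgroup.card_eq_card_quotient_mul_card_subgroup _
    have h3 : Nat.card ↥(R.comap (Subgroup.normalizer (R : Set G)).subtype) = p ^ (a H₀) := by
      rw [← hRcard]
      exact Nat.card_congr (Subgroup.subgroupOfEquivOfLe Subgroup.le_normalizer).toEquiv
    have h4 : p ^ ((a H₀) + 1) ∣ Nat.card ↥(Subgroup.normalizer (R : Set G)) := by
      rw [h2, h3, pow_succ, mul_comm]
      exact Nat.mul_dvd_mul_right h1 _
    have h5 : p ^ ((a H₀) + 1) ∣ Nat.card ↥(Subgroup.normalizer (K : Set G)) :=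
      dvd_trans h4 (Subgroup.card_dvd_of_le hNRK)
    have h6 : (a H₀) + 1 ≤ a K := ORD_aux_le_fact hp Nat.card_pos.ne' h5
    omega
  have hRsyl : Nat.card ↥R = p ^ (Nat.card G).factorization p := by
    rw [hRcard]
    congr 1
    apply le_antisymm
    · apply ORD_aux_le_fact hp Nat.card_pos.ne'
      rw [← hRcard]
      exact Subgroup.card_subgroup_dvd_card R
    · by_contra hcon
      push Not at hcon
      apply hnot
      exact dvd_trans (pow_dvd_pow p hcon) (Nat.ordProj_dvd _ p)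
  refine ⟨K, Sylow.ofCard R hRsyl, hKp, hKA, ?_⟩
  rw [Sylow.coe_ofCard]
  exact le_trans Subgroup.le_normalizer hNRK

end Cfsg.Agent.S4411P
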