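import Mathlib
import Cfsg.Prelude.Def_Transfer
import Cfsg.Prelude.Def_Solvable
import Cfsg.Agent.Helper11.S4409Defs
import Cfsg.Agent.Helper9.S4415Defs
import Cfsg.Agent.Helper9.S4409V
import Cfsg.Agent.Lead.Coprime3
import Cfsg.Agent.Helper23.PSeries

/-! Board `s4415pieces`, rows B2 (`v4_yc`), G1 (`ppc_facts`), DET1 (`det_comm`). -/

set_option autoImplicit false
set_option linter.unusedVariables false

namespace Cfsg.Agent.S4415P

open Subgroup
open Cfsg.Agent.S4409P (Zc Fr Der IsV4 IsQ8 SpecialInt IsAb)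

variable {S : Type*} [Group S] [Finite S] {E : Type*} [AddCommGroup E] [Module (ZMod 3) E] [Finite E]

/-- B2 (`S4409P.v4_sub`) : a four-group on which `B` acts nontrivially lies in `𝒴`. -/
theorem v4_yc (B : Subgroup S) (hB : Nat.card ↥B = 3) (Q : Subgroup S) (hQ : IsV4 Q)
    (hN : B ≤ normalizer (Q : Set S)) (hC : ¬ B ≤ centralizer (Q : Set S)) : YC B Q := by
  have hodd : Odd (Nat.card ↥B) := by rw [hB]; decide
  have hne : ⁅Q, B⁆ ≠ ⊥ := by
    intro h
    apply hC
    rw [Subgroup.commutator_eq_bot_iff_le_centralizer] at h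
    intro b hb
    rw [Subgroup.mem_centralizer_iff]
    intro q hq
    have := (Subgroup.mem_centralizer_iff.mp (h hq)) b hb
    exact this.symm
  refine ⟨hN, ?_, ?_⟩
  · rw [hQ.1]; decide
  · rcases Cfsg.Agent.S4409P.v4_sub Q B hQ hodd hN hne ⁅Q, B⁆
        (Cfsg.Agent.Lead.commutator_le_of_le_normalizer hN)
        (Cfsg.Agent.Lead.le_normalizer_commutator_right Q B) with h | h
    · exact absurd h hne
    · exact h

/-- G1 : `O_{3'}(S)` is a normal subgroup of order prime to `3` (`Helper23.pPrimeCore_card_coprime`). -/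
theorem ppc_facts : (Cfsg.pPrimeCore 3 S).Normal ∧ (Nat.card ↥(Cfsg.pPrimeCore 3 S)).Coprime 3 := by
  haveI : Fact (Nat.Prime 3) := ⟨Nat.prime_three⟩
  refine ⟨?_, Cfsg.Agent.Helper23.pPrimeCore_card_coprime 3 S⟩
  unfold Cfsg.pPrimeCore
  constructor
  intro n hn g
  have key : ∀ g : S, (sSup {N : Subgroup S | N.Normal ∧ (Nat.card N).Coprime 3}) ≤
      (sSup {N : Subgroup S | N.Normal ∧ (Nat.card N).Coprime 3}).comap (MulAut.conj g).toMonoidHom := by
    intro g
    apply sSup_le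
    intro N hN x hx
    rw [Subgroup.mem_comap]
    have : g * x * g⁻¹ ∈ N := hN.1.conj_mem x hx g
    exact (le_sSup hN : N ≤ _) this
  exact key g hn

/-- DET1 : `det (ρ r) = 1` for `r` in a commutator subgroup. -/
theorem det_comm (ρ : Representation (ZMod 3) S E) (X Y : Subgroup S) :
    ∀ r ∈ ⁅X, Y⁆, LinearMap.det (ρ r) = 1 := by
  set f : S →* ZMod 3 := LinearMap.det.comp (ρ : S →* (E →ₗ[ZMod 3] E)) with hf
  have hle : ⁅X, Y⁆ ≤ f.ker := by
    rw [Subgroup.commutator_le]
    intro x _ y _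
    rw [MonoidHom.mem_ker, commutatorElement_def, map_mul, map_mul, map_mul]
    have h1 : f x * f x⁻¹ = 1 := by rw [← map_mul, mul_inv_cancel, map_one]
    have h2 : f y * f y⁻¹ = 1 := by rw [← map_mul, mul_inv_cancel, map_one]
    calc f x * f y * f x⁻¹ * f y⁻¹ = (f x * f x⁻¹) * (f y * f y⁻¹) := by ring
      _ = 1 := by rw [h1, h2, one_mul]
  intro r hr
  have := hle hr
  rw [MonoidHom.mem_ker] at this
  exact this

end Cfsg.Agent.S4415P
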