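import Mathlib
import Cfsg.Prelude.Def_Transfer
import Cfsg.Prelude.Def_Solvable
import Cfsg.Agent.Helper11.S4409Defs
import Cfsg.Agent.Helper9.S4415Defs
import Cfsg.Agent.Helper14.PCore
import Cfsg.Agent.Helper23.PLengthOne

/-! Board `s4415pieces`, row G2 (`le_ppc`). -/

set_option autoImplicit false
set_option linter.unusedVariables false

namespace Cfsg.Agent.S4415P

open Subgroup
open Cfsg.Agent.S4409P (Zc Fr Der IsV4 IsQ8 SpecialInt IsAb)

variable {S : Type*} [Group S] [Finite S] {E : Type*} [AddCommGroup E] [Module (ZMod 3) E] [Finite E]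

/-- G2 : `Q ≤ O_{3'}(S)`. -/
theorem le_ppc [Group.IsSolvable S] (P : Sylow 3 S) (B : Subgroup S)
    (hBZ : (center ↥(P : Subgroup S)).map (P : Subgroup S).subtype = B) (Q : Subgroup S) (hQ2 : IsPGroup 2 ↥Q)
    (hQB : ⁅Q, B⁆ = Q) : Q ≤ Cfsg.pPrimeCore 3 S := by
  haveI : Fact (Nat.Prime 3) := ⟨Nat.prime_three⟩
  set N : Subgroup S := Cfsg.pPrimeCore 3 S with hN
  set π : S →* S ⧸ N := QuotientGroup.mk' N with hπ
  have hsurj : Function.Surjective π := QuotientGroup.mk'_surjective N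
  set O : Subgroup (S ⧸ N) := Cfsg.pCore 3 (S ⧸ N) with hO
  have hOn : O.Normal := Cfsg.Agent.Helper14.pCore_normal 3
  have hO3 : IsPGroup 3 ↥O := Cfsg.Agent.Helper14.pCore_isPGroup 3
  -- `O ≤ π P`
  have hOP : O ≤ (P : Subgroup S).map π := by
    have := Cfsg.Agent.Helper14.pCore_le_sylow (G := S ⧸ N) 3 (P.mapSurjective hsurj)
    rw [Sylow.coe_mapSurjective] at this
    exact this
  -- `π B` centralises `O`
  have hBO : B.map π ≤ centralizer (O : Set (S ⧸ N)) := by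
    rintro _ ⟨b, hb, rfl⟩
    rw [mem_centralizer_iff]
    intro o ho
    obtain ⟨x, hx, rfl⟩ := hOP ho
    rw [← hBZ] at hb
    obtain ⟨z, hz, rfl⟩ := hb
    have hcomm : (⟨x, hx⟩ : ↥(P : Subgroup S)) * z = z * ⟨x, hx⟩ :=
      (Subgroup.mem_center_iff.mp hz) ⟨x, hx⟩
    have hcomm' : x * (z : S) = (z : S) * x := congrArg Subtype.val hcomm
    show π x * π ((P : Subgroup S).subtype z) = π ((P : Subgroup S).subtype z) * π x
    rw [← map_mul, ← map_mul]
    exact congrArg π hcomm'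
  have hcent := Cfsg.Agent.Helper23.centralizer_pCore_quotient_le 3 S
  have hBO' : B.map π ≤ O := hBO.trans hcent
  -- `π Q ≤ O`
  have hQO : Q.map π ≤ O := by
    rw [← hQB, Subgroup.map_commutator]
    rw [Subgroup.commutator_le]
    intro x _ y hy
    have hy' : y ∈ O := hBO' hy
    rw [commutatorElement_def]
    have h1 : x * y * x⁻¹ ∈ O := hOn.conj_mem y hy' x
    exact O.mul_mem h1 (O.inv_mem hy')
  -- `π Q` is a `2`-group and a `3`-group
  have hQ2' : IsPGroup 2 ↥(Q.map π) := hQ2.map π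
  have hQ3' : IsPGroup 3 ↥(Q.map π) := hO3.to_le hQO
  intro q hq
  have hq1 : π q = 1 := by
    have hmem : π q ∈ Q.map π := ⟨q, hq, rfl⟩
    obtain ⟨k, hk⟩ := hQ2' ⟨π q, hmem⟩
    obtain ⟨l, hl⟩ := hQ3' ⟨π q, hmem⟩
    have hk' : (π q) ^ 2 ^ k = 1 := by
      have := congrArg Subtype.val hk
      simpa using this
    have hl' : (π q) ^ 3 ^ l = 1 := by
      have := congrArg Subtype.val hl
      simpa using this
    have hcop : Nat.Coprime (2 ^ k) (3 ^ l) := Nat.Coprime.pow _ _ (by decide)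
    have h1 : orderOf (π q) ∣ 2 ^ k := orderOf_dvd_of_pow_eq_one hk'
    have h2 : orderOf (π q) ∣ 3 ^ l := orderOf_dvd_of_pow_eq_one hl'
    have h3 : orderOf (π q) = 1 := Nat.eq_one_of_dvd_coprimes hcop h1 h2
    exact orderOf_eq_one_iff.mp h3
  rw [hπ, QuotientGroup.mk'_apply, QuotientGroup.eq_one_iff] at hq1
  exact hq1

end Cfsg.Agent.S4415P
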