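import Mathlib
import Cfsg.Prelude.Def_Characters
import Cfsg.Agent.Lead.PairSignDefs
import Cfsg.Agent.Helper5.PermChar

set_option autoImplicit false

/-!
# S4706 piece VAL: the values of the induced sign character of a pair stabilizer
-/

namespace Cfsg.Agent.Helper3.S4706

open Cfsg Cfsg.Agent.Lead.PairSign MulAction

universe u v

section

variable {H : Type u} [Group H] [Fintype H] {Ω : Type v} [Fintype Ω] [MulAction H Ω]

omit [Fintype Ω] in
open Classical in
/-- All fibres of `x ↦ (x • a, x • b)` over pairs of distinct points have the same size. -/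
theorem card_fiber (a b : Ω) (h2 : ∀ c d : Ω, c ≠ d → ∃ x : H, x • a = c ∧ x • b = d)
    (c d : Ω) (hcd : c ≠ d) :
    (Finset.univ.filter (fun x : H => x • a = c ∧ x • b = d)).card =
      (Finset.univ.filter (fun x : H => x • a = a ∧ x • b = b)).card := by
  obtain ⟨x₀, h1, h2'⟩ := h2 c d hcd
  symm
  apply Finset.card_equiv (Equiv.mulLeft x₀)
  intro y
  simp only [Finset.mem_filter, Finset.mem_univ, true_and, Equiv.coe_mulLeft, mul_smul]
  constructor
  · rintro ⟨ha, hb⟩; rw [ha, hb]; exact ⟨h1, h2'⟩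
  · rintro ⟨ha, hb⟩
    rw [← h1] at ha; rw [← h2'] at hb
    exact ⟨smul_left_cancel _ ha, smul_left_cancel _ hb⟩

open Classical in
/-- Counting the group elements mapping `(a, b)` into a set of pairs of distinct points. -/
theorem card_filter_pair (a b : Ω) (h2 : ∀ c d : Ω, c ≠ d → ∃ x : H, x • a = c ∧ x • b = d)
    (T : Finset (Ω × Ω)) (hT : ∀ q ∈ T, q.1 ≠ q.2) :
    (Finset.univ.filter (fun x : H => (x • a, x • b) ∈ T)).card =
      T.card * (Finset.univ.filter (fun x : H => x • a = a ∧ x • b = b)).card := by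
  rw [Finset.card_eq_sum_card_fiberwise (f := fun x : H => (x • a, x • b)) (t := T)]
  · apply Finset.sum_const_nat
    intro q hq
    rw [← card_fiber a b h2 q.1 q.2 (hT q hq)]
    congr 1
    ext x
    simp only [Finset.mem_filter, Finset.mem_univ, true_and]
    constructor
    · rintro ⟨_, h⟩; exact ⟨congrArg Prod.fst h, congrArg Prod.snd h⟩
    · rintro ⟨h1, h2⟩
      have : (x • a, x • b) = q := Prod.ext h1 h2
      exact ⟨this ▸ hq, this⟩
  · intro x hx
    exact (Finset.mem_filter.mp hx).2

open Classical in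
/-- The pair stabilizer has twice the order of the pointwise stabilizer. -/
theorem card_pairStab (a b : Ω) (hab : a ≠ b)
    (h2 : ∀ c d : Ω, c ≠ d → ∃ x : H, x • a = c ∧ x • b = d) :
    Nat.card (pairStab (H := H) a b) =
      2 * (Finset.univ.filter (fun x : H => x • a = a ∧ x • b = b)).card := by
  rw [Nat.card_eq_fintype_card,
    Fintype.card_of_subtype ((Finset.univ.filter (fun x : H => x • a = a ∧ x • b = b)) ∪
      (Finset.univ.filter (fun x : H => x • a = b ∧ x • b = a)))]
  · rw [Finset.card_union_of_disjoint, card_fiber a b h2 b a hab.symm]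
    · ring
    · rw [Finset.disjoint_left]
      intro x hx hx'
      rw [Finset.mem_filter] at hx hx'
      exact hab (hx.2.1.symm.trans hx'.2.1)
  · intro x
    simp only [Finset.mem_union, Finset.mem_filter, Finset.mem_univ, true_and]
    exact Iff.rfl

end

theorem indSign_apply {H : Type u} [Group H] [Fintype H] {Ω : Type v} [Fintype Ω]
    [MulAction H Ω] (a b : Ω) (hab : a ≠ b)
    (h2 : ∀ c d : Ω, c ≠ d → ∃ x : H, x • a = c ∧ x • b = d) :
    ∃ B : H → ℕ, B 1 = 0 ∧ ∀ g : H, indSign (H := H) a b g =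
      (((Nat.card (fixedBy Ω g) : ℂ) * ((Nat.card (fixedBy Ω g) : ℂ) - 1)) - (B g : ℂ)) / 2 := by
  classical
  set m := (Finset.univ.filter (fun x : H => x • a = a ∧ x • b = b)).card with hm
  have hm0 : m ≠ 0 := by
    apply Finset.card_ne_zero.mpr
    exact ⟨1, by simp⟩
  let Bset : H → Finset (Ω × Ω) := fun g =>
    Finset.univ.filter (fun q => q.1 ≠ q.2 ∧ g • q.1 = q.2 ∧ g • q.2 = q.1)
  refine ⟨fun g => (Bset g).card, ?_, ?_⟩
  · show (Bset 1).card = 0
    rw [Finset.card_eq_zero, Finset.filter_eq_empty_iff]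
    rintro q _ ⟨h1, h2, _⟩
    rw [one_smul] at h2
    exact h1 h2
  · intro g
    set Fx : Finset Ω := Finset.univ.filter (fun c => g • c = c) with hFx
    have hf : Nat.card (fixedBy Ω g) = Fx.card := by
      rw [Nat.card_eq_fintype_card, Fintype.card_of_subtype Fx]
      intro x
      simp [hFx, mem_fixedBy]
    have hBT : ∀ q ∈ Bset g, q.1 ≠ q.2 := by
      intro q hq
      exact (Finset.mem_filter.mp hq).2.1
    have hFT : ∀ q ∈ Fx.offDiag, q.1 ≠ q.2 := by
      intro q hq
      exact (Finset.mem_offDiag.mp hq).2.2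
    have hpt : ∀ x : H,
        extendByZero (pairStab (H := H) a b) (fun s => (pairSign a b s : ℂ)) (x⁻¹ * g * x) =
        (if (x • a, x • b) ∈ Fx.offDiag then (1 : ℂ) else 0) -
          (if (x • a, x • b) ∈ Bset g then (1 : ℂ) else 0) := by
      intro x
      have hxa : ∀ c d : Ω, (x⁻¹ * g * x) • c = d ↔ g • (x • c) = x • d := by
        intro c d
        rw [mul_smul, mul_smul, inv_smul_eq_iff]
      have hne : x • a ≠ x • b := fun h => hab (smul_left_cancel _ h)
      have hoff : (x • a, x • b) ∈ Fx.offDiag ↔ g • (x • a) = x • a ∧ g • (x • b) = x • b := by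
        rw [Finset.mem_offDiag]
        simp only [hFx, Finset.mem_filter, Finset.mem_univ, true_and]
        exact ⟨fun h => ⟨h.1, h.2.1⟩, fun h => ⟨h.1, h.2, hne⟩⟩
      have hB : (x • a, x • b) ∈ Bset g ↔ g • (x • a) = x • b ∧ g • (x • b) = x • a := by
        simp only [Bset, Finset.mem_filter, Finset.mem_univ, true_and]
        exact ⟨fun h => h.2, fun h => ⟨hne, h⟩⟩
      by_cases hmem : x⁻¹ * g * x ∈ pairStab (H := H) a b
      · rw [Cfsg.Agent.Helper5.extendByZero_apply_mem _ _ hmem]
        by_cases hfix : (x⁻¹ * g * x) • a = a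
        · rw [pairSign_of_fix ⟨_, hmem⟩ hfix]
          have hfixb := (smul_left_eq_iff hab hmem).mp hfix
          rw [hxa] at hfix hfixb
          rw [if_pos (hoff.mpr ⟨hfix, hfixb⟩), if_neg, sub_zero]
          rw [hB]
          rintro ⟨h1, _⟩
          exact hne (hfix.symm.trans h1)
        · rw [pairSign_of_not_fix ⟨_, hmem⟩ hfix]
          obtain ⟨h1, h2'⟩ := smul_left_eq_right hmem hfix
          rw [hxa] at h1 h2' hfix
          rw [if_neg, if_pos (hB.mpr ⟨h1, h2'⟩), zero_sub]
          rw [hoff]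
          rintro ⟨h3, _⟩
          exact hfix h3
      · rw [Cfsg.Agent.Helper5.extendByZero_apply_not_mem _ _ hmem, if_neg, if_neg, sub_zero]
        · rw [hB]
          rintro ⟨h1, h2'⟩
          exact hmem (Or.inr ⟨(hxa a b).mpr h1, (hxa b a).mpr h2'⟩)
        · rw [hoff]
          rintro ⟨h1, h2'⟩
          exact hmem (Or.inl ⟨(hxa a a).mpr h1, (hxa b b).mpr h2'⟩)
    show (Nat.card (pairStab (H := H) a b) : ℂ)⁻¹ *
      ∑ x : H, extendByZero (pairStab (H := H) a b) (fun s => (pairSign a b s : ℂ)) (x⁻¹ * g * x) = _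
    simp_rw [hpt]
    rw [Finset.sum_sub_distrib, Finset.sum_boole, Finset.sum_boole,
      card_filter_pair a b h2 _ hFT, card_filter_pair a b h2 _ hBT, card_pairStab a b hab h2,
      Finset.offDiag_card, hf, ← hm]
    have hm0' : (m : ℂ) ≠ 0 := by exact_mod_cast hm0
    rw [Nat.cast_mul, Nat.cast_mul, Nat.cast_mul, Nat.cast_sub (Nat.le_mul_self _), Nat.cast_mul]
    push_cast
    field_simp

end Cfsg.Agent.Helper3.S4706
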