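import Mathlib
import Cfsg.Agent.Helper3.S5655EVGLUE
import Cfsg.Agent.Helper17.S5655EVCHAR2
import Cfsg.Agent.Helper11.S5655EVE1
import Cfsg.Agent.Helper8.S5655EVE2
import Cfsg.Agent.Helper14.S5655EVQ2MAIN

set_option autoImplicit false

/-! # S5655 k = 1, chapter "q even": the two interface theorems consumed by the driver (helper7). -/

namespace Cfsg.Agent.S5655K1.EV

open Matrix
open Cfsg.Agent.S2644 Cfsg.Agent.Helper2.SUGen Cfsg.Agent.Helper28.SimMax Cfsg.Agent.S5658P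

variable {K : Type*} [Field K] {q n : ℕ}

theorem IFACE.over {M : Subgroup (Matrix.GeneralLinearGroup (Fin n) K)}
    (hM : M ≤ Cfsg.Agent.S5655K1.SUG n K q) (hN : Cfsg.Agent.S5655K1.HasN q M) : Over q M := by
  refine ⟨hM, fun A hP hdet hmono => hN A (GLUE.of_isMono hmono ?_) hP hdet⟩
  rw [hdet]; exact one_ne_zero

theorem IFACE.propB {M : Subgroup (Matrix.GeneralLinearGroup (Fin n) K)}
    (hB : Cfsg.Agent.S5655K1.PropB M) : PropB M := by
  intro A hA hcol
  exact GLUE.isMono_of (hB A hA ((GLUE.colMono_iff A).2 hcol))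

theorem IFACE.allMono {M : Subgroup (Matrix.GeneralLinearGroup (Fin n) K)}
    (hM : M ≤ Cfsg.Agent.S5655K1.SUG n K q) (hall : ∀ A ∈ MS M, IsMono A) :
    Cfsg.Agent.S5655K1.AllMono M := by
  intro A hA
  refine GLUE.of_isMono (hall A hA) ?_
  rw [det_of_MS hM hA]; exact one_ne_zero

/-- `q ≥ 4` even, under (B): `M` is monomial -/
theorem main4 (D : Frob K q) [Fintype K] (hK : Fintype.card K = q ^ 2) (hq : 4 ≤ q) (heven : Even q)
    (hn : 13 ≤ n) (M : Subgroup (Matrix.GeneralLinearGroup (Fin n) K))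
    (hM : M ≤ Cfsg.Agent.S5655K1.SUG n K q) (hN : Cfsg.Agent.S5655K1.HasN q M)
    (hB : Cfsg.Agent.S5655K1.PropB M) : Cfsg.Agent.S5655K1.AllMono M := by
  have hO : Over q M := IFACE.over hM hN
  have h2 : (2 : K) = 0 := CHAR2.two_eq_zero hK heven
  refine IFACE.allMono hM ?_
  exact E1.main D hK (by omega) h2 (by omega) hO
    (fun v hvv hv hT => E2.main D hK hq h2 (by omega) hO (IFACE.propB hB) hvv hv hT)

/-- `q = 2`: `M` is monomial or everything -/
theorem main2 (D : Frob K 2) [Fintype K] (hK : Fintype.card K = 2 ^ 2) (hn : 13 ≤ n)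
    (M : Subgroup (Matrix.GeneralLinearGroup (Fin n) K))
    (hM : M ≤ Cfsg.Agent.S5655K1.SUG n K 2) (hN : Cfsg.Agent.S5655K1.HasN 2 M) :
    Cfsg.Agent.S5655K1.AllMono M ∨ Cfsg.Agent.S5655K1.SUG n K 2 ≤ M := by
  have hO : Over 2 M := IFACE.over hM hN
  rcases Q2MAIN.main D hK hn hO with h1 | h1
  · exact Or.inl (IFACE.allMono hM h1)
  · exact Or.inr (le_of_eq h1.symm)

end Cfsg.Agent.S5655K1.EV
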