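import Mathlib
import Cfsg.Prelude.Def_GeometricClasses
import Cfsg.Agent.Helper2.S5886.Defs
import Cfsg.Agent.Helper2.S5664.Defs

/-! # S5664, piece TRFND: the trace form `Tr ∘ B` is non-degenerate. -/

set_option autoImplicit false

namespace Cfsg.Agent.S5664P

open Cfsg.Agent.S5886P

variable {F K V : Type*} [Field F] [Field K] [Algebra F K]
  [AddCommGroup V] [Module F V] [Module K V] [IsScalarTower F K V]

theorem TRFND [Finite F] [Finite K] (B : V →ₗ[K] V →ₗ[K] K) (hB : IsAltND B) (x : V)
    (hx : ∀ y, trf F B x y = 0) : x = 0 := by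
  apply hB.nd
  intro y
  have hnd := traceForm_nondegenerate F K
  have hall : ∀ k : K, Algebra.traceForm F K (B x y) k = 0 := by
    intro k
    have h1 := hx (k • y)
    unfold trf at h1
    rw [map_smul, smul_eq_mul, mul_comm] at h1
    rw [Algebra.traceForm_apply]
    exact h1
  exact hnd.1 (B x y) hall

end Cfsg.Agent.S5664P
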