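import Cfsg.Agent.Helper1.S5665.Lib
import Cfsg.Agent.Helper5.S5700EXK
import Cfsg.Agent.Helper25.S5700DUAL
import Cfsg.Agent.Helper2.FieldBasics

set_option autoImplicit false
set_option linter.unusedSectionVars false
set_option linter.unusedVariables false

/-! # S5665 piece PROPFORM (driver helper1): two quadratic forms with the same zeros -/

namespace Cfsg.Agent.S5665P

open Matrix Module Cfsg.Agent.Helper2.Sp Cfsg.Agent.Helper28.Sg Cfsg.Agent.S5700P

variable {F : Type*} [Field F] [Fintype F] {m : ℕ}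
  {δ : Matrix (Fin m ⊕ Fin m) (Fin m ⊕ Fin m) F} {d : F}

local notation "V" => (Fin m ⊕ Fin m → F)
local notation "Mat" => Matrix (Fin m ⊕ Fin m) (Fin m ⊕ Fin m) F
local notation "Sp" => Matrix.symplecticGroup (Fin m) F

section propform

variable {ι : Type} [Fintype ι] [DecidableEq ι] {Q : QuadraticForm F (ι → F)}

namespace PROPFORM

/-- the vectors `e - Q x • e' ± x` are singular -/
theorem sing_aux {e e' x : ι → F} (he : Q e = 0) (he' : Q e' = 0) (hee' : B Q e e' = 1)
    (hx1 : B Q e x = 0) (hx2 : B Q e' x = 0) (ε : F) (hε : ε * ε = 1) :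
    Q (e + (-Q x) • e' + ε • x) = 0 := by
  rw [Cfsg.Agent.Helper28.Sg.Q_add, Cfsg.Agent.Helper28.Sg.Q_add, Q_smul, Q_smul, he, he']
  simp only [B_add_left, B_smul_left, B_smul_right, hee', hx1, hx2]
  linear_combination (Q x) * hε

/-- the two identities obtained from the singular vectors `e - Q x • e' ± x` -/
theorem key (h2 : (2 : F) ≠ 0) (b' : LinearMap.BilinForm F (ι → F)) (hs : ∀ x y, b' x y = b' y x)
    (h : ∀ x, Q x = 0 → b' x x = 0) {e e' x : ι → F} (he : Q e = 0) (he' : Q e' = 0)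
    (hee' : B Q e e' = 1) (hx1 : B Q e x = 0) (hx2 : B Q e' x = 0) :
    b' x x = 2 * b' e e' * Q x ∧ b' e x = Q x * b' e' x := by
  have E1 := h _ (sing_aux he he' hee' hx1 hx2 1 (by ring))
  have E2 := h _ (sing_aux he he' hee' hx1 hx2 (-1) (by ring))
  simp only [map_add, map_smul, LinearMap.add_apply, LinearMap.smul_apply, smul_eq_mul] at E1 E2
  rw [hs e' e, hs x e, hs x e', h e he, h e' he'] at E1 E2
  constructor
  · have h4 : 2 * (b' x x - 2 * b' e e' * Q x) = 0 := by linear_combination E1 + E2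
    rcases mul_eq_zero.1 h4 with h5 | h5
    · exact absurd h5 h2
    · exact sub_eq_zero.1 h5
  · have h4 : 2 * (2 * (b' e x - Q x * b' e' x)) = 0 := by linear_combination E1 - E2
    rcases mul_eq_zero.1 h4 with h5 | h5
    · exact absurd h5 h2
    · rcases mul_eq_zero.1 h5 with h6 | h6
      · exact absurd h6 h2
      · exact sub_eq_zero.1 h6

end PROPFORM

/-- PROPFORM (M): a symmetric bilinear form whose quadratic form vanishes on the singular vectors of `Q` is a multiple of the polar form. -/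
theorem PROPFORM.prop (hQ : (QuadraticMap.polarBilin Q).Nondegenerate) (hn : 14 ≤ Fintype.card ι)
    (h2 : (2 : F) ≠ 0) (b' : LinearMap.BilinForm F (ι → F)) (hs : ∀ x y, b' x y = b' y x)
    (h : ∀ x, Q x = 0 → b' x x = 0) : ∃ c : F, ∀ x y, b' x y = c * B Q x y := by
  classical
  -- a hyperbolic pair
  obtain ⟨e, e', he, he', hee', -, -⟩ := EXHYP5.of_le5 hQ hn ⊥ (by rw [finrank_bot]; omega)
  have he'e : B Q e' e = 1 := by rw [B_comm]; exact hee'
  have hBee : B Q e e = 0 := by rw [B_self, he, mul_zero]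
  have hBe'e' : B Q e' e' = 0 := by rw [B_self, he', mul_zero]
  set c : F := b' e e' with hc
  -- a second hyperbolic pair, orthogonal to the first
  obtain ⟨w₁, w₂, hw₁, hw₂, hw₁₂, hU₁, hU₂⟩ := EXHYP5.of_le5 hQ hn (Submodule.span F {e, e'}) (by
    have h1 := finrank_span_le_card (R := F) ({e, e'} : Set (ι → F))
    have h3 : ({e, e'} : Set (ι → F)).toFinset.card ≤ 2 := by
      rw [Set.toFinset_insert, Set.toFinset_singleton]
      exact Finset.card_le_two
    omega)
  have hew₁ : B Q e w₁ = 0 := hU₁ e (Submodule.subset_span (by simp))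
  have he'w₁ : B Q e' w₁ = 0 := hU₁ e' (Submodule.subset_span (by simp))
  have hew₂ : B Q e w₂ = 0 := hU₂ e (Submodule.subset_span (by simp))
  have he'w₂ : B Q e' w₂ = 0 := hU₂ e' (Submodule.subset_span (by simp))
  -- on `X` the form `b'` is orthogonal to `e`, `e'`
  have hsingX : ∀ x : ι → F, B Q e x = 0 → B Q e' x = 0 → Q x = 0 → b' e x = 0 ∧ b' e' x = 0 := by
    intro x hx1 hx2 hx0
    obtain ⟨-, k2⟩ := PROPFORM.key h2 b' hs h he he' hee' hx1 hx2
    obtain ⟨-, k2'⟩ := PROPFORM.key h2 b' hs h he' he he'e hx2 hx1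
    rw [hx0, zero_mul] at k2 k2'
    exact ⟨k2, k2'⟩
  have hX : ∀ x : ι → F, B Q e x = 0 → B Q e' x = 0 → b' e x = 0 ∧ b' e' x = 0 := by
    intro x hx1 hx2
    obtain ⟨c₁, c₂, hsing⟩ := exists_singular_add hw₁ hw₂ hw₁₂ x
    have hs1 : B Q e (x + c₁ • w₁ + c₂ • w₂) = 0 := by
      rw [B_add_right, B_add_right, B_smul_right, B_smul_right, hx1, hew₁, hew₂]
      ring
    have hs2 : B Q e' (x + c₁ • w₁ + c₂ • w₂) = 0 := by
      rw [B_add_right, B_add_right, B_smul_right, B_smul_right, hx2, he'w₁, he'w₂]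
      ring
    obtain ⟨a1, a2⟩ := hsingX _ hs1 hs2 hsing
    obtain ⟨b1, b2⟩ := hsingX w₁ hew₁ he'w₁ hw₁
    obtain ⟨d1, d2⟩ := hsingX w₂ hew₂ he'w₂ hw₂
    simp only [map_add, map_smul, smul_eq_mul, b1, b2, d1, d2, mul_zero, add_zero] at a1 a2
    exact ⟨a1, a2⟩
  -- the quadratic form of `b'`
  have hquad : ∀ v : ι → F, b' v v = 2 * c * Q v := by
    intro v
    set α : F := B Q v e' with hα
    set β : F := B Q v e with hβ
    set x : ι → F := v + (-α) • e + (-β) • e' with hx
    have hx1 : B Q e x = 0 := by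
      rw [hx, B_add_right, B_add_right, B_smul_right, B_smul_right, hBee, hee', B_comm Q e v, ← hβ]
      ring
    have hx2 : B Q e' x = 0 := by
      rw [hx, B_add_right, B_add_right, B_smul_right, B_smul_right, hBe'e', he'e, B_comm Q e' v,
        ← hα]
      ring
    obtain ⟨k1, -⟩ := PROPFORM.key h2 b' hs h he he' hee' hx1 hx2
    obtain ⟨o1, o2⟩ := hX x hx1 hx2
    have hv : v = x + α • e + β • e' := by
      rw [hx]
      module
    have hQv : Q v = Q x + α * β := by
      rw [hv, Cfsg.Agent.Helper28.Sg.Q_add, Cfsg.Agent.Helper28.Sg.Q_add, Q_smul, Q_smul, he, he']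
      simp only [B_add_left, B_smul_left, B_smul_right, hee', B_comm Q x e, B_comm Q x e', hx1, hx2]
      ring
    have hbv : b' v v = b' x x + 2 * (α * β) * c := by
      rw [hv]
      simp only [map_add, map_smul, LinearMap.add_apply, LinearMap.smul_apply, smul_eq_mul]
      rw [hs e' e, hs x e, hs x e', h e he, h e' he', o1, o2, ← hc]
      ring
    rw [hbv, k1, hQv, ← hc]
    ring
  refine ⟨c, fun x y => ?_⟩
  have h1 := hquad (x + y)
  simp only [map_add, LinearMap.add_apply] at h1
  rw [hquad x, hquad y, hs y x, Cfsg.Agent.Helper28.Sg.Q_add] at h1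
  have h4 : 2 * (b' x y - c * B Q x y) = 0 := by linear_combination h1
  rcases mul_eq_zero.1 h4 with h5 | h5
  · exact absurd h5 h2
  · exact sub_eq_zero.1 h5

end propform

end Cfsg.Agent.S5665P
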