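import Cfsg.Agent.Helper12.S5702Lib
import Cfsg.Agent.Helper28.FieldO4
import Cfsg.Agent.Helper14.S5683STD
import Cfsg.Agent.Helper11.FinSub

/-! S5702 piece REDUCE, part A (driver helper12): the rational forms of the even-dimensional quadratic forms.
Every nondegenerate quadratic form on `F^(2m+2)` which is stable under a field automorphism `σ` is, after a change of
basis with `σ`-fixed entries, a multiple of `QfMinus m F a b` with `σ`-fixed `a, b` and `4 b - a ^ 2 ≠ 0`
(characteristic free: Witt decomposition over the fixed field, `Helper13.exists_wittDecomp`). -/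

set_option autoImplicit false
set_option linter.unusedSectionVars false
set_option linter.unusedVariables false

namespace Cfsg.Agent.Helper3.RE

open Matrix Module Cfsg.Agent.Helper28.SSim Cfsg.Agent.Helper28.FO Cfsg.Agent.Helper28.Spin

variable {F : Type*} [Field F]

/-- a quadratic form with `σ`-fixed values at the `σ`-fixed vectors is `σ`-stable (characteristic free) -/
theorem stable_of_rat {ι : Type} [Fintype ι] [DecidableEq ι] (σ : F ≃+* F)
    (R : QuadraticForm F (ι → F))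
    (hR : ∀ u : ι → F, vs σ u = u → σ (R u) = R u) (w : ι → F) :
    R (vs σ w) = σ (R w) := by
  classical
  have hsingle : ∀ k : ι, vs σ (Pi.single k (1 : F)) = Pi.single k (1 : F) := by
    intro k
    funext j
    show σ ((Pi.single k (1 : F) : ι → F) j) = _
    by_cases h : j = k
    · subst h; simp
    · simp [h]
  have h1 : ∀ k : ι, σ (R (Pi.single k (1 : F))) = R (Pi.single k (1 : F)) :=
    fun k => hR _ (hsingle k)
  have h2 : ∀ k l : ι, σ (QuadraticMap.polar R (Pi.single k (1 : F)) (Pi.single l (1 : F))) =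
      QuadraticMap.polar R (Pi.single k (1 : F)) (Pi.single l (1 : F)) := by
    intro k l
    unfold QuadraticMap.polar
    rw [map_sub, map_sub, h1, h1, hR]
    rw [vs_add, hsingle, hsingle]
  have h3 : ∀ (x : ι → F) (s : Finset ι) (a : ι),
      QuadraticMap.polar R (∑ k ∈ s, x k • (Pi.single k (1 : F) : ι → F)) (Pi.single a (1 : F)) =
        ∑ k ∈ s, x k * QuadraticMap.polar R (Pi.single k (1 : F)) (Pi.single a (1 : F)) := by
    intro x s a
    induction s using Finset.induction_on with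
    | empty => simp
    | insert b s hb ih =>
      rw [Finset.sum_insert hb, Finset.sum_insert hb, QuadraticMap.polar_add_left, ih,
        QuadraticMap.polar_smul_left, smul_eq_mul]
  have main : ∀ s : Finset ι, R (∑ k ∈ s, σ (w k) • (Pi.single k (1 : F) : ι → F)) =
      σ (R (∑ k ∈ s, w k • (Pi.single k (1 : F) : ι → F))) := by
    intro s
    induction s using Finset.induction_on with
    | empty => simp
    | insert b s hb ih =>
      rw [Finset.sum_insert hb, Finset.sum_insert hb, QuadraticMap.map_add (⇑R),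
        QuadraticMap.map_add (⇑R), QuadraticMap.map_smul, QuadraticMap.map_smul,
        QuadraticMap.polar_smul_left, QuadraticMap.polar_smul_left, QuadraticMap.polar_comm,
        QuadraticMap.polar_comm (⇑R) (Pi.single b (1 : F)), h3, h3, ih]
      simp only [map_add, map_mul, map_sum, smul_eq_mul, h1, h2]
  have hw : ∀ x : ι → F, x = ∑ k, x k • (Pi.single k (1 : F) : ι → F) := by
    intro x
    funext j
    simp [Finset.sum_apply, Pi.single_apply]
  have h4 := main Finset.univ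
  rw [← hw w] at h4
  rw [← h4]
  congr 1
  exact hw (vs σ w)

/-- the common tail: hyperbolic pairs and a nondegenerate binary complement over the fixed field give the standard form -/
theorem of_pairs (m : ℕ) (σ : F ≃+* F)
    (P : QuadraticForm F ((Fin m ⊕ Fin m) ⊕ Fin 2 → F))
    (hPσ : ∀ w : (Fin m ⊕ Fin m) ⊕ Fin 2 → F, P (vs σ w) = σ (P w))
    (e f : Fin m → ((Fin m ⊕ Fin m) ⊕ Fin 2 → ↥(fixedSub σ)))
    (a₁ a₂ : (Fin m ⊕ Fin m) ⊕ Fin 2 → ↥(fixedSub σ))
    (hQe : ∀ i, descend P hPσ (e i) = 0) (hQf : ∀ i, descend P hPσ (f i) = 0)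
    (hef : ∀ i j, QuadraticMap.polar (descend P hPσ) (e i) (f j) = if i = j then 1 else 0)
    (hee : ∀ i j, QuadraticMap.polar (descend P hPσ) (e i) (e j) = 0)
    (hff : ∀ i j, QuadraticMap.polar (descend P hPσ) (f i) (f j) = 0)
    (he1 : ∀ i, QuadraticMap.polar (descend P hPσ) (e i) a₁ = 0)
    (hf1 : ∀ i, QuadraticMap.polar (descend P hPσ) (f i) a₁ = 0)
    (he2 : ∀ i, QuadraticMap.polar (descend P hPσ) (e i) a₂ = 0)
    (hf2 : ∀ i, QuadraticMap.polar (descend P hPσ) (f i) a₂ = 0)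
    (hd : descend P hPσ a₁ ≠ 0)
    (hdisc : 4 * descend P hPσ a₁ * descend P hPσ a₂ -
      (QuadraticMap.polar (descend P hPσ) a₁ a₂) ^ 2 ≠ 0) :
    ∃ (g : GL ((Fin m ⊕ Fin m) ⊕ Fin 2) F) (d a b : F), mapGL σ g = g ∧ d ≠ 0 ∧ σ a = a ∧ σ b = b ∧
      4 * b - a ^ 2 ≠ 0 ∧
      ∀ w, P ((g : Matrix _ _ F) *ᵥ w) = d * QfMinus m F a b w := by
  classical
  set d₀ : ↥(fixedSub σ) := descend P hPσ a₁ with hd₀
  set α₀ : ↥(fixedSub σ) := QuadraticMap.polar (descend P hPσ) a₁ a₂ with hα₀
  set β₀ : ↥(fixedSub σ) := descend P hPσ a₂ with hβ₀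
  have hd₀F : (d₀ : F) ≠ 0 := fun h => hd (Subtype.ext h)
  have hdiscF : 4 * (d₀ : F) * (β₀ : F) - (α₀ : F) ^ 2 ≠ 0 := by
    intro h
    apply hdisc
    apply Subtype.ext
    push_cast
    exact h
  set a : F := (α₀ : F) / (d₀ : F) with ha
  set b : F := (β₀ : F) / (d₀ : F) with hb
  have hσa : σ a = a := by
    rw [ha, map_div₀, α₀.2, d₀.2]
  have hσb : σ b = b := by
    rw [hb, map_div₀, β₀.2, d₀.2]
  have hab : 4 * b - a ^ 2 ≠ 0 := by
    have : 4 * b - a ^ 2 = (4 * (d₀ : F) * (β₀ : F) - (α₀ : F) ^ 2) / (d₀ : F) ^ 2 := by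
      rw [ha, hb]
      field_simp
    rw [this]
    exact div_ne_zero hdiscF (pow_ne_zero 2 hd₀F)
  have hQ := Cfsg.Agent.S5702P.nondeg_even hab m
  -- the vectors over `F`
  set D1 : (Fin m ⊕ Fin m) ⊕ Fin 2 → F := up σ a₁ with hD1
  set D2 : (Fin m ⊕ Fin m) ⊕ Fin 2 → F := up σ a₂ with hD2
  set E : Fin m → (Fin m ⊕ Fin m) ⊕ Fin 2 → F := fun i => (d₀ : F) • up σ (e i) with hE
  set G : Fin m → (Fin m ⊕ Fin m) ⊕ Fin 2 → F := fun i => up σ (f i) with hG
  have coe0 : ∀ x : ↥(fixedSub σ), x = 0 → (x : F) = 0 := fun x hx => by rw [hx]; rfl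
  have hPE : ∀ i, P (E i) = 0 := by
    intro i
    rw [hE]
    simp only
    rw [QuadraticMap.map_smul, ← descend_apply P hPσ, coe0 _ (hQe i), smul_zero]
  have hPG : ∀ i, P (G i) = 0 := by
    intro i
    rw [hG]
    simp only
    rw [← descend_apply P hPσ, coe0 _ (hQf i)]
  have hEG : ∀ i j, QuadraticMap.polar P (E i) (G j) = if i = j then (d₀ : F) else 0 := by
    intro i j
    rw [hE, hG]
    simp only
    rw [QuadraticMap.polar_smul_left, ← descend_polar P hPσ, hef]
    split_ifs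
    · simp
    · simp
  have hEE : ∀ i j, QuadraticMap.polar P (E i) (E j) = 0 := by
    intro i j
    rw [hE]
    simp only
    rw [QuadraticMap.polar_smul_left, QuadraticMap.polar_smul_right, ← descend_polar P hPσ,
      coe0 _ (hee i j), smul_zero, smul_zero]
  have hGG : ∀ i j, QuadraticMap.polar P (G i) (G j) = 0 := by
    intro i j
    rw [hG]
    simp only
    rw [← descend_polar P hPσ, coe0 _ (hff i j)]
  have h1E : ∀ i, QuadraticMap.polar P D1 (E i) = 0 := by
    intro i
    rw [hE, hD1]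
    simp only
    rw [QuadraticMap.polar_smul_right, ← descend_polar P hPσ, QuadraticMap.polar_comm,
      coe0 _ (he1 i), smul_zero]
  have h1G : ∀ i, QuadraticMap.polar P D1 (G i) = 0 := by
    intro i
    rw [hG, hD1]
    simp only
    rw [← descend_polar P hPσ, QuadraticMap.polar_comm, coe0 _ (hf1 i)]
  have h2E : ∀ i, QuadraticMap.polar P D2 (E i) = 0 := by
    intro i
    rw [hE, hD2]
    simp only
    rw [QuadraticMap.polar_smul_right, ← descend_polar P hPσ, QuadraticMap.polar_comm,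
      coe0 _ (he2 i), smul_zero]
  have h2G : ∀ i, QuadraticMap.polar P D2 (G i) = 0 := by
    intro i
    rw [hG, hD2]
    simp only
    rw [← descend_polar P hPσ, QuadraticMap.polar_comm, coe0 _ (hf2 i)]
  have hP1 : P D1 = (d₀ : F) := by
    rw [hD1, ← descend_apply P hPσ]
  have hP2 : P D2 = (β₀ : F) := by
    rw [hD2, ← descend_apply P hPσ]
  have hP12 : QuadraticMap.polar P D1 D2 = (α₀ : F) := by
    rw [hD1, hD2, ← descend_polar P hPσ]
  -- the linear map
  set L : ((Fin m ⊕ Fin m) ⊕ Fin 2 → F) →ₗ[F] ((Fin m ⊕ Fin m) ⊕ Fin 2 → F) :=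
    (LinearMap.proj (R := F) (φ := fun _ : (Fin m ⊕ Fin m) ⊕ Fin 2 => F) (Sum.inr 0)).smulRight D1 +
    (LinearMap.proj (R := F) (φ := fun _ : (Fin m ⊕ Fin m) ⊕ Fin 2 => F) (Sum.inr 1)).smulRight D2 +
      ∑ i, ((LinearMap.proj (R := F) (φ := fun _ : (Fin m ⊕ Fin m) ⊕ Fin 2 => F)
          (Sum.inl (Sum.inl i))).smulRight (E i) +
        (LinearMap.proj (R := F) (φ := fun _ : (Fin m ⊕ Fin m) ⊕ Fin 2 => F)
          (Sum.inl (Sum.inr i))).smulRight (G i)) with hL
  have hLw : ∀ w, L w = (w (Sum.inr 0) • D1 + w (Sum.inr 1) • D2) +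
      ∑ i, (w (Sum.inl (Sum.inl i)) • E i + w (Sum.inl (Sum.inr i)) • G i) := by
    intro w
    rw [hL]
    simp only [LinearMap.add_apply, LinearMap.sum_apply, LinearMap.smulRight_apply,
      LinearMap.proj_apply]
  have hPL : ∀ w, P (L w) = (d₀ : F) * QfMinus m F a b w := by
    intro w
    rw [hLw, map_add_hyp_sum P E G (d₀ : F) hPE hPG hEG hEE hGG
      (w (Sum.inr 0) • D1 + w (Sum.inr 1) • D2)
      (fun i => by rw [QuadraticMap.polar_add_left, QuadraticMap.polar_smul_left,
        QuadraticMap.polar_smul_left, h1E, h2E, smul_zero, smul_zero, add_zero])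
      (fun i => by rw [QuadraticMap.polar_add_left, QuadraticMap.polar_smul_left,
        QuadraticMap.polar_smul_left, h1G, h2G, smul_zero, smul_zero, add_zero]),
      QuadraticMap.map_add (⇑P), QuadraticMap.map_smul, QuadraticMap.map_smul,
      QuadraticMap.polar_smul_left, QuadraticMap.polar_smul_right, hP1, hP2, hP12, QfMinus_coe]
    unfold Cfsg.quadFormMinus
    simp only [smul_eq_mul]
    rw [ha, hb]
    field_simp
    ring
  have hunit := isUnit_of_scaling (QfMinus m F a b) P hQ L (d₀ : F) hd₀F hPL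
  refine ⟨hunit.unit, (d₀ : F), a, b, ?_, hd₀F, hσa, hσb, hab, ?_⟩
  · apply mapGL_eq_of_comm
    intro w
    show vs σ (LinearMap.toMatrix' L *ᵥ w) = LinearMap.toMatrix' L *ᵥ vs σ w
    rw [LinearMap.toMatrix'_mulVec, LinearMap.toMatrix'_mulVec, hLw, hLw, vs_add, vs_add, vs_smul,
      vs_smul, vs_sum]
    have hD1σ : vs σ D1 = D1 := vs_up σ a₁
    have hD2σ : vs σ D2 = D2 := vs_up σ a₂
    have hEσ : ∀ i, vs σ (E i) = E i := by
      intro i
      rw [hE]
      simp only
      rw [vs_smul, vs_up]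
      congr 1
      exact d₀.2
    have hGσ : ∀ i, vs σ (G i) = G i := fun i => vs_up σ (f i)
    rw [hD1σ, hD2σ]
    congr 1
    apply Finset.sum_congr rfl
    intro i _
    have hstep : ∀ (c : F) (v : (Fin m ⊕ Fin m) ⊕ Fin 2 → F), vs σ v = v →
        vs σ (c • v) = σ c • v := fun c v hv => by rw [vs_smul, hv]
    rw [vs_add, hstep _ _ (hEσ i), hstep _ _ (hGσ i)]
    rfl
  · intro w
    show P (LinearMap.toMatrix' L *ᵥ w) = _
    rw [LinearMap.toMatrix'_mulVec, hPL]

/-- **rational forms in even dimension** (all characteristics, both types) -/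
theorem hclass_even [Fintype F] (m : ℕ) (σ : F ≃+* F)
    (P : QuadraticForm F ((Fin m ⊕ Fin m) ⊕ Fin 2 → F))
    (hPσ : ∀ w : (Fin m ⊕ Fin m) ⊕ Fin 2 → F, P (vs σ w) = σ (P w))
    (hnd : ∀ v : (Fin m ⊕ Fin m) ⊕ Fin 2 → F, (∀ w, QuadraticMap.polar P v w = 0) → v = 0) :
    ∃ (g : GL ((Fin m ⊕ Fin m) ⊕ Fin 2) F) (d a b : F), mapGL σ g = g ∧ d ≠ 0 ∧ σ a = a ∧ σ b = b ∧
      4 * b - a ^ 2 ≠ 0 ∧
      ∀ w, P ((g : Matrix _ _ F) *ᵥ w) = d * QfMinus m F a b w := by
  classical
  have hnd₀ := descend_nondeg P hPσ hnd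
  have hfin : finrank ↥(fixedSub σ) ((Fin m ⊕ Fin m) ⊕ Fin 2 → ↥(fixedSub σ)) = 2 * m + 2 := by
    rw [Module.finrank_fintype_fun_eq_card, Fintype.card_sum, Fintype.card_sum, Fintype.card_fin,
      Fintype.card_fin]
    ring
  obtain ⟨k, e, f, A₀, hW⟩ := Cfsg.Agent.Helper13.exists_wittDecomp (F := ↥(fixedSub σ))
    (2 * m + 2) (descend P hPσ) hfin hnd₀
  have hrank := hW.rank
  have hrankA := hW.rankA
  rw [hfin] at hrank
  have hcases : (finrank ↥(fixedSub σ) ↥A₀ = 0 ∧ m + 1 = k) ∨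
      (finrank ↥(fixedSub σ) ↥A₀ = 2 ∧ m = k) := by omega
  rcases hcases with ⟨hA0, rfl⟩ | ⟨hA2, rfl⟩
  · -- hyperbolic space: the last pair gives the binary part `s² + s t`
    have hne : ∀ i : Fin m, i.castSucc ≠ Fin.last m := fun i => (Fin.castSucc_lt_last i).ne
    have hll : QuadraticMap.polar (descend P hPσ) (e (Fin.last m)) (f (Fin.last m)) = 1 := by
      rw [hW.ef, if_pos rfl]
    have hval1 : descend P hPσ (e (Fin.last m) + f (Fin.last m)) = 1 := by
      rw [QuadraticMap.map_add (⇑(descend P hPσ)), hW.Qe, hW.Qf, hll, zero_add, zero_add]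
    have hpol12 : QuadraticMap.polar (descend P hPσ) (e (Fin.last m) + f (Fin.last m))
        (f (Fin.last m)) = 1 := by
      rw [QuadraticMap.polar_add_left, hll, hW.ff, add_zero]
    refine of_pairs m σ P hPσ (fun i => e i.castSucc) (fun i => f i.castSucc)
      (e (Fin.last m) + f (Fin.last m)) (f (Fin.last m))
      (fun i => hW.Qe _) (fun i => hW.Qf _) ?_ (fun i j => hW.ee _ _) (fun i j => hW.ff _ _)
      ?_ ?_ ?_ ?_ ?_ ?_
    · intro i j
      rw [hW.ef]
      by_cases h : i = j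
      · rw [if_pos h, if_pos (by rw [h])]
      · rw [if_neg h, if_neg (fun h' => h (Fin.castSucc_injective m h'))]
    · intro i
      rw [QuadraticMap.polar_add_right, hW.ee, hW.ef, if_neg (hne i), add_zero]
    · intro i
      rw [QuadraticMap.polar_add_right, hW.ff, QuadraticMap.polar_comm, hW.ef,
        if_neg (fun h => hne i h.symm), add_zero]
    · intro i
      rw [hW.ef, if_neg (hne i)]
    · intro i
      rw [hW.ff]
    · rw [hval1]
      exact one_ne_zero
    · rw [hval1, hpol12, hW.Qf, mul_zero, one_pow, zero_sub]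
      exact neg_ne_zero.2 one_ne_zero
  · -- a two-dimensional anisotropic part
    let bs : Basis (Fin 2) ↥(fixedSub σ) ↥A₀ := Module.finBasisOfFinrankEq _ _ hA2
    set a₁ : (Fin m ⊕ Fin m) ⊕ Fin 2 → ↥(fixedSub σ) := ((bs 0 : ↥A₀) : (Fin m ⊕ Fin m) ⊕ Fin 2 → ↥(fixedSub σ)) with ha₁
    set a₂ : (Fin m ⊕ Fin m) ⊕ Fin 2 → ↥(fixedSub σ) := ((bs 1 : ↥A₀) : (Fin m ⊕ Fin m) ⊕ Fin 2 → ↥(fixedSub σ)) with ha₂
    have h1A : a₁ ∈ A₀ := (bs 0).2
    have h2A : a₂ ∈ A₀ := (bs 1).2
    have hspan : ∀ x ∈ A₀, ∃ s t : ↥(fixedSub σ), x = s • a₁ + t • a₂ := by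
      intro x hx
      have h := bs.sum_repr ⟨x, hx⟩
      rw [Fin.sum_univ_two] at h
      refine ⟨bs.repr ⟨x, hx⟩ 0, bs.repr ⟨x, hx⟩ 1, ?_⟩
      have h' := congrArg (Subtype.val) h
      simp only [Submodule.coe_add, Submodule.coe_smul] at h'
      exact h'.symm
    have hindep : ∀ s t : ↥(fixedSub σ), s • a₁ + t • a₂ = 0 → s = 0 ∧ t = 0 := by
      intro s t hst
      have hli := bs.linearIndependent
      have h2 : s • bs 0 + t • bs 1 = 0 := by
        apply Subtype.ext
        simp only [Submodule.coe_add, Submodule.coe_smul, Submodule.coe_zero]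
        exact hst
      have h3 := Fintype.linearIndependent_iff.1 hli ![s, t] (by
        rw [Fin.sum_univ_two]
        simpa using h2)
      exact ⟨by simpa using h3 0, by simpa using h3 1⟩
    have h1ne : a₁ ≠ 0 := by
      intro h
      have := (hindep 1 0 (by rw [h, smul_zero, zero_smul, add_zero])).1
      exact one_ne_zero this
    have hd : descend P hPσ a₁ ≠ 0 := fun h => h1ne (hW.aniso a₁ h1A h)
    have hself : ∀ x, QuadraticMap.polar (descend P hPσ) x x = 2 * descend P hPσ x := by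
      intro x
      rw [QuadraticMap.polar_self]
      simp
    refine of_pairs m σ P hPσ e f a₁ a₂ hW.Qe hW.Qf hW.ef hW.ee hW.ff
      (fun i => hW.eA a₁ h1A i) (fun i => hW.fA a₁ h1A i) (fun i => hW.eA a₂ h2A i)
      (fun i => hW.fA a₂ h2A i) hd ?_
    intro hz
    set d₀ : ↥(fixedSub σ) := descend P hPσ a₁ with hd₀
    set α₀ : ↥(fixedSub σ) := QuadraticMap.polar (descend P hPσ) a₁ a₂ with hα₀
    set β₀ : ↥(fixedSub σ) := descend P hPσ a₂ with hβ₀
    have p11 : QuadraticMap.polar (descend P hPσ) a₁ a₁ = 2 * d₀ := hself a₁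
    have p22 : QuadraticMap.polar (descend P hPσ) a₂ a₂ = 2 * β₀ := hself a₂
    have p12 : QuadraticMap.polar (descend P hPσ) a₁ a₂ = α₀ := rfl
    have p21 : QuadraticMap.polar (descend P hPσ) a₂ a₁ = α₀ := QuadraticMap.polar_comm _ _ _
    have hv : α₀ • a₁ + (-(2 * d₀)) • a₂ = 0 := by
      apply hW.nondegA _ (A₀.add_mem (A₀.smul_mem _ h1A) (A₀.smul_mem _ h2A))
      intro a' ha'
      obtain ⟨s, t, rfl⟩ := hspan a' ha'
      simp only [QuadraticMap.polar_add_left, QuadraticMap.polar_add_right,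
        QuadraticMap.polar_smul_left, QuadraticMap.polar_smul_right, p11, p12, p21, p22, smul_eq_mul]
      linear_combination (-t) * hz
    obtain ⟨hα0, h2d⟩ := hindep _ _ hv
    apply h1ne
    apply hW.nondegA a₁ h1A
    intro a' ha'
    obtain ⟨s, t, rfl⟩ := hspan a' ha'
    simp only [QuadraticMap.polar_add_right, QuadraticMap.polar_smul_right, p11, p12, smul_eq_mul]
    rw [hα0]
    linear_combination (-s) * h2d

end Cfsg.Agent.Helper3.RE
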