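import Mathlib
import Cfsg.Agent.Helper25.S5949GAUSS

set_option autoImplicit false
set_option linter.unusedVariables false

/-! S5949, piece NT1: a prime dividing the number of `m`-subspaces of `F^n`. -/

namespace Cfsg.Agent.S5949P.NT1

/-- the Gauss count with the powers of `q` cancelled -/
theorem gauss_cancelled {F : Type*} [Field F] [Fintype F] (n m : ℕ) (hmn : m ≤ n) :
    Nat.card {W : Submodule F (Fin n → F) // Module.finrank F ↥W = m} *
      ∏ j : Fin m, (Fintype.card F ^ (m - (j : ℕ)) - 1) =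
    ∏ j : Fin m, (Fintype.card F ^ (n - (j : ℕ)) - 1) := by
  have hq : 0 < Fintype.card F := Fintype.card_pos
  have h := gauss_count (F := F) n m hmn
  have key : ∀ (N : ℕ), m ≤ N → ∏ j : Fin m, (Fintype.card F ^ N - Fintype.card F ^ (j : ℕ)) =
      (∏ j : Fin m, Fintype.card F ^ (j : ℕ)) * ∏ j : Fin m, (Fintype.card F ^ (N - (j : ℕ)) - 1) := by
    intro N hN
    rw [← Finset.prod_mul_distrib]
    apply Finset.prod_congr rfl
    intro j _
    have hj : (j : ℕ) ≤ N := le_trans (le_of_lt j.2) hN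
    rw [Nat.mul_sub, mul_one, ← pow_add, Nat.add_sub_cancel' hj]
  rw [key n hmn, key m le_rfl, ← mul_assoc, mul_comm _ (∏ j : Fin m, Fintype.card F ^ (j : ℕ)),
    mul_assoc] at h
  exact Nat.eq_of_mul_eq_mul_left (Finset.prod_pos fun j _ => pow_pos hq _) h

end Cfsg.Agent.S5949P.NT1

namespace Cfsg.Agent.S5949P

open Polynomial

/-- NT1 (uses GAUSS) -/
theorem nt_of_dvd_card {F : Type*} [Field F] [Fintype F] {p : ℕ} [Fact p.Prime] [CharP F p]
    (n m : ℕ) (hm : 1 ≤ m) (hmn : m ≤ n) (r : ℕ) [Fact r.Prime]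
    (hr : r ∣ Nat.card {W : Submodule F (Fin n → F) // Module.finrank F ↥W = m}) :
    r ≠ p ∧ ∃ k, n - m < k ∧ k ≤ n ∧ orderOf ((Fintype.card F : ℕ) : ZMod r) ∣ k := by
  have hrp : r.Prime := Fact.out
  have hq : 0 < Fintype.card F := Fintype.card_pos
  have h := NT1.gauss_cancelled (F := F) n m hmn
  constructor
  · rintro rfl
    obtain ⟨f, -, hf⟩ := FiniteField.card F r
    have hq0 : ((Fintype.card F : ℕ) : ZMod r) = 0 := by
      rw [ZMod.natCast_eq_zero_iff, hf]
      exact dvd_pow_self r f.ne_zero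
    have hcast : ∀ k : ℕ, 1 ≤ k → (((Fintype.card F ^ k - 1 : ℕ)) : ZMod r) = -1 := by
      intro k hk
      rw [Nat.cast_sub (Nat.one_le_pow _ _ hq), Nat.cast_pow, hq0, zero_pow (by omega)]
      simp
    have h' := congrArg (fun x : ℕ => (x : ZMod r)) h
    simp only [Nat.cast_mul, Nat.cast_prod] at h'
    have e1 : ∏ i : Fin m, ((Fintype.card F ^ (m - (i : ℕ)) - 1 : ℕ) : ZMod r) =
        ∏ _i : Fin m, (-1 : ZMod r) :=
      Finset.prod_congr rfl (fun j _ => hcast (m - (j : ℕ)) (by have := j.2; omega))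
    have e2 : ∏ i : Fin m, ((Fintype.card F ^ (n - (i : ℕ)) - 1 : ℕ) : ZMod r) =
        ∏ _i : Fin m, (-1 : ZMod r) :=
      Finset.prod_congr rfl (fun j _ => hcast (n - (j : ℕ)) (by have := j.2; omega))
    rw [e1, e2, (ZMod.natCast_eq_zero_iff _ _).mpr hr, zero_mul] at h'
    simp only [Finset.prod_const, Finset.card_univ, Fintype.card_fin] at h'
    have h2 : ((-1 : ZMod r) ^ m) * ((-1 : ZMod r) ^ m) = 1 := by
      rw [← mul_pow]; simp
    rw [← h', zero_mul] at h2
    exact zero_ne_one h2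
  · have hdvd : r ∣ ∏ j : Fin m, (Fintype.card F ^ (n - (j : ℕ)) - 1) := by
      rw [← h]; exact dvd_mul_of_dvd_left hr _
    obtain ⟨j, -, hj⟩ := (Prime.dvd_finsetProd_iff hrp.prime _).mp hdvd
    refine ⟨n - (j : ℕ), by have := j.2; omega, Nat.sub_le _ _, ?_⟩
    apply orderOf_dvd_of_pow_eq_one
    have h3 := (ZMod.natCast_eq_zero_iff _ _).mpr hj
    rw [Nat.cast_sub (Nat.one_le_pow _ _ hq), Nat.cast_pow, Nat.cast_one, sub_eq_zero] at h3
    exact h3

end Cfsg.Agent.S5949P
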