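import Mathlib

set_option autoImplicit false

/-! S5949, piece NT2: a criterion for an element of a finite field to be an `r`-th power. -/

namespace Cfsg.Agent.S5949P.NT2

/-- in a finite cyclic group of order `N` with `r ∣ N`: `x ^ (N / r) = 1` implies that `x` is an
`r`-th power -/
theorem exists_pow_eq {G : Type*} [Group G] [Finite G] [IsCyclic G] (r : ℕ) (hr0 : 0 < r)
    (hr : r ∣ Nat.card G) (x : G) (hx : x ^ (Nat.card G / r) = 1) : ∃ y : G, y ^ r = x := by
  obtain ⟨g, hg⟩ := IsCyclic.exists_monoid_generator (α := G)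
  obtain ⟨a, rfl⟩ := (Submonoid.mem_powers_iff _ _).mp (hg x)
  have hord : orderOf g = Nat.card G := by
    apply orderOf_eq_card_of_forall_mem_zpowers
    intro y
    obtain ⟨b, rfl⟩ := (Submonoid.mem_powers_iff _ _).mp (hg y)
    exact Subgroup.npow_mem_zpowers g b
  rw [← pow_mul, ← orderOf_dvd_iff_pow_eq_one, hord] at hx
  obtain ⟨M, hM⟩ := hr
  have hM0 : 0 < M := by
    rcases Nat.eq_zero_or_pos M with h | h
    · rw [h, mul_zero] at hM
      exact absurd hM Nat.card_pos.ne'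
    · exact h
  rw [hM, Nat.mul_div_cancel_left M hr0] at hx
  have hra : r ∣ a := Nat.dvd_of_mul_dvd_mul_right hM0 hx
  obtain ⟨a', rfl⟩ := hra
  exact ⟨g ^ a', by rw [← pow_mul, mul_comm]⟩

/-- the valuation is monotone for divisibility -/
theorem padicValNat_le_of_dvd' (r : ℕ) [Fact r.Prime] {a b : ℕ} (hb : b ≠ 0) (hab : a ∣ b) :
    padicValNat r a ≤ padicValNat r b :=
  (padicValNat_dvd_iff_le hb).mp (dvd_trans pow_padicValNat_dvd hab)

/-- if `o ∣ N`, `o ∣ m` and `v_r(m) < v_r(N)` then `r * o ∣ N` -/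
theorem mul_dvd_of_val_lt (r : ℕ) [Fact r.Prime] {o N m : ℕ} (hN : N ≠ 0) (hm : m ≠ 0)
    (hoN : o ∣ N) (hom : o ∣ m) (hlt : padicValNat r m < padicValNat r N) : r * o ∣ N := by
  obtain ⟨k, hk⟩ := hoN
  have ho0 : o ≠ 0 := by
    rintro rfl
    rw [zero_mul] at hk
    exact hN hk
  have hk0 : k ≠ 0 := by
    rintro rfl
    rw [mul_zero] at hk
    exact hN hk
  have h1 : padicValNat r o ≤ padicValNat r m := padicValNat_le_of_dvd' r hm hom
  have h2 : padicValNat r N = padicValNat r o + padicValNat r k := by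
    rw [hk]; exact padicValNat.mul ho0 hk0
  have h3 : 1 ≤ padicValNat r k := by omega
  obtain ⟨k', rfl⟩ := dvd_of_one_le_padicValNat h3
  exact ⟨k', by rw [hk]; ring⟩

end Cfsg.Agent.S5949P.NT2

namespace Cfsg.Agent.S5949P

open Polynomial

/-- NT2 -/
theorem nt_rth_power {F : Type*} [Field F] [Fintype F] (r : ℕ) [Fact r.Prime]
    (hr : r ∣ Fintype.card F - 1) (n : ℕ) (hn : 0 < n) (hrn : r ∣ n)
    (hv : padicValNat r n ≤ padicValNat r (Fintype.card F - 1))
    (h2 : r = 2 → Even n → Fintype.card F % 4 = 1) (c : F)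
    (hdet : ((-1) ^ (r + 1) * c) ^ (n / r) = 1) : ∃ d : F, d ^ r = c := by
  classical
  have hrp : r.Prime := Fact.out
  have hN0 : Fintype.card F - 1 ≠ 0 := by
    have := Fintype.one_lt_card (α := F)
    omega
  have hcardU : Nat.card Fˣ = Fintype.card F - 1 := by
    rw [Nat.card_units, Nat.card_eq_fintype_card]
  have hnr : 0 < n / r := Nat.div_pos (Nat.le_of_dvd hn hrn) hrp.pos
  have hc'0 : (-1) ^ (r + 1) * c ≠ 0 := by
    intro h
    rw [h, zero_pow hnr.ne'] at hdet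
    exact zero_ne_one hdet
  obtain ⟨u, hu⟩ : ∃ u : Fˣ, (u : F) = (-1) ^ (r + 1) * c := ⟨Units.mk0 _ hc'0, rfl⟩
  have hupow : u ^ (n / r) = 1 := by
    apply Units.ext
    rw [Units.val_pow_eq_pow_val, hu, hdet, Units.val_one]
  have ho1 : orderOf u ∣ n / r := orderOf_dvd_of_pow_eq_one hupow
  have ho2 : orderOf u ∣ Fintype.card F - 1 := by
    rw [← hcardU]; exact orderOf_dvd_natCard u
  have hvn : padicValNat r (n / r) = padicValNat r n - 1 := padicValNat.div hrn
  have h1n : 1 ≤ padicValNat r n := one_le_padicValNat_of_dvd hn.ne' hrn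
  have ho3 : r * orderOf u ∣ Fintype.card F - 1 :=
    NT2.mul_dvd_of_val_lt r hN0 hnr.ne' ho2 ho1 (by omega)
  have ho4 : orderOf u ∣ (Fintype.card F - 1) / r := by
    obtain ⟨k, hk⟩ := ho3
    rw [hk, mul_assoc, Nat.mul_div_cancel_left _ hrp.pos]
    exact dvd_mul_right _ _
  have hu2 : u ^ (Nat.card Fˣ / r) = 1 := by
    rw [hcardU]; exact orderOf_dvd_iff_pow_eq_one.mp ho4
  obtain ⟨y, hy⟩ := NT2.exists_pow_eq r hrp.pos (hcardU ▸ hr) u hu2
  have hneg : ∃ e : F, e ^ r = (-1) ^ (r + 1) := by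
    rcases hrp.eq_two_or_odd' with h | hodd
    · subst h
      have hev : Even n := even_iff_two_dvd.mpr hrn
      have hq := h2 rfl hev
      have hsq : IsSquare (-1 : F) := by
        rw [FiniteField.isSquare_neg_one_iff]; omega
      obtain ⟨e, he⟩ := hsq
      exact ⟨e, by rw [pow_two, ← he]; norm_num⟩
    · exact ⟨1, by rw [one_pow, (Odd.add_one hodd).neg_one_pow]⟩
  obtain ⟨e, he⟩ := hneg
  refine ⟨e * (y : F), ?_⟩
  have hy' : (y : F) ^ r = (-1) ^ (r + 1) * c := by
    rw [← Units.val_pow_eq_pow_val, hy, hu]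
  rw [mul_pow, he, hy', ← mul_assoc, ← mul_pow]
  norm_num

end Cfsg.Agent.S5949P
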