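import Mathlib

set_option autoImplicit false

/-! S5949, piece NT3: existence of a non-`r`-th power with prescribed `(n/r)`-th power. -/

namespace Cfsg.Agent.S5949P

open Polynomial

/-- NT3 -/
theorem nt_exists_nonpower {F : Type*} [Field F] [Fintype F] (r : ℕ) [Fact r.Prime]
    (hr : r ∣ Fintype.card F - 1) (n : ℕ) (hn : 0 < n)
    (hcond : ¬ (padicValNat r n ≤ padicValNat r (Fintype.card F - 1) ∧
      (r = 2 → Even n → Fintype.card F % 4 = 1))) :
    r ∣ n ∧ ∃ c : F, (∀ d : F, d ^ r ≠ c) ∧ ((-1) ^ (r + 1) * c) ^ (n / r) = 1 := by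
  classical
  have hrp : r.Prime := Fact.out
  have hN0 : Fintype.card F - 1 ≠ 0 := by
    have := Fintype.one_lt_card (α := F)
    omega
  have hcardU : Nat.card Fˣ = Fintype.card F - 1 := by
    rw [Nat.card_units, Nat.card_eq_fintype_card]
  by_cases hA : padicValNat r n ≤ padicValNat r (Fintype.card F - 1)
  · -- case B
    have hB : ¬ (r = 2 → Even n → Fintype.card F % 4 = 1) := fun h => hcond ⟨hA, h⟩
    push Not at hB
    obtain ⟨rfl, hev, hq⟩ := hB
    have hodd : Fintype.card F % 4 = 3 := by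
      have h1 : 1 ≤ Fintype.card F := Fintype.card_pos
      obtain ⟨k, hk⟩ := hr
      omega
    refine ⟨even_iff_two_dvd.mp hev, -1, ?_, ?_⟩
    · intro d hd
      have hsq : IsSquare (-1 : F) := ⟨d, by rw [← hd, pow_two]⟩
      rw [FiniteField.isSquare_neg_one_iff] at hsq
      exact hsq hodd
    · norm_num
  · -- case A
    push Not at hA
    set v := padicValNat r (Fintype.card F - 1) with hv
    have hv1 : 1 ≤ v := one_le_padicValNat_of_dvd hN0 hr
    have hrn : r ∣ n := dvd_of_one_le_padicValNat (by omega)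
    refine ⟨hrn, ?_⟩
    obtain ⟨g, hg⟩ := IsCyclic.exists_generator (α := Fˣ)
    have hord : orderOf g = Fintype.card F - 1 := by
      rw [← hcardU]; exact orderOf_eq_card_of_forall_mem_zpowers hg
    have hrvN : r ^ v ∣ Fintype.card F - 1 := pow_padicValNat_dvd
    have hrv1n : r ^ (v + 1) ∣ n := (padicValNat_dvd_iff_le hn.ne').mpr (by omega)
    obtain ⟨m, hm⟩ := hrv1n
    have hnr : n / r = r ^ v * m := by
      rw [hm, pow_succ, mul_comm (r ^ v) r, mul_assoc, Nat.mul_div_cancel_left _ hrp.pos]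
    -- the element
    have hcpow : (g ^ ((Fintype.card F - 1) / r ^ v)) ^ (r ^ v) = 1 := by
      rw [← pow_mul, Nat.div_mul_cancel hrvN, ← hord, pow_orderOf_eq_one]
    refine ⟨((g ^ ((Fintype.card F - 1) / r ^ v) : Fˣ) : F), ?_, ?_⟩
    · intro d hd
      have hd0 : d ≠ 0 := by
        rintro rfl
        rw [zero_pow hrp.ne_zero] at hd
        exact (Units.ne_zero _) hd.symm
      have hdu : (Units.mk0 d hd0) ^ r = g ^ ((Fintype.card F - 1) / r ^ v) := by
        apply Units.ext
        rw [Units.val_pow_eq_pow_val, Units.val_mk0, hd]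
      have h1 : (g ^ ((Fintype.card F - 1) / r ^ v)) ^ ((Fintype.card F - 1) / r) = 1 := by
        rw [← hdu, ← pow_mul, Nat.mul_div_cancel' hr, ← hcardU]
        exact pow_card_eq_one'
      rw [← pow_mul, ← orderOf_dvd_iff_pow_eq_one, hord] at h1
      -- N ∣ M * (N / r), N = r * (N / r)
      have hNr : Fintype.card F - 1 = r * ((Fintype.card F - 1) / r) := (Nat.mul_div_cancel' hr).symm
      have hpos : 0 < (Fintype.card F - 1) / r :=
        Nat.div_pos (Nat.le_of_dvd (Nat.pos_of_ne_zero hN0) hr) hrp.pos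
      have h2 : r * ((Fintype.card F - 1) / r) ∣
          (Fintype.card F - 1) / r ^ v * ((Fintype.card F - 1) / r) := by
        rw [← hNr]; exact h1
      have h3 : r ∣ (Fintype.card F - 1) / r ^ v := Nat.dvd_of_mul_dvd_mul_right hpos h2
      have h4 : r ^ v * r ∣ Fintype.card F - 1 := Nat.mul_dvd_of_dvd_div hrvN h3
      rw [← pow_succ] at h4
      have h5 := (padicValNat_dvd_iff_le hN0).mp h4
      omega
    · rw [mul_pow]
      have hc1 : (((g ^ ((Fintype.card F - 1) / r ^ v) : Fˣ) : F)) ^ (n / r) = 1 := by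
        rw [← Units.val_pow_eq_pow_val, hnr, pow_mul, hcpow, one_pow, Units.val_one]
      rw [hc1, mul_one]
      rcases hrp.eq_two_or_odd' with h | hodd
      · subst h
        have hev : Even (n / 2) := by
          rw [hnr]
          exact (Nat.even_pow.mpr ⟨even_two, by omega⟩).mul_right m
        rw [← pow_mul, Even.neg_one_pow (hev.mul_left _)]
      · rw [(Odd.add_one hodd).neg_one_pow, one_pow]

end Cfsg.Agent.S5949P
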