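import Mathlib
import Cfsg.Agent.Helper23.S5961Defs
import Cfsg.Agent.Helper2.SpCard
import Cfsg.Agent.Helper18.S5961ARITH
import Cfsg.Agent.Helper23.S5961STRUCT

set_option autoImplicit false

/-! S5961 piece CAUCHY: a fixed-point-free element of order `r` in `Sp_cc(q)`. -/

namespace Cfsg.Agent.S5961P

open Cfsg.Agent.Helper2.SympInvol Cfsg.Agent.Helper2.SympUnits

/-- CAUCHY (uses SPDIV, ARITH, Helper2.Sp.card_symplectic_fin) -/
theorem exists_fpf_sp {F : Type*} [Field F] [Fintype F] {p : ℕ} [Fact p.Prime] [CharP F p]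
    (r : ℕ) [Fact r.Prime] (hr2 : r ≠ 2) (hrp : r ≠ p) (h : ℕ) (hh : 2 * h = cc F r) :
    ∃ x : Matrix.symplecticGroup (Fin h) F,
      (x : Matrix (Fin h ⊕ Fin h) (Fin h ⊕ Fin h) F) ^ r = 1 ∧
      LinearMap.ker (Matrix.toLin' (x : Matrix (Fin h ⊕ Fin h) (Fin h ⊕ Fin h) F) - 1) = ⊥ := by
  classical
  have hr : r.Prime := Fact.out
  obtain ⟨-, hccpos, -, -, -, hdvd, -, -⟩ := cc_arith (F := F) r hr2 hrp
  have hh1 : 1 ≤ h := by omega
  -- `r ∣ |Sp_{2h}(q)|`
  have hcard : r ∣ Nat.card (Matrix.symplecticGroup (Fin h) F) := by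
    rw [Cfsg.Agent.Helper2.Sp.card_symplectic_fin]
    apply Dvd.dvd.mul_left
    have hmem : h - 1 ∈ Finset.range h := Finset.mem_range.mpr (by omega)
    refine dvd_trans ?_ (Finset.dvd_prod_of_mem _ hmem)
    have : 2 * (h - 1 + 1) = cc F r := by rw [← hh]; congr 1; omega
    rw [this]
    exact hdvd
  obtain ⟨x, hx⟩ := exists_prime_orderOf_dvd_card' (G := Matrix.symplecticGroup (Fin h) F) r hcard
  have hxr : x ^ r = 1 := by rw [← hx]; exact pow_orderOf_eq_one x
  have hx1 : x ≠ 1 := by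
    intro h1
    rw [h1, orderOf_one] at hx
    exact hr.one_lt.ne hx
  have hxr' : (x : Matrix (Fin h ⊕ Fin h) (Fin h ⊕ Fin h) F) ^ r = 1 := by
    have := congrArg (fun z : Matrix.symplecticGroup (Fin h) F =>
      (z : Matrix (Fin h ⊕ Fin h) (Fin h ⊕ Fin h) F)) hxr
    simpa using this
  refine ⟨x, hxr', ?_⟩
  set y : Module.End F (Fin h ⊕ Fin h → F) :=
    Matrix.toLin' (x : Matrix (Fin h ⊕ Fin h) (Fin h ⊕ Fin h) F) with hy
  have hyr : y ^ r = 1 := by
    rw [hy, ← Matrix.toLin'_pow, hxr', Matrix.toLin'_one]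
    rfl
  have hdiv := sp_dvd (F := F) r hr2 hrp (sB h F) (sB_alt h F) y (sB_isometry h F x) hyr ⊤
    le_top (sB_nondeg h F)
  have hfr : Module.finrank F (⊤ : Submodule F (Fin h ⊕ Fin h → F)) = 2 * h := by
    rw [finrank_top, Module.finrank_fintype_fun_eq_card, Fintype.card_sum, Fintype.card_fin]
    ring
  have hk : Module.finrank F ↥((⊤ : Submodule F (Fin h ⊕ Fin h → F)) ⊓ LinearMap.ker (y - 1)) =
      Module.finrank F (LinearMap.ker (y - 1)) := by
    rw [top_inf_eq]
  rw [hfr, hk, ← hh] at hdiv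
  have hle : Module.finrank F (LinearMap.ker (y - 1)) ≤ 2 * h := by
    have := Submodule.finrank_le (LinearMap.ker (y - 1))
    rw [Module.finrank_fintype_fun_eq_card, Fintype.card_sum, Fintype.card_fin] at this
    omega
  obtain ⟨c, hc⟩ := hdiv
  have hcases : Module.finrank F (LinearMap.ker (y - 1)) = 0 ∨
      Module.finrank F (LinearMap.ker (y - 1)) = 2 * h := by
    rcases Nat.eq_zero_or_pos c with h0 | hpos
    · right
      rw [h0, mul_zero] at hc
      omega
    · left
      have : 2 * h ≤ 2 * h * c := Nat.le_mul_of_pos_right _ hpos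
      omega
  rcases hcases with h0 | h2
  · exact Submodule.finrank_eq_zero.mp h0
  · exfalso
    apply hx1
    have htop : LinearMap.ker (y - 1) = ⊤ := by
      apply Submodule.eq_top_of_finrank_eq
      rw [h2, Module.finrank_fintype_fun_eq_card, Fintype.card_sum, Fintype.card_fin]
      ring
    have hy1 : y = 1 := by
      apply LinearMap.ext
      intro v
      have hv : v ∈ LinearMap.ker (y - 1) := by rw [htop]; trivial
      rw [LinearMap.mem_ker, LinearMap.sub_apply, sub_eq_zero] at hv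
      exact hv
    apply Subtype.ext
    have : Matrix.toLin' (x : Matrix (Fin h ⊕ Fin h) (Fin h ⊕ Fin h) F) = Matrix.toLin' 1 := by
      rw [Matrix.toLin'_one]; exact hy1
    exact Matrix.toLin'.injective this

end Cfsg.Agent.S5961P
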