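import Mathlib
import Cfsg.Prelude.Def_Classical
import Cfsg.Prelude.Def_GeometricClasses
import Cfsg.Agent.Helper5.S5973Defs

set_option autoImplicit false
open scoped MatrixGroups

/-!
# S5973 piece ARITHNE (helper3): combinatorial criterion ⇒ frozen condition, `i` even.
-/

universe u

namespace Cfsg.Agent.S5973P

namespace ARITHNE

/-- uniqueness of division with remainder -/
theorem divmod_unique {i a s m : ℕ} (hi0 : 0 < i) (h : a + i * s = m) (ha : a < i) :
    a = m % i ∧ s = m / i := by
  constructor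
  · rw [← h, Nat.add_mul_mod_self_left, Nat.mod_eq_of_lt ha]
  · rw [← h, Nat.add_mul_div_left _ _ hi0, Nat.div_eq_of_lt ha, zero_add]

end ARITHNE

/-- ARITHNE: criterion ⇒ frozen, `i` even -/
theorem frz_of_crit_even (hyp : Bool) (i c t d m : ℕ) (hi0 : 0 < i) (hi : Even i) (hc : c = i)
    (ht : 1 ≤ t) (hm : 1 ≤ m) (hmd : m + 1 ≤ d) (hnt : ∃ j, j < m ∧ NTc hyp i (d - j))
    (h : Crit hyp i t d m) : Frz hyp i c t d m := by
  subst hc
  have hi2 : 2 ≤ c := by
    obtain ⟨j, hj⟩ := hi
    omega
  have htC : ∀ b, typeC hyp c b ↔ (hyp = true ↔ Even b) := by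
    intro b
    unfold typeC
    rw [if_pos hi]
  -- the criterion for even `i`
  have hCrit : ∀ b κ : ℕ, κ + c * b = 2 * d → (κ = 0 → (hyp = true ↔ Even b)) →
      ∃ a' s : ℕ, a' + c * s = m ∧
        (2 * a' + 2 ≤ κ ∨ ((hyp = true ↔ Even b) ∧ 2 * a' ≤ κ)) ∧
        (s = 0 ∨ t + 2 * s ≤ b + 1) := by
    intro b κ hκ htp
    obtain ⟨a', s, h1, h2, _, h4⟩ := h b κ (by rw [if_pos hi]; exact hκ)
      (fun h0 => (htC b).2 (htp h0))
    refine ⟨a', s, h1, ?_, h4 hi⟩
    rcases h2 with h2 | ⟨h2, h3⟩
    · exact Or.inl h2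
    · exact Or.inr ⟨(htC b).1 h2, h3⟩
  -- step 1: `c ≤ m`
  have him : c ≤ m := by
    by_contra hlt
    have hlt' : m < c := by omega
    obtain ⟨j, hjm, hj⟩ := hnt
    have hsmall : ∀ a' s : ℕ, a' + c * s = m → a' = m := by
      intro a' s hs
      rcases Nat.eq_zero_or_pos s with h0 | h0
      · rw [h0, mul_zero, add_zero] at hs; exact hs
      · have : c * 1 ≤ c * s := Nat.mul_le_mul_left c h0
        omega
    -- in each case an admissible shape with `a' ≤ j`
    have hfin : ∀ b κ : ℕ, κ + c * b = 2 * d → (κ = 0 → (hyp = true ↔ Even b)) →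
        (κ = 2 * j + 2 → ¬ (hyp = true ↔ Even b)) → κ ≤ 2 * j + 2 → False := by
      intro b κ hκ htp hne hle
      obtain ⟨a', s, h1, h2, _⟩ := hCrit b κ hκ htp
      have := hsmall a' s h1
      rcases h2 with h2 | ⟨h2, h3⟩
      · omega
      · by_cases hκj : κ = 2 * j + 2
        · exact hne hκj h2
        · omega
    unfold NTc at hj
    by_cases hh : hyp = true
    · rw [if_pos hh] at hj
      rcases hj with ⟨b₁, hb₁⟩ | ⟨⟨b₂, hb₂⟩, hnd⟩
      · -- `c ∣ d - j`
        apply hfin (2 * b₁) (2 * j)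
        · have : c * (2 * b₁) = 2 * (c * b₁) := by ring
          rw [this, ← hb₁]; omega
        · intro _
          exact ⟨fun _ => even_two_mul b₁, fun _ => hh⟩
        · intro h0; omega
        · omega
      · -- `c ∣ 2 (d - j - 1)`, `¬ c ∣ d - j - 1`: `b₂` odd
        have hb₂odd : ¬ Even b₂ := by
          rintro ⟨b₃, rfl⟩
          apply hnd
          refine ⟨b₃, ?_⟩
          have : c * (b₃ + b₃) = 2 * (c * b₃) := by ring
          rw [this] at hb₂
          omega
        apply hfin b₂ (2 * j + 2)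
        · rw [← hb₂]; omega
        · intro h0; omega
        · intro _ hiff
          exact hb₂odd (hiff.1 hh)
        · omega
    · rw [if_neg hh] at hj
      rcases hj with ⟨⟨b₂, hb₂⟩, hnd⟩ | ⟨b₁, hb₁⟩
      · -- `c ∣ 2 (d - j)`, `¬ c ∣ d - j`: `b₂` odd
        have hb₂odd : ¬ Even b₂ := by
          rintro ⟨b₃, rfl⟩
          apply hnd
          refine ⟨b₃, ?_⟩
          have : c * (b₃ + b₃) = 2 * (c * b₃) := by ring
          rw [this] at hb₂
          omega
        apply hfin b₂ (2 * j)
        · rw [← hb₂]; omega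
        · intro _
          exact ⟨fun h1 => absurd h1 hh, fun h1 => absurd h1 hb₂odd⟩
        · intro h0; omega
        · omega
      · -- `c ∣ d - j - 1`
        apply hfin (2 * b₁) (2 * j + 2)
        · have : c * (2 * b₁) = 2 * (c * b₁) := by ring
          rw [this, ← hb₁]; omega
        · intro h0; omega
        · intro _ hiff
          exact hh (hiff.2 (even_two_mul b₁))
        · omega
  -- notation
  set n' := (2 * d) / c with hn'
  set k := (2 * d) % c with hk
  set m' := m / c with hm'
  set l := m % c with hl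
  have hn : c * n' + k = 2 * d := Nat.div_add_mod (2 * d) c
  have hmm : c * m' + l = m := Nat.div_add_mod m c
  have hklt : k < c := Nat.mod_lt _ hi0
  have hllt : l < c := Nat.mod_lt _ hi0
  have hm'1 : 1 ≤ m' := by
    rw [hm', Nat.le_div_iff_mul_le hi0]
    omega
  have hn'2 : 2 ≤ n' := by
    rw [hn', Nat.le_div_iff_mul_le hi0]
    omega
  -- an admissible solution with small `a'` is the division with remainder
  have hsol : ∀ a' s : ℕ, a' + c * s = m → a' < c → a' = l ∧ s = m' :=
    fun a' s h1 h2 => ARITHNE.divmod_unique hi0 h1 h2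
  -- step 2: the second largest `b`
  have hstep2 : t + 2 * m' ≤ n' ∧ (2 * l + 2 ≤ k + c ∨
      ((hyp = true ↔ Even (n' - 1)) ∧ 2 * l ≤ k + c)) := by
    have hκ : (k + c) + c * (n' - 1) = 2 * d := by
      have : c * (n' - 1) + c = c * n' := by
        rw [← Nat.mul_succ]; congr 1; omega
      omega
    obtain ⟨a', s, h1, h2, h3⟩ := hCrit (n' - 1) (k + c) hκ (fun h0 => by omega)
    have ha : a' < c := by
      rcases h2 with h2 | ⟨_, h2⟩ <;> omega
    obtain ⟨rfl, rfl⟩ := hsol a' s h1 ha
    refine ⟨?_, h2⟩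
    rcases h3 with h3 | h3 <;> omega
  obtain ⟨hbound, hE1⟩ := hstep2
  right
  refine ⟨hi, him, hbound, ?_⟩
  by_cases hP : (hyp = true ↔ Even n')
  · -- `E2`
    right; left
    refine ⟨?_, hP⟩
    obtain ⟨a', s, h1, h2, _⟩ := hCrit n' k (by omega) (fun _ => hP)
    have ha : a' < c := by
      rcases h2 with h2 | ⟨_, h2⟩ <;> omega
    obtain ⟨rfl, rfl⟩ := hsol a' s h1 ha
    rcases h2 with h2 | ⟨_, h2⟩ <;> omega
  · by_cases hk0 : k = 0
    · -- `E1`
      left
      refine ⟨?_, hk0, hP, ?_⟩
      · rcases hE1 with h1 | ⟨_, h1⟩ <;> omega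
      · by_contra hnlt
        have heq : t + 2 * m' = n' := by omega
        have hκ : (2 * c) + c * (n' - 2) = 2 * d := by
          have : c * (n' - 2) + 2 * c = c * n' := by
            have : n' = (n' - 2) + 2 := by omega
            conv_rhs => rw [this]
            ring
          omega
        have hpar : (hyp = true ↔ Even (n' - 2)) ↔ (hyp = true ↔ Even n') := by
          have : Even (n' - 2) ↔ Even n' := by
            rw [Nat.even_iff, Nat.even_iff]; omega
          rw [this]
        obtain ⟨a', s, h1, h2, h3⟩ := hCrit (n' - 2) (2 * c) hκ (fun h0 => by omega)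
        have ha : a' < c := by
          rcases h2 with h2 | ⟨h2, _⟩
          · omega
          · exact absurd (hpar.1 h2) hP
        obtain ⟨rfl, rfl⟩ := hsol a' s h1 ha
        rcases h3 with h3 | h3 <;> omega
    · -- `E3`
      right; right
      refine ⟨?_, hP⟩
      obtain ⟨a', s, h1, h2, _⟩ := hCrit n' k (by omega) (fun h0 => absurd h0 hk0)
      rcases h2 with h2 | ⟨h2, _⟩
      · have ha : a' < c := by omega
        obtain ⟨rfl, rfl⟩ := hsol a' s h1 ha
        omega
      · exact absurd h2 hP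

end Cfsg.Agent.S5973P
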