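import Mathlib
import Cfsg.Prelude.Def_Classical
import Cfsg.Prelude.Def_GeometricClasses
import Cfsg.Agent.Helper5.S5973Defs

set_option autoImplicit false
open scoped MatrixGroups

/-!
# S5973 piece ARITHNO (helper3): combinatorial criterion ⇒ frozen condition, `i` odd.
-/

universe u

namespace Cfsg.Agent.S5973P

namespace ARITHNO

/-- an odd number dividing `2 * x` divides `x` -/
theorem odd_dvd_of_dvd_two_mul {i x : ℕ} (hi : Odd i) (h : i ∣ 2 * x) : i ∣ x :=
  (Nat.Coprime.dvd_of_dvd_mul_left (Nat.Coprime.symm (Nat.coprime_two_left.2 hi)) h)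

end ARITHNO

/-- ARITHNO: criterion ⇒ frozen, `i` odd -/
theorem frz_of_crit_odd (hyp : Bool) (i c t d m : ℕ) (hi : Odd i) (hc : c = 2 * i)
    (hm : 1 ≤ m) (hmd : m + 1 ≤ d) (hnt : ∃ j, j < m ∧ NTc hyp i (d - j))
    (h : Crit hyp i t d m) : Frz hyp i c t d m := by
  have hne : ¬ Even i := Nat.not_even_iff_odd.2 hi
  have hi0 : 0 < i := hi.pos
  have hc0 : 0 < c := by omega
  have htC : ∀ b, typeC hyp i b ↔ hyp = true := by
    intro b
    unfold typeC
    rw [if_neg hne]
  -- the criterion for odd `i`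
  have hCrit : ∀ b κ : ℕ, κ + 2 * i * b = 2 * d → (κ = 0 → hyp = true) →
      ∃ a' s : ℕ, a' + i * s = m ∧ (2 * a' + 2 ≤ κ ∨ (hyp = true ∧ 2 * a' ≤ κ)) := by
    intro b κ hκ ht
    obtain ⟨a', s, h1, h2, _, _⟩ := h b κ (by rw [if_neg hne]; exact hκ)
      (fun h0 => (htC b).2 (ht h0))
    refine ⟨a', s, h1, ?_⟩
    rcases h2 with h2 | ⟨h2, h3⟩
    · exact Or.inl h2
    · exact Or.inr ⟨(htC b).1 h2, h3⟩
  left
  refine ⟨hi, ?_, ?_⟩
  · -- `i ≤ m`
    by_contra hlt
    have hlt' : m < i := by omega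
    obtain ⟨j, hjm, hj⟩ := hnt
    have hsmall : ∀ a' s : ℕ, a' + i * s = m → a' = m := by
      intro a' s hs
      rcases Nat.eq_zero_or_pos s with h0 | h0
      · rw [h0, mul_zero, add_zero] at hs; exact hs
      · have : i * 1 ≤ i * s := Nat.mul_le_mul_left i h0
        omega
    by_cases hh : hyp = true
    · -- `i ∣ d - j`
      have hdvd : i ∣ d - j := by
        unfold NTc at hj
        rw [if_pos hh] at hj
        rcases hj with h1 | ⟨h1, h2⟩
        · exact h1
        · exact absurd (ARITHNO.odd_dvd_of_dvd_two_mul hi h1) h2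
      obtain ⟨b, hb⟩ := hdvd
      obtain ⟨a', s, h1, h2⟩ := hCrit b (2 * j) (by
        have : 2 * i * b = 2 * (i * b) := by ring
        rw [this, ← hb]; omega) (fun _ => hh)
      have := hsmall a' s h1
      rcases h2 with h2 | ⟨_, h2⟩ <;> omega
    · -- `i ∣ d - j - 1`
      have hdvd : i ∣ d - j - 1 := by
        unfold NTc at hj
        rw [if_neg hh] at hj
        rcases hj with ⟨h1, h2⟩ | h1
        · exact absurd (ARITHNO.odd_dvd_of_dvd_two_mul hi h1) h2
        · exact h1
      obtain ⟨b, hb⟩ := hdvd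
      obtain ⟨a', s, h1, h2⟩ := hCrit b (2 * j + 2) (by
        have : 2 * i * b = 2 * (i * b) := by ring
        rw [this, ← hb]; omega) (fun h0 => by omega)
      have := hsmall a' s h1
      rcases h2 with h2 | ⟨h2, _⟩
      · omega
      · exact hh h2
  · -- the inequality: apply the criterion to the largest admissible `b`
    have hn : c * (2 * d / c) + 2 * d % c = 2 * d := Nat.div_add_mod (2 * d) c
    have hκ : 2 * d % c + 2 * i * (2 * d / c) = 2 * d := by rw [← hc]; omega
    have hmod : ∀ a' s : ℕ, a' + i * s = m → m % i ≤ a' := by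
      intro a' s hs
      have : m % i = a' % i := by rw [← hs, Nat.add_mul_mod_self_left]
      rw [this]
      exact Nat.mod_le _ _
    by_cases hh : hyp = true
    · rw [if_pos hh]
      obtain ⟨a', s, h1, h2⟩ := hCrit (2 * d / c) (2 * d % c) hκ (fun _ => hh)
      have := hmod a' s h1
      rcases h2 with h2 | ⟨_, h2⟩ <;> omega
    · rw [if_neg hh]
      by_cases hk0 : 2 * d % c = 0
      · exact Or.inl hk0
      · right
        obtain ⟨a', s, h1, h2⟩ := hCrit (2 * d / c) (2 * d % c) hκ (fun h0 => absurd h0 hk0)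
        have := hmod a' s h1
        rcases h2 with h2 | ⟨h2, _⟩
        · omega
        · exact absurd h2 hh

end Cfsg.Agent.S5973P
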