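import Mathlib
import Cfsg.Prelude.Def_Classical
import Cfsg.Prelude.Def_GeometricClasses
import Cfsg.Agent.Helper5.S5973Defs

set_option autoImplicit false
open scoped MatrixGroups

/-!
# S5973 piece ARITHSE (helper3): frozen condition ⇒ combinatorial criterion, `i` even.
-/

universe u

namespace Cfsg.Agent.S5973P

namespace ARITHSE

/-- the final verification: `X = n' - b - 2 (m' - s)` measures the room in the fixed space -/
theorem fin_lemma (hyp : Bool) (i n n' k m m' l b κ s a' X : ℕ) (hi2 : 2 ≤ i)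
    (hk : k < i) (hkev : Even k) (hl : l < i)
    (hn : i * n' + k = n) (hκ : κ + i * b = n) (hm : i * m' + l = m) (ha : a' + i * s = m)
    (hX : n' + 2 * s = b + 2 * m' + X)
    (hcond : 2 ≤ X ∨
      (X = 1 ∧ ((2 * l ≤ i ∧ k = 0 ∧ ¬ (hyp = true ↔ Even n')) ∨ 2 * l ≤ k)) ∨
      (X = 0 ∧ ((2 * l ≤ k ∧ (hyp = true ↔ Even n')) ∨
        (2 * l < k ∧ ¬ (hyp = true ↔ Even n'))))) :
    2 * a' + 2 ≤ κ ∨ ((hyp = true ↔ Even b) ∧ 2 * a' ≤ κ) := by
  have hmul : i * (n' + 2 * s) = i * (b + 2 * m' + X) := by rw [hX]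
  rcases hcond with h2 | ⟨h1, hc1⟩ | ⟨h0, hc0⟩
  · left
    have : i * 2 ≤ i * X := Nat.mul_le_mul_left i h2
    nlinarith
  · subst h1
    rcases hc1 with ⟨hli, hk0, hP⟩ | hlk
    · right
      constructor
      · have hpar : Even b ↔ ¬ Even n' := by
          rw [Nat.even_iff, Nat.even_iff]; omega
        rw [hpar]
        tauto
      · nlinarith
    · left
      nlinarith
  · subst h0
    have hpar : Even b ↔ Even n' := by
      rw [Nat.even_iff, Nat.even_iff]; omega
    rcases hc0 with ⟨hlk, hP⟩ | ⟨hlk, _⟩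
    · right
      exact ⟨by rw [hpar]; exact hP, by nlinarith⟩
    · left
      have : 2 * l + 2 ≤ k := by
        obtain ⟨k', rfl⟩ := hkev
        omega
      nlinarith

end ARITHSE

/-- ARITHSE: frozen ⇒ criterion, `i` even -/
theorem crit_of_frz_even (hyp : Bool) (i c t d m : ℕ) (hi0 : 0 < i) (hi : Even i) (hc : c = i)
    (ht : 1 ≤ t) (hm : 1 ≤ m) (hmd : m + 1 ≤ d) (h : Frz hyp i c t d m) : Crit hyp i t d m := by
  subst hc
  have hi2 : 2 ≤ c := by
    obtain ⟨j, hj⟩ := hi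
    omega
  obtain ⟨him, hF1, hF2⟩ : c ≤ m ∧ t + 2 * (m / c) ≤ (2 * d) / c ∧
      ((2 * (m % c) ≤ c ∧ (2 * d) % c = 0 ∧ ¬ (hyp = true ↔ Even ((2 * d) / c)) ∧
          t + 2 * (m / c) < (2 * d) / c) ∨
       (2 * (m % c) ≤ (2 * d) % c ∧ (hyp = true ↔ Even ((2 * d) / c))) ∨
       (2 * (m % c) < (2 * d) % c ∧ ¬ (hyp = true ↔ Even ((2 * d) / c)))) := by
    rcases h with ⟨ho, _⟩ | ⟨_, h1, h2, h3⟩
    · exact absurd hi (Nat.not_even_iff_odd.2 ho)
    · exact ⟨h1, h2, h3⟩
  intro b κ hκ htype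
  rw [if_pos hi] at hκ
  have htC : typeC hyp c b ↔ (hyp = true ↔ Even b) := by
    unfold typeC
    rw [if_pos hi]
  -- notation
  set n' := (2 * d) / c with hn'
  set k := (2 * d) % c with hk
  set m' := m / c with hm'
  set l := m % c with hl
  have hn : c * n' + k = 2 * d := Nat.div_add_mod (2 * d) c
  have hmm : c * m' + l = m := Nat.div_add_mod m c
  have hklt : k < c := Nat.mod_lt _ hi0
  have hllt : l < c := Nat.mod_lt _ hi0
  have hkev : Even k := by
    obtain ⟨j, hj⟩ := hi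
    have : c * n' = 2 * (j * n') := by rw [hj]; ring
    rw [Nat.even_iff]
    omega
  have hbn : b ≤ n' := by
    rw [hn', Nat.le_div_iff_mul_le hi0, mul_comm]
    omega
  have hm'1 : 1 ≤ m' := by
    rw [hm', Nat.le_div_iff_mul_le hi0]
    omega
  -- the conclusion in terms of `fin_lemma`
  have key : ∀ s a' X : ℕ, a' + c * s = m → n' + 2 * s = b + 2 * m' + X →
      (s = 0 ∨ t + 2 * s ≤ b + 1) →
      (2 ≤ X ∨
        (X = 1 ∧ ((2 * l ≤ c ∧ k = 0 ∧ ¬ (hyp = true ↔ Even n')) ∨ 2 * l ≤ k)) ∨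
        (X = 0 ∧ ((2 * l ≤ k ∧ (hyp = true ↔ Even n')) ∨
          (2 * l < k ∧ ¬ (hyp = true ↔ Even n'))))) →
      ∃ a' s : ℕ, a' + c * s = m ∧ (2 * a' + 2 ≤ κ ∨ (typeC hyp c b ∧ 2 * a' ≤ κ)) ∧
        (Odd c → s ≤ b) ∧ (Even c → s = 0 ∨ t + 2 * s ≤ b + 1) := by
    intro s a' X ha hX hs hcond
    refine ⟨a', s, ha, ?_, fun ho => absurd hi (Nat.not_even_iff_odd.2 ho), fun _ => hs⟩
    rw [htC]
    exact ARITHSE.fin_lemma hyp c (2 * d) n' k m m' l b κ s a' X hi2 hklt hkev hllt hn hκ hmm ha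
      hX hcond
  -- the case `X = 0` with the first alternative of the frozen condition is impossible when
  -- `κ = 0`; in general we argue case by case
  by_cases hA : t + 2 * m' ≤ b + 1
  · -- `s = m'`, `a' = l`, `X = n' - b`
    apply key m' l (n' - b) (by omega) (by omega) (Or.inr hA)
    by_cases hu2 : 2 ≤ n' - b
    · exact Or.inl hu2
    · by_cases hu1 : n' - b = 1
      · right; left
        refine ⟨hu1, ?_⟩
        rcases hF2 with ⟨h1, h2, h3, _⟩ | ⟨h1, _⟩ | ⟨h1, _⟩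
        · exact Or.inl ⟨h1, h2, h3⟩
        · exact Or.inr h1
        · exact Or.inr (by omega)
      · have hu0 : n' - b = 0 := by omega
        right; right
        refine ⟨hu0, ?_⟩
        rcases hF2 with ⟨_, h2, h3, _⟩ | ⟨h1, h2⟩ | ⟨h1, h2⟩
        · -- `κ = 0` forces the type, contradiction
          exfalso
          have hbn' : b = n' := by omega
          have hκ0 : κ = 0 := by
            rw [hbn'] at hκ
            omega
          have := htC.1 (htype hκ0)
          rw [hbn'] at this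
          exact h3 this
        · exact Or.inl ⟨h1, h2⟩
        · exact Or.inr ⟨h1, h2⟩
  · by_cases hB : b ≤ t
    · -- `s = 0`, `a' = m`, `X = n' - b - 2 m'`
      apply key 0 m (n' - b - 2 * m') (by omega) (by omega) (Or.inl rfl)
      by_cases hu2 : 2 ≤ n' - b - 2 * m'
      · exact Or.inl hu2
      · by_cases hu1 : n' - b - 2 * m' = 1
        · right; left
          refine ⟨hu1, ?_⟩
          rcases hF2 with ⟨h1, h2, h3, _⟩ | ⟨h1, _⟩ | ⟨h1, _⟩
          · exact Or.inl ⟨h1, h2, h3⟩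
          · exact Or.inr h1
          · exact Or.inr (by omega)
        · have hu0 : n' - b - 2 * m' = 0 := by omega
          right; right
          refine ⟨hu0, ?_⟩
          rcases hF2 with ⟨_, _, _, h4⟩ | ⟨h1, h2⟩ | ⟨h1, h2⟩
          · exfalso; omega
          · exact Or.inl ⟨h1, h2⟩
          · exact Or.inr ⟨h1, h2⟩
    · -- `s = (b + 1 - t) / 2`
      obtain ⟨s, hs1, hs2⟩ : ∃ s : ℕ, t + 2 * s ≤ b + 1 ∧ b + 1 ≤ t + 2 * s + 1 :=
        ⟨(b + 1 - t) / 2, by omega, by omega⟩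
      have hsm : s + 1 ≤ m' := by omega
      have h1 : c * (s + 1) ≤ c * m' := Nat.mul_le_mul_left c hsm
      have h2 : c * (s + 1) = c * s + c := by ring
      apply key s (m - c * s) (n' + 2 * s - b - 2 * m') (by omega) (by omega) (Or.inr hs1)
      by_cases hu2 : 2 ≤ n' + 2 * s - b - 2 * m'
      · exact Or.inl hu2
      · by_cases hu1 : n' + 2 * s - b - 2 * m' = 1
        · right; left
          refine ⟨hu1, ?_⟩
          rcases hF2 with ⟨h1, h2, h3, _⟩ | ⟨h1, _⟩ | ⟨h1, _⟩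
          · exact Or.inl ⟨h1, h2, h3⟩
          · exact Or.inr h1
          · exact Or.inr (by omega)
        · have hu0 : n' + 2 * s - b - 2 * m' = 0 := by omega
          right; right
          refine ⟨hu0, ?_⟩
          rcases hF2 with ⟨_, _, _, h4⟩ | ⟨h1, h2⟩ | ⟨h1, h2⟩
          · exfalso; omega
          · exact Or.inl ⟨h1, h2⟩
          · exact Or.inr ⟨h1, h2⟩

end Cfsg.Agent.S5973P
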