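import Mathlib
import Cfsg.Prelude.Def_Classical
import Cfsg.Prelude.Def_GeometricClasses
import Cfsg.Agent.Helper5.S5973Defs

set_option autoImplicit false
open scoped MatrixGroups

/-!
# S5973 piece ARITHSO (helper3): frozen condition ⇒ combinatorial criterion, `i` odd.
-/

universe u

namespace Cfsg.Agent.S5973P

/-- ARITHSO: frozen ⇒ criterion, `i` odd -/
theorem crit_of_frz_odd (hyp : Bool) (i c t d m : ℕ) (hi : Odd i) (hc : c = 2 * i)
    (hm : 1 ≤ m) (hmd : m + 1 ≤ d) (h : Frz hyp i c t d m) : Crit hyp i t d m := by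
  have hne : ¬ Even i := Nat.not_even_iff_odd.2 hi
  have hi0 : 0 < i := hi.pos
  have hc0 : 0 < c := by omega
  -- the frozen condition for odd `i`
  have hF : i ≤ m ∧ (if hyp = true then 2 * (m % i) ≤ (2 * d) % c
      else ((2 * d) % c = 0 ∨ 2 * (m % i) < (2 * d) % c)) := by
    rcases h with ⟨_, h1, h2⟩ | ⟨he, _⟩
    · exact ⟨h1, h2⟩
    · exact absurd he hne
  obtain ⟨him, hF2⟩ := hF
  intro b κ hκ htype
  rw [if_neg hne] at hκ
  have htC : typeC hyp i b ↔ hyp = true := by
    unfold typeC
    rw [if_neg hne]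
  have hdm : i * (m / i) + m % i = m := Nat.div_add_mod m i
  have hl : m % i < i := Nat.mod_lt _ hi0
  -- `k = κ % c ≤ κ`
  have hk : (2 * d) % c = κ % c := by
    rw [← hκ, hc, Nat.add_mul_mod_self_left]
  have hkκ : κ % c ≤ κ := Nat.mod_le _ _
  have hκdm : c * (κ / c) + κ % c = κ := Nat.div_add_mod κ c
  have hcX : c * (κ / c) = 2 * (i * (κ / c)) := by rw [hc]; ring
  have hib : 2 * i * b = 2 * (i * b) := by ring
  by_cases hcase : m / i ≤ b
  · -- `s = m / i`, `a' = m % i`
    refine ⟨m % i, m / i, by omega, ?_, fun _ => hcase, fun he => absurd he hne⟩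
    by_cases hh : hyp = true
    · right
      rw [if_pos hh] at hF2
      exact ⟨htC.2 hh, by omega⟩
    · left
      rw [if_neg hh] at hF2
      rcases hF2 with h0 | hlt
      · -- `κ % c = 0`
        rw [hk] at h0
        by_cases hκ0 : κ = 0
        · exact absurd (htC.1 (htype hκ0)) hh
        · have hpos : 0 < κ / c := by
            rcases Nat.eq_zero_or_pos (κ / c) with hz | hz
            · rw [hz, mul_zero] at hκdm; omega
            · exact hz
          have : i * 1 ≤ i * (κ / c) := Nat.mul_le_mul_left i hpos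
          omega
      · rw [hk] at hlt
        omega
  · -- `s = b`, `a' = m - i * b`
    have hb : b + 1 ≤ m / i := by omega
    have h1 : i * (b + 1) ≤ i * (m / i) := Nat.mul_le_mul_left i hb
    have h2 : i * (b + 1) = i * b + i := by ring
    refine ⟨m - i * b, b, by omega, Or.inl (by omega), fun _ => le_refl b,
      fun he => absurd he hne⟩

end Cfsg.Agent.S5973P
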