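import Mathlib
import Cfsg.Prelude.Def_Classical
import Cfsg.Prelude.Def_GeometricClasses
import Cfsg.Agent.Helper5.S5973Defs

set_option autoImplicit false
open scoped MatrixGroups

/-!
# S5973 piece NT (helper3): a prime divisor of the number of totally singular `m`-spaces is
different from `p` and divides one of the factors `nsing hyp q (d - j)`.
-/

universe u

namespace Cfsg.Agent.S5973P

namespace NT

/-- `p ∤ nsing hyp q e` for `e ≥ 2`, `q` a positive power of `p` -/
theorem not_dvd_nsing {p : ℕ} (hp : p.Prime) (q f : ℕ) (hq : q = p ^ f) (hf : 0 < f)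
    (hyp : Bool) (e : ℕ) (he : 2 ≤ e) : ¬ p ∣ nsing hyp q e := by
  have hq0 : 0 < q := by rw [hq]; exact pow_pos hp.pos _
  have hpq : p ∣ q := by rw [hq]; exact dvd_pow_self p hf.ne'
  have hd : ∀ k : ℕ, 1 ≤ k → p ∣ q ^ k := fun k hk => dvd_pow hpq (by omega)
  have hminus : ∀ k : ℕ, 1 ≤ k → ¬ p ∣ q ^ k - 1 := by
    intro k hk h
    have h1 : 1 ≤ q ^ k := Nat.one_le_pow _ _ hq0
    have := (Nat.dvd_sub_iff_right h1 (hd k hk)).1 h
    exact hp.one_lt.ne' (Nat.dvd_one.1 this)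
  have hplus : ∀ k : ℕ, 1 ≤ k → ¬ p ∣ q ^ k + 1 := by
    intro k hk h
    have := (Nat.dvd_add_right (hd k hk)).1 h
    exact hp.one_lt.ne' (Nat.dvd_one.1 this)
  intro h
  cases hyp
  · have e1 : nsing false q e = (q ^ e + 1) * (q ^ (e - 1) - 1) := by simp [nsing]
    rw [e1, Nat.Prime.dvd_mul hp] at h
    rcases h with h | h
    · exact hplus e (by omega) h
    · exact hminus (e - 1) (by omega) h
  · have e1 : nsing true q e = (q ^ e - 1) * (q ^ (e - 1) + 1) := by simp [nsing]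
    rw [e1, Nat.Prime.dvd_mul hp] at h
    rcases h with h | h
    · exact hminus e (by omega) h
    · exact hplus (e - 1) (by omega) h

end NT

/-- NT: a prime divisor of the number of totally singular `m`-spaces -/
theorem nt_of_card_ts {p : ℕ} (hp : p.Prime) (q f : ℕ) (hq : q = p ^ f) (hf : 0 < f) (d m N : ℕ)
    (hyp : Bool) (hm : 1 ≤ m) (hmd : m + 1 ≤ d)
    (hN : N * ∏ j ∈ Finset.range m, (q ^ m - q ^ j) =
      ∏ j ∈ Finset.range m, (q ^ j * nsing hyp q (d - j)))
    (r : ℕ) (hr : r.Prime) (hrN : r ∣ N) :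
    r ≠ p ∧ ∃ j, j < m ∧ r ∣ nsing hyp q (d - j) := by
  have hq0 : 0 < q := by rw [hq]; exact pow_pos hp.pos _
  have hfac : ∀ j ∈ Finset.range m, q ^ m - q ^ j = q ^ j * (q ^ (m - j) - 1) := by
    intro j hj
    have hjm : j < m := Finset.mem_range.1 hj
    have : q ^ m = q ^ j * q ^ (m - j) := by rw [← pow_add]; congr 1; omega
    rw [this, Nat.mul_sub_one]
  rw [Finset.prod_congr rfl hfac, Finset.prod_mul_distrib, Finset.prod_mul_distrib] at hN
  have hpos : 0 < ∏ j ∈ Finset.range m, q ^ j :=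
    Finset.prod_pos (fun j _ => pow_pos hq0 j)
  have hN' : N * ∏ j ∈ Finset.range m, (q ^ (m - j) - 1) =
      ∏ j ∈ Finset.range m, nsing hyp q (d - j) := by
    apply Nat.eq_of_mul_eq_mul_left hpos
    rw [← hN]; ring
  have hrR : r ∣ ∏ j ∈ Finset.range m, nsing hyp q (d - j) := by
    rw [← hN']
    exact Dvd.dvd.mul_right hrN _
  obtain ⟨j, hj, hrj⟩ := (Prime.dvd_finsetProd_iff (Nat.prime_iff.1 hr) _).1 hrR
  have hjm : j < m := Finset.mem_range.1 hj
  refine ⟨?_, j, hjm, hrj⟩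
  rintro rfl
  exact NT.not_dvd_nsing hp q f hq hf hyp (d - j) (by omega) hrj

end Cfsg.Agent.S5973P
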