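import Mathlib
import Cfsg.Prelude.Def_GeometricClasses
import Cfsg.Prelude.Def_Classical
import Cfsg.Prelude.Def_LieClassical
import Cfsg.Agent.Helper16.S5974Defs

/-! S5974 piece A74NO (helper3): necessity of the closed form of S5974 for `i` odd. -/

set_option autoImplicit false
open scoped MatrixGroups
universe u

namespace Cfsg.Agent.S5974P

open Cfsg.Agent.S5973P

namespace ANO

/-- for odd `i`: `i ∣ 2 x → i ∣ x` -/
theorem dvd_of_dvd_two_mul {i : ℕ} (hi : Odd i) (x : ℕ) (h : i ∣ 2 * x) : i ∣ x :=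
  Nat.Coprime.dvd_of_dvd_mul_left (Nat.Coprime.symm (Nat.coprime_two_left.mpr hi)) h

/-- `Realz` for odd `i` -/
theorem realz_odd {ε : Bool} (hε : ε = true) {i c d b : ℕ} (hi : Odd i) (hb : 1 ≤ b)
    (hle : c * b ≤ 2 * d) : Realz ε i c d b := by
  refine ⟨hb, hle, fun _ => ?_⟩
  unfold typeC
  rw [if_neg (Nat.not_even_iff_odd.2 hi)]
  exact hε

end ANO

/-- A74NO -/
theorem closed74_of_crit_odd (i c d m : ℕ) (hi : Odd i) (hc : c = 2 * i) (hd : 4 ≤ d)
    (hm2 : 2 ≤ m) (hme : Even m) (hmd : m < d) (hdiv : HDiv true true i d (m / 2))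
    (h : CritE true true i c d m) : Closed74 i c d m := by
  have hi0 : 0 < i := hi.pos
  have hc0 : 0 < c := by omega
  obtain ⟨s, hs⟩ := hme
  have hs2 : m / 2 = s := by omega
  rw [hs2] at hdiv
  have hD : i ∣ d ∨ ∃ j, d - s + 1 ≤ j ∧ j < d ∧ i ∣ j := by
    unfold HDiv at hdiv
    simp only [if_true] at hdiv
    rcases hdiv with h1 | h1 | ⟨j, hj1, hj2, hj3⟩
    · left; exact h1
    · exact absurd (ANO.dvd_of_dvd_two_mul hi _ h1.1) h1.2
    · right; exact ⟨j, hj1, hj2, ANO.dvd_of_dvd_two_mul hi _ hj3⟩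
  have hle : c ≤ 2 * d := by
    rcases hD with ⟨t, ht⟩ | ⟨j, hj1, hj2, ⟨t, ht⟩⟩
    · have : 1 ≤ t := by
        rcases Nat.eq_zero_or_pos t with h0 | h0
        · rw [h0] at ht; omega
        · exact h0
      have : i ≤ i * t := Nat.le_mul_of_pos_right i this
      omega
    · have : 1 ≤ t := by
        rcases Nat.eq_zero_or_pos t with h0 | h0
        · rw [h0] at ht; omega
        · exact h0
      have : i ≤ i * t := Nat.le_mul_of_pos_right i this
      omega
  have hn1 : 1 ≤ 2 * d / c := Nat.div_pos hle hc0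
  have hdm : c * (2 * d / c) + 2 * d % c = 2 * d := Nat.div_add_mod (2 * d) c
  have hk : 2 * d % c < c := Nat.mod_lt _ hc0
  set n' := 2 * d / c with hn'
  set k := 2 * d % c with hk'
  obtain ⟨b', a', e1, e2, e3, -, -⟩ := h n' (ANO.realz_odd rfl hi hn1 (by omega))
  have ha'k : a' ≤ k := by omega
  have hmod : m % c = a' := by
    rw [← e1, Nat.add_mul_mod_self_left, Nat.mod_eq_of_lt (by omega)]
  left
  refine ⟨hi, ?_, ?_⟩
  · by_contra hlt
    push Not at hlt
    have hb0 : b' = 0 := by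
      rcases Nat.eq_zero_or_pos b' with h0 | h0
      · exact h0
      · have : c ≤ c * b' := Nat.le_mul_of_pos_right c h0
        omega
    rw [hb0, mul_zero, add_zero] at e1
    rcases hD with ⟨t, ht⟩ | ⟨j, hj1, hj2, ⟨t, ht⟩⟩
    · have : k = 0 := by
        rw [hk', ht, hc, show 2 * (i * t) = 2 * i * t by ring, Nat.mul_mod_right]
      omega
    · have hct : c * t = 2 * j := by rw [hc, ht]; ring
      have htn : t ≤ n' := by
        rw [hn', Nat.le_div_iff_mul_le hc0]
        rw [mul_comm]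
        omega
      have : c * t ≤ c * n' := Nat.mul_le_mul_left c htn
      omega
  · rw [hmod]
    exact ha'k

end Cfsg.Agent.S5974P
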