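import Mathlib
import Cfsg.Prelude.Def_GeometricClasses
import Cfsg.Prelude.Def_Classical
import Cfsg.Prelude.Def_LieClassical
import Cfsg.Agent.Helper16.S5974Defs
import Cfsg.Agent.Helper3.S5989NTCOUNTODD

/-! S5974 piece NTCOUNTE (helper3): pure number theory, from `r ∣ X`, `X * S = |O^ε_{2d}(q)|`
and `|O^{εθ}_{2(d-s)}(q)| ∣ S` to `r ∣ wkE ε θ q d s`. -/

set_option autoImplicit false
open scoped MatrixGroups
universe u

namespace Cfsg.Agent.S5974P

open Cfsg.Agent.S5989P (stabW ordO epsFac R2cond)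

namespace NTCOUNTE

theorem epsFac_mul (η : Bool) (q l : ℕ) (hq : 1 ≤ q) :
    epsFac η q l * epsFac (!η) q l = q ^ (2 * l) - 1 := by
  have h1 : 1 ≤ q ^ l := Nat.one_le_pow _ _ hq
  have h2 : q ^ (2 * l) = q ^ l * q ^ l := by rw [two_mul, pow_add]
  have key : (q ^ l - 1) * (q ^ l + 1) = q ^ (2 * l) - 1 := by
    rw [h2]
    obtain ⟨a, ha⟩ : ∃ a, q ^ l = a + 1 := ⟨q ^ l - 1, by omega⟩
    rw [ha]
    have : (a + 1) * (a + 1) - 1 = a * (a + 1 + 1) := by
      have : (a + 1) * (a + 1) = a * (a + 1 + 1) + 1 := by ring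
      omega
    rw [this]
    simp
  unfold epsFac
  cases η
  · simp only [Bool.false_eq_true, if_false, Bool.not_false, if_true]
    rw [mul_comm, key]
  · simp only [if_true, Bool.not_true, Bool.false_eq_true, if_false]
    exact key

theorem epsFac_pos (η : Bool) (q l : ℕ) (hq : 2 ≤ q) (hl : 1 ≤ l) : 0 < epsFac η q l := by
  have : 1 < q ^ l := Nat.one_lt_pow (by omega) (by omega)
  unfold epsFac
  split_ifs <;> omega

end NTCOUNTE

/-- NTCOUNTE (pure number theory) -/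
theorem nt_count_even {q r : ℕ} [Fact r.Prime] (hr2 : r ≠ 2) (hrq : ¬ r ∣ q) (hq : 2 ≤ q)
    (ε θ : Bool) (d s X S : ℕ) (hs1 : 1 ≤ s) (hsd : s + 1 ≤ d)
    (hXS : X * S = ordO ε q d) (hS : ordO (ε == θ) q (d - s) ∣ S) (hrX : r ∣ X) :
    r ∣ wkE ε θ q d s := by
  have hr : r.Prime := Fact.out
  obtain ⟨l, hl⟩ : ∃ l, d - s = l + 1 := ⟨d - s - 1, by omega⟩
  have hld : l + 1 + 1 ≤ d := by omega
  unfold wkE
  rw [hl]
  unfold ordO at hXS hS
  rw [hl] at hS
  have hl1 : l + 1 - 1 = l := by omega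
  rw [hl1] at hS
  rw [Cfsg.Agent.S5989P.NTCOUNTODD.prod_split (fun j => q ^ (2 * j) - 1) l d (by omega),
    Finset.prod_eq_prod_Ico_succ_bot (by omega : l + 1 < d)] at hXS
  set P := ∏ j ∈ Finset.range l, (q ^ (2 * (j + 1)) - 1) with hP
  set T := ∏ j ∈ Finset.Ico (l + 1 + 1) d, (q ^ (2 * j) - 1) with hT
  set η := (ε == θ) with hη
  rw [← NTCOUNTE.epsFac_mul η q (l + 1) (by omega)] at hXS
  have hPpos : 0 < P := by
    apply Finset.prod_pos
    intro j _
    have : 1 < q ^ (2 * (j + 1)) := Nat.one_lt_pow (by omega) (by omega)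
    omega
  have hEpos : 0 < epsFac η q (l + 1) := NTCOUNTE.epsFac_pos η q (l + 1) hq (by omega)
  obtain ⟨S', hS'⟩ := hS
  rw [hS'] at hXS
  have h1 : (2 * epsFac η q (l + 1) * P) * (X * q ^ ((l + 1) * l) * S') =
      (2 * epsFac η q (l + 1) * P) *
        (q ^ (d * (d - 1)) * (epsFac ε q d * epsFac (!η) q (l + 1) * T)) := by
    calc (2 * epsFac η q (l + 1) * P) * (X * q ^ ((l + 1) * l) * S')
        = X * (2 * q ^ ((l + 1) * l) * epsFac η q (l + 1) * P * S') := by ring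
      _ = 2 * q ^ (d * (d - 1)) * epsFac ε q d *
            (P * (epsFac η q (l + 1) * epsFac (!η) q (l + 1) * T)) := hXS
      _ = _ := by ring
  have h2 : X * q ^ ((l + 1) * l) * S' =
      q ^ (d * (d - 1)) * (epsFac ε q d * epsFac (!η) q (l + 1) * T) :=
    Nat.eq_of_mul_eq_mul_left (by positivity) h1
  have h3 : r ∣ q ^ (d * (d - 1)) * (epsFac ε q d * epsFac (!η) q (l + 1) * T) := by
    rw [← h2]
    exact Dvd.dvd.mul_right (Dvd.dvd.mul_right hrX _) _
  rcases hr.dvd_mul.1 h3 with h4 | h4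
  · exact absurd (hr.dvd_of_dvd_pow h4) hrq
  · exact h4

end Cfsg.Agent.S5974P
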