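import Mathlib
import Cfsg.Agent.Helper21.S5949IRR

set_option autoImplicit false

/-! S5982 piece NONSQ: an endomorphism of determinant one with `T ^ 2 = z` forces `z` to be a
square when `v_2(n) ≤ v_2(q - 1)`. -/

namespace Cfsg.Agent.S5982P

open Polynomial

namespace NONSQ

/-- odd powers detect squares -/
theorem isSquare_of_isSquare_pow_odd {F : Type*} [Field F] {w : F} (hw : w ≠ 0) {m : ℕ}
    (hm : Odd m) (h : IsSquare (w ^ m)) : IsSquare w := by
  obtain ⟨j, rfl⟩ := hm
  obtain ⟨s, hs⟩ := h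
  refine ⟨s * (w ^ j)⁻¹, ?_⟩
  have hwj : w ^ j ≠ 0 := pow_ne_zero _ hw
  field_simp
  rw [pow_two s, ← hs]
  ring

end NONSQ

/-- NONSQ: an element of determinant one whose square is `z` forces `z` to be a square -/
theorem sq_of_sq_eq {F : Type*} [Field F] [Fintype F] {q₀ : ℕ} (hF : Fintype.card F = q₀ ^ 2)
    (hodd : Odd q₀) (n : ℕ) (hn : 1 ≤ n)
    (hv : padicValNat 2 n ≤ padicValNat 2 (Fintype.card F - 1))
    (T : Module.End F (Fin n → F)) (z : F) (hT : T ^ 2 = z • (1 : Module.End F (Fin n → F)))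
    (hdet : LinearMap.det T = 1) : ∃ d : F, d ^ 2 = z := by
  classical
  by_contra hns
  push Not at hns
  have hz0 : z ≠ 0 := fun h => hns 0 (by rw [h]; ring)
  -- the cardinality is `1 mod 4`
  obtain ⟨k₀, hk₀⟩ := hodd
  have hcard4 : Fintype.card F % 4 = 1 := by
    rw [hF, hk₀]
    have : (2 * k₀ + 1) ^ 2 = 4 * (k₀ * k₀ + k₀) + 1 := by ring
    rw [this]
    omega
  have hchar : ringChar F ≠ 2 := by
    intro h
    have := FiniteField.even_card_iff_char_two.mp h
    omega
  -- `X ^ 2 - z` is irreducible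
  set g : F[X] := X ^ 2 - C z with hg
  have hdeg : g.natDegree = 2 := natDegree_X_pow_sub_C
  have hmon : g.Monic := monic_X_pow_sub_C z (by norm_num)
  have hirr : Irreducible g := by
    apply irreducible_of_degree_le_three_of_not_isRoot
    · rw [hdeg]; decide
    · intro x hx
      rw [IsRoot.def, hg, eval_sub, eval_pow, eval_X, eval_C, sub_eq_zero] at hx
      exact hns x hx
  have hgT : aeval T g = 0 := by
    rw [hg, map_sub, map_pow, aeval_X, aeval_C, hT, Algebra.algebraMap_eq_smul_one, sub_self]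
  obtain ⟨hdvd, -, -, hdetT⟩ := Cfsg.Agent.S5949P.irr_module T g hirr hmon hgT
  rw [hdeg, Module.finrank_fintype_fun_eq_card, Fintype.card_fin] at hdvd hdetT
  have hc0 : g.coeff 0 = -z := by
    rw [hg, coeff_sub, coeff_X_pow, coeff_C_zero]
    norm_num
  rw [hc0, hdet] at hdetT
  have hw : (-z) ^ (n / 2) = 1 := by
    rw [hdetT]
    congr 1
    ring
  have hw0 : (-z) ≠ 0 := neg_ne_zero.mpr hz0
  -- `n = 2 ^ a * m`, `m` odd, `a ≥ 1`
  obtain ⟨a, m, hmodd, hnam⟩ := Nat.exists_eq_two_pow_mul_odd (n := n) (by omega)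
  have hm0 : m ≠ 0 := by
    rintro rfl
    exact (Nat.not_odd_iff_even.mpr (by decide : Even 0)) hmodd
  have hva : padicValNat 2 n = a := by
    rw [hnam, padicValNat.mul (pow_ne_zero _ (by norm_num)) hm0, padicValNat.prime_pow,
      padicValNat.eq_zero_of_not_dvd (by rw [Nat.two_dvd_ne_zero]; exact Nat.odd_iff.mp hmodd),
      add_zero]
  have ha1 : 1 ≤ a := by
    by_contra h
    have h0 : a = 0 := by omega
    rw [h0, pow_zero, one_mul] at hnam
    rw [hnam] at hdvd
    exact (Nat.not_even_iff_odd.mpr hmodd) (even_iff_two_dvd.mpr hdvd)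
  obtain ⟨a', rfl⟩ : ∃ a', a = a' + 1 := ⟨a - 1, by omega⟩
  have hn2 : n / 2 = 2 ^ a' * m := by
    rw [hnam, pow_succ]
    have : 2 ^ a' * 2 * m = 2 * (2 ^ a' * m) := by ring
    rw [this, Nat.mul_div_cancel_left _ (by norm_num : 0 < 2)]
  -- `2 ^ (a' + 1) ∣ q - 1`
  have h2dvd : 2 ^ (a' + 1) ∣ Fintype.card F - 1 := by
    rw [hva] at hv
    exact dvd_trans (pow_dvd_pow 2 hv) pow_padicValNat_dvd
  obtain ⟨t, ht⟩ := h2dvd
  have hhalf : Fintype.card F / 2 = 2 ^ a' * t := by
    have h1 : Fintype.card F = 2 * (2 ^ a' * t) + 1 := by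
      have h2 : 1 ≤ Fintype.card F := Fintype.card_pos
      have h3 : 2 ^ (a' + 1) * t = 2 * (2 ^ a' * t) := by rw [pow_succ]; ring
      omega
    rw [h1]
    omega
  -- `(-z)^m` is a square
  have hsqm : IsSquare ((-z) ^ m) := by
    rw [FiniteField.isSquare_iff hchar (pow_ne_zero _ hw0), hhalf, ← pow_mul]
    have : m * (2 ^ a' * t) = (2 ^ a' * m) * t := by ring
    rw [this, pow_mul, ← hn2, hw, one_pow]
  have hsqw : IsSquare (-z) := NONSQ.isSquare_of_isSquare_pow_odd hw0 hmodd hsqm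
  have hsq1 : IsSquare (-1 : F) := by
    rw [FiniteField.isSquare_neg_one_iff, hcard4]
    norm_num
  have hsqz : IsSquare z := by
    have := hsq1.mul hsqw
    rwa [neg_one_mul, neg_neg] at this
  obtain ⟨d, hd⟩ := hsqz
  exact hns d (by rw [hd]; ring)

end Cfsg.Agent.S5982P
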