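import Mathlib
import Cfsg.Agent.Helper3.SecRank2

set_option autoImplicit false
set_option linter.style.haveILetI false

/-!
Families of nonabelian subgroups with centre of order two in 2-groups of sectional rank ≤ 4.
-/

namespace Cfsg.Agent.Helper3.SecRank


open Cfsg.Agent.Helper14 (cj mem_map_cj)

section Fam

variable {S : Type*} [Group S] [Finite S]

/-- `(A, a)` is a member of the family attached to `S₀`: `A` is nonabelian with centre `{1,a}`,
contained in and normalized by `S₀`, and `S₀` centralizes `a`. -/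
structure Mem (S₀ A : Subgroup S) (a : S) : Prop where
  cz : CZ A a
  le : A ≤ S₀
  norm : ∀ s ∈ S₀, ∀ x ∈ A, s * x * s⁻¹ ∈ A
  cent : ∀ s ∈ S₀, s * a = a * s

omit [Finite S] in
theorem Mem.conj {S₀ A : Subgroup S} {a : S} (h : Mem S₀ A a) {t : S}
    (ht : t ∈ Subgroup.normalizer (S₀ : Set S)) : Mem S₀ (A.map (cj t)) (t * a * t⁻¹) := by
  have ht' : ∀ s, s ∈ S₀ ↔ t * s * t⁻¹ ∈ S₀ := Subgroup.mem_normalizer_iff.mp ht
  have htinv : ∀ s ∈ S₀, t⁻¹ * s * t ∈ S₀ := by
    intro s hs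
    rw [ht']
    have e : t * (t⁻¹ * s * t) * t⁻¹ = s := by group
    rw [e]; exact hs
  refine ⟨h.cz.conj t, ?_, ?_, ?_⟩
  · rintro _ ⟨x, hx, rfl⟩
    exact (ht' x).mp (h.le hx)
  · rintro s hs _ ⟨x, hx, rfl⟩
    refine ⟨(t⁻¹ * s * t) * x * (t⁻¹ * s * t)⁻¹, h.norm _ (htinv s hs) x hx, ?_⟩
    change t * ((t⁻¹ * s * t) * x * (t⁻¹ * s * t)⁻¹) * t⁻¹ = s * (t * x * t⁻¹) * s⁻¹
    group
  · intro s hs
    have := h.cent _ (htinv s hs)
    calc s * (t * a * t⁻¹) = t * ((t⁻¹ * s * t) * a) * t⁻¹ := by group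
      _ = t * (a * (t⁻¹ * s * t)) * t⁻¹ := by rw [this]
      _ = t * a * t⁻¹ * s := by group

omit [Finite S] in
theorem Mem.pair {S₀ A B : Subgroup S} {a b : S} (hA : Mem S₀ A a) (hB : Mem S₀ B b)
    (hne : a ≠ b) : PairHyp A B a b :=
  ⟨hA.cz, hB.cz, hne, fun x hx y hy => hB.norm x (hA.le hx) y hy,
    fun y hy x hx => hA.norm y (hB.le hy) x hx, fun y hy => hA.cent y (hB.le hy)⟩

/-- Key inequality: sections of a member have rank at most 2 (card form). -/
theorem Mem.card_le {S₀ A : Subgroup S} {a : S} (h2 : IsPGroup 2 S)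
    (hr : Cfsg.SectionalPRankLE 2 4 S) (hA : Mem S₀ A a) {t : S}
    (ht : t ∈ Subgroup.normalizer (S₀ : Set S)) (hta : t * a * t⁻¹ ≠ a)
    (H N : Subgroup S) (hHA : H ≤ A) (hNH : N ≤ H)
    (hnorm : ∀ h ∈ H, ∀ n ∈ N, h * n * h⁻¹ ∈ N) (hsq : ∀ x ∈ H, x ^ 2 ∈ N) :
    Nat.card H ≤ 2 ^ 2 * Nat.card N := by
  have hB := hA.conj ht
  have hpair := hA.pair hB (Ne.symm hta)
  have hcomm := hpair.commute h2
  have hinf := hpair.inf_eq_bot h2
  set H2 : Subgroup S := H.map (cj t) with hH2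
  set N2 : Subgroup S := N.map (cj t) with hN2
  have hH2B : H2 ≤ A.map (cj t) := Subgroup.map_mono hHA
  have hN2H2 : N2 ≤ H2 := Subgroup.map_mono hNH
  have hcH2 : Nat.card H2 = Nat.card H :=
    Subgroup.card_map_of_injective (Cfsg.Agent.Helper14.cj_injective t)
  have hcN2 : Nat.card N2 = Nat.card N :=
    Subgroup.card_map_of_injective (Cfsg.Agent.Helper14.cj_injective t)
  have hc12 : ∀ x ∈ H, ∀ y ∈ H2, x * y = y * x := fun x hx y hy =>
    hcomm x (hHA hx) y (hH2B hy)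
  have hmemH : ∀ {x : S}, x ∈ H ⊔ H2 ↔ ∃ a ∈ H, ∃ b ∈ H2, a * b = x := by
    apply mem_sup_of_normalizes
    intro x hx y hy
    rw [hc12 x hx y hy]
    simpa using hy
  -- big N normalized by big H
  have hnorm2 : ∀ h ∈ H2, ∀ n ∈ N2, h * n * h⁻¹ ∈ N2 := by
    rintro _ ⟨h, hh, rfl⟩ _ ⟨n, hn, rfl⟩
    refine ⟨h * n * h⁻¹, hnorm h hh n hn, ?_⟩
    change t * (h * n * h⁻¹) * t⁻¹ = t * h * t⁻¹ * (t * n * t⁻¹) * (t * h * t⁻¹)⁻¹
    group
  have hbig_norm : ∀ g ∈ H ⊔ H2, ∀ n ∈ N ⊔ N2, g * n * g⁻¹ ∈ N ⊔ N2 := by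
    intro g hg n hn
    obtain ⟨x, hx, y, hy, rfl⟩ := hmemH.mp hg
    have hle : N ⊔ N2 ≤ (N ⊔ N2).comap (cj (x * y)) := by
      apply sup_le
      · intro n hn
        apply Subgroup.mem_sup_left
        change x * y * n * (x * y)⁻¹ ∈ N
        have h1 := hc12 n (hNH hn) y hy
        have e : x * y * n * (x * y)⁻¹ = x * n * x⁻¹ := by
          calc x * y * n * (x * y)⁻¹ = x * (y * n) * y⁻¹ * x⁻¹ := by group
            _ = x * (n * y) * y⁻¹ * x⁻¹ := by rw [h1]
            _ = x * n * x⁻¹ := by group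
        rw [e]
        exact hnorm x hx n hn
      · intro n hn
        apply Subgroup.mem_sup_right
        change x * y * n * (x * y)⁻¹ ∈ N2
        have hyn : y * n * y⁻¹ ∈ N2 := hnorm2 y hy n hn
        have h1 := hc12 x hx (y * n * y⁻¹) (hN2H2 hyn)
        have e : x * y * n * (x * y)⁻¹ = y * n * y⁻¹ := by
          calc x * y * n * (x * y)⁻¹ = x * (y * n * y⁻¹) * x⁻¹ := by group
            _ = (y * n * y⁻¹) * x * x⁻¹ := by rw [h1]
            _ = y * n * y⁻¹ := by group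
        rw [e]
        exact hyn
    exact hle hn
  have hbig_sq : ∀ g ∈ H ⊔ H2, g ^ 2 ∈ N ⊔ N2 := by
    intro g hg
    obtain ⟨x, hx, y, hy, rfl⟩ := hmemH.mp hg
    have h1 := hc12 x hx y hy
    have e : (x * y) ^ 2 = x ^ 2 * y ^ 2 := by
      calc (x * y) ^ 2 = x * (y * x) * y := by rw [pow_two]; group
        _ = x * (x * y) * y := by rw [h1]
        _ = x ^ 2 * y ^ 2 := by rw [pow_two, pow_two]; group
    rw [e]
    refine Subgroup.mul_mem _ (Subgroup.mem_sup_left (hsq x hx)) (Subgroup.mem_sup_right ?_)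
    obtain ⟨h, hh, rfl⟩ := hy
    exact ⟨h ^ 2, hsq h hh, map_pow (cj t) h 2⟩
  have hle := card_le_of_sq hr (H ⊔ H2) (N ⊔ N2) (sup_le_sup hNH hN2H2) hbig_norm hbig_sq
  -- cards
  have hcH : Nat.card (H ⊔ H2 : Subgroup S) = Nat.card H * Nat.card H2 := by
    have hB' : H2 ≤ Subgroup.normalizer ((H : Subgroup S) : Set S) := by
      apply Cfsg.Agent.Helper14.le_normalizer_of_map_cj_le
      intro g hg
      rintro _ ⟨x, hx, rfl⟩
      change g * x * g⁻¹ ∈ H
      rw [← hc12 x hx g hg]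
      simpa using hx
    have h1 := Cfsg.Agent.Helper17.card_sup_mul_card_inf H H2 hB'
    have h0 : H ⊓ H2 = ⊥ := by
      rw [eq_bot_iff, ← hinf]
      exact inf_le_inf hHA hH2B
    rw [h0, Subgroup.card_bot, mul_one] at h1
    exact h1
  have hcN : Nat.card (N ⊔ N2 : Subgroup S) ≤ Nat.card N * Nat.card N2 := by
    have hB' : N2 ≤ Subgroup.normalizer ((N : Subgroup S) : Set S) := by
      apply Cfsg.Agent.Helper14.le_normalizer_of_map_cj_le
      intro g hg
      rintro _ ⟨x, hx, rfl⟩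
      change g * x * g⁻¹ ∈ N
      rw [← hc12 x (hNH hx) g (hN2H2 hg)]
      simpa using hx
    have h1 := Cfsg.Agent.Helper17.card_sup_mul_card_inf N N2 hB'
    rw [← h1]
    exact Nat.le_mul_of_pos_right _ Nat.card_pos
  rw [hcH, hcH2] at hle
  rw [hcN2] at hcN
  by_contra hlt
  push Not at hlt
  have hNpos : 0 < Nat.card N := Nat.card_pos
  nlinarith

end Fam



section SR

variable {S : Type*} [Group S] [Finite S]

/-- Sectional rank of a subgroup from the card form. -/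
theorem sectionalPRankLE_of_card {k : ℕ} (A : Subgroup S)
    (hK : ∀ H N : Subgroup S, H ≤ A → N ≤ H → (∀ h ∈ H, ∀ n ∈ N, h * n * h⁻¹ ∈ N) →
      (∀ x ∈ H, x ^ 2 ∈ N) → Nat.card H ≤ 2 ^ k * Nat.card N) :
    Cfsg.SectionalPRankLE 2 k ↥A := by
  intro H N _ B _ hBe
  set π : ↥H →* ↥H ⧸ N := QuotientGroup.mk' N with hπ
  set H' : Subgroup ↥H := B.comap π with hH'
  set f : ↥H →* S := A.subtype.comp H.subtype with hf
  have hfinj : Function.Injective f := by
    intro x y hxy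
    apply Subtype.ext
    apply Subtype.ext
    exact hxy
  have hNH' : N ≤ H' := by
    intro n hn
    change π n ∈ B
    rw [hπ, QuotientGroup.mk'_apply, (QuotientGroup.eq_one_iff n).mpr hn]
    exact B.one_mem
  have h1 := hK (H'.map f) (N.map f)
    (by rintro _ ⟨x, -, rfl⟩; exact (x : ↥A).2)
    (Subgroup.map_mono hNH')
    (by
      rintro _ ⟨h, -, rfl⟩ _ ⟨n, hn, rfl⟩
      refine ⟨h * n * h⁻¹, ‹N.Normal›.conj_mem n hn h, ?_⟩
      simp [map_mul])
    (by
      rintro _ ⟨x, hx, rfl⟩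
      refine ⟨x ^ 2, ?_, map_pow f x 2⟩
      have hx' : π x ∈ B := hx
      have := hBe _ hx'
      rw [← map_pow, hπ, QuotientGroup.mk'_apply, QuotientGroup.eq_one_iff] at this
      exact this)
  rw [Subgroup.card_map_of_injective hfinj, Subgroup.card_map_of_injective hfinj] at h1
  -- card H' = card B * card N
  have hsurj : Function.Surjective π := QuotientGroup.mk'_surjective N
  have hidx : H'.index = B.index := Subgroup.index_comap_of_surjective B hsurj
  have e1 : Nat.card H' * H'.index = Nat.card ↥H := Subgroup.card_mul_index H'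
  have e2 : Nat.card B * B.index = Nat.card (↥H ⧸ N) := Subgroup.card_mul_index B
  have e3 : Nat.card ↥H = Nat.card (↥H ⧸ N) * Nat.card N :=
    Subgroup.card_eq_card_quotient_mul_card_subgroup N
  have hpos : 0 < B.index := Nat.pos_of_ne_zero (Subgroup.index_ne_zero_of_finite)
  have e4 : Nat.card H' = Nat.card B * Nat.card N := by
    have : Nat.card H' * B.index = Nat.card B * Nat.card N * B.index := by
      rw [← hidx, e1, e3, ← e2, hidx]; ring
    exact Nat.eq_of_mul_eq_mul_right hpos this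
  rw [e4] at h1
  have hNpos : 0 < Nat.card N := Nat.card_pos
  exact Nat.le_of_mul_le_mul_right h1 hNpos

end SR


end Cfsg.Agent.Helper3.SecRank
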