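import Mathlib
import Cfsg.Agent.Helper3.SecRank3

set_option autoImplicit false
set_option linter.style.haveILetI false

/-!
Main theorem behind S4401: centralizer of the centre of a nonabelian subgroup with centre of order two
in a 2-group of sectional rank ≤ 4.
-/

namespace Cfsg.Agent.Helper3.SecRank


open Cfsg.Agent.Helper14 (cj mem_map_cj)
open scoped commutatorElement

section Main

variable {S : Type*} [Group S] [Finite S]

omit [Finite S] in
theorem conj_inv_mem_of_normalizer {T : Subgroup S} {u s : S}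
    (hu : u ∈ Subgroup.normalizer (T : Set S)) (hs : s ∈ T) : u⁻¹ * s * u ∈ T := by
  refine (Subgroup.mem_normalizer_iff.mp hu (u⁻¹ * s * u)).mpr ?_
  have e : u * (u⁻¹ * s * u) * u⁻¹ = s := by group
  rw [e]; exact hs

omit [Finite S] in
/-- conjugating a `T`-central element by an element normalizing `T` keeps it `T`-central -/
theorem central_conj {T : Subgroup S} {u x : S} (hu : u ∈ Subgroup.normalizer (T : Set S))
    (hc : ∀ s ∈ T, s * x = x * s) : ∀ s ∈ T, s * (u * x * u⁻¹) = (u * x * u⁻¹) * s := by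
  intro s hs
  have h1 := hc _ (conj_inv_mem_of_normalizer hu hs)
  calc s * (u * x * u⁻¹) = u * ((u⁻¹ * s * u) * x) * u⁻¹ := by group
    _ = u * (x * (u⁻¹ * s * u)) * u⁻¹ := by rw [h1]
    _ = (u * x * u⁻¹) * s := by group

theorem main (h2 : IsPGroup 2 S) (hr : Cfsg.SectionalPRankLE 2 4 S) {S₀ P : Subgroup S} {z : S}
    (hM : Mem S₀ P z) (hS₀ : ∀ s, s ∈ S₀ ↔ s * z = z * s) (hne : S₀ ≠ ⊤) :
    Cfsg.SectionalPRankLE 2 2 ↥P ∧ S₀.index = 2 := by
  haveI : Fact (Nat.Prime 2) := ⟨Nat.prime_two⟩
  haveI hnil : Group.IsNilpotent S := h2.isNilpotent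
  have hNC : NormalizerCondition S := Group.normalizerCondition_of_isNilpotent
  set T : Subgroup S := Subgroup.normalizer (S₀ : Set S) with hT
  have hlt : S₀ < T := hNC S₀ (lt_top_iff_ne_top.mpr hne)
  obtain ⟨t, htT, htS₀⟩ := SetLike.exists_of_lt hlt
  have hS₀T : S₀ ≤ T := Subgroup.le_normalizer
  have htz : t * z * t⁻¹ ≠ z := by
    intro h
    apply htS₀
    rw [hS₀]
    calc t * z = (t * z * t⁻¹) * t := by group
      _ = z * t := by rw [h]
  have hz2 : z ^ 2 = 1 := hM.cz.sq_eq_one
  have hzinv : z⁻¹ = z := by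
    rw [inv_eq_iff_mul_eq_one, ← pow_two]; exact hz2
  -- rank
  have hrank : Cfsg.SectionalPRankLE 2 2 ↥P :=
    sectionalPRankLE_of_card P (fun H N hHA hNH hn hs =>
      hM.card_le h2 hr htT htz H N hHA hNH hn hs)
  refine ⟨hrank, ?_⟩
  -- 5a
  have h5a : ∀ t1 ∈ T, ∀ t2 ∈ T, t1 ∉ S₀ → t2 ∉ S₀ → t1⁻¹ * t2 ∈ S₀ := by
    intro t1 ht1 t2 ht2 h1 h2' 
    by_contra h3
    have M1 := hM.conj ht1
    have M2 := hM.conj ht2
    have ne01 : z ≠ t1 * z * t1⁻¹ := by
      intro h
      apply h1
      rw [hS₀]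
      calc t1 * z = (t1 * z * t1⁻¹) * t1 := by group
        _ = z * t1 := by rw [← h]
    have ne02 : z ≠ t2 * z * t2⁻¹ := by
      intro h
      apply h2'
      rw [hS₀]
      calc t2 * z = (t2 * z * t2⁻¹) * t2 := by group
        _ = z * t2 := by rw [← h]
    have ne12 : t1 * z * t1⁻¹ ≠ t2 * z * t2⁻¹ := by
      intro h
      apply h3
      rw [hS₀]
      calc t1⁻¹ * t2 * z = t1⁻¹ * (t2 * z * t2⁻¹) * t2 := by group
        _ = t1⁻¹ * (t1 * z * t1⁻¹) * t2 := by rw [h]
        _ = z * (t1⁻¹ * t2) := by group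
    have p01 := hM.pair M1 ne01
    have p02 := hM.pair M2 ne02
    have p12 := M1.pair M2 ne12
    obtain ⟨c, hc, c', hc', hcc'⟩ := M2.cz.nonab
    have hc'mem : c' ∈ P ⊔ P.map (cj t1) := p01.mem_sup_of_centralizes h2 hr
      (fun a ha => p02.commute h2 a ha c' hc') (fun b hb => p12.commute h2 b hb c' hc')
    obtain ⟨a, ha, b, hb, rfl⟩ := (mem_sup_of_normalizes p01.nPQ).mp hc'mem
    apply hcc'
    have e1 := p02.commute h2 a ha c hc
    have e2 := p12.commute h2 b hb c hc
    calc c * (a * b) = (c * a) * b := by group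
      _ = (a * c) * b := by rw [e1]
      _ = a * (c * b) := by group
      _ = a * (b * c) := by rw [e2]
      _ = a * b * c := by group
  -- 5b
  have hTtop : T = ⊤ := by
    by_contra hTne
    have hltT : T < Subgroup.normalizer (T : Set S) := hNC T (lt_top_iff_ne_top.mpr hTne)
    obtain ⟨u, huN, huT⟩ := SetLike.exists_of_lt hltT
    have huinvN : u⁻¹ ∈ Subgroup.normalizer (T : Set S) := Subgroup.inv_mem _ huN
    have M2 := hM.conj htT
    set z2 : S := t * z * t⁻¹ with hz2def
    set z3 : S := u * z * u⁻¹ with hz3def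
    have hPT : P ≤ T := hM.le.trans hS₀T
    -- (i)
    have hcomm_T : ∀ a ∈ T, ∀ b ∈ T, a * b * a⁻¹ * b⁻¹ ∈ S₀ := by
      intro a ha b hb
      by_cases haS : a ∈ S₀
      · have h1 : b * a⁻¹ * b⁻¹ ∈ S₀ :=
          (Subgroup.mem_normalizer_iff.mp hb a⁻¹).mp (S₀.inv_mem haS)
        have e : a * b * a⁻¹ * b⁻¹ = a * (b * a⁻¹ * b⁻¹) := by group
        rw [e]; exact S₀.mul_mem haS h1
      by_cases hbS : b ∈ S₀
      · have h1 : a * b * a⁻¹ ∈ S₀ := (Subgroup.mem_normalizer_iff.mp ha b).mp hbS
        exact S₀.mul_mem h1 (S₀.inv_mem hbS)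
      have h1 : a⁻¹⁻¹ * b ∈ S₀ := h5a a⁻¹ (T.inv_mem ha) b hb
        (fun h => haS (by simpa using S₀.inv_mem h)) hbS
      have h2' : a⁻¹ * b⁻¹ ∈ S₀ := h5a a ha b⁻¹ (T.inv_mem hb) haS
        (fun h => hbS (by simpa using S₀.inv_mem h))
      rw [inv_inv] at h1
      have e : a * b * a⁻¹ * b⁻¹ = (a * b) * (a⁻¹ * b⁻¹) := by group
      rw [e]; exact S₀.mul_mem h1 h2'
    -- (ii)
    have CZ3 : CZ (P.map (cj u)) z3 := hM.cz.conj u
    have hP3T : P.map (cj u) ≤ T := by
      rintro _ ⟨x, hx, rfl⟩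
      exact (Subgroup.mem_normalizer_iff.mp huN x).mp (hPT hx)
    have hz3S₀ : z3 ∈ S₀ := by
      have hle : ⁅P.map (cj u), P.map (cj u)⁆ ≤ S₀ := by
        rw [Subgroup.commutator_le]
        intro a ha b hb
        rw [commutatorElement_def]
        exact hcomm_T a (hP3T ha) b (hP3T hb)
      exact hle (CZ3.mem_commutator h2)
    have hz3z : z3 * z = z * z3 := (hS₀ z3).mp hz3S₀
    have hz3inv : z3⁻¹ = z3 := by
      rw [inv_eq_iff_mul_eq_one, ← pow_two]; exact CZ3.sq_eq_one
    -- (iii)
    have hact : ∀ a ∈ T, a * z * a⁻¹ = z ∨ a * z * a⁻¹ = z2 := by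
      intro a ha
      by_cases haS : a ∈ S₀
      · left
        rw [(hS₀ a).mp haS]; group
      · right
        have h1 := (hS₀ _).mp (h5a a ha t htT haS htS₀)
        calc a * z * a⁻¹ = a * (z * (a⁻¹ * t)) * t⁻¹ := by group
          _ = a * ((a⁻¹ * t) * z) * t⁻¹ := by rw [h1]
          _ = z2 := by rw [hz2def]; group
    set z4 : S := u * z2 * u⁻¹ with hz4def
    have hact3 : ∀ a ∈ T, a * z3 * a⁻¹ = z3 ∨ a * z3 * a⁻¹ = z4 := by
      intro a ha
      have ha' := conj_inv_mem_of_normalizer huN ha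
      have e : a * z3 * a⁻¹ = u * ((u⁻¹ * a * u) * z * (u⁻¹ * a * u)⁻¹) * u⁻¹ := by
        rw [hz3def]; group
      rcases hact _ ha' with h | h
      · left; rw [e, h]
      · right; rw [e, h]
    -- (iv)
    have hz2S₀ : z2 ∈ S₀ := M2.le M2.cz.mem
    have hz2z : z2 * z = z * z2 := (hS₀ z2).mp hz2S₀
    have hwT : ∀ s ∈ T, s * (z * z2) = (z * z2) * s := by
      intro s hs
      by_cases hsS : s ∈ S₀
      · have e1 := (hS₀ s).mp hsS
        have e2 := M2.cent s hsS
        calc s * (z * z2) = (s * z) * z2 := by group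
          _ = (z * s) * z2 := by rw [e1]
          _ = z * (s * z2) := by group
          _ = z * (z2 * s) := by rw [e2]
          _ = z * z2 * s := by group
      · have e1 : s * z * s⁻¹ = z2 := by
          rcases hact s hs with h | h
          · exfalso; apply hsS; rw [hS₀]
            calc s * z = (s * z * s⁻¹) * s := by group
              _ = z * s := by rw [h]
          · exact h
        have hst : s * t ∈ S₀ := by
          have := h5a s⁻¹ (T.inv_mem hs) t htT (fun h => hsS (by simpa using S₀.inv_mem h)) htS₀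
          rwa [inv_inv] at this
        have e2 : s * z2 * s⁻¹ = z := by
          have h1 := (hS₀ _).mp hst
          calc s * z2 * s⁻¹ = (s * t * z) * (s * t)⁻¹ := by rw [hz2def]; group
            _ = (z * (s * t)) * (s * t)⁻¹ := by rw [h1]
            _ = z := by group
        calc s * (z * z2) = (s * z * s⁻¹) * (s * z2 * s⁻¹) * s := by group
          _ = z2 * z * s := by rw [e1, e2]
          _ = z * z2 * s := by rw [hz2z]
    have hw' : u * (z * z2) * u⁻¹ = z3 * z4 := by
      rw [hz3def, hz4def]; group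
    have hw'T : ∀ s ∈ T, s * (z3 * z4) = (z3 * z4) * s := by
      rw [← hw']
      exact central_conj huN hwT
    have hz4z3 : z4 * z3 = z3 * z4 := by
      rw [hz3def, hz4def]
      calc u * z2 * u⁻¹ * (u * z * u⁻¹) = u * (z2 * z) * u⁻¹ := by group
        _ = u * (z * z2) * u⁻¹ := by rw [hz2z]
        _ = u * z * u⁻¹ * (u * z2 * u⁻¹) := by group
    -- (v)
    have key : ∀ (A : Subgroup S) (a : S), Mem S₀ A a → (¬ ∀ s ∈ T, s * a = a * s) →
        ∀ x ∈ A, x * z3 = z3 * x := by
      intro A a hA hnc x hx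
      rcases hact3 x (hS₀T (hA.le hx)) with h | h
      · calc x * z3 = (x * z3 * x⁻¹) * x := by group
          _ = z3 * x := by rw [h]
      · exfalso
        have hg : x * (z3 * x⁻¹ * z3⁻¹) ∈ A :=
          A.mul_mem hx (hA.norm z3 hz3S₀ x⁻¹ (A.inv_mem hx))
        have e : x * (z3 * x⁻¹ * z3⁻¹) = z3 * z4 := by
          calc x * (z3 * x⁻¹ * z3⁻¹) = (x * z3 * x⁻¹) * z3⁻¹ := by group
            _ = z4 * z3 := by rw [h, hz3inv]
            _ = z3 * z4 := hz4z3
        rw [e] at hg
        rcases hA.cz.cen _ hg (fun y hy => hw'T y (hS₀T (hA.le hy))) with h1 | h1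
        · -- w' = 1
          rw [← hw'] at h1
          have h3 : z * z2 = 1 := by
            have : z * z2 = u⁻¹ * (u * (z * z2) * u⁻¹) * u := by group
            rw [this, h1]; group
          apply htz
          have : z2 = z⁻¹ := by
            rw [eq_inv_iff_mul_eq_one, hz2z]; exact h3
          rw [this, hzinv]
        · apply hnc
          rw [← h1]
          exact hw'T
    have hzT : ¬ ∀ s ∈ T, s * z = z * s := by
      intro h
      exact htS₀ ((hS₀ t).mpr (h t htT))
    have hz2T : ¬ ∀ s ∈ T, s * z2 = z2 * s := by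
      intro h
      apply htz
      have h1 := h t htT
      rw [hz2def] at h1
      have : t * z * t⁻¹ = t⁻¹ * (t * (t * z * t⁻¹)) := by group
      rw [hz2def, this, h1]; group
    have k1 := key P z hM hzT
    have k2 := key _ z2 M2 hz2T
    -- (vi)
    have p := hM.pair M2 (Ne.symm htz)
    have hmem := p.mem_sup_of_centralizes h2 hr k1 k2
    obtain ⟨a, ha, b, hb, hab⟩ := (mem_sup_of_normalizes p.nPQ).mp hmem
    have hcomm := p.commute h2
    have hac : ∀ x ∈ P, x * a = a * x := by
      intro x hx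
      have h1 := k1 x hx
      rw [← hab] at h1
      have h2' := hcomm x hx b hb
      have : x * a * b = a * x * b := by
        calc x * a * b = x * (a * b) := by group
          _ = a * b * x := h1
          _ = a * (b * x) := by group
          _ = a * (x * b) := by rw [h2']
          _ = a * x * b := by group
      exact mul_right_cancel this
    have hbc : ∀ y ∈ P.map (cj t), y * b = b * y := by
      intro y hy
      have h1 := k2 y hy
      rw [← hab] at h1
      have h2' := hcomm a ha y hy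
      have : a * (y * b) = a * (b * y) := by
        calc a * (y * b) = (a * y) * b := by group
          _ = (y * a) * b := by rw [h2']
          _ = y * (a * b) := by group
          _ = a * b * y := h1
          _ = a * (b * y) := by group
      exact mul_left_cancel this
    have huS₀ : u ∉ S₀ := fun h => huT (hS₀T h)
    rcases hM.cz.cen a ha hac with ha1 | ha1 <;> rcases M2.cz.cen b hb hbc with hb1 | hb1
    · -- z3 = 1
      apply CZ3.ne_one
      rw [← hab, ha1, hb1, one_mul]
    · -- z3 = z2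
      rw [ha1, hb1, one_mul] at hab
      apply huT
      have h1 : t⁻¹ * u ∈ S₀ := by
        rw [hS₀]
        calc t⁻¹ * u * z = t⁻¹ * (u * z * u⁻¹) * u := by group
          _ = t⁻¹ * (t * z * t⁻¹) * u := by rw [← hz3def, ← hab]
          _ = z * (t⁻¹ * u) := by group
      have : u = t * (t⁻¹ * u) := by group
      rw [this]
      exact T.mul_mem htT (hS₀T h1)
    · -- z3 = z
      rw [ha1, hb1, mul_one] at hab
      apply huS₀
      rw [hS₀]
      calc u * z = (u * z * u⁻¹) * u := by group
        _ = z * u := by rw [← hz3def, ← hab]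
    · -- z3 = z * z2
      rw [ha1, hb1] at hab
      apply hzT
      have h1 : ∀ s ∈ T, s * z3 = z3 * s := by rw [← hab]; exact hwT
      have h3 := central_conj huinvN h1
      have e : u⁻¹ * z3 * u⁻¹⁻¹ = z := by rw [hz3def]; group
      rw [e] at h3
      exact h3
  -- index
  rw [Subgroup.index_eq_two_iff]
  refine ⟨t, fun b => ?_⟩
  have hbT : b ∈ T := by rw [hTtop]; exact Subgroup.mem_top b
  by_cases hb : b ∈ S₀
  · refine Or.inr ⟨hb, fun h => htS₀ ?_⟩
    have := S₀.mul_mem (S₀.inv_mem hb) h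
    simpa using this
  · refine Or.inl ⟨?_, hb⟩
    have := h5a b⁻¹ (T.inv_mem hbT) t htT (fun h => hb (by simpa using S₀.inv_mem h)) htS₀
    rwa [inv_inv] at this

end Main


end Cfsg.Agent.Helper3.SecRank
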