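import Mathlib
import Cfsg.Agent.Helper3.Singular
import Cfsg.Agent.Helper3.ES2DC

set_option autoImplicit false
set_option linter.style.haveILetI false
open Cfsg

/-! Singular subgroups: the groups `QU` and `LU`. -/

namespace Cfsg.Agent.Helper3.Singular

open Cfsg.Agent.Helper3 Cfsg.Agent.Helper3.ES2 Cfsg.Agent.Helper3.LargeES

variable {G : Type*} [Group G]

namespace SingSub

variable {Q : G → Subgroup G} {U : Subgroup G}

/-- `U ≤ Q u` for every nonidentity `u ∈ U` -/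
theorem mem_Q (h : SingSub Q U) {u v : G} (hu : u ∈ U) (hu1 : u ≠ 1) (hv : v ∈ U) : v ∈ Q u := by
  by_cases hv1 : v = 1
  · rw [hv1]; exact Subgroup.one_mem _
  · exact h.orth u hu v hv hu1 hv1

/-- `Q u` normalizes `U` -/
theorem conj_mem (h : SingSub Q U) {u : G} (hu : u ∈ U) (hu1 : u ≠ 1) {q : G} (hq : q ∈ Q u)
    {v : G} (hv : v ∈ U) : q * v * q⁻¹ ∈ U := by
  rcases (h.sing u hu hu1).conj_cases hq (h.mem_Q hu hu1 hv) with h1 | h1
  · rw [h1]; exact hv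
  · rw [h1]; exact U.mul_mem hv hu

/-- the elements normalizing `U` and centralizing `QU / U` -/
def stab (U QU : Subgroup G) : Subgroup G where
  carrier := {g | g ∈ Subgroup.normalizer (U : Set G) ∧ ∀ x ∈ QU, g * x * g⁻¹ * x⁻¹ ∈ U}
  one_mem' := ⟨Subgroup.one_mem _, fun x _ => by simp [U.one_mem]⟩
  mul_mem' := by
    rintro a b ⟨ha, ha'⟩ ⟨hb, hb'⟩
    refine ⟨Subgroup.mul_mem _ ha hb, ?_⟩
    intro x hx
    have h1 : a * (b * x * b⁻¹ * x⁻¹) * a⁻¹ ∈ U :=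
      (Subgroup.mem_normalizer_iff.mp ha _).mp (hb' x hx)
    have : a * b * x * (a * b)⁻¹ * x⁻¹ = (a * (b * x * b⁻¹ * x⁻¹) * a⁻¹) * (a * x * a⁻¹ * x⁻¹) := by
      group
    rw [this]
    exact U.mul_mem h1 (ha' x hx)
  inv_mem' := by
    rintro a ⟨ha, ha'⟩
    refine ⟨Subgroup.inv_mem _ ha, ?_⟩
    intro x hx
    have h1 : (a * x * a⁻¹ * x⁻¹)⁻¹ ∈ U := U.inv_mem (ha' x hx)
    have h2 : a⁻¹ * (a * x * a⁻¹ * x⁻¹)⁻¹ * a⁻¹⁻¹ ∈ U :=
      (Subgroup.mem_normalizer_iff.mp (Subgroup.inv_mem _ ha) _).mp h1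
    have : a⁻¹ * x * a⁻¹⁻¹ * x⁻¹ = a⁻¹ * (a * x * a⁻¹ * x⁻¹)⁻¹ * a⁻¹⁻¹ := by group
    rw [this]
    exact h2

theorem Q_le_stab [Finite G] (h : SingSub Q U) {u : G} (hu : u ∈ U) (hu1 : u ≠ 1) :
    Q u ≤ stab U (⨅ v ∈ ((U : Set G) \ {1}), Q v) := by
  intro q hq
  refine ⟨mem_normalizer_of_conj_mem' U q (fun v hv => h.conj_mem hu hu1 hq hv), ?_⟩
  intro x hx
  have hxu : x ∈ Q u := by
    simp only [Subgroup.mem_iInf] at hx
    exact hx u ⟨hu, hu1⟩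
  have hs := h.sing u hu hu1
  rcases hs.conj_cases hq hxu with h1 | h1
  · rw [h1]; simp [U.one_mem]
  · rw [h1]
    have : x * u * x⁻¹ = u := by rw [hs.central hxu]; group
    rw [this]; exact hu

/-- `LU` normalizes `U` and centralizes `QU / U` -/
theorem LU_le_stab [Finite G] (h : SingSub Q U) :
    (⨆ u ∈ ((U : Set G) \ {1}), Q u) ≤ stab U (⨅ v ∈ ((U : Set G) \ {1}), Q v) := by
  apply iSup₂_le
  rintro u ⟨hu, hu1⟩
  exact h.Q_le_stab hu hu1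

/-- transitivity on the coset `x U` -/
theorem exists_conj_coset [Finite G] (h : SingSub Q U) {x : G}
    (hx : x ∈ ⨅ v ∈ ((U : Set G) \ {1}), Q v) (hxU : x ∉ U) {u : G} (hu : u ∈ U) :
    ∃ g ∈ (⨆ v ∈ ((U : Set G) \ {1}), Q v) ⊓ Subgroup.centralizer (U : Set G),
      g * x * g⁻¹ = x * u := by
  by_cases hu1 : u = 1
  · exact ⟨1, Subgroup.one_mem _, by rw [hu1]; group⟩
  have hs := h.sing u hu hu1
  have hxu : x ∈ Q u := by
    simp only [Subgroup.mem_iInf] at hx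
    exact hx u ⟨hu, hu1⟩
  have hnot : ¬ (⟨x, hxu⟩ : Q u) ∈ U.subgroupOf (Q u) := by
    rw [Subgroup.mem_subgroupOf]; exact hxU
  have hzU : (⟨u, hs.mem⟩ : Q u) ∈ U.subgroupOf (Q u) := by
    rw [Subgroup.mem_subgroupOf]; exact hu
  have hex : ∃ g : Q u, (∀ v ∈ U.subgroupOf (Q u), g * v = v * g) ∧
      g * ⟨x, hxu⟩ ≠ ⟨x, hxu⟩ * g := by
    by_contra hcon
    push Not at hcon
    exact hnot (ES2.double_centralizer hs.es _ hzU _ hcon)
  obtain ⟨g, hgU, hgx⟩ := hex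
  have hgx' : (g : G) * x ≠ x * g := fun hh => hgx (Subtype.ext hh)
  refine ⟨(g : G), Subgroup.mem_inf.mpr ⟨?_, ?_⟩, ?_⟩
  · exact (le_iSup₂ (f := fun v (_ : v ∈ ((U : Set G) \ {1})) => Q v) u ⟨hu, hu1⟩) g.2
  · rw [Subgroup.mem_centralizer_iff]
    intro v hv
    have := hgU ⟨v, h.mem_Q hu hu1 hv⟩ (by rw [Subgroup.mem_subgroupOf]; exact hv)
    exact (congrArg Subtype.val this).symm
  · rcases hs.conj_cases g.2 hxu with h1 | h1
    · exfalso
      apply hgx'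
      calc (g : G) * x = ((g : G) * x * (g : G)⁻¹) * g := by group
        _ = x * g := by rw [h1]
    · exact h1

end SingSub

end Cfsg.Agent.Helper3.Singular
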