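import Mathlib
import Cfsg.Agent.Helper3.Singular2

set_option autoImplicit false
set_option linter.style.haveILetI false
open Cfsg

/-! Singular subgroups: `LU` induces the full automorphism group of `U`. -/

namespace Cfsg.Agent.Helper3.Singular

open Cfsg.Agent.Helper3 Cfsg.Agent.Helper3.ES2 Cfsg.Agent.Helper3.LargeES

variable {G : Type*} [Group G]

/-- conjugation by a normalizing element, as an automorphism of the subgroup -/
def conjEquiv (U : Subgroup G) (g : G) (hg : g ∈ Subgroup.normalizer (U : Set G)) : U ≃* U where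
  toFun u := ⟨g * u * g⁻¹, (Subgroup.mem_normalizer_iff.mp hg u).mp u.2⟩
  invFun u := ⟨g⁻¹ * u * g, by
    have := (Subgroup.mem_normalizer_iff.mp (Subgroup.inv_mem _ hg) u).mp u.2
    simpa using this⟩
  left_inv u := Subtype.ext (by simp [mul_assoc])
  right_inv u := Subtype.ext (by simp [mul_assoc])
  map_mul' u v := Subtype.ext (by simp [mul_assoc])

theorem conjEquiv_apply (U : Subgroup G) (g : G) (hg : g ∈ Subgroup.normalizer (U : Set G))
    (u : U) : ((conjEquiv U g hg u : U) : G) = g * u * g⁻¹ := rfl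

namespace SingSub

variable {Q : G → Subgroup G} {U : Subgroup G}

theorem mono (h : SingSub Q U) {W : Subgroup G} (hW : W ≤ U) : SingSub Q W :=
  ⟨fun u hu => h.sq u (hW hu), fun u hu hu1 => h.sing u (hW hu) hu1,
    fun u hu v hv hu1 hv1 => h.orth u (hW hu) v (hW hv) hu1 hv1⟩

/-- `W ∪ tW` as a subgroup of `U` -/
def adjoin (h : SingSub Q U) (W : Subgroup G) (hW : W ≤ U) (t : G) (ht : t ∈ U) : Subgroup G where
  carrier := {x | x ∈ W ∨ x * t ∈ W}
  one_mem' := Or.inl W.one_mem
  mul_mem' := by
    have hmemU : ∀ x : G, (x ∈ W ∨ x * t ∈ W) → x ∈ U := by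
      rintro x (hx | hx)
      · exact hW hx
      · have : x = (x * t) * t⁻¹ := by group
        rw [this]; exact U.mul_mem (hW hx) (U.inv_mem ht)
    intro x y hx hy
    have hxU := hmemU x hx
    have hyU := hmemU y hy
    rcases hx with hx | hx <;> rcases hy with hy | hy
    · exact Or.inl (W.mul_mem hx hy)
    · right
      have : x * y * t = x * (y * t) := by group
      rw [this]; exact W.mul_mem hx hy
    · right
      have : x * y * t = (x * t) * y := by
        rw [mul_assoc, h.comm hyU ht, ← mul_assoc]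
      rw [this]; exact W.mul_mem hx hy
    · left
      have : x * y = (x * t) * (y * t) := by
        calc x * y = x * y * (t * t) := by rw [h.sq t ht, mul_one]
          _ = x * (y * t) * t := by group
          _ = x * (t * y) * t := by rw [h.comm hyU ht]
          _ = (x * t) * (y * t) := by group
      rw [this]; exact W.mul_mem hx hy
  inv_mem' := by
    have hmemU : ∀ x : G, (x ∈ W ∨ x * t ∈ W) → x ∈ U := by
      rintro x (hx | hx)
      · exact hW hx
      · have : x = (x * t) * t⁻¹ := by group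
        rw [this]; exact U.mul_mem (hW hx) (U.inv_mem ht)
    intro x hx
    have hxU := hmemU x hx
    rw [h.inv_eq hxU]
    exact hx

theorem mem_adjoin (h : SingSub Q U) {W : Subgroup G} (hW : W ≤ U) {t : G} (ht : t ∈ U) {x : G} :
    x ∈ h.adjoin W hW t ht ↔ x ∈ W ∨ x * t ∈ W := Iff.rfl

theorem adjoin_le (h : SingSub Q U) {W : Subgroup G} (hW : W ≤ U) {t : G} (ht : t ∈ U) :
    h.adjoin W hW t ht ≤ U := by
  rintro x (hx | hx)
  · exact hW hx
  · have : x = (x * t) * t⁻¹ := by group
    rw [this]; exact U.mul_mem (hW hx) (U.inv_mem ht)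

theorem LU_mono {W : Subgroup G} (hW : W ≤ U) :
    (⨆ v ∈ ((W : Set G) \ {1}), Q v) ≤ ⨆ v ∈ ((U : Set G) \ {1}), Q v := by
  apply iSup₂_le
  rintro v ⟨hv, hv1⟩
  exact le_iSup₂ (f := fun v (_ : v ∈ ((U : Set G) \ {1})) => Q v) v ⟨hW hv, hv1⟩

theorem LU_le_normalizer [Finite G] (h : SingSub Q U) :
    (⨆ v ∈ ((U : Set G) \ {1}), Q v) ≤ Subgroup.normalizer (U : Set G) :=
  fun _ hg => (h.LU_le_stab hg).1

/-- every automorphism of `U` fixing `W` pointwise is induced by an element of `LU` -/
theorem aut_induced_aux [Finite G] (h : SingSub Q U) :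
    ∀ (d : ℕ) (W : Subgroup G), W ≤ U → Nat.card U ≤ Nat.card W + d →
      ∀ φ : U ≃* U, (∀ u : U, (u : G) ∈ W → φ u = u) →
        ∃ g ∈ (⨆ v ∈ ((U : Set G) \ {1}), Q v), ∀ u : U, g * (u : G) * g⁻¹ = ((φ u : U) : G) := by
  intro d
  induction d with
  | zero =>
    intro W hW hcard φ hφ
    have hWU : W = U := Subgroup.eq_of_le_of_card_ge hW (by simpa using hcard)
    refine ⟨1, Subgroup.one_mem _, ?_⟩
    intro u
    rw [hφ u (by rw [hWU]; exact u.2)]
    group
  | succ d ih =>
    intro W hW hcard φ hφ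
    by_cases hWU : W = U
    · refine ⟨1, Subgroup.one_mem _, ?_⟩
      intro u
      rw [hφ u (by rw [hWU]; exact u.2)]
      group
    · -- pick `u0 ∈ U \ W`
      obtain ⟨u0, hu0U, hu0W⟩ : ∃ u0, u0 ∈ U ∧ u0 ∉ W := by
        by_contra hcon
        push Not at hcon
        exact hWU (le_antisymm hW hcon)
      set u1 : G := ((φ ⟨u0, hu0U⟩ : U) : G) with hu1
      have hu1U : u1 ∈ U := (φ ⟨u0, hu0U⟩).2
      have hu1W : u1 ∉ W := by
        intro hh
        have e1 : φ (φ ⟨u0, hu0U⟩) = φ ⟨u0, hu0U⟩ := hφ _ hh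
        have e2 : φ ⟨u0, hu0U⟩ = ⟨u0, hu0U⟩ := φ.injective e1
        apply hu0W
        have : u1 = u0 := congrArg Subtype.val e2
        rwa [← this]
      -- find `g ∈ LU` centralizing `W` with `g u1 g⁻¹ = u0`
      obtain ⟨g, hgL, hgW, hgu⟩ : ∃ g ∈ (⨆ v ∈ ((U : Set G) \ {1}), Q v),
          (∀ w ∈ W, g * w * g⁻¹ = w) ∧ g * u1 * g⁻¹ = u0 := by
        by_cases hne : u1 = u0
        · exact ⟨1, Subgroup.one_mem _, fun w _ => by group, by rw [hne]; group⟩
        set t : G := u1 * u0 with ht
        have htU : t ∈ U := U.mul_mem hu1U hu0U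
        have hW2 := h.adjoin_le hW htU
        have h2 : SingSub Q (h.adjoin W hW t htU) := h.mono hW2
        have hu1t : u1 * t = u0 := by
          rw [ht, ← mul_assoc, h.sq u1 hu1U, one_mul]
        have hx : u1 ∈ ⨅ v ∈ (((h.adjoin W hW t htU : Subgroup G) : Set G) \ {1}), Q v := by
          simp only [Subgroup.mem_iInf]
          rintro v ⟨hv, hv1⟩
          exact h.mem_Q (hW2 hv) hv1 hu1U
        have hxU : u1 ∉ h.adjoin W hW t htU := by
          rintro (hh | hh)
          · exact hu1W hh
          · rw [hu1t] at hh; exact hu0W hh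
        have htW2 : t ∈ h.adjoin W hW t htU := by
          right; rw [h.sq t htU]; exact W.one_mem
        obtain ⟨g, hg, hgx⟩ := h2.exists_conj_coset hx hxU htW2
        obtain ⟨hg1, hg2⟩ := Subgroup.mem_inf.mp hg
        refine ⟨g, LU_mono hW2 hg1, ?_, by rw [hgx, hu1t]⟩
        intro w hw
        have := Subgroup.mem_centralizer_iff.mp hg2 w (Or.inl hw)
        rw [← this]; group
      have hgN : g ∈ Subgroup.normalizer (U : Set G) := h.LU_le_normalizer hgL
      -- the new automorphism fixes `W ∪ u0 W`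
      set φ' : U ≃* U := φ.trans (conjEquiv U g hgN) with hφ'
      have hφ'apply : ∀ u : U, ((φ' u : U) : G) = g * ((φ u : U) : G) * g⁻¹ := fun u => rfl
      have hfix : ∀ u : U, (u : G) ∈ h.adjoin W hW u0 hu0U → φ' u = u := by
        intro u hu
        apply Subtype.ext
        rw [hφ'apply]
        rcases hu with hu | hu
        · rw [hφ u hu]; exact hgW _ hu
        · -- u = (u u0) u0
          have e1 : u = ⟨(u : G) * u0, hW hu⟩ * ⟨u0, hu0U⟩ := by
            apply Subtype.ext
            simp only [Subgroup.coe_mul]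
            rw [mul_assoc, h.sq u0 hu0U, mul_one]
          have e2 : φ u = ⟨(u : G) * u0, hW hu⟩ * φ ⟨u0, hu0U⟩ := by
            conv_lhs => rw [e1]
            rw [map_mul, hφ _ hu]
          rw [e2]
          simp only [Subgroup.coe_mul]
          calc g * ((u : G) * u0 * u1) * g⁻¹
              = (g * ((u : G) * u0) * g⁻¹) * (g * u1 * g⁻¹) := by group
            _ = ((u : G) * u0) * u0 := by rw [hgW _ hu, hgu]
            _ = u := by rw [mul_assoc, h.sq u0 hu0U, mul_one]
      have hlt : Nat.card W < Nat.card (h.adjoin W hW u0 hu0U) := by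
        by_contra hcon
        push Not at hcon
        have heq : W = h.adjoin W hW u0 hu0U :=
          Subgroup.eq_of_le_of_card_ge (fun x hx => Or.inl hx) hcon
        apply hu0W
        rw [heq]
        right; rw [h.sq u0 hu0U]; exact W.one_mem
      obtain ⟨g', hg'L, hg'⟩ := ih (h.adjoin W hW u0 hu0U) (h.adjoin_le hW hu0U) (by omega) φ' hfix
      refine ⟨g⁻¹ * g', Subgroup.mul_mem _ (Subgroup.inv_mem _ hgL) hg'L, ?_⟩
      intro u
      have := hg' u
      rw [hφ'apply] at this
      calc g⁻¹ * g' * (u : G) * (g⁻¹ * g')⁻¹ = g⁻¹ * (g' * (u : G) * g'⁻¹) * g := by group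
        _ = g⁻¹ * (g * ((φ u : U) : G) * g⁻¹) * g := by rw [this]
        _ = ((φ u : U) : G) := by group

/-- `LU` induces the full automorphism group of `U` -/
theorem aut_induced [Finite G] (h : SingSub Q U) (φ : U ≃* U) :
    ∃ g ∈ (⨆ v ∈ ((U : Set G) \ {1}), Q v), ∀ u : U, g * (u : G) * g⁻¹ = ((φ u : U) : G) := by
  refine h.aut_induced_aux (Nat.card U) ⊥ bot_le (by omega) φ ?_
  intro u hu
  have hu1 : (u : G) = 1 := Subgroup.mem_bot.mp hu
  have : u = 1 := Subtype.ext hu1
  rw [this, map_one]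

end SingSub

end Cfsg.Agent.Helper3.Singular
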