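import Mathlib
import Cfsg.Agent.Helper3.SubnormalJoin

set_option autoImplicit false

namespace Cfsg.Agent.Helper3

open scoped Pointwise

/-- the join of a set of subnormal subgroups of a finite group is subnormal -/
theorem subnormal_sSup {G : Type*} [Group G] [Finite G] (S : Set (Subgroup G))
    (hS : ∀ U ∈ S, U.IsSubnormal) : (sSup S).IsSubnormal := by
  have hfin : S.Finite := Set.toFinite S
  induction S, hfin using Set.Finite.induction_on with
  | empty => rw [sSup_empty]; exact Subgroup.IsSubnormal.bot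
  | insert _ _ ih =>
    rename_i a s _ _
    rw [sSup_insert]
    exact subnormal_sup (hS a (Set.mem_insert _ _))
      (ih (fun U hU => hS U (Set.mem_insert_of_mem _ hU)))

/-- K-S 6.7.2: in a conjugation-closed family of subnormal subgroups, any proper subfamily has
its join normalized by some member outside the subfamily. -/
theorem subnormal_family_normalizes {G : Type*} [Group G] [Finite G] (S S₀ : Set (Subgroup G))
    (hS : ∀ U ∈ S, U.IsSubnormal) (hconj : ∀ U ∈ S, ∀ g : G, MulAut.conj g • U ∈ S)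
    (h₀ : S₀ ⊂ S) :
    ∃ X ∈ S, X ∉ S₀ ∧ X ≤ Subgroup.normalizer ((sSup S₀ : Subgroup G) : Set G) := by
  have hsub : (sSup S₀).IsSubnormal := subnormal_sSup S₀ (fun U hU => hS U (h₀.subset hU))
  obtain ⟨n, f, hmono, hnorm, h0, hn⟩ := Subgroup.IsSubnormal.isSubnormal_iff.mp hsub
  have hex : ∃ i, ∃ X ∈ S, X ∉ S₀ ∧ X ≤ f i := by
    obtain ⟨X, hXS, hX0⟩ := Set.exists_of_ssubset h₀
    exact ⟨n, X, hXS, hX0, by rw [hn]; exact le_top⟩
  classical
  obtain ⟨X, hXS, hX0, hXi⟩ := Nat.find_spec hex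
  refine ⟨X, hXS, hX0, ?_⟩
  rcases Nat.eq_zero_or_pos (Nat.find hex) with hi | hi
  · rw [hi, h0] at hXi
    exact hXi.trans Subgroup.le_normalizer
  · obtain ⟨j, hj⟩ : ∃ j, Nat.find hex = j + 1 := ⟨Nat.find hex - 1, by omega⟩
    rw [hj] at hXi
    have hmin : ¬ ∃ Y ∈ S, Y ∉ S₀ ∧ Y ≤ f j := Nat.find_min hex (by omega)
    intro x hx
    rw [← conj_smul_eq_iff_mem_normalizer]
    apply conj_smul_le_eq
    rw [Subgroup.pointwise_smul_subset_iff]
    apply sSup_le
    intro Y hY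
    rw [← Subgroup.pointwise_smul_subset_iff]
    have hYS : MulAut.conj x • Y ∈ S := hconj Y (h₀.subset hY) x
    have hYj : MulAut.conj x • Y ≤ f j := by
      have h1 : Y ≤ f j := by
        calc Y ≤ sSup S₀ := le_sSup hY
          _ = f 0 := h0.symm
          _ ≤ f j := hmono (Nat.zero_le j)
      have h2 : MulAut.conj x • f j = f j :=
        conj_smul_eq_of_normal_subgroupOf (hmono (Nat.le_succ j)) (hnorm j) (hXi hx)
      rw [← h2]
      exact Subgroup.pointwise_smul_le_pointwise_smul_iff.mpr h1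
    by_contra hcon
    have hY0 : MulAut.conj x • Y ∉ S₀ := by
      intro h; exact hcon (le_sSup h)
    exact hmin ⟨_, hYS, hY0, hYj⟩


/-- relative form of K-S 6.7.2, for a family of subgroups of `V` subnormal in `V` and closed
under conjugation by `V`. -/
theorem subnormal_family_normalizes_rel {G : Type*} [Group G] [Finite G] (V : Subgroup G)
    (S S₀ : Set (Subgroup G)) (hle : ∀ B ∈ S, B ≤ V)
    (hS : ∀ B ∈ S, (B.subgroupOf V).IsSubnormal)
    (hconj : ∀ B ∈ S, ∀ v ∈ V, MulAut.conj v • B ∈ S) (h₀ : S₀ ⊂ S) :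
    ∃ X ∈ S, X ∉ S₀ ∧ X ≤ Subgroup.normalizer ((sSup S₀ : Subgroup G) : Set G) := by
  let φ : Subgroup G → Subgroup V := fun B => B.subgroupOf V
  have hinj : ∀ B ∈ S, ∀ B' ∈ S, φ B = φ B' → B = B' := by
    intro B hB B' hB' h
    have := Subgroup.subgroupOf_inj.mp h
    rwa [inf_eq_left.mpr (hle B hB), inf_eq_left.mpr (hle B' hB')] at this
  have hS' : ∀ U' ∈ φ '' S, U'.IsSubnormal := by
    rintro U' ⟨B, hB, rfl⟩; exact hS B hB
  have hconj' : ∀ U' ∈ φ '' S, ∀ v : V, MulAut.conj v • U' ∈ φ '' S := by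
    rintro U' ⟨B, hB, rfl⟩ v
    refine ⟨MulAut.conj (v : G) • B, hconj B hB v v.2, ?_⟩
    exact (Subgroup.conj_smul_subgroupOf (hle B hB) v).symm
  have h₀' : φ '' S₀ ⊂ φ '' S := by
    refine ⟨Set.image_mono h₀.subset, ?_⟩
    intro hsub
    obtain ⟨B, hBS, hB0⟩ := Set.exists_of_ssubset h₀
    obtain ⟨B', hB', hBB'⟩ := hsub ⟨B, hBS, rfl⟩
    have := hinj B' (h₀.subset hB') B hBS hBB'
    rw [this] at hB'
    exact hB0 hB'
  obtain ⟨X', ⟨X, hXS, rfl⟩, hX0, hXn⟩ := subnormal_family_normalizes (φ '' S) (φ '' S₀) hS' hconj' h₀'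
  refine ⟨X, hXS, fun h => hX0 ⟨X, h, rfl⟩, ?_⟩
  have hmap : (sSup (φ '' S₀)).map V.subtype = sSup S₀ := by
    rw [sSup_image, Subgroup.map_iSup, sSup_eq_iSup]
    apply iSup_congr
    intro B
    rw [Subgroup.map_iSup]
    apply iSup_congr
    intro hB
    exact Subgroup.map_subgroupOf_eq_of_le (hle B (h₀.subset hB))
  intro x hx
  have hxV : x ∈ V := hle X hXS hx
  have h1 : (⟨x, hxV⟩ : V) ∈ Subgroup.normalizer ((sSup (φ '' S₀) : Subgroup V) : Set V) :=
    hXn (show (⟨x, hxV⟩ : V) ∈ X.subgroupOf V from hx)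
  have h2 := Subgroup.le_normalizer_map V.subtype (Subgroup.mem_map_of_mem V.subtype h1)
  rw [hmap] at h2
  exact h2

end Cfsg.Agent.Helper3
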