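import Mathlib
import Cfsg.Agent.Helper3.Syl3AltA

/-!
More permutation-group lemmas for S2929.
-/

set_option autoImplicit false
set_option linter.unusedSectionVars false

namespace Cfsg.Agent.Helper3.Syl3Alt

open Equiv Equiv.Perm Subgroup
open Cfsg.Agent.Helper29.AutAlt (three_apply three_support)
open scoped commutatorElement

variable {α : Type*} [Fintype α] [DecidableEq α]

/-- The alternating group of a subset, embedded in the symmetric group. -/
noncomputable def altO (O : Finset α) : Subgroup (Perm α) :=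
  (alternatingGroup ↥O).map (ofSubtype : Perm ↥O →* Perm α)

theorem mem_altO_iff (O : Finset α) (σ : Perm α) :
    σ ∈ altO O ↔ (∀ y, σ y ≠ y → y ∈ O) ∧ sign σ = 1 := by
  unfold altO
  rw [alternatingGroup.map_ofSubtype, Subgroup.mem_inf, Perm.mem_range_ofSubtype_iff,
    mem_alternatingGroup]
  constructor
  · rintro ⟨h1, h2⟩
    refine ⟨fun y hy => ?_, h2⟩
    have : y ∈ (σ.support : Set α) := by
      rw [Finset.mem_coe, Perm.mem_support]; exact hy
    exact h1 this
  · rintro ⟨h1, h2⟩
    refine ⟨fun y hy => ?_, h2⟩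
    rw [Finset.mem_coe, Perm.mem_support] at hy
    exact h1 y hy

/-- A permutation preserving `O` normalizes `altO O`. -/
theorem conj_mem_altO (O : Finset α) (k : Perm α) (hk : ∀ y, y ∈ O → k y ∈ O) (σ : Perm α)
    (hσ : σ ∈ altO O) : k * σ * k⁻¹ ∈ altO O := by
  rw [mem_altO_iff] at hσ ⊢
  obtain ⟨h1, h2⟩ := hσ
  refine ⟨fun y hy => ?_, ?_⟩
  · have h3 : σ (k⁻¹ y) ≠ k⁻¹ y := by
      intro h
      apply hy
      rw [Perm.mul_apply, Perm.mul_apply, h]
      simp
    have h4 := hk _ (h1 _ h3)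
    have h5 : k (k⁻¹ y) = y := by simp
    rwa [h5] at h4
  · rw [map_mul, map_mul, map_inv, mul_right_comm, mul_inv_cancel, one_mul, h2]

/-- A 3-cycle is not contained in a perfect group all of whose elements commute with it. -/
theorem not_mem_of_perfect_of_commute {c : Perm α} (hc : c.IsThreeCycle) (F : Subgroup (Perm α))
    (hperf : ⁅F, F⁆ = F) (hcomm : ∀ f ∈ F, f * c = c * f) : c ∉ F := by
  intro hcF
  obtain ⟨x, hx⟩ : ∃ x, c x ≠ x := by
    have h3 := hc.card_support
    have hne : c.support.Nonempty := by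
      rw [← Finset.card_pos, h3]; norm_num
    obtain ⟨x, hx⟩ := hne
    exact ⟨x, Perm.mem_support.1 hx⟩
  -- every element commuting with c shifts the c-orbit of x
  have key : ∀ σ : Perm α, σ * c = c * σ → ∃ i : ℤ, ∀ k : ℤ, σ ((c ^ k) x) = (c ^ (k + i)) x := by
    intro σ hσ
    have hcomm' : Commute σ c := hσ
    have h1 : c (σ x) ≠ σ x := by
      intro h
      apply hx
      have : (c * σ) x = σ x := h
      rw [← hσ, Perm.mul_apply] at this
      exact σ.injective this
    have h2 : ∃ i : ℤ, σ x = (c ^ i) x := by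
      rcases three_support hc hx (σ x) h1 with h | h | h
      · exact ⟨0, by rw [h]; rfl⟩
      · exact ⟨1, by rw [h, zpow_one]⟩
      · exact ⟨2, by rw [h]; rfl⟩
    obtain ⟨i, hi⟩ := h2
    refine ⟨i, fun k => ?_⟩
    have h3 : σ * c ^ k = c ^ k * σ := (hcomm'.zpow_right k).eq
    have h4 : σ ((c ^ k) x) = (c ^ k) (σ x) := by
      have := congrArg (fun τ : Perm α => τ x) h3
      simpa [Perm.mul_apply] using this
    rw [h4, hi, ← Perm.mul_apply, ← zpow_add]
  have keyinv : ∀ σ : Perm α, ∀ i : ℤ, (∀ k : ℤ, σ ((c ^ k) x) = (c ^ (k + i)) x) →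
      ∀ k : ℤ, σ⁻¹ ((c ^ k) x) = (c ^ (k - i)) x := by
    intro σ i h k
    rw [Perm.inv_eq_iff_eq, h (k - i), sub_add_cancel]
  have hstab : ⁅F, F⁆ ≤ MulAction.stabilizer (Perm α) x := by
    rw [Subgroup.commutator_le]
    intro σ hσ τ hτ
    obtain ⟨i, hi⟩ := key σ (hcomm σ hσ)
    obtain ⟨j, hj⟩ := key τ (hcomm τ hτ)
    have hi' := keyinv σ i hi
    have hj' := keyinv τ j hj
    rw [MulAction.mem_stabilizer_iff, Perm.smul_def, commutatorElement_def]
    have h0 : x = (c ^ (0 : ℤ)) x := by rw [zpow_zero]; rfl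
    rw [Perm.mul_apply, Perm.mul_apply, Perm.mul_apply]
    conv_lhs => rw [h0]
    rw [hj', hi', hj, hi]
    have : (0 : ℤ) - j - i + j + i = 0 := by ring
    rw [this, zpow_zero]
    rfl
  rw [hperf] at hstab
  have := hstab hcF
  rw [MulAction.mem_stabilizer_iff, Perm.smul_def] at this
  exact hx this

/-- Restriction to an invariant subset, as a homomorphism. -/
def restrictHom (H : Subgroup (Perm α)) (O : Finset α)
    (hO : ∀ h ∈ H, ∀ y, h y ∈ O ↔ y ∈ O) : ↥H →* Perm ↥O where
  toFun h := subtypePerm h.1 (hO h.1 h.2)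
  map_one' := by
    ext y
    rfl
  map_mul' a b := by
    ext y
    rfl

theorem card_dvd_factorial_of_faithful (H : Subgroup (Perm α)) (O : Finset α)
    (hO : ∀ h ∈ H, ∀ y, h y ∈ O ↔ y ∈ O)
    (hfaith : ∀ h ∈ H, (∀ y ∈ O, h y = y) → h = 1) : Nat.card H ∣ (O.card).factorial := by
  have hinj : Function.Injective (restrictHom H O hO) := by
    rw [injective_iff_map_eq_one]
    intro h hh
    have h1 : h.1 = 1 := by
      apply hfaith h.1 h.2
      intro y hy
      have := congrArg (fun τ : Perm ↥O => ((τ ⟨y, hy⟩ : ↥O) : α)) hh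
      exact this
    exact Subtype.ext h1
  have h2 := Subgroup.card_dvd_of_injective _ hinj
  have h3 : Nat.card (Perm ↥O) = (O.card).factorial := by
    rw [Nat.card_eq_fintype_card, Fintype.card_perm, Fintype.card_coe]
  rwa [h3] at h2

/-- Arithmetic: a Sylow 3-subgroup of `S_n` has order not dividing `m!` when `m + 3 ≤ n`. -/
theorem le_add_two_of_sylow_card_dvd {n m : ℕ} (P : Sylow 3 (Perm (Fin n)))
    (h : Nat.card P ∣ m.factorial) : n ≤ m + 2 := by
  have : Fact (Nat.Prime 3) := ⟨Nat.prime_three⟩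
  by_contra hcon
  push Not at hcon
  have hcard : Nat.card (Perm (Fin n)) = n.factorial := by
    rw [Nat.card_eq_fintype_card, Fintype.card_perm, Fintype.card_fin]
  have hP := P.card_eq_multiplicity
  rw [hcard] at hP
  have h3 : 3 * m.factorial ∣ (m + 3).factorial := by
    have e : (m + 3).factorial = (m + 3) * ((m + 2) * ((m + 1) * m.factorial)) := by
      rw [Nat.factorial_succ (m + 2), Nat.factorial_succ (m + 1), Nat.factorial_succ m]
    rw [e]
    obtain ⟨k, hk | hk | hk⟩ : ∃ k, m = 3 * k ∨ m = 3 * k + 1 ∨ m = 3 * k + 2 :=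
      ⟨m / 3, by omega⟩
    · refine ⟨(k + 1) * ((m + 2) * (m + 1)), ?_⟩
      have : m + 3 = 3 * (k + 1) := by omega
      rw [this]; ring
    · refine ⟨(m + 3) * ((k + 1) * (m + 1)), ?_⟩
      have : m + 2 = 3 * (k + 1) := by omega
      rw [this]; ring
    · refine ⟨(m + 3) * ((m + 2) * (k + 1)), ?_⟩
      have : m + 1 = 3 * (k + 1) := by omega
      rw [this]; ring
  have h4 : (m + 3).factorial ∣ n.factorial := Nat.factorial_dvd_factorial (by omega)
  have h5 : 3 ^ ((m.factorial).factorization 3 + 1) ∣ n.factorial := by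
    refine dvd_trans ?_ (dvd_trans h3 h4)
    rw [pow_succ, mul_comm]
    exact Nat.mul_dvd_mul_left 3 (Nat.ordProj_dvd _ 3)
  have h6 : (m.factorial).factorization 3 + 1 ≤ (n.factorial).factorization 3 :=
    (Nat.Prime.pow_dvd_iff_le_factorization Nat.prime_three (Nat.factorial_ne_zero n)).1 h5
  have h7 : 3 ^ ((m.factorial).factorization 3 + 1) ∣ m.factorial := by
    refine dvd_trans (pow_dvd_pow 3 h6) ?_
    rw [← hP]
    exact h
  exact Nat.pow_succ_factorization_not_dvd (Nat.factorial_ne_zero m) Nat.prime_three h7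

end Cfsg.Agent.Helper3.Syl3Alt
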