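import Mathlib
import Cfsg.Prelude.Def_Local
import Cfsg.Agent.Helper3.Syl3AltB
import Cfsg.Agent.Helper7.Components
import Cfsg.Agent.Helper7.FStar
import Cfsg.Agent.Helper7.Quasisimple
import Cfsg.Agent.Helper24.Burnside

/-!
S2929 main argument: a subgroup `H` of `S_n` with quasisimple `F*(H)` and containing a Sylow
3-subgroup has `F*(H) ≅ A_m`, `n - 2 ≤ m ≤ n`.
-/

set_option autoImplicit false
set_option linter.unusedSectionVars false

namespace Cfsg.Agent.Helper3.Syl3Alt

open Equiv Equiv.Perm Subgroup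
open Cfsg.Agent.Helper29.AutAlt (three_apply three_support)
open scoped commutatorElement

theorem small_card_cases : ∀ d ∈ Nat.divisors 24, ∃ a ≤ 3, ∃ b ≤ 1, d = 2 ^ a * 3 ^ b := by
  decide

theorem main (n : ℕ) (hn : 5 ≤ n) (H : Subgroup (Equiv.Perm (Fin n)))
    (hF : Cfsg.IsQuasisimple ↥(Cfsg.generalizedFittingSubgroup ↥H))
    (hS : ∃ P : Sylow 3 (Equiv.Perm (Fin n)), (P : Subgroup (Equiv.Perm (Fin n))) ≤ H) :
    ∃ m : ℕ, (m = n - 2 ∨ m = n - 1 ∨ m = n) ∧
      Nonempty (↥(Cfsg.generalizedFittingSubgroup ↥H) ≃* ↥(alternatingGroup (Fin m))) := by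
  classical
  obtain ⟨P, hPH⟩ := hS
  obtain ⟨c, hcP, hc3⟩ := exists_threeCycle_mem_sylow (by omega) P
  have hcH : c ∈ H := hPH hcP
  set Fs := Cfsg.generalizedFittingSubgroup ↥H with hFs
  have hFsN : Fs.Normal := inferInstance
  have hcomp : Cfsg.IsComponent Fs := ⟨hFsN.isSubnormal, hF⟩
  -- conjugates of c
  set S : Set (Perm (Fin n)) := {s | ∃ h ∈ H, s = h * c * h⁻¹} with hSdef
  have hS3 : ∀ s ∈ S, s.IsThreeCycle := by
    rintro _ ⟨h, _, rfl⟩
    unfold IsThreeCycle
    rw [cycleType_conj]
    exact hc3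
  have hSH : S ⊆ H := by
    rintro _ ⟨h, hh, rfl⟩
    exact mul_mem (mul_mem hh hcH) (inv_mem hh)
  have hcS : c ∈ S := ⟨1, one_mem _, by simp⟩
  set K := closure S with hK
  have hKH : K ≤ H := (closure_le H).2 hSH
  have hKconj : ∀ h ∈ H, ∀ k ∈ K, h * k * h⁻¹ ∈ K := by
    intro h hh k hk
    have hmap : K.map (MulAut.conj h).toMonoidHom ≤ K := by
      rw [hK, MonoidHom.map_closure]
      apply Subgroup.closure_mono
      rintro _ ⟨_, ⟨h', hh', rfl⟩, rfl⟩
      refine ⟨h * h', mul_mem hh hh', ?_⟩
      simp [MulAut.conj_apply, mul_assoc]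
    exact hmap ⟨k, hk, by simp [MulAut.conj_apply]⟩
  obtain ⟨x, hx⟩ : ∃ x, c x ≠ x := by
    have h3 := hc3.card_support
    have hne : c.support.Nonempty := by
      rw [← Finset.card_pos, h3]; norm_num
    obtain ⟨x, hx⟩ := hne
    exact ⟨x, Perm.mem_support.1 hx⟩
  set O : Finset (Fin n) := Finset.univ.filter (fun y => ∃ k ∈ K, k x = y) with hOdef
  have hO : ∀ y, y ∈ O ↔ ∃ k ∈ K, k x = y := by
    intro y
    rw [hOdef, Finset.mem_filter]
    simp
  have hAK : altO O ≤ K := alt_le_closure S hS3 x O hO ⟨c, hcS, hx⟩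
  have hAH : altO O ≤ H := hAK.trans hKH
  have hKO : ∀ k ∈ K, ∀ y, y ∈ O → k y ∈ O := by
    intro k hk y hy
    obtain ⟨k', hk', rfl⟩ := (hO y).1 hy
    exact (hO _).2 ⟨k * k', mul_mem hk hk', rfl⟩
  have hxO : x ∈ O := (hO x).2 ⟨1, one_mem _, rfl⟩
  have hcK : c ∈ K := subset_closure hcS
  have hcA : c ∈ altO O := by
    rw [mem_altO_iff]
    refine ⟨fun w hw => ?_, hc3.sign⟩
    rcases three_support hc3 hx w hw with rfl | rfl | rfl
    · exact hxO
    · exact hKO c hcK _ hxO
    · exact hKO c hcK _ (hKO c hcK _ hxO)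
  -- subgroups of ↥H
  set A' : Subgroup ↥H := (altO O).subgroupOf H with hA'
  set K' : Subgroup ↥H := K.subgroupOf H with hK'
  have hK'N : K'.Normal := by
    constructor
    intro k hk h
    rw [hK', mem_subgroupOf] at hk ⊢
    exact hKconj h.1 h.2 k.1 hk
  have hA'K' : A' ≤ K' := by
    intro a ha
    rw [hA', mem_subgroupOf] at ha
    rw [hK', mem_subgroupOf]
    exact hAK ha
  have hA'N : (A'.subgroupOf K').Normal := by
    constructor
    intro a ha k
    rw [mem_subgroupOf, hA', mem_subgroupOf] at ha ⊢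
    have hk : (k.1 : Perm (Fin n)) ∈ K := by
      have := k.2
      exact mem_subgroupOf.1 this
    exact conj_mem_altO O _ (hKO _ hk) _ ha
  have hA'sub : A'.IsSubnormal := IsSubnormal.step A' K' hA'K' hK'N.isSubnormal hA'N
  rcases Cfsg.Agent.Helper7.component_le_or_commutator_eq_bot hcomp hA'sub with hle | hcomm
  · -- main case
    set m := O.card with hm
    have e₀ : ↥A' ≃* ↥(altO O) := Subgroup.subgroupOfEquivOfLe hAH
    have e₁ : ↥(alternatingGroup ↥O) ≃* ↥(altO O) :=
      (alternatingGroup ↥O).equivMapOfInjective _ ofSubtype_injective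
    have e₂ : ↥(alternatingGroup ↥O) ≃* ↥(alternatingGroup (Fin m)) :=
      Equiv.altCongrHom O.equivFin
    have eA : ↥A' ≃* ↥(alternatingGroup (Fin m)) := e₀.trans (e₁.symm.trans e₂)
    by_cases h5 : 5 ≤ m
    · have hs1 : IsSimpleGroup ↥(alternatingGroup (Fin m)) :=
        alternatingGroup.isSimpleGroup (by simpa using h5)
      have hs2 : IsSimpleGroup ↥A' := eA.isSimpleGroup
      have hN : (Fs.subgroupOf A').Normal := hFsN.subgroupOf A'
      have hEq : Fs = A' := by
        rcases hN.eq_bot_or_eq_top with hb | ht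
        · exfalso
          rw [Subgroup.subgroupOf_eq_bot, disjoint_iff, inf_eq_left.2 hle] at hb
          exact Cfsg.Agent.Helper7.IsComponent.ne_bot hcomp hb
        · rw [Subgroup.subgroupOf_eq_top] at ht
          exact le_antisymm hle ht
      have eFs : ↥Fs ≃* ↥A' := MulEquiv.subgroupCongr hEq
      have hmem : ∀ h : ↥H, h ∈ Fs ↔ (h : Perm (Fin n)) ∈ altO O := by
        intro h
        rw [hEq, hA', mem_subgroupOf]
      -- every point of O is moved by an element of altO O
      have hmove : ∀ y ∈ O, ∃ σ ∈ altO O, σ y ≠ y := by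
        intro y hy
        have hcard : 1 < (O.erase y).card := by
          rw [Finset.card_erase_of_mem hy]; omega
        obtain ⟨a, ha, b, hb, hab⟩ := Finset.one_lt_card.1 hcard
        rw [Finset.mem_erase] at ha hb
        refine ⟨swap y a * swap y b, ?_, ?_⟩
        · rw [mem_altO_iff]
          refine ⟨fun w hw => ?_, (isThreeCycle_swap_mul_swap_same ha.1.symm hb.1.symm hab).sign⟩
          by_contra hwO
          apply hw
          have h1 : w ≠ y := fun h => hwO (h ▸ hy)
          have h2 : w ≠ a := fun h => hwO (h ▸ ha.2)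
          have h3 : w ≠ b := fun h => hwO (h ▸ hb.2)
          rw [Perm.mul_apply, swap_apply_of_ne_of_ne h1 h3, swap_apply_of_ne_of_ne h1 h2]
        · rw [Perm.mul_apply, swap_apply_left, swap_apply_of_ne_of_ne hb.1 hab.symm]
          exact hb.1
      have hfw : ∀ h ∈ H, ∀ y ∈ O, h y ∈ O := by
        intro h hh y hy
        obtain ⟨σ, hσ, hσy⟩ := hmove y hy
        have h1 : (⟨σ, hAH hσ⟩ : ↥H) ∈ Fs := (hmem _).2 hσ
        have h2 := hFsN.conj_mem _ h1 ⟨h, hh⟩
        rw [hmem] at h2
        have h3 : h * σ * h⁻¹ ∈ altO O := h2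
        rw [mem_altO_iff] at h3
        apply h3.1
        rw [Perm.mul_apply, Perm.mul_apply]
        have : h⁻¹ (h y) = y := by simp
        rw [this]
        exact fun h' => hσy (h.injective h')
      have hHO : ∀ h ∈ H, ∀ y, h y ∈ O ↔ y ∈ O := by
        intro h hh y
        constructor
        · intro hy
          have := hfw h⁻¹ (inv_mem hh) _ hy
          have e : h⁻¹ (h y) = y := by simp
          rwa [e] at this
        · exact hfw h hh y
      have hfaith : ∀ h ∈ H, (∀ y ∈ O, h y = y) → h = 1 := by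
        intro h hh hfix
        have h1 : (⟨h, hh⟩ : ↥H) ∈ centralizer (Fs : Set ↥H) := by
          rw [mem_centralizer_iff]
          intro f hf
          have hfA := (hmem f).1 hf
          rw [mem_altO_iff] at hfA
          have hdis : Perm.Disjoint (f : Perm (Fin n)) h := by
            intro y
            by_cases hy : y ∈ O
            · exact Or.inr (hfix y hy)
            · left
              by_contra hne
              exact hy (hfA.1 y hne)
          exact Subtype.ext hdis.commute.eq
        have h2 : (⟨h, hh⟩ : ↥H) ∈ Fs :=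
          Cfsg.Agent.Helper7.centralizer_generalizedFitting_le h1
        rw [hmem] at h2
        have h3 : h ∈ altO O := h2
        rw [mem_altO_iff] at h3
        ext y
        by_cases hy : y ∈ O
        · rw [hfix y hy]; rfl
        · have : h y = y := by
            by_contra hne
            exact hy (h3.1 y hne)
          rw [this]; rfl
      have hdvd : Nat.card P ∣ m.factorial :=
        dvd_trans (Subgroup.card_dvd_of_le hPH) (card_dvd_factorial_of_faithful H O hHO hfaith)
      have hle2 : n ≤ m + 2 := le_add_two_of_sylow_card_dvd P hdvd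
      have hle1 : m ≤ n := by
        have := Finset.card_le_univ O
        simpa using this
      refine ⟨m, by omega, ⟨eFs.trans eA⟩⟩
    · exfalso
      push Not at h5
      have h1 : Nat.card ↥Fs ∣ Nat.card ↥A' := Subgroup.card_dvd_of_le hle
      have h2 : Nat.card ↥A' = Nat.card ↥(alternatingGroup (Fin m)) := Nat.card_congr eA.toEquiv
      have h3 : Nat.card ↥(alternatingGroup (Fin m)) ∣ Nat.card (Perm (Fin m)) :=
        Subgroup.card_subgroup_dvd_card _
      have h4 : Nat.card (Perm (Fin m)) = m.factorial := by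
        rw [Nat.card_eq_fintype_card, Fintype.card_perm, Fintype.card_fin]
      have h5' : m.factorial ∣ 24 := by
        have : m.factorial ∣ (4 : ℕ).factorial := Nat.factorial_dvd_factorial (by omega)
        simpa [Nat.factorial] using this
      have h6 : Nat.card ↥Fs ∣ 24 := by
        rw [h2] at h1
        rw [h4] at h3
        exact dvd_trans h1 (dvd_trans h3 h5')
      obtain ⟨a, _, b, _, hab⟩ := small_card_cases _ (Nat.mem_divisors.2 ⟨h6, by norm_num⟩)
      have hsolv : Group.IsSolvable ↥Fs :=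
        Cfsg.Agent.Helper24.isSolvable_of_card_eq_prime_pow_mul 2 3 a b Nat.prime_two
          Nat.prime_three hab
      exact Cfsg.Agent.Helper7.IsQuasisimple.not_isSolvable hF hsolv
  · -- c centralizes F*: impossible
    exfalso
    have hc' : (⟨c, hcH⟩ : ↥H) ∈ A' := by
      rw [hA', mem_subgroupOf]
      exact hcA
    have h1 : Fs ≤ centralizer (A' : Set ↥H) :=
      Subgroup.commutator_eq_bot_iff_le_centralizer.1 hcomm
    have h2 : ∀ f ∈ Fs, f * ⟨c, hcH⟩ = ⟨c, hcH⟩ * f := by
      intro f hf
      have := h1 hf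
      rw [mem_centralizer_iff] at this
      exact (this _ hc').symm
    have h3 : (⟨c, hcH⟩ : ↥H) ∈ centralizer (Fs : Set ↥H) := by
      rw [mem_centralizer_iff]
      intro f hf
      exact h2 f hf
    have h4 : (⟨c, hcH⟩ : ↥H) ∈ Fs := Cfsg.Agent.Helper7.centralizer_generalizedFitting_le h3
    have hperf : ⁅Fs.map H.subtype, Fs.map H.subtype⁆ = Fs.map H.subtype := by
      rw [← Subgroup.map_commutator, Cfsg.Agent.Helper7.IsComponent.commutator_eq hcomp]
    have hcommF : ∀ f ∈ Fs.map H.subtype, f * c = c * f := by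
      rintro _ ⟨f, hf, rfl⟩
      have := congrArg (fun w : ↥H => (w : Perm (Fin n))) (h2 f hf)
      exact this
    have hcF : c ∈ Fs.map H.subtype := ⟨⟨c, hcH⟩, h4, rfl⟩
    exact not_mem_of_perfect_of_commute hc3 _ hperf hcommF hcF

end Cfsg.Agent.Helper3.Syl3Alt
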