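import Mathlib
import Cfsg.Prelude.Def_Characters
import Cfsg.Agent.Helper1.W2pDefs
import Cfsg.Agent.Helper3.W2pBRa

set_option autoImplicit false
set_option maxHeartbeats 800000

/-!
# S0720 piece BR: Brauer's inequality (`t = 2`, `e` odd)
-/

namespace Cfsg.Agent.Helper3.W2p

open Cfsg Cfsg.Agent.Helper24 Cfsg.Agent.Helper1.W2p MulAction

universe u v

/-- final arithmetic -/
theorem br_arith (e np nm t p s : ℤ) (he2 : 2 ≤ e) (hnp : 1 ≤ np) (hnm : 0 ≤ nm) (ht2 : 2 ≤ t)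
    (hp : 3 ≤ p) (hcard : np + nm = e) (hte : t * e = p - 1)
    (hs1 : s = e + nm * (p - 1)) (hs2 : s ≤ e * e) (hs3 : 1 + (np - 1) * (p + 1) ≤ s) :
    t = 2 ∧ e = 2 * nm + 1 := by
  -- (A) nm * t ≤ e - 1
  have hA : nm * t ≤ e - 1 := by
    have h1 : nm * (t * e) ≤ e * (e - 1) := by
      rw [hte]; nlinarith
    have h2 : (nm * t) * e ≤ (e - 1) * e := by nlinarith
    exact le_of_mul_le_mul_right h2 (by omega)
  -- (B) e - 1 ≤ 2 * nm
  have hB : e - 1 ≤ 2 * nm := by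
    have hnp' : np = e - nm := by omega
    rw [hs1, hnp'] at hs3
    have h1 : (e - 1) * p ≤ (2 * nm) * p := by nlinarith
    exact le_of_mul_le_mul_right h1 (by omega)
  have hnm1 : 1 ≤ nm := by omega
  have ht : t ≤ 2 := by
    by_contra hcon
    push Not at hcon
    have : 3 * nm ≤ nm * t := by nlinarith
    omega
  have ht' : t = 2 := by omega
  refine ⟨ht', ?_⟩
  rw [ht'] at hA
  omega

theorem brauer_ineq {H : Type u} [Group H] [Finite H] (p : ℕ) [Fact p.Prime] (hp2 : p ≠ 2)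
    (P : Sylow p H) (hP : Nat.card P = p)
    (hC : Subgroup.centralizer ((P : Subgroup H) : Set H) = (P : Subgroup H))
    (D : BrauerData p (P : Subgroup H))
    (hlin : ∀ χ : IrrCharacter H, irrDeg χ = 1 → χ = trivIrr H)
    (hε : D.ε = 1) (hY : 2 ≤ Nat.card D.Y)
    (hdeg : ∀ ψ ∈ D.Y, irrDeg ψ = eN (P : Subgroup H)) :
    Nat.card D.Y = 2 ∧ Odd (eN (P : Subgroup H)) := by
  classical
  haveI : Fintype H := Fintype.ofFinite H
  haveI : Fintype (IrrCharacter H) := Fintype.ofFinite _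
  haveI : Fintype (P : Subgroup H) := Fintype.ofFinite _
  have hp : p.Prime := Fact.out
  have hp3 : 3 ≤ p := by have := hp.two_le; omega
  -- two distinct members of Y
  haveI : Nontrivial D.Y := Finite.one_lt_card_iff_nontrivial.mp (by omega)
  obtain ⟨⟨ψ, hψ⟩, ⟨ψ', hψ'⟩, hne0⟩ := exists_pair_ne D.Y
  have hne : ψ ≠ ψ' := fun h => hne0 (Subtype.ext h)
  have hεc : (D.ε : ℂ) = 1 := by rw [hε]; simp
  -- values on P
  have hψLam : ∀ φ ∈ D.Y, ∀ y ∈ (P : Subgroup H), (φ : H → ℂ) y = D.Lam φ y := by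
    intro φ hφ y hy
    by_cases hy1 : y = 1
    · rw [hy1, irrDeg_spec, hdeg φ hφ, D.Lam_one φ hφ]
    · rw [D.val_Y φ hφ y hy hy1, hεc, one_mul]
  -- e ≠ 1, e ≠ 0
  have he1 : eN (P : Subgroup H) ≠ 1 := by
    intro h1
    have h2 := hlin ψ (by rw [hdeg ψ hψ]; exact h1)
    have hX := D.triv_mem
    rw [← h2] at hX
    exact Set.disjoint_left.mp D.disj hX hψ
  have hte : Nat.card D.Y * eN (P : Subgroup H) = p - 1 := D.card_Y
  have he0 : eN (P : Subgroup H) ≠ 0 := by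
    intro h0; rw [h0, mul_zero] at hte; omega
  -- p-regular agreement
  have hreg : ∀ g : H, ¬ p ∣ orderOf g → (ψ : H → ℂ) g = (ψ' : H → ℂ) g := by
    intro g hg
    have h1 := D.rel ψ hψ g hg
    have h2 := D.rel ψ' hψ' g hg
    rw [hεc, one_mul] at h1 h2
    rw [← h1, ← h2]
  -- singular values
  have hsing : ∀ χ ∈ D.X, ∀ g : H, p ∣ orderOf g → (χ : H → ℂ) g = (D.δ χ : ℂ) := by
    intro χ hχ g hg
    obtain ⟨h, y, hy, hy1, rfl⟩ := exists_conj_mem_of_singular p P hP hC g hg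
    rw [isClassFunction_irr χ y h]
    exact D.val_X χ hχ y hy hy1
  have hδsq : ∀ χ ∈ D.X, (D.δ χ : ℂ) * (D.δ χ : ℂ) = 1 := by
    intro χ hχ
    rcases D.δ_pm χ hχ with h | h <;> rw [h] <;> simp
  -- the product characters
  have hcψ : IsCharacter H (ψ : H → ℂ) := IsIrrCharacter.isCharacter ψ.2
  have hcψ' : IsCharacter H (ψ' : H → ℂ) := IsIrrCharacter.isCharacter ψ'.2
  set Pa : H → ℂ := (ψ : H → ℂ) * fun g => (starRingEnd ℂ) ((ψ : H → ℂ) g) with hPa
  set Pb : H → ℂ := (ψ : H → ℂ) * fun g => (starRingEnd ℂ) ((ψ' : H → ℂ) g) with hPb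
  have hPac : IsCharacter H Pa := IsCharacter.mul hcψ (isCharacter_star hcψ)
  have hPbc : IsCharacter H Pb := IsCharacter.mul hcψ (isCharacter_star hcψ')
  obtain ⟨A, hAexp⟩ := IsCharacter.exists_nat_coeff hPac
  obtain ⟨B, hBexp⟩ := IsCharacter.exists_nat_coeff hPbc
  have hA : ∀ ξ : IrrCharacter H, classInner Pa (ξ : H → ℂ) = (A ξ : ℂ) := by
    intro ξ; rw [hAexp]; exact classInner_sum_irr _ ξ
  have hB : ∀ ξ : IrrCharacter H, classInner Pb (ξ : H → ℂ) = (B ξ : ℂ) := by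
    intro ξ; rw [hBexp]; exact classInner_sum_irr _ ξ
  have hA1 : classInner Pa (fun _ => (1 : ℂ)) = 1 := by
    rw [hPa, classInner_mul_star_one, classInner_irr_self]
  have hB1 : classInner Pb (fun _ => (1 : ℂ)) = 0 := by
    rw [hPb, classInner_mul_star_one, classInner_irr_ne hne]
  -- key relation
  have key : ∀ χ ∈ D.X, (A χ : ℤ) - (B χ : ℤ) = D.δ χ := by
    intro χ hχ
    have h0 : classInner (Pa - Pb) ((D.δ χ : ℂ) • (χ : H → ℂ) - fun _ => (1 : ℂ)) = 0 := by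
      apply classInner_eq_zero_of_mul_eq_zero
      intro g
      by_cases hg : p ∣ orderOf g
      · right
        simp only [Pi.sub_apply, Pi.smul_apply, smul_eq_mul]
        rw [hsing χ hχ g hg, hδsq χ hχ, sub_self]
      · left
        simp only [Pi.sub_apply, hPa, hPb, Pi.mul_apply]
        rw [hreg g hg, sub_self]
    rw [classInner_sub_left, classInner_sub_right, classInner_sub_right, classInner_smul_right,
      classInner_smul_right, hA1, hB1, hA, hB] at h0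
    have hconj : (starRingEnd ℂ) (D.δ χ : ℂ) = (D.δ χ : ℂ) := map_intCast (starRingEnd ℂ) _
    rw [hconj] at h0
    have h1 : (D.δ χ : ℂ) * ((A χ : ℂ) - (B χ : ℂ)) = 1 := by linear_combination h0
    have h2 : ((A χ : ℂ) - (B χ : ℂ)) = (D.δ χ : ℂ) := by
      have := congrArg (fun z => (D.δ χ : ℂ) * z) h1
      simp only [← mul_assoc, hδsq χ hχ, one_mul, mul_one] at this
      exact this
    exact_mod_cast h2
  -- sums over P
  have hcardP : (Nat.card (P : Subgroup H) : ℂ) = p := by rw [hP]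
  have hkex : ∀ ξ : IrrCharacter H, ∃ k : ℕ, ∑ y : (P : Subgroup H), (ξ : H → ℂ) (y : H) = (p : ℂ) * k := by
    intro ξ
    obtain ⟨k, hk⟩ := exists_sum_subgroup_eq (P : Subgroup H) (ξ : H → ℂ)
      (IsIrrCharacter.isCharacter ξ.2)
    exact ⟨k, by rw [hk, hcardP]⟩
  choose k hk using hkex
  have hSB : ∑ y : (P : Subgroup H), Pb (y : H) = 0 := by
    have h1 := D.Lam_orth ψ hψ ψ' hψ' hne
    rw [finsum_eq_sum_of_fintype] at h1
    rw [← h1]
    apply Finset.sum_congr rfl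
    intro y _
    simp only [hPb, Pi.mul_apply]
    rw [hψLam ψ hψ y y.2, hψLam ψ' hψ' y y.2]
  have hBk : ∀ ξ : IrrCharacter H, B ξ = 0 ∨ k ξ = 0 := by
    have hsum : ∑ ξ : IrrCharacter H, B ξ * (p * k ξ) = 0 := by
      have h1 : ((∑ ξ : IrrCharacter H, B ξ * (p * k ξ) : ℕ) : ℂ) = 0 := by
        rw [← hSB]
        have : ∀ y : (P : Subgroup H), Pb (y : H) =
            ∑ ξ : IrrCharacter H, (B ξ : ℂ) * (ξ : H → ℂ) (y : H) := by
          intro y
          have := congrFun hBexp (y : H)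
          simp only [Finset.sum_apply, Pi.smul_apply, smul_eq_mul] at this
          exact this
        simp_rw [this]
        rw [Finset.sum_comm]
        push_cast
        apply Finset.sum_congr rfl
        intro ξ _
        rw [← Finset.mul_sum, hk ξ]
      exact_mod_cast h1
    intro ξ
    have h1 := (Finset.sum_eq_zero_iff.mp hsum) ξ (Finset.mem_univ _)
    rcases Nat.mul_eq_zero.mp h1 with h2 | h2
    · exact Or.inl h2
    · rcases Nat.mul_eq_zero.mp h2 with h3 | h3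
      · exact absurd h3 hp.ne_zero
      · exact Or.inr h3
  have hSX : ∀ χ ∈ D.X, ∑ y : (P : Subgroup H), (χ : H → ℂ) (y : H) =
      (irrDeg χ : ℂ) + ((p : ℂ) - 1) * (D.δ χ : ℂ) := by
    intro χ hχ
    have h1 : ∀ y : (P : Subgroup H), (χ : H → ℂ) (y : H) =
        (D.δ χ : ℂ) + if y = 1 then ((irrDeg χ : ℂ) - (D.δ χ : ℂ)) else 0 := by
      intro y
      by_cases hy : y = 1
      · rw [if_pos hy, hy, Subgroup.coe_one, irrDeg_spec]; ring
      · rw [if_neg hy, add_zero]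
        exact D.val_X χ hχ y y.2 (fun h => hy (Subtype.ext h))
    simp_rw [h1]
    rw [Finset.sum_add_distrib, Finset.sum_const, Finset.card_univ, Finset.sum_ite_eq',
      if_pos (Finset.mem_univ _), nsmul_eq_mul, ← Nat.card_eq_fintype_card, hP]
    ring
  -- consequences for X
  have hXplus : ∀ χ ∈ D.X, D.δ χ = 1 → A χ = 1 := by
    intro χ hχ hδ
    have hk0 : k χ ≠ 0 := by
      intro h0
      have h1 := hSX χ hχ
      rw [hk χ, h0, hδ] at h1
      have h2 : ((irrDeg χ + (p - 1) : ℕ) : ℂ) = 0 := by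
        push_cast [Nat.cast_sub hp.one_lt.le]
        have h1' : (0 : ℂ) = (irrDeg χ : ℂ) + ((p : ℂ) - 1) * ((1 : ℤ) : ℂ) := by
          rw [← h1]; simp
        push_cast at h1'
        linear_combination -h1'
      have h3 : irrDeg χ + (p - 1) = 0 := by exact_mod_cast h2
      have := irrDeg_pos χ
      omega
    have hB0 : B χ = 0 := (hBk χ).resolve_right hk0
    have := key χ hχ
    rw [hB0, hδ] at this
    have h2 : (A χ : ℤ) = 1 := by simpa using this
    exact_mod_cast h2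
  have hXminus : ∀ χ ∈ D.X, D.δ χ = -1 → irrDeg χ = p - 1 := by
    intro χ hχ hδ
    have hB0 : B χ ≠ 0 := by
      intro h0
      have := key χ hχ
      rw [h0, hδ] at this
      have h2 : (A χ : ℤ) = -1 := by simpa using this
      omega
    have hk0 : k χ = 0 := (hBk χ).resolve_left hB0
    have h1 := hSX χ hχ
    rw [hk χ, hk0, hδ] at h1
    have h2 : (irrDeg χ : ℂ) = ((p - 1 : ℕ) : ℂ) := by
      push_cast [Nat.cast_sub hp.one_lt.le]
      have : (0 : ℂ) = (irrDeg χ : ℂ) + ((p : ℂ) - 1) * ((-1 : ℤ) : ℂ) := by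
        rw [← h1]; simp
      push_cast at this
      linear_combination -this
    exact_mod_cast h2
  -- finite sets
  set Xf : Finset (IrrCharacter H) := D.X.toFinset with hXf
  have hmemXf : ∀ χ, χ ∈ Xf ↔ χ ∈ D.X := fun χ => Set.mem_toFinset
  have hcardXf : Xf.card = eN (P : Subgroup H) := by
    rw [hXf, Set.toFinset_card, ← Nat.card_eq_fintype_card]
    exact D.card_X
  set Xp : Finset (IrrCharacter H) := Xf.filter (fun χ => D.δ χ = 1) with hXp
  set Xm : Finset (IrrCharacter H) := Xf.filter (fun χ => ¬ D.δ χ = 1) with hXm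
  have hXm' : ∀ χ ∈ Xm, χ ∈ D.X ∧ D.δ χ = -1 := by
    intro χ hχ
    rw [hXm, Finset.mem_filter] at hχ
    have hχX := (hmemXf χ).mp hχ.1
    exact ⟨hχX, (D.δ_pm χ hχX).resolve_left hχ.2⟩
  have hXp' : ∀ χ ∈ Xp, χ ∈ D.X ∧ D.δ χ = 1 := by
    intro χ hχ
    rw [hXp, Finset.mem_filter] at hχ
    exact ⟨(hmemXf χ).mp hχ.1, hχ.2⟩
  have hcardsplit : Xp.card + Xm.card = eN (P : Subgroup H) := by
    rw [← hcardXf, hXp, hXm]
    exact Finset.card_filter_add_card_filter_not _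
  -- (i) the degree relation at 1
  have hrel1 : ∑ χ ∈ Xf, (D.δ χ : ℤ) * (irrDeg χ : ℤ) = (eN (P : Subgroup H) : ℤ) := by
    have h1 := D.rel ψ hψ 1 (by rw [orderOf_one]; exact hp.one_lt.ne' ∘ Nat.dvd_one.mp)
    rw [finsum_mem_eq_toFinset_sum, hεc, one_mul, irrDeg_spec, hdeg ψ hψ] at h1
    have h2 : ((∑ χ ∈ Xf, (D.δ χ : ℤ) * (irrDeg χ : ℤ) : ℤ) : ℂ) = ((eN (P : Subgroup H) : ℤ) : ℂ) := by
      push_cast
      rw [← h1]
      apply Finset.sum_congr rfl
      intro χ _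
      rw [irrDeg_spec]
    exact_mod_cast h2
  have hsplit : ∑ χ ∈ Xp, (irrDeg χ : ℤ) - (Xm.card : ℤ) * ((p : ℤ) - 1) = (eN (P : Subgroup H) : ℤ) := by
    rw [← hrel1, ← Finset.sum_filter_add_sum_filter_not Xf (fun χ => D.δ χ = 1)]
    have h1 : ∑ χ ∈ Xf.filter (fun χ => D.δ χ = 1), (D.δ χ : ℤ) * (irrDeg χ : ℤ) =
        ∑ χ ∈ Xp, (irrDeg χ : ℤ) := by
      apply Finset.sum_congr rfl
      intro χ hχ
      rw [(hXp' χ hχ).2, one_mul]
    have h2 : ∑ χ ∈ Xf.filter (fun χ => ¬ D.δ χ = 1), (D.δ χ : ℤ) * (irrDeg χ : ℤ) =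
        - ((Xm.card : ℤ) * ((p : ℤ) - 1)) := by
      rw [← hXm]
      have : ∀ χ ∈ Xm, (D.δ χ : ℤ) * (irrDeg χ : ℤ) = - ((p : ℤ) - 1) := by
        intro χ hχ
        obtain ⟨hχX, hδ⟩ := hXm' χ hχ
        rw [hδ, hXminus χ hχX hδ, Nat.cast_sub hp.one_lt.le]
        push_cast; ring
      rw [Finset.sum_congr rfl this, Finset.sum_const, nsmul_eq_mul]
      ring
    rw [h1, h2]; ring
  -- (ii) the degree of ψ ψ̄
  have hdegPa : ∑ χ ∈ Xp, (irrDeg χ : ℤ) ≤ (eN (P : Subgroup H) : ℤ) * (eN (P : Subgroup H) : ℤ) := by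
    have h1 : (∑ ξ : IrrCharacter H, A ξ * irrDeg ξ : ℕ) = eN (P : Subgroup H) * eN (P : Subgroup H) := by
      have h2 : ((∑ ξ : IrrCharacter H, A ξ * irrDeg ξ : ℕ) : ℂ) =
          ((eN (P : Subgroup H) * eN (P : Subgroup H) : ℕ) : ℂ) := by
        have h3 := congrFun hAexp 1
        simp only [Finset.sum_apply, Pi.smul_apply, smul_eq_mul, hPa, Pi.mul_apply] at h3
        rw [irrDeg_spec, hdeg ψ hψ, Complex.conj_natCast] at h3
        push_cast
        rw [h3]
        apply Finset.sum_congr rfl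
        intro ξ _
        rw [irrDeg_spec]
      exact_mod_cast h2
    have h4 : ∑ χ ∈ Xp, irrDeg χ ≤ ∑ ξ : IrrCharacter H, A ξ * irrDeg ξ := by
      calc ∑ χ ∈ Xp, irrDeg χ = ∑ χ ∈ Xp, A χ * irrDeg χ := by
            apply Finset.sum_congr rfl
            intro χ hχ
            obtain ⟨hχX, hδ⟩ := hXp' χ hχ
            rw [hXplus χ hχX hδ, one_mul]
        _ ≤ ∑ ξ : IrrCharacter H, A ξ * irrDeg ξ :=
            Finset.sum_le_sum_of_subset (Finset.subset_univ _)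
    rw [h1] at h4
    exact_mod_cast h4
  -- (B) lower bound
  have htrivXp : trivIrr H ∈ Xp := by
    rw [hXp, Finset.mem_filter]
    exact ⟨(hmemXf _).mpr D.triv_mem, D.δ_triv⟩
  have hlow : 1 + ((Xp.card : ℤ) - 1) * ((p : ℤ) + 1) ≤ ∑ χ ∈ Xp, (irrDeg χ : ℤ) := by
    rw [← Finset.add_sum_erase Xp _ htrivXp]
    have h1 : irrDeg (trivIrr H) = 1 := by
      have := irrDeg_spec (trivIrr H)
      rw [trivIrr_apply] at this
      exact_mod_cast this.symm
    rw [h1]
    have h2 : ∀ χ ∈ Xp.erase (trivIrr H), ((p : ℤ) + 1) ≤ (irrDeg χ : ℤ) := by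
      intro χ hχ
      rw [Finset.mem_erase] at hχ
      obtain ⟨hχX, hδ⟩ := hXp' χ hχ.2
      have hmod := D.deg_X χ hχX
      rw [hδ] at hmod
      have hdvd : (p : ℤ) ∣ (irrDeg χ : ℤ) - 1 := (Int.modEq_iff_dvd.mp hmod.symm)
      have hne1 : irrDeg χ ≠ 1 := fun h => hχ.1 (hlin χ h)
      have hpos := irrDeg_pos χ
      obtain ⟨c, hc⟩ := hdvd
      have hc1 : 1 ≤ c := by
        by_contra hcon
        push Not at hcon
        have hp0 : (0 : ℤ) < p := by exact_mod_cast hp.pos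
        have : (irrDeg χ : ℤ) - 1 ≤ 0 := by rw [hc]; nlinarith
        omega
      have hp0 : (0 : ℤ) < p := by exact_mod_cast hp.pos
      nlinarith
    have h3 : ∑ χ ∈ Xp.erase (trivIrr H), ((p : ℤ) + 1) ≤
        ∑ χ ∈ Xp.erase (trivIrr H), (irrDeg χ : ℤ) := Finset.sum_le_sum h2
    rw [Finset.sum_const, nsmul_eq_mul, Finset.card_erase_of_mem htrivXp] at h3
    have h4 : ((Xp.card - 1 : ℕ) : ℤ) = (Xp.card : ℤ) - 1 := by
      rw [Nat.cast_sub (Finset.card_pos.mpr ⟨_, htrivXp⟩)]; simp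
    rw [h4] at h3
    push_cast
    linarith
  -- final arithmetic
  have hfin := br_arith (eN (P : Subgroup H) : ℤ) (Xp.card : ℤ) (Xm.card : ℤ) (Nat.card D.Y : ℤ) (p : ℤ)
    (∑ χ ∈ Xp, (irrDeg χ : ℤ)) (by omega)
    (by exact_mod_cast Finset.card_pos.mpr ⟨_, htrivXp⟩) (by positivity) (by exact_mod_cast hY)
    (by exact_mod_cast hp3) (by exact_mod_cast hcardsplit)
    (by rw [← Nat.cast_mul, hte, Nat.cast_sub hp.one_lt.le]; simp)
    (by linarith) hdegPa hlow
  refine ⟨by exact_mod_cast hfin.1, ?_⟩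
  refine ⟨Xm.card, ?_⟩
  exact_mod_cast hfin.2

end Cfsg.Agent.Helper3.W2p
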