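import Mathlib
import Cfsg.Agent.Helper3.ZPSL

set_option autoImplicit false
set_option linter.style.haveILetI false

namespace Cfsg.Agent.Helper3.ZP

set_option maxRecDepth 1000000 in
theorem f3_13 : ∀ k' c₂ : ZMod 13, ∀ c₁ ∈ [(1 : ZMod 13), 2], k' ^ 6 = 1 → c₂ ≠ 0 →
    bruhat1 13 6 (cand 13 4 2 k' c₁ c₂ 6) → (k' = 10 ∧ c₁ = 1 ∧ c₂ = 7) := by
  decide +kernel

set_option maxRecDepth 1000000 in
theorem f2_13 : ∀ y : ZMod 13, y ≠ 0 → ∃ i < 6, y = (4 : ZMod 13) ^ i ∨ y = 2 * (4 : ZMod 13) ^ i := by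
  decide +kernel

theorem pfacts_13 : PFacts 13 6 (4 : ZMod 13) 2 10 1 7 :=
  ⟨by norm_num, by decide, by decide, f2_13, f3_13⟩

set_option maxRecDepth 1000000 in
theorem hdiv_13 : ∀ d : ℕ, d ∣ (13 + 1) * 6 → d % 13 = 1 → d = 1 ∨ d = 13 + 1 := by
  intro d hd hmod
  have hle : d ≤ 84 := Nat.le_of_dvd (by norm_num) hd
  have key : ∀ d ≤ 84, d ∣ 84 → d % 13 = 1 → d = 1 ∨ d = 14 := by decide +kernel
  exact key d hle hd hmod

/-- A simple group of order `13(13^2-1)/2 = 1092` is `PSL(2,13)`. -/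
theorem iso_psl_13 {G : Type*} [Group G] [Finite G] [IsSimpleGroup G]
    {F : Type*} [Field F] [Fintype F] (hcard : Nat.card G = 1092) (hcF : Fintype.card F = 13) :
    Nonempty (G ≃* Matrix.ProjectiveSpecialLinearGroup (Fin 2) F) := by
  haveI : Fact (Nat.Prime 13) := ⟨by norm_num⟩
  exact iso_psl (p := 13) pfacts_13 (by norm_num) hdiv_13 (by rw [hcard]) hcF (by norm_num)

end Cfsg.Agent.Helper3.ZP
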