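import Mathlib
import Cfsg.Agent.Helper3.ZPSL

set_option autoImplicit false
set_option linter.style.haveILetI false

namespace Cfsg.Agent.Helper3.ZP

set_option maxRecDepth 1000000 in
theorem f3_17 : ∀ k' c₂ : ZMod 17, ∀ c₁ ∈ [(1 : ZMod 17), 3], k' ^ 8 = 1 → c₂ ≠ 0 →
    bruhat1 17 8 (cand 17 9 3 k' c₁ c₂ 8) → (k' = 2 ∧ c₁ = 1 ∧ c₂ = 6) := by
  decide +kernel

set_option maxRecDepth 1000000 in
theorem f2_17 : ∀ y : ZMod 17, y ≠ 0 → ∃ i < 8, y = (9 : ZMod 17) ^ i ∨ y = 3 * (9 : ZMod 17) ^ i := by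
  decide +kernel

theorem pfacts_17 : PFacts 17 8 (9 : ZMod 17) 3 2 1 6 :=
  ⟨by norm_num, by decide, by decide, f2_17, f3_17⟩

set_option maxRecDepth 1000000 in
theorem hdiv_17 : ∀ d : ℕ, d ∣ (17 + 1) * 8 → d % 17 = 1 → d = 1 ∨ d = 17 + 1 := by
  intro d hd hmod
  have hle : d ≤ 144 := Nat.le_of_dvd (by norm_num) hd
  have key : ∀ d ≤ 144, d ∣ 144 → d % 17 = 1 → d = 1 ∨ d = 18 := by decide +kernel
  exact key d hle hd hmod

/-- A simple group of order `17(17^2-1)/2 = 2448` is `PSL(2,17)`. -/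
theorem iso_psl_17 {G : Type*} [Group G] [Finite G] [IsSimpleGroup G]
    {F : Type*} [Field F] [Fintype F] (hcard : Nat.card G = 2448) (hcF : Fintype.card F = 17) :
    Nonempty (G ≃* Matrix.ProjectiveSpecialLinearGroup (Fin 2) F) := by
  haveI : Fact (Nat.Prime 17) := ⟨by norm_num⟩
  exact iso_psl (p := 17) pfacts_17 (by norm_num) hdiv_17 (by rw [hcard]) hcF (by norm_num)

end Cfsg.Agent.Helper3.ZP
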