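import Mathlib
import Cfsg.Agent.Helper3.ZPSL

set_option autoImplicit false
set_option linter.style.haveILetI false

namespace Cfsg.Agent.Helper3.ZP

set_option maxRecDepth 1000000 in
theorem f3_19 : ∀ k' c₂ : ZMod 19, ∀ c₁ ∈ [(1 : ZMod 19), 2], k' ^ 9 = 1 → c₂ ≠ 0 →
    bruhat1 19 9 (cand 19 4 2 k' c₁ c₂ 9) → (k' = 5 ∧ c₁ = 2 ∧ c₂ = 1) := by
  decide +kernel

set_option maxRecDepth 1000000 in
theorem f2_19 : ∀ y : ZMod 19, y ≠ 0 → ∃ i < 9, y = (4 : ZMod 19) ^ i ∨ y = 2 * (4 : ZMod 19) ^ i := by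
  decide +kernel

theorem pfacts_19 : PFacts 19 9 (4 : ZMod 19) 2 5 2 1 :=
  ⟨by norm_num, by decide, by decide, f2_19, f3_19⟩

set_option maxRecDepth 1000000 in
theorem hdiv_19 : ∀ d : ℕ, d ∣ (19 + 1) * 9 → d % 19 = 1 → d = 1 ∨ d = 19 + 1 := by
  intro d hd hmod
  have hle : d ≤ 180 := Nat.le_of_dvd (by norm_num) hd
  have key : ∀ d ≤ 180, d ∣ 180 → d % 19 = 1 → d = 1 ∨ d = 20 := by decide +kernel
  exact key d hle hd hmod

/-- A simple group of order `19(19^2-1)/2 = 3420` is `PSL(2,19)`. -/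
theorem iso_psl_19 {G : Type*} [Group G] [Finite G] [IsSimpleGroup G]
    {F : Type*} [Field F] [Fintype F] (hcard : Nat.card G = 3420) (hcF : Fintype.card F = 19) :
    Nonempty (G ≃* Matrix.ProjectiveSpecialLinearGroup (Fin 2) F) := by
  haveI : Fact (Nat.Prime 19) := ⟨by norm_num⟩
  exact iso_psl (p := 19) pfacts_19 (by norm_num) hdiv_19 (by rw [hcard]) hcF (by norm_num)

end Cfsg.Agent.Helper3.ZP
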