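import Mathlib
import Cfsg.Agent.Helper3.ZPSL

set_option autoImplicit false
set_option linter.style.haveILetI false

namespace Cfsg.Agent.Helper3.ZP

set_option maxRecDepth 1000000 in
theorem f3_23 : ∀ k' c₂ : ZMod 23, ∀ c₁ ∈ [(1 : ZMod 23), 5], k' ^ 11 = 1 → c₂ ≠ 0 →
    bruhat1 23 11 (cand 23 2 5 k' c₁ c₂ 11) → (k' = 12 ∧ c₁ = 5 ∧ c₂ = 1) := by
  decide +kernel

set_option maxRecDepth 1000000 in
theorem f2_23 : ∀ y : ZMod 23, y ≠ 0 → ∃ i < 11, y = (2 : ZMod 23) ^ i ∨ y = 5 * (2 : ZMod 23) ^ i := by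
  decide +kernel

theorem pfacts_23 : PFacts 23 11 (2 : ZMod 23) 5 12 5 1 :=
  ⟨by norm_num, by decide, by decide, f2_23, f3_23⟩

set_option maxRecDepth 1000000 in
theorem hdiv_23 : ∀ d : ℕ, d ∣ (23 + 1) * 11 → d % 23 = 1 → d = 1 ∨ d = 23 + 1 := by
  intro d hd hmod
  have hle : d ≤ 264 := Nat.le_of_dvd (by norm_num) hd
  have key : ∀ d ≤ 264, d ∣ 264 → d % 23 = 1 → d = 1 ∨ d = 24 := by decide +kernel
  exact key d hle hd hmod

/-- A simple group of order `23(23^2-1)/2 = 6072` is `PSL(2,23)`. -/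
theorem iso_psl_23 {G : Type*} [Group G] [Finite G] [IsSimpleGroup G]
    {F : Type*} [Field F] [Fintype F] (hcard : Nat.card G = 6072) (hcF : Fintype.card F = 23) :
    Nonempty (G ≃* Matrix.ProjectiveSpecialLinearGroup (Fin 2) F) := by
  haveI : Fact (Nat.Prime 23) := ⟨by norm_num⟩
  exact iso_psl (p := 23) pfacts_23 (by norm_num) hdiv_23 (by rw [hcard]) hcF (by norm_num)

end Cfsg.Agent.Helper3.ZP
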